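import Mathlib

set_option autoImplicit false

namespace Cfsg.Agent.Lib.Helper71

/-- Normalizers grow in finite `p`-groups (as subgroups of an ambient group). -/
theorem exists_mem_normalizer_notMem_of_lt {G : Type*} [Group G] (p : ℕ) [Fact p.Prime]
    (Q R : Subgroup G) [Finite R] (hR : IsPGroup p R) (hlt : Q < R) :
    ∃ r ∈ R, r ∈ Subgroup.normalizer (Q : Set G) ∧ r ∉ Q := by
  have hQR : Q ≤ R := hlt.le
  have hnil : Group.IsNilpotent R := hR.isNilpotent
  have nc := Group.normalizerCondition_of_isNilpotent (G := R)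
  have hHlt : Q.subgroupOf R < ⊤ := by
    rw [lt_top_iff_ne_top, Ne, Subgroup.subgroupOf_eq_top]
    exact not_le_of_gt hlt
  obtain ⟨r', hr'N, hr'Q⟩ := SetLike.exists_of_lt (nc _ hHlt)
  have hrR : (r' : G) ∈ R := r'.2
  refine ⟨(r' : G), hrR, ?_, fun h => hr'Q (Subgroup.mem_subgroupOf.mpr h)⟩
  rw [Subgroup.mem_normalizer_iff] at hr'N ⊢
  intro q
  constructor
  · intro hq
    have := (hr'N ⟨q, hQR hq⟩).mp (Subgroup.mem_subgroupOf.mpr hq)
    rw [Subgroup.mem_subgroupOf] at this
    simpa using this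
  · intro hq
    have hqR : q ∈ R := by
      have h1 : (r' : G) * q * (r' : G)⁻¹ ∈ R := hQR hq
      have : q = (r' : G)⁻¹ * ((r' : G) * q * (r' : G)⁻¹) * (r' : G) := by group
      rw [this]
      exact R.mul_mem (R.mul_mem (R.inv_mem hrR) h1) hrR
    have := (hr'N ⟨q, hqR⟩).mpr (by rw [Subgroup.mem_subgroupOf]; simpa using hq)
    exact Subgroup.mem_subgroupOf.mp this

/-- The normalizer of a subgroup normalizes its centralizer. -/
theorem normalizer_le_normalizer_centralizer {G : Type*} [Group G] (R : Subgroup G) :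
    Subgroup.normalizer (R : Set G) ≤
      Subgroup.normalizer ((Subgroup.centralizer (R : Set G) : Subgroup G) : Set G) := by
  intro n hn
  have key : ∀ m ∈ Subgroup.normalizer (R : Set G), ∀ c ∈ Subgroup.centralizer (R : Set G),
      m * c * m⁻¹ ∈ Subgroup.centralizer (R : Set G) := by
    intro m hm c hc
    rw [Subgroup.mem_centralizer_iff] at hc ⊢
    intro r hr
    have hr1 : m⁻¹ * r * m ∈ R := (Subgroup.mem_normalizer_iff''.mp hm r).mp hr
    have h1 := hc _ hr1
    calc r * (m * c * m⁻¹) = m * ((m⁻¹ * r * m) * c) * m⁻¹ := by group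
      _ = m * (c * (m⁻¹ * r * m)) * m⁻¹ := by rw [h1]
      _ = m * c * m⁻¹ * r := by group
  rw [Subgroup.mem_normalizer_iff]
  intro c
  constructor
  · exact key n hn c
  · intro h
    have := key n⁻¹ (Subgroup.inv_mem _ hn) _ h
    have h2 : n⁻¹ * (n * c * n⁻¹) * n⁻¹⁻¹ = c := by group
    rwa [h2] at this

end Cfsg.Agent.Lib.Helper71
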