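import Mathlib
import Cfsg.Agent.S1450
import Cfsg.Agent.Lib.Helper31.Bg10a
import Cfsg.Agent.Lib.Helper31.Transitivity
import Cfsg.Agent.Lib.Helper41.FamilyTransfer
import Cfsg.Agent.Lib.Helper55.Uniq
import Cfsg.Agent.Lib.Helper55.Uniq2
import Cfsg.Agent.Lib.Helper55.SylowIn

set_option autoImplicit false

/-! Bender–Glauberman Theorem 10.2: the cores `O_π(M)` for `α(M) ⊆ π ⊆ σ(M)` are Hall subgroups of
`M` and of `G`.  The fusion statement of Theorem 10.1 enters as the explicit hypothesis `Fus M`. -/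

namespace Cfsg.Agent.Lib.Helper71.BG10

open Cfsg Cfsg.Agent.Lib.Helper55 Cfsg.Agent.Lib.Helper31
open scoped commutatorElement

variable {G : Type*} [Group G] [Finite G]

/-- the fusion statement of BG Theorem 10.1(a) for the maximal subgroup `M` -/
def Fus (M : Subgroup G) : Prop :=
  ∀ (p : ℕ) [Fact p.Prime], p ∈ sigma M → ∀ X : Subgroup G, IsPGroup p X → X ≠ ⊥ → X ≤ M →
    ∀ g : G, X.map (MulAut.conj g).toMonoidHom ≤ M →
      ∃ m ∈ M, ∃ c ∈ Subgroup.centralizer (X : Set G), g = m * c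

variable {p : ℕ} [Fact p.Prime]

/-- for `p ∈ σ(M)` the normalizer of every Sylow `p`-subgroup of `M` lies in `M` -/
theorem sigma_normalizer_le {M T : Subgroup G} (hp : p ∈ sigma M) (hT : IsSylowIn p M T) :
    Subgroup.normalizer (T : Set G) ≤ M := by
  obtain ⟨_, _, P, hP⟩ := hp
  obtain ⟨k, hk, hkT⟩ := (isSylowIn_of_sylow P).exists_conj hT
  rw [← hkT, ← cj_normalizer]
  have : cj k M = M := cj_eq_self_of_mem hk
  calc cj k (Subgroup.normalizer _) ≤ cj k M := cj_mono hP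
    _ = M := this

/-- for `p ∈ σ(M)` the Sylow `p`-subgroups of `M` are Sylow in `G` -/
theorem sigma_not_dvd_index {M T : Subgroup G} (hp : p ∈ sigma M) (hT : IsSylowIn p M T) :
    ¬ p ∣ T.index := by
  obtain ⟨Q, hQ⟩ := hT.2.1.exists_le_sylow
  have h1 : (Q : Subgroup G) = T :=
    hT.eq_of_normalizer_le Q.isPGroup' hQ (inf_le_right.trans (sigma_normalizer_le hp hT))
  rw [← h1]
  exact Q.not_dvd_index

theorem sigma_dvd_card {M : Subgroup G} (hp : p ∈ sigma M) : p ∣ Nat.card M := hp.2.1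

theorem sylow_ne_bot {M T : Subgroup G} (hpM : p ∣ Nat.card M) (hT : IsSylowIn p M T) : T ≠ ⊥ := by
  rintro rfl
  have h1 := hT.toSylow.not_dvd_index
  have h2 : ((hT.toSylow : Sylow p M) : Subgroup M) = ⊥ := by
    rw [hT.coe_toSylow]
    simp
  rw [h2, Subgroup.index_bot] at h1
  exact h1 hpM

theorem sylow_not_dvd_relIndex {M T : Subgroup G} (hT : IsSylowIn p M T) : ¬ p ∣ T.relIndex M := by
  have h1 := hT.toSylow.not_dvd_index
  rwa [hT.coe_toSylow] at h1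

theorem commutator_top_eq_top (hG : IsMinSimpleOddOrder G) :
    ⁅(⊤ : Subgroup G), (⊤ : Subgroup G)⁆ = ⊤ := by
  haveI : IsSimpleGroup G := hG.2.1
  have hn : (⁅(⊤ : Subgroup G), (⊤ : Subgroup G)⁆).Normal := inferInstance
  rcases hn.eq_bot_or_eq_top with h | h
  · exfalso
    apply hG.2.2.1
    refine ⟨⟨fun a b => ?_⟩⟩
    have : ⁅a, b⁆ ∈ ⁅(⊤ : Subgroup G), (⊤ : Subgroup G)⁆ :=
      Subgroup.commutator_mem_commutator (Subgroup.mem_top a) (Subgroup.mem_top b)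
    rw [h, Subgroup.mem_bot, commutatorElement_eq_one_iff_mul_comm] at this
    exact this
  · exact h

/-- BG 10.2(b), first half: for `p ∈ σ(M)` the Sylow `p`-subgroups of `M` lie in `M'` -/
theorem sylow_le_commutator (hG : IsMinSimpleOddOrder G) {M : Subgroup G} (hfus : Fus M)
    (hp : p ∈ sigma M) {T : Subgroup G} (hT : IsSylowIn p M T) : T ≤ ⁅M, M⁆ := by
  have hidx : ¬ p ∣ T.relIndex ⊤ := by
    rw [Subgroup.relIndex_top_right]
    exact sigma_not_dvd_index hp hT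
  have key := Cfsg.Agent.Lib.Helper41.relative_focal (p := p) (L := (⊤ : Subgroup G)) (M := T)
    le_top hT.2.1 hidx (D := ⁅M, M⁆) ?_
  · rw [commutator_top_eq_top hG, inf_top_eq] at key
    exact key
  · intro x hx u _ hxu
    by_cases hx1 : x = 1
    · subst hx1
      simp
    have hxM : x ∈ M := hT.1 hx
    -- `u x u⁻¹ ∈ T`
    have h1 : u * x * u⁻¹ ∈ T := by
      have h2 : x⁻¹ * ⁅x, u⁆ ∈ T := T.mul_mem (T.inv_mem hx) hxu
      have h3 : x⁻¹ * ⁅x, u⁆ = (u * x * u⁻¹)⁻¹ := by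
        rw [commutatorElement_def]; group
      rw [h3] at h2
      exact (T.inv_mem_iff).mp h2
    have hX1 : Subgroup.zpowers x ≠ ⊥ := by
      intro h
      exact hx1 (Subgroup.zpowers_eq_bot.mp h)
    have hXT : Subgroup.zpowers x ≤ T := by rw [Subgroup.zpowers_le]; exact hx
    have hXM : Subgroup.zpowers x ≤ M := hXT.trans hT.1
    have hXu : (Subgroup.zpowers x).map (MulAut.conj u).toMonoidHom ≤ M := by
      rw [MonoidHom.map_zpowers, Subgroup.zpowers_le]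
      exact hT.1 (by simpa [MulAut.conj_apply] using h1)
    obtain ⟨m, hm, c, hc, rfl⟩ := hfus p hp _ (hT.2.1.to_le hXT) hX1 hXM u hXu
    have hcx : c * x = x * c := by
      rw [Subgroup.mem_centralizer_iff] at hc
      exact (hc x (Subgroup.mem_zpowers x)).symm
    have h4 : ⁅x, m * c⁆ = ⁅x, m⁆ := by
      rw [commutatorElement_def, commutatorElement_def]
      have : m * c * x⁻¹ * (m * c)⁻¹ = m * x⁻¹ * m⁻¹ := by
        have hcx' : c * x⁻¹ = x⁻¹ * c := by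
          have := congrArg (fun t => x⁻¹ * t * x⁻¹) hcx
          simpa [mul_assoc] using this.symm
        calc m * c * x⁻¹ * (m * c)⁻¹ = m * (c * x⁻¹) * c⁻¹ * m⁻¹ := by group
          _ = m * (x⁻¹ * c) * c⁻¹ * m⁻¹ := by rw [hcx']
          _ = m * x⁻¹ * m⁻¹ := by group
      calc x * (m * c) * x⁻¹ * (m * c)⁻¹ = x * (m * c * x⁻¹ * (m * c)⁻¹) := by group
        _ = x * (m * x⁻¹ * m⁻¹) := by rw [this]
        _ = x * m * x⁻¹ * m⁻¹ := by group
    rw [h4]
    exact Subgroup.commutator_mem_commutator hxM hm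

theorem commutator_self_le (M : Subgroup G) : ⁅M, M⁆ ≤ M :=
  Subgroup.commutator_le.mpr (fun a ha b hb => by
    rw [commutatorElement_def]
    exact M.mul_mem (M.mul_mem (M.mul_mem ha hb) (M.inv_mem ha)) (M.inv_mem hb))

theorem mem_commutator_subtype' {M : Subgroup G} {z : G} (hz : z ∈ ⁅M, M⁆) (hzM : z ∈ M) :
    (⟨z, hzM⟩ : ↥M) ∈ commutator ↥M := by
  have h1 : ⁅M, M⁆ ≤ (commutator ↥M).map M.subtype := by
    rw [Subgroup.commutator_le]
    intro g₁ h₁ g₂ h₂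
    refine ⟨⁅(⟨g₁, h₁⟩ : ↥M), ⟨g₂, h₂⟩⁆, ?_, ?_⟩
    · rw [commutator_def]
      exact Subgroup.commutator_mem_commutator (Subgroup.mem_top _) (Subgroup.mem_top _)
    · simp [commutatorElement_def]
  obtain ⟨y, hy, hyz⟩ := h1 hz
  have : y = ⟨z, hzM⟩ := Subtype.ext hyz
  rw [← this]; exact hy

/-- a `p`-subgroup `T ≤ M'` lies in `O_{q'}(M)` for every prime `q ≠ p` dividing `|M|` with
`r_q(M) ≤ 2` (`M` solvable of odd order) -/
theorem le_opc_of_le_commutator {M : Subgroup G} (hs : Group.IsSolvable M)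
    (hodd : Odd (Nat.card M)) {q : ℕ} [Fact q.Prime] (hqM : q ∣ Nat.card M)
    (hr : PRankLE q 2 ↥M) (hpq : p ≠ q) {T : Subgroup G} (hTp : IsPGroup p T)
    (hTM : T ≤ ⁅M, M⁆) : T ≤ opc q M := by
  have hp : p.Prime := Fact.out
  have hq : q.Prime := Fact.out
  have h5 := (Cfsg.Agent.S1450.result (G := ↥M) hodd q hqM hr).2.2.2.2.1
  intro x hx
  have hxM : x ∈ M := commutator_self_le M (hTM hx)
  have hx' : (⟨x, hxM⟩ : ↥M) ∈ commutator ↥M := mem_commutator_subtype' (hTM hx) hxM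
  have h6 := h5 hx'
  unfold pPrimePCore at h6
  rw [Subgroup.mem_comap] at h6
  have hqg : IsPGroup q (pCore q (↥M ⧸ pPrimeCore q ↥M)) := isPGroup_pCore
  obtain ⟨k, hk⟩ := hqg ⟨_, h6⟩
  have hk' : (QuotientGroup.mk' (pPrimeCore q ↥M) ⟨x, hxM⟩) ^ q ^ k = 1 := by
    have := congrArg Subtype.val hk
    simpa using this
  obtain ⟨j, hj⟩ := hTp ⟨x, hx⟩
  have hj' : (QuotientGroup.mk' (pPrimeCore q ↥M) ⟨x, hxM⟩) ^ p ^ j = 1 := by
    have h7 : x ^ p ^ j = 1 := by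
      have := congrArg Subtype.val hj
      simpa using this
    rw [← map_pow]
    have : (⟨x, hxM⟩ : ↥M) ^ p ^ j = 1 := Subtype.ext (by simpa using h7)
    rw [this, map_one]
  have hcop : (q ^ k).Coprime (p ^ j) :=
    Nat.Coprime.pow _ _ ((Nat.coprime_primes hq hp).mpr (Ne.symm hpq))
  have h8 : QuotientGroup.mk' (pPrimeCore q ↥M) ⟨x, hxM⟩ = 1 := by
    have h9 := orderOf_dvd_of_pow_eq_one hk'
    have h10 := orderOf_dvd_of_pow_eq_one hj'
    have h11 := Nat.eq_one_of_dvd_coprimes hcop h9 h10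
    exact orderOf_eq_one_iff.mp h11
  have h12 : (⟨x, hxM⟩ : ↥M) ∈ pPrimeCore q ↥M := by
    rwa [QuotientGroup.mk'_apply, QuotientGroup.eq_one_iff] at h8
  exact ⟨⟨x, hxM⟩, h12, rfl⟩


/-- the normal `π`-subgroup `M ∩ ⋂_{q ∉ π} O_{q'}(M)` of `M` -/
def coreK (π : Set ℕ) (M : Subgroup G) : Subgroup G :=
  M ⊓ ⨅ q : {q : ℕ // q.Prime ∧ q ∣ Nat.card M ∧ q ∉ π}, opc q.1 M

theorem coreK_le (π : Set ℕ) (M : Subgroup G) : coreK π M ≤ M := inf_le_left

theorem le_normalizer_coreK (π : Set ℕ) (M : Subgroup G) :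
    M ≤ Subgroup.normalizer (coreK π M : Set G) := by
  intro m hm
  rw [Subgroup.mem_normalizer_iff]
  intro x
  unfold coreK
  simp only [Subgroup.mem_inf, Subgroup.mem_iInf]
  constructor
  · rintro ⟨hxM, hx⟩
    refine ⟨M.mul_mem (M.mul_mem hm hxM) (M.inv_mem hm), fun q => ?_⟩
    have := le_normalizer_opc q.1 M hm
    rw [Subgroup.mem_normalizer_iff] at this
    exact (this x).mp (hx q)
  · rintro ⟨hxM, hx⟩
    refine ⟨?_, fun q => ?_⟩
    · have := M.mul_mem (M.mul_mem (M.inv_mem hm) hxM) hm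
      simpa [mul_assoc] using this
    · have := le_normalizer_opc q.1 M hm
      rw [Subgroup.mem_normalizer_iff] at this
      exact (this x).mpr (hx q)

theorem coreK_pi (π : Set ℕ) (M : Subgroup G) :
    ∀ r : ℕ, r.Prime → r ∣ Nat.card (coreK π M) → r ∈ π := by
  intro r hr hdvd
  by_contra hrπ
  haveI : Fact r.Prime := ⟨hr⟩
  have hrM : r ∣ Nat.card M := hdvd.trans (Subgroup.card_dvd_of_le (coreK_le π M))
  have h1 : coreK π M ≤ opc r M :=
    inf_le_right.trans (iInf_le (fun q : {q : ℕ // q.Prime ∧ q ∣ Nat.card M ∧ q ∉ π} => opc q.1 M)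
      ⟨r, hr, hrM, hrπ⟩)
  have h2 : r ∣ Nat.card (opc r M) := hdvd.trans (Subgroup.card_dvd_of_le h1)
  have h3 : (Nat.card (opc r M)).Coprime r := card_opc_coprime (p := r) M
  have h4 : r ∣ Nat.gcd (Nat.card (opc r M)) r := Nat.dvd_gcd h2 dvd_rfl
  rw [h3] at h4
  exact hr.one_lt.ne' (Nat.dvd_one.mp h4)

theorem coreK_le_piCoreOf (π : Set ℕ) (M : Subgroup G) : coreK π M ≤ piCoreOf π M :=
  le_piCoreOf π M (coreK π M) (coreK_le π M) (le_normalizer_coreK π M) (coreK_pi π M)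

/-- BG 10.2: for `α(M) ⊆ π ⊆ σ(M)` every Sylow `p`-subgroup of `M`, `p ∈ π`, lies in `O_π(M)` -/
theorem sylow_le_piCoreOf (hG : IsMinSimpleOddOrder G) {M : Subgroup G} (hM : IsCoatom M)
    (hfus : Fus M) {π : Set ℕ} (hαπ : alpha M ⊆ π) (hπσ : π ⊆ sigma M) (hp : p ∈ π)
    {T : Subgroup G} (hT : IsSylowIn p M T) : T ≤ piCoreOf π M := by
  refine le_trans ?_ (coreK_le_piCoreOf π M)
  have hs : Group.IsSolvable M := ms_solvable hG hM.1
  have hodd : Odd (Nat.card M) := ms_odd hG M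
  have hTc : T ≤ ⁅M, M⁆ := sylow_le_commutator hG hfus (hπσ hp) hT
  unfold coreK
  refine le_inf hT.1 (le_iInf fun q => ?_)
  obtain ⟨q, hq, hqM, hqπ⟩ := q
  haveI : Fact q.Prime := ⟨hq⟩
  have hpq : p ≠ q := by
    rintro rfl
    exact hqπ hp
  have hr : PRankLE q 2 ↥M := by
    by_contra h
    exact hqπ (hαπ ⟨hq, h⟩)
  exact le_opc_of_le_commutator hs hodd hqM hr hpq hT.2.1 hTc

theorem piCoreOf_isPiHallOf (hG : IsMinSimpleOddOrder G) {M : Subgroup G} (hM : IsCoatom M)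
    (hfus : Fus M) {π : Set ℕ} (hαπ : alpha M ⊆ π) (hπσ : π ⊆ sigma M) :
    IsPiHallOf π (piCoreOf π M) M := by
  refine ⟨piCoreOf_le π M, piCoreOf_pi π M, ?_⟩
  intro r hr hrπ hdvd
  haveI : Fact r.Prime := ⟨hr⟩
  obtain ⟨T, hT, -⟩ := exists_isSylowIn_ge (p := r) (K := M) (Z := ⊥) bot_le IsPGroup.of_bot
  have h1 : T ≤ piCoreOf π M := sylow_le_piCoreOf hG hM hfus hαπ hπσ hrπ hT
  exact sylow_not_dvd_relIndex hT (hdvd.trans (Subgroup.relIndex_dvd_of_le_left M h1))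

theorem piCoreOf_isPiHall (hG : IsMinSimpleOddOrder G) {M : Subgroup G} (hM : IsCoatom M)
    (hfus : Fus M) {π : Set ℕ} (hαπ : alpha M ⊆ π) (hπσ : π ⊆ sigma M) :
    IsPiHall π (piCoreOf π M) := by
  refine ⟨piCoreOf_pi π M, ?_⟩
  intro r hr hrπ hdvd
  haveI : Fact r.Prime := ⟨hr⟩
  obtain ⟨T, hT, -⟩ := exists_isSylowIn_ge (p := r) (K := M) (Z := ⊥) bot_le IsPGroup.of_bot
  have h1 : T ≤ piCoreOf π M := sylow_le_piCoreOf hG hM hfus hαπ hπσ hrπ hT
  exact sigma_not_dvd_index (hπσ hrπ) hT (hdvd.trans (Subgroup.index_dvd_of_le h1))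

theorem alpha_subset_sigma (hG : IsMinSimpleOddOrder G) {M : Subgroup G} (hM : IsCoatom M) :
    alpha M ⊆ sigma M := by
  intro r hr
  haveI : Fact r.Prime := ⟨hr.1⟩
  exact Bg10.mem_sigma_of_rank_three hG hM hr.2


end Cfsg.Agent.Lib.Helper71.BG10
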