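import Mathlib
import Cfsg.Agent.S1403
import Cfsg.Agent.S1451
import Cfsg.Agent.Lib.Helper01.Hall
import Cfsg.Agent.Lib.Helper65.Hall
import Cfsg.Agent.Lib.Helper31.Scn3Types
import Cfsg.Agent.Lib.Helper55.Uniq2
import Cfsg.Agent.Lib.Helper55.Uniq3
import Cfsg.Agent.Lib.Helper55.SylowIn
import Cfsg.Agent.Lib.Helper71.BG10Hall

set_option autoImplicit false

/-! Bender–Glauberman Lemma 10.12: `σ(M)`-subgroups are conjugate into `M_σ`. -/

namespace Cfsg.Agent.Lib.Helper71.BG10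

open Cfsg Cfsg.Agent.Lib.Helper55 Cfsg.Agent.Lib.Helper31

universe u

/-- Hall's theorem, containment form with a set of primes -/
theorem exists_hall_ge {H : Type u} [Group H] [Finite H] [Group.IsSolvable H] (π : Set ℕ)
    (K : Subgroup H) (hK : ∀ p : ℕ, p.Prime → p ∣ Nat.card K → p ∈ π) :
    ∃ L : Subgroup H, K ≤ L ∧ (∀ p : ℕ, p.Prime → p ∣ Nat.card L → p ∈ π) ∧
      (∀ p : ℕ, p.Prime → p ∣ L.index → p ∉ π) := by
  obtain ⟨H0, h1, h2⟩ := Cfsg.Agent.Lib.Helper65.exists_hall H π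
  have hcard : Nat.card H = Nat.card H0 * H0.index := (Subgroup.card_mul_index H0).symm
  have hcop : (Nat.card H0).Coprime H0.index :=
    Nat.coprime_of_dvd (fun k hk hk1 hk2 => h2 k hk hk2 (h1 k hk hk1))
  have hKcop : (Nat.card K).Coprime H0.index :=
    Nat.coprime_of_dvd (fun k hk hk1 hk2 => h2 k hk hk2 (hK k hk hk1))
  obtain ⟨L, hL, hKL⟩ := (Cfsg.Agent.Lib.Helper01.hallProp (G := H) _ _ hcard hcop).2.2 K hKcop
  refine ⟨L, hKL, fun p hp hpd => h1 p hp (hL ▸ hpd), fun p hp hpd => h2 p hp ?_⟩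
  have h3 : Nat.card L * L.index = Nat.card H0 * H0.index := by
    rw [Subgroup.card_mul_index, ← hcard]
  rw [hL] at h3
  have hpos : 0 < Nat.card H0 := Nat.card_pos
  have h4 : L.index = H0.index := Nat.eq_of_mul_eq_mul_left hpos h3
  rwa [← h4]

variable {G : Type*} [Group G] [Finite G]

/-- a nontrivial solvable subgroup of odd order whose Fitting subgroup has rank at most two has a
nontrivial normal Sylow subgroup (for its largest prime divisor) -/
theorem exists_normal_sylow_of_rankLE {M : Subgroup G} (hsolv : Group.IsSolvable ↥M)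
    (hodd : Odd (Nat.card M)) (hM1 : M ≠ ⊥) (hr : RankLE 2 ↥(fittingOf M)) :
    ∃ (s : ℕ) (Q : Subgroup G), s.Prime ∧ IsSylowIn s M Q ∧ Q ≠ ⊥ ∧
      M ≤ Subgroup.normalizer (Q : Set G) := by
  have hr' : RankLE 2 ↥(fittingSubgroup ↥M) := by
    intro r hrp
    exact pRankLE_of_inj
      ((Subgroup.equivMapOfInjective (fittingSubgroup ↥M) M.subtype M.subtype_injective).toMonoidHom)
      (Subgroup.equivMapOfInjective (fittingSubgroup ↥M) M.subtype M.subtype_injective).injective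
      (hr r hrp)
  have hMc1 : Nat.card M ≠ 1 := fun h1 => hM1 (Subgroup.card_eq_one.mp h1)
  have hne : (Nat.card M).primeFactors.Nonempty := by
    rw [Nat.nonempty_primeFactors]
    have : 0 < Nat.card M := Nat.card_pos
    omega
  obtain ⟨s, hsmem, hsmax'⟩ : ∃ s ∈ (Nat.card M).primeFactors,
      ∀ r ∈ (Nat.card M).primeFactors, r ≤ s :=
    ⟨_, Finset.max'_mem _ hne, fun r hr => Finset.le_max' _ r hr⟩
  have hsp : s.Prime := Nat.prime_of_mem_primeFactors hsmem
  have hsM : s ∣ Nat.card M := Nat.dvd_of_mem_primeFactors hsmem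
  have hsmax : ∀ r : ℕ, r.Prime → r ∣ Nat.card M → r ≤ s := by
    intro r hr1 hr2
    exact hsmax' r (Nat.mem_primeFactors.mpr ⟨hr1, hr2, Nat.card_pos.ne'⟩)
  have : Fact s.Prime := ⟨hsp⟩
  obtain ⟨N, hNchar, hNhall⟩ := (Cfsg.Agent.S1451.result hodd (Or.inr hr')).2.2 (s - 1)
  have hNs : IsPGroup s N := by
    apply isPGroup_of_forall_prime s N
    intro r hr1 hr2
    have h1 := (hNhall.1 r hr1 hr2).2
    have h2 := hsmax r hr1 (hr2.trans (Subgroup.card_subgroup_dvd_card N))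
    show r = s
    omega
  have hNidx : ¬ s ∣ N.index := hNhall.2 s hsp ⟨hsp, by have := hsp.two_le; omega⟩
  have hNn : N.Normal := inferInstance
  set Q : Subgroup G := N.map M.subtype with hQdef
  have hMQ : M ≤ Subgroup.normalizer (Q : Set G) := by
    have h0 := Subgroup.le_normalizer_map (H := N) M.subtype
    rw [Subgroup.normalizer_eq_top_iff.2 hNn, ← MonoidHom.range_eq_map,
      Subgroup.range_subtype] at h0
    exact h0
  have hSyl : IsSylowIn s M Q := by
    have := isSylowIn_of_sylow (hNs.toSylow hNidx)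
    rwa [IsPGroup.toSylow_coe] at this
  have hQ1 : Q ≠ ⊥ := by
    intro hQb
    have hN1 : N = ⊥ := (Subgroup.map_eq_bot_iff_of_injective _ M.subtype_injective).mp hQb
    have h1 : Nat.card N * N.index = Nat.card M := Subgroup.card_mul_index N
    have h2 : s ∣ Nat.card N * N.index := h1 ▸ hsM
    rcases (Nat.Prime.dvd_mul hsp).mp h2 with h3 | h3
    · rw [hN1, Subgroup.card_bot] at h3
      exact hsp.one_lt.ne' (Nat.dvd_one.mp h3)
    · exact hNidx h3
  exact ⟨s, Q, hsp, hSyl, hQ1, hMQ⟩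

variable {q : ℕ} [Fact q.Prime]

/-- for `q ∈ σ(M)` every Sylow `q`-subgroup of `G` is a conjugate of a Sylow `q`-subgroup of `M` -/
theorem sigma_sylow_conj {M : Subgroup G} (hq : q ∈ sigma M) (P : Sylow q G) :
    ∃ (g : G) (T : Subgroup G), IsSylowIn q M T ∧ (P : Subgroup G) = cj g T := by
  obtain ⟨T, hT, -⟩ := exists_isSylowIn_ge (p := q) (K := M) (Z := ⊥) bot_le IsPGroup.of_bot
  have hidx : ¬ q ∣ T.index := sigma_not_dvd_index hq hT
  have h1 : IsSylowIn q ⊤ T := by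
    have := isSylowIn_of_sylow_le (hT.2.1.toSylow hidx) (K := ⊤) le_top
    rwa [IsPGroup.toSylow_coe] at this
  have h2 : IsSylowIn q ⊤ (P : Subgroup G) := isSylowIn_of_sylow_le P le_top
  obtain ⟨g, -, hg⟩ := h1.exists_conj h2
  exact ⟨g, T, hT, hg.symm⟩

/-- for `q ∈ σ(M)` every `q`-subgroup of `G` lies in a conjugate of `M` -/
theorem sigma_pgroup_le_conj {M : Subgroup G} (hq : q ∈ sigma M) {X : Subgroup G}
    (hX : IsPGroup q X) : ∃ g : G, X ≤ cj g M := by
  obtain ⟨P, hXP⟩ := hX.exists_le_sylow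
  obtain ⟨g, T, hT, hPT⟩ := sigma_sylow_conj hq P
  exact ⟨g, hXP.trans (hPT.le.trans (cj_mono hT.1))⟩

/-- a `σ`-subgroup of `M` lies in any Hall `σ`-subgroup of `M` normalized by `M` -/
theorem le_of_isPiHallOf_normal {π : Set ℕ} {M S Z : Subgroup G} (hS : IsPiHallOf π S M)
    (hMS : M ≤ Subgroup.normalizer (S : Set G)) (hZM : Z ≤ M)
    (hZ : ∀ p : ℕ, p.Prime → p ∣ Nat.card Z → p ∈ π) : Z ≤ S := by
  have hZS : Z ≤ Subgroup.normalizer (S : Set G) := hZM.trans hMS
  -- work inside the normalizer of `S`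
  have h1 : ∀ p : ℕ, p.Prime → p ∣ Nat.card ↥(Z ⊔ S) → p ∈ π := by
    intro p hp hpd
    have hsub : Z ⊔ S ≤ Subgroup.normalizer (S : Set G) := sup_le hZS Subgroup.le_normalizer
    haveI : (S.subgroupOf (Subgroup.normalizer (S : Set G))).Normal :=
      Subgroup.normal_in_normalizer
    have h2 := card_sup_dvd_mul (Z.subgroupOf (Subgroup.normalizer (S : Set G)))
      (S.subgroupOf (Subgroup.normalizer (S : Set G)))
    have e1 : Nat.card ↥(Z.subgroupOf (Subgroup.normalizer (S : Set G))) = Nat.card Z :=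
      Nat.card_congr (Subgroup.subgroupOfEquivOfLe hZS).toEquiv
    have e2 : Nat.card ↥(S.subgroupOf (Subgroup.normalizer (S : Set G))) = Nat.card S :=
      Nat.card_congr (Subgroup.subgroupOfEquivOfLe Subgroup.le_normalizer).toEquiv
    have e3 : Nat.card ↥(Z.subgroupOf (Subgroup.normalizer (S : Set G)) ⊔
        S.subgroupOf (Subgroup.normalizer (S : Set G))) = Nat.card ↥(Z ⊔ S) := by
      rw [← Subgroup.subgroupOf_sup hZS Subgroup.le_normalizer]
      exact Nat.card_congr (Subgroup.subgroupOfEquivOfLe hsub).toEquiv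
    rw [e1, e2, e3] at h2
    rcases (Nat.Prime.dvd_mul hp).mp (hpd.trans h2) with h | h
    · exact hZ p hp h
    · exact hS.2.1 p hp h
  have h3 : S.relIndex (Z ⊔ S) = 1 := by
    by_contra hne
    obtain ⟨r, hr, hrd⟩ := Nat.exists_prime_and_dvd hne
    have hrπ : r ∈ π := h1 r hr (hrd.trans (Subgroup.relIndex_dvd_card S _))
    have h4 : S.relIndex (Z ⊔ S) ∣ S.relIndex M := by
      rw [← Subgroup.relIndex_mul_relIndex S (Z ⊔ S) M le_sup_right (sup_le hZM hS.1)]
      exact dvd_mul_right _ _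
    exact hS.2.2 r hr hrπ (hrd.trans h4)
  rw [Subgroup.relIndex_eq_one] at h3
  exact le_sup_left.trans h3

/-- **BG Lemma 10.12**, first form: a nontrivial `σ(M)`-subgroup of `G` lies in a conjugate of `M` -/
theorem sigma_group_le_conj (hG : IsMinSimpleOddOrder G) {M : Subgroup G} (hM : IsCoatom M)
    (hHall : IsPiHall (sigma M) (sigmaCore M)) {Y : Subgroup G} (hY1 : Y ≠ ⊥)
    (hY : ∀ p : ℕ, p.Prime → p ∣ Nat.card Y → p ∈ sigma M) : ∃ g : G, Y ≤ cj g M := by
  -- a maximal `σ`-subgroup containing `Y`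
  let S : Set (Subgroup G) := {L | Y ≤ L ∧ ∀ p : ℕ, p.Prime → p ∣ Nat.card L → p ∈ sigma M}
  obtain ⟨Y', hY'S, hmax⟩ := Set.exists_max_image S (fun L => Nat.card L) (Set.toFinite S)
    ⟨Y, le_rfl, hY⟩
  have hmax' : ∀ L : Subgroup G, Y' ≤ L → (∀ p : ℕ, p.Prime → p ∣ Nat.card L → p ∈ sigma M) →
      L = Y' := fun L hle hL =>
    (Subgroup.eq_of_le_of_card_ge hle (hmax L ⟨hY'S.1.trans hle, hL⟩)).symm
  have hY'1 : Y' ≠ ⊥ := by
    rintro h
    exact hY1 (le_bot_iff.mp (h ▸ hY'S.1))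
  have hY'top : Y' ≠ ⊤ := by
    intro h
    have hsc : sigmaCore M ≤ M := Subgroup.map_subtype_le _
    have hidx : (sigmaCore M).index = 1 := by
      by_contra hne
      obtain ⟨r, hr, hrd⟩ := Nat.exists_prime_and_dvd hne
      have h1 : r ∣ Nat.card Y' := by
        rw [h, Subgroup.card_top]
        exact hrd.trans (Subgroup.index_dvd_card _)
      exact hHall.2 r hr (hY'S.2 r hr h1) hrd
    rw [Subgroup.index_eq_one] at hidx
    exact hM.1 (top_le_iff.mp (hidx ▸ hsc))
  have hs : Group.IsSolvable ↥Y' := ms_solvable hG hY'top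
  have hodd : Odd (Nat.card Y') := ms_odd hG Y'
  suffices h : ∃ g : G, Y' ≤ cj g M by
    obtain ⟨g, hg⟩ := h
    exact ⟨g, hY'S.1.trans hg⟩
  by_cases hr : RankLE 2 ↥(fittingOf Y')
  · -- a normal Sylow subgroup for the largest prime
    obtain ⟨s, Q, hsp, hSyl, hQ1, hYQ⟩ := exists_normal_sylow_of_rankLE hs hodd hY'1 hr
    haveI : Fact s.Prime := ⟨hsp⟩
    have hQp : IsPGroup s Q := hSyl.2.1
    have hsσ : s ∈ sigma M :=
      hY'S.2 s hsp ((ms_prime_dvd_card hG hQp hQ1).trans (Subgroup.card_dvd_of_le hSyl.1))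
    set N1 : Subgroup G := Subgroup.normalizer (Q : Set G) with hN1
    have hN1top : N1 ≠ ⊤ := ms_normalizer_ne_top hG hQ1 (ms_pgroup_ne_top hG hQp)
    haveI hN1s : Group.IsSolvable ↥N1 := ms_solvable hG hN1top
    -- `Y'` is a Hall `σ`-subgroup of `N1`
    have hK : ∀ p : ℕ, p.Prime → p ∣ Nat.card (Y'.subgroupOf N1) → p ∈ sigma M := by
      intro p hp hpd
      rw [Nat.card_congr (Subgroup.subgroupOfEquivOfLe hYQ).toEquiv] at hpd
      exact hY'S.2 p hp hpd
    obtain ⟨L, hKL, hLπ, hLidx⟩ := exists_hall_ge (H := ↥N1) (sigma M) (Y'.subgroupOf N1) hK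
    have hL' : L.map N1.subtype = Y' := by
      apply hmax'
      · intro y hy
        exact ⟨⟨y, hYQ hy⟩, hKL (by rw [Subgroup.mem_subgroupOf]; exact hy), rfl⟩
      · intro p hp hpd
        rw [Subgroup.card_map_of_injective N1.subtype_injective] at hpd
        exact hLπ p hp hpd
    have hLeq : L = Y'.subgroupOf N1 := by
      rw [← hL']
      ext x
      rw [Subgroup.mem_subgroupOf]
      constructor
      · intro hx; exact ⟨x, hx, rfl⟩
      · rintro ⟨y, hy, hyx⟩
        have : y = x := Subtype.ext hyx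
        rwa [← this]
    have h1 : ¬ s ∣ Y'.relIndex N1 := by
      intro hd
      apply hLidx s hsp _ hsσ
      rw [hLeq]; exact hd
    have h2 : ¬ s ∣ Q.relIndex Y' := sylow_not_dvd_relIndex hSyl
    have h3 : ¬ s ∣ Q.relIndex N1 := by
      rw [← Subgroup.relIndex_mul_relIndex Q Y' N1 hSyl.1 hYQ]
      exact Nat.Prime.not_dvd_mul hsp h2 h1
    -- `Q` is a Sylow subgroup of `G`
    obtain ⟨P, hQP⟩ := hQp.exists_le_sylow
    have hPQ : (P : Subgroup G) = Q := by
      by_contra hne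
      have hlt : Q < (P : Subgroup G) := lt_of_le_of_ne hQP (fun e => hne e.symm)
      obtain ⟨u, huP, huN, huQ⟩ := exists_mem_normalizer_not_mem P.isPGroup' hlt
      set R : Subgroup G := Q ⊔ Subgroup.zpowers u with hR
      have hRP : R ≤ (P : Subgroup G) := sup_le hQP (by rw [Subgroup.zpowers_le]; exact huP)
      have hRN : R ≤ N1 := sup_le Subgroup.le_normalizer (by rw [Subgroup.zpowers_le]; exact huN)
      have hQR : Q ≤ R := le_sup_left
      have h4 : Q.relIndex R ∣ Q.relIndex N1 := by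
        rw [← Subgroup.relIndex_mul_relIndex Q R N1 hQR hRN]
        exact dvd_mul_right _ _
      have h5 : Q.relIndex R ≠ 1 := by
        intro h
        rw [Subgroup.relIndex_eq_one] at h
        exact huQ (h ((le_sup_right : Subgroup.zpowers u ≤ R) (Subgroup.mem_zpowers u)))
      have hRp : IsPGroup s R := P.isPGroup'.to_le hRP
      obtain ⟨b, hb⟩ := hRp.exists_card_eq
      have h6 : Q.relIndex R ∣ s ^ b := hb ▸ Subgroup.relIndex_dvd_card Q R
      obtain ⟨c, -, hc⟩ := (Nat.dvd_prime_pow hsp).mp h6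
      have hc0 : c ≠ 0 := by
        rintro rfl
        exact h5 (by simpa using hc)
      exact h3 ((hc ▸ dvd_pow_self s hc0).trans h4)
    obtain ⟨g, T, hT, hPT⟩ := sigma_sylow_conj hsσ P
    refine ⟨g, hYQ.trans ?_⟩
    have hQT : Q = cj g T := hPQ.symm.trans hPT
    rw [hN1, hQT, ← cj_normalizer]
    exact cj_mono (sigma_normalizer_le hsσ hT)
  · -- some `O_q(Y')` has rank at least three
    unfold RankLE at hr
    push Not at hr
    obtain ⟨q, hqp, hF⟩ := hr
    haveI : Fact q.Prime := ⟨hqp⟩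
    have hX3 := Scn3.not_pRankLE_pCoreOf hF
    set X : Subgroup G := pCoreOf q Y' with hXdef
    have hXp : IsPGroup q X := Cfsg.Agent.Lib.Helper54.isPGroup_pCoreOf q Y'
    have hXY : X ≤ Y' := Cfsg.Agent.Lib.Helper54.pCoreOf_le q Y'
    have hYX : Y' ≤ Subgroup.normalizer (X : Set G) :=
      Cfsg.Agent.Lib.Helper54.le_normalizer_pCoreOf q Y'
    obtain ⟨E, hEX, hEc, hEe, hE3⟩ := not_pRankLE_sub_iff.mp hX3
    have hEel : IsElementaryAbelian q E :=
      ⟨⟨⟨fun a b => Subtype.ext (hEc a a.2 b b.2)⟩⟩, hEe⟩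
    have hEU := Cfsg.Agent.S1403.elemAb_uniq hG q hqp E hEel hE3
    have hE1 : E ≠ ⊥ := by
      rintro rfl
      rw [Subgroup.card_bot] at hE3
      have := Nat.one_le_pow 2 q hqp.pos
      omega
    have hX1 : X ≠ ⊥ := by
      intro h
      exact hE1 (le_bot_iff.mp (h ▸ hEX))
    have hqσ : q ∈ sigma M :=
      hY'S.2 q hqp ((ms_prime_dvd_card hG hXp hX1).trans (Subgroup.card_dvd_of_le hXY))
    obtain ⟨g, hg⟩ := sigma_pgroup_le_conj hqσ hXp
    obtain ⟨L, hL, hNL⟩ := ms_exists_coatom_ge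
      (ms_normalizer_ne_top hG hX1 (ms_pgroup_ne_top hG hXp))
    have hLeq : L = cj g M :=
      hEU.unique ⟨hL, hEX.trans (Subgroup.le_normalizer.trans hNL)⟩
        ⟨isCoatom_cj g hM, hEX.trans hg⟩
    exact ⟨g, hYX.trans (hLeq ▸ hNL)⟩


end Cfsg.Agent.Lib.Helper71.BG10
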