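import Mathlib
import Cfsg.Agent.S0023
import Cfsg.Agent.S0025
import Cfsg.Agent.S1350
import Cfsg.Agent.S1392
import Cfsg.Agent.S1396
import Cfsg.Agent.S1408
import Cfsg.Agent.S1409
import Cfsg.Agent.S1410
import Cfsg.Agent.Lib.Helper99.Thompson
import Cfsg.Agent.Lib.Helper69.BGSigmaTrans
import Cfsg.Agent.Lib.Helper71.BG10Sub

set_option autoImplicit false
set_option linter.unusedSectionVars false

/-! Bender–Glauberman section 11 (exceptional maximal subgroups), Lemmas 11.1 and 11.2. -/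

namespace Cfsg.Agent.Lib.Helper71.BG11

open Cfsg Cfsg.Agent.Lib.Helper55 Cfsg.Agent.Lib.Helper31 Cfsg.Agent.Lib.Helper71.BG10

variable {G : Type*} [Group G] [Finite G]

/-- BG Hypothesis 11.1: the maximal subgroup `M` is exceptional for `(p, A, A0)`. -/
structure Exc (M : Subgroup G) (p : ℕ) (A A0 : Subgroup G) : Prop where
  coatom : IsCoatom M
  notSigma : p ∉ sigma M
  le : A ≤ M
  elem : IsElementaryAbelian p A
  card : Nat.card A = p ^ 2
  le0 : A0 ≤ A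
  card0 : Nat.card A0 = p
  norm : Subgroup.normalizer (A0 : Set G) ≤ M

variable {M A A0 : Subgroup G} {p : ℕ} [Fact p.Prime]

theorem Exc.rank (hG : IsMinSimpleOddOrder G) (h : Exc M p A A0) :
    PRankLE p 2 M ∧ ¬ PRankLE p 1 M :=
  (Cfsg.Agent.S1409.result hG M h.coatom p h.notSigma A0 h.card0 h.norm).1

theorem Exc.maxElem (hG : IsMinSimpleOddOrder G) (h : Exc M p A A0) (B : Subgroup G)
    (hB : IsElementaryAbelian p B) (hAB : A ≤ B) : B = A :=
  (Cfsg.Agent.S1408.result hG M h.coatom p h.notSigma (h.rank hG).1 (h.rank hG).2).2 A h.le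
    h.elem h.card B hB hAB

theorem Exc.cent_le (h : Exc M p A A0) : Subgroup.centralizer (A : Set G) ≤ M :=
  (Subgroup.centralizer_le (SetLike.coe_subset_coe.mpr h.le0)).trans
    ((Subgroup.centralizer_le_normalizer _).trans h.norm)

theorem Exc.isPGroup (h : Exc M p A A0) : IsPGroup p A := IsPGroup.of_card h.card

theorem Exc.ne_bot (h : Exc M p A A0) : A ≠ ⊥ := by
  intro hA
  have h1 := h.card
  rw [hA, Subgroup.card_bot] at h1
  have hp : 1 < p := (Fact.out : p.Prime).one_lt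
  have : 1 < p ^ 2 := Nat.one_lt_pow two_ne_zero hp
  omega

theorem Exc.ne_top (h : Exc M p A A0) : A ≠ ⊤ := by
  rintro rfl
  exact h.coatom.1 (top_le_iff.mp h.le)

theorem Exc.M_ne_bot (h : Exc M p A A0) : M ≠ ⊥ := by
  rintro rfl
  exact h.ne_bot (le_bot_iff.mp h.le)

theorem Exc.normalizer_M (hG : IsMinSimpleOddOrder G) (h : Exc M p A A0) :
    Subgroup.normalizer (M : Set G) = M :=
  ms_normalizer_eq hG h.coatom h.M_ne_bot le_rfl Subgroup.le_normalizer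

/-- `A = Ω₁(C_G(A))` -/
theorem Exc.mem_of_cent (hG : IsMinSimpleOddOrder G) (h : Exc M p A A0) {x : G}
    (hx : x ∈ Subgroup.centralizer (A : Set G)) (hxp : x ^ p = 1) : x ∈ A := by
  have hZ : IsElementaryAbelian p (Subgroup.zpowers x) := by
    refine ⟨inferInstance, ?_⟩
    intro y hy
    obtain ⟨k, rfl⟩ := Subgroup.mem_zpowers_iff.mp hy
    rw [← zpow_natCast, ← zpow_mul, mul_comm, zpow_mul, zpow_natCast, hxp, one_zpow]
  have hc : ∀ a ∈ A, ∀ b ∈ Subgroup.zpowers x, a * b = b * a := by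
    intro a ha b hb
    obtain ⟨k, rfl⟩ := Subgroup.mem_zpowers_iff.mp hb
    have h1 : Commute a x := (Subgroup.mem_centralizer_iff.mp hx a ha)
    exact (h1.zpow_right k).eq
  have h2 := h.maxElem hG _ (Cfsg.Agent.Lib.Helper99.isEA_sup h.elem hZ hc) le_sup_left
  rw [← h2]
  exact (le_sup_right : Subgroup.zpowers x ≤ A ⊔ Subgroup.zpowers x) (Subgroup.mem_zpowers x)

theorem Exc.transHyp (hG : IsMinSimpleOddOrder G) (h : Exc M p A A0) :
    TransitivityHypothesis A := by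
  have hpG : p ∣ Nat.card G :=
    dvd_trans (by rw [h.card]; exact dvd_pow_self p two_ne_zero) (Subgroup.card_subgroup_dvd_card A)
  exact Cfsg.Agent.S1396.result hG p hpG A h.isPGroup h.elem.1
    (Or.inl ⟨fun x hx => ⟨fun hxp => h.mem_of_cent hG hx hxp, fun hxA => h.elem.2 x hxA⟩,
      fun H hH => Cfsg.Agent.S1410.result hG p H hH⟩)

/-! ### facts on `M_σ` -/

theorem sigmaCore_le (M : Subgroup G) : sigmaCore M ≤ M := piCoreOf_le (sigma M) M

theorem le_normalizer_sigmaCore (M : Subgroup G) :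
    M ≤ Subgroup.normalizer (sigmaCore M : Set G) := le_normalizer_piCoreOf (sigma M) M

theorem sigmaCore_pi (hG : IsMinSimpleOddOrder G) (hM : IsCoatom M) {r : ℕ} (hr : r.Prime)
    (hrd : r ∣ Nat.card (sigmaCore M)) : r ∈ sigma M :=
  (Cfsg.Agent.S1350.result hG M hM).1.2.1 r hr hrd

theorem sigmaCore_index (hG : IsMinSimpleOddOrder G) (hM : IsCoatom M) {r : ℕ}
    (hr : r ∈ sigma M) : ¬ r ∣ (sigmaCore M).index :=
  (Cfsg.Agent.S1350.result hG M hM).2.1.2 r hr.1 hr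

theorem Exc.not_dvd_card_sigmaCore (hG : IsMinSimpleOddOrder G) (h : Exc M p A A0) :
    ¬ p ∣ Nat.card (sigmaCore M) := fun hd =>
  h.notSigma (sigmaCore_pi hG h.coatom Fact.out hd)

theorem Exc.coprime_sigmaCore (hG : IsMinSimpleOddOrder G) (h : Exc M p A A0) :
    (Nat.card A).Coprime (Nat.card (sigmaCore M)) := by
  rw [h.card]
  exact Nat.Coprime.pow_left 2
    ((Nat.Prime.coprime_iff_not_dvd Fact.out).2 (h.not_dvd_card_sigmaCore hG))

theorem index_cj (g : G) (K : Subgroup G) : (cj g K).index = K.index := by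
  have h1 := Subgroup.card_mul_index (cj g K)
  have h2 := Subgroup.card_mul_index K
  rw [card_cj] at h1
  have hpos : 0 < Nat.card K := Nat.card_pos
  exact Nat.eq_of_mul_eq_mul_left hpos (h1.trans h2.symm)

theorem le_normalizer_cj {g : G} {X K : Subgroup G} (h : cj g⁻¹ X ≤ Subgroup.normalizer (K : Set G)) :
    X ≤ Subgroup.normalizer ((cj g K : Subgroup G) : Set G) := by
  rw [← cj_normalizer, le_cj_iff]
  exact h

/-- Sylow subgroups of a subgroup of index prime to `q` are Sylow in `G` -/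
theorem not_dvd_index_of_isSylowIn {q : ℕ} [Fact q.Prime] {K T : Subgroup G}
    (hT : IsSylowIn q K T) (hK : ¬ q ∣ K.index) : ¬ q ∣ T.index := by
  have h1 : T.index = T.relIndex K * K.index := (Subgroup.relIndex_mul_index hT.1).symm
  rw [h1]
  intro hd
  rcases (Nat.Prime.dvd_mul Fact.out).mp hd with hd | hd
  · exact sylow_not_dvd_relIndex hT hd
  · exact hK hd

theorem isSylowIn_top_of_not_dvd_index {q : ℕ} [Fact q.Prime] {T : Subgroup G}
    (hT : IsPGroup q T) (hidx : ¬ q ∣ T.index) : IsSylowIn q ⊤ T := by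
  have := isSylowIn_of_sylow_le (hT.toSylow hidx) (K := ⊤) le_top
  rwa [IsPGroup.toSylow_coe] at this

theorem mem_maxInv_of_sylow {q : ℕ} [Fact q.Prime] {T : Subgroup G} (A : Subgroup G)
    (hT : IsSylowIn q ⊤ T) (hAT : A ≤ Subgroup.normalizer (T : Set G)) :
    T ∈ maxInvSubgroups ⊤ A {q} := by
  refine ⟨mem_invSubgroups_of_isPGroup q A T hT.2.1 hAT, ?_⟩
  intro R hR hle
  exact hT.2.2 R le_top (isPGroup_of_forall_prime q R hR.2.1) hle

/-- an `A`-invariant `q`-subgroup of an `A`-invariant group `K` of order prime to `|A|` and index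
prime to `q` lies in an `A`-invariant Sylow `q`-subgroup of `G` contained in `K` -/
theorem exists_inv_sylow_ge {A K Q : Subgroup G} {q : ℕ} [Fact q.Prime]
    (hsolvA : Group.IsSolvable A)
    (hAK : A ≤ Subgroup.normalizer (K : Set G)) (hcop : (Nat.card A).Coprime (Nat.card K))
    (hKidx : ¬ q ∣ K.index) (hQK : Q ≤ K) (hQ : IsPGroup q Q)
    (hQA : A ≤ Subgroup.normalizer (Q : Set G)) :
    ∃ Q' : Subgroup G, Q ≤ Q' ∧ Q' ≤ K ∧ A ≤ Subgroup.normalizer (Q' : Set G) ∧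
      IsSylowIn q ⊤ Q' ∧ Q' ∈ maxInvSubgroups ⊤ A {q} := by
  obtain ⟨P, hQP, hAP⟩ := Cfsg.Agent.S0025.result A K hAK hcop (Or.inl hsolvA) q Q hQK hQ hQA
  have hS : IsSylowIn q K ((P : Subgroup K).map K.subtype) := isSylowIn_of_sylow P
  have hidx := not_dvd_index_of_isSylowIn hS hKidx
  have hS' := isSylowIn_top_of_not_dvd_index hS.2.1 hidx
  exact ⟨_, hQP, hS.1, hAP, hS', mem_maxInv_of_sylow A hS' hAP⟩

theorem ne_bot_of_inf_ne_bot_right {H Q : Subgroup G} (h : H ⊓ Q ≠ ⊥) : Q ≠ ⊥ := by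
  rintro rfl
  exact h (inf_bot_eq H)

theorem inf_ne_bot_mono {H Q Q' : Subgroup G} (h : H ⊓ Q ≠ ⊥) (hQ : Q ≤ Q') : H ⊓ Q' ≠ ⊥ := by
  intro h'
  apply h
  exact le_bot_iff.mp (h' ▸ inf_le_inf_left H hQ)

/-- the core of BG Lemma 11.1 -/
theorem Exc.core (hG : IsMinSimpleOddOrder G) (h : Exc M p A A0) {g : G} (hg : g ∉ M)
    (hAg : A ≤ cj g M) {q : ℕ} [Fact q.Prime] {Q1 Q2 : Subgroup G} (hQ1 : Q1 ≤ sigmaCore M)
    (hQ2 : Q2 ≤ cj g (sigmaCore M)) (hq1 : IsPGroup q Q1) (hq2 : IsPGroup q Q2)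
    (hA1 : A ≤ Subgroup.normalizer (Q1 : Set G)) (hA2 : A ≤ Subgroup.normalizer (Q2 : Set G))
    {H : Subgroup G} (hH : H ≠ ⊤) (hAH : A ≤ H) (hH1 : H ⊓ Q1 ≠ ⊥) (hH2 : H ⊓ Q2 ≠ ⊥) : False := by
  have hM := h.coatom
  have hQ1ne : Q1 ≠ ⊥ := ne_bot_of_inf_ne_bot_right hH1
  have hqd : q ∣ Nat.card (sigmaCore M) :=
    (ms_prime_dvd_card hG hq1 hQ1ne).trans (Subgroup.card_dvd_of_le hQ1)
  have hq : q ∈ sigma M := sigmaCore_pi hG hM Fact.out hqd
  have hqp : q ≠ p := fun e => h.notSigma (e ▸ hq)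
  have hqA : ¬ q ∣ Nat.card A := by
    rw [h.card]
    intro hd
    exact hqp ((Nat.prime_dvd_prime_iff_eq Fact.out Fact.out).mp
      ((Fact.out : q.Prime).dvd_of_dvd_pow hd))
  have hsolvA : Group.IsSolvable A := ms_solvable hG h.ne_top
  -- the Sylow subgroup over `Q1`
  obtain ⟨Q1', hle1, hQ1'K, hA1', hS1, hmax1⟩ :=
    exists_inv_sylow_ge hsolvA (h.le.trans (le_normalizer_sigmaCore M)) (h.coprime_sigmaCore hG)
      (sigmaCore_index hG hM hq) hQ1 hq1 hA1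
  -- the Sylow subgroup over `Q2`
  have hAK2 : A ≤ Subgroup.normalizer ((cj g (sigmaCore M) : Subgroup G) : Set G) := by
    apply le_normalizer_cj
    exact (cj_le_iff.mpr (by rwa [inv_inv])).trans (le_normalizer_sigmaCore M)
  have hcop2 : (Nat.card A).Coprime (Nat.card (cj g (sigmaCore M))) := by
    rw [card_cj]; exact h.coprime_sigmaCore hG
  have hidx2 : ¬ q ∣ (cj g (sigmaCore M)).index := by
    rw [index_cj]; exact sigmaCore_index hG hM hq
  obtain ⟨Q2', hle2, hQ2'K, hA2', hS2, hmax2⟩ :=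
    exists_inv_sylow_ge hsolvA hAK2 hcop2 hidx2 hQ2 hq2 hA2
  obtain ⟨k, hk, hkQ⟩ := Cfsg.Agent.S1392.result hG A (h.transHyp hG) q Fact.out hqA Q1' Q2'
    hmax1 hmax2 H hH hAH (inf_ne_bot_mono hH1 hle1) (inf_ne_bot_mono hH2 hle2)
  have hkM : k ∈ M := h.cent_le (piCoreOf_le _ _ hk)
  have hQ2M : Q2' ≤ M := by
    rw [hkQ]
    calc cj k Q1' ≤ cj k M := cj_mono (hQ1'K.trans (sigmaCore_le M))
      _ = M := cj_eq_self_of_mem hkM
  have hSM : IsSylowIn q M Q2' :=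
    ⟨hQ2M, hS2.2.1, fun T' _ hT'p hle => hS2.2.2 T' le_top hT'p hle⟩
  have hgood : Cfsg.Agent.Lib.Helper69.BG10.Good q Q2' M :=
    ⟨hS2, hQ2M, sigma_normalizer_le hq hSM⟩
  have h3 : cj g M = M :=
    Cfsg.Agent.Lib.Helper69.BG10.good_unique hgood g (hQ2'K.trans (cj_mono (sigmaCore_le M)))
  have h4 : g ∈ Subgroup.normalizer (M : Set G) := cj_eq_self_iff.mp h3
  rw [h.normalizer_M hG] at h4
  exact hg h4

/-- BG Lemma 11.1(a) -/
theorem Exc.sylow_inf_eq_bot (hG : IsMinSimpleOddOrder G) (h : Exc M p A A0) {g : G} (hg : g ∉ M)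
    (hAg : A ≤ cj g M) {q : ℕ} [Fact q.Prime] {Q1 Q2 : Subgroup G} (hQ1 : Q1 ≤ sigmaCore M)
    (hQ2 : Q2 ≤ cj g (sigmaCore M)) (hq1 : IsPGroup q Q1) (hq2 : IsPGroup q Q2)
    (hA1 : A ≤ Subgroup.normalizer (Q1 : Set G)) (hA2 : A ≤ Subgroup.normalizer (Q2 : Set G)) :
    Q1 ⊓ Q2 = ⊥ := by
  by_contra hD
  have hDq : IsPGroup q (Q1 ⊓ Q2 : Subgroup G) := hq1.to_le inf_le_left
  have hDtop : (Q1 ⊓ Q2 : Subgroup G) ≠ ⊤ := ms_pgroup_ne_top hG hDq
  have hH : Subgroup.normalizer ((Q1 ⊓ Q2 : Subgroup G) : Set G) ≠ ⊤ :=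
    ms_normalizer_ne_top hG hD hDtop
  have hAH : A ≤ Subgroup.normalizer ((Q1 ⊓ Q2 : Subgroup G) : Set G) :=
    inf_normalizer_le A Q1 Q2 hA1 hA2
  have hD1 : Subgroup.normalizer ((Q1 ⊓ Q2 : Subgroup G) : Set G) ⊓ Q1 ≠ ⊥ := by
    intro h'
    apply hD
    exact le_bot_iff.mp (h' ▸ le_inf Subgroup.le_normalizer inf_le_left)
  have hD2 : Subgroup.normalizer ((Q1 ⊓ Q2 : Subgroup G) : Set G) ⊓ Q2 ≠ ⊥ := by
    intro h'
    apply hD
    exact le_bot_iff.mp (h' ▸ le_inf Subgroup.le_normalizer inf_le_right)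
  exact h.core hG hg hAg hQ1 hQ2 hq1 hq2 hA1 hA2 hH hAH hD1 hD2

theorem Exc.centralizer_ne_top (hG : IsMinSimpleOddOrder G) (h : Exc M p A A0) {X : Subgroup G}
    (hXA : X ≤ A) (hX : Nat.card X = p) : Subgroup.centralizer (X : Set G) ≠ ⊤ := by
  have hX1 : X ≠ ⊥ := by
    rintro rfl
    rw [Subgroup.card_bot] at hX
    exact (Fact.out : p.Prime).one_lt.ne hX
  have hXtop : X ≠ ⊤ := fun e => h.ne_top (top_le_iff.mp (e ▸ hXA))
  intro hc
  apply ms_normalizer_ne_top hG hX1 hXtop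
  exact top_le_iff.mp (hc ▸ Subgroup.centralizer_le_normalizer _)

theorem Exc.le_centralizer (h : Exc M p A A0) {X : Subgroup G} (hXA : X ≤ A) :
    A ≤ Subgroup.centralizer (X : Set G) := by
  intro a ha
  rw [Subgroup.mem_centralizer_iff]
  intro x hx
  have := h.elem.1
  exact congrArg Subtype.val (this.is_comm.comm (⟨x, hXA hx⟩ : A) ⟨a, ha⟩)

/-- BG Lemma 11.1(b) -/
theorem Exc.cent_inf_eq_bot (hG : IsMinSimpleOddOrder G) (h : Exc M p A A0) {g : G} (hg : g ∉ M)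
    (hAg : A ≤ cj g M) {q : ℕ} [Fact q.Prime] {Q1 Q2 : Subgroup G} (hQ1 : Q1 ≤ sigmaCore M)
    (hQ2 : Q2 ≤ cj g (sigmaCore M)) (hq1 : IsPGroup q Q1) (hq2 : IsPGroup q Q2)
    (hA1 : A ≤ Subgroup.normalizer (Q1 : Set G)) (hA2 : A ≤ Subgroup.normalizer (Q2 : Set G))
    {X : Subgroup G} (hXA : X ≤ A) (hX : Nat.card X = p) :
    Q1 ⊓ Subgroup.centralizer (X : Set G) = ⊥ ∨ Q2 ⊓ Subgroup.centralizer (X : Set G) = ⊥ := by
  by_contra hcon
  push Not at hcon
  obtain ⟨h1, h2⟩ := hcon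
  rw [inf_comm] at h1 h2
  exact h.core hG hg hAg hQ1 hQ2 hq1 hq2 hA1 hA2 (h.centralizer_ne_top hG hXA hX)
    (h.le_centralizer hXA) h1 h2

/-- BG Lemma 11.2(a) -/
theorem Exc.sigmaCore_inf_conj (hG : IsMinSimpleOddOrder G) (h : Exc M p A A0) {g : G}
    (hg : g ∉ M) (hAg : A ≤ cj g M) : sigmaCore M ⊓ cj g M = ⊥ := by
  by_contra hD
  have hM := h.coatom
  set D : Subgroup G := sigmaCore M ⊓ cj g M with hDdef
  have hAD : A ≤ Subgroup.normalizer (D : Set G) := by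
    apply inf_normalizer_le A _ _ (h.le.trans (le_normalizer_sigmaCore M))
    exact hAg.trans Subgroup.le_normalizer
  have hcop : (Nat.card A).Coprime (Nat.card D) :=
    Nat.Coprime.coprime_dvd_right (Subgroup.card_dvd_of_le inf_le_left) (h.coprime_sigmaCore hG)
  have hsolvA : Group.IsSolvable A := ms_solvable hG h.ne_top
  have hDc : Nat.card D ≠ 1 := fun h1 => hD (Subgroup.card_eq_one.mp h1)
  obtain ⟨q, hqp, hqD⟩ := Nat.exists_prime_and_dvd hDc
  have : Fact q.Prime := ⟨hqp⟩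
  obtain ⟨P, hAP⟩ := Cfsg.Agent.S0023.result A D hAD hcop (Or.inl hsolvA) q
  have hS : IsSylowIn q D ((P : Subgroup D).map D.subtype) := isSylowIn_of_sylow P
  set X : Subgroup G := (P : Subgroup D).map D.subtype with hXdef
  have hX1 : X ≠ ⊥ := sylow_ne_bot hqD hS
  have hXS : X ≤ sigmaCore M := hS.1.trans inf_le_left
  have hXg : X ≤ cj g M := hS.1.trans inf_le_right
  have hq : q ∈ sigma M :=
    sigmaCore_pi hG hM hqp (hqD.trans (Subgroup.card_dvd_of_le inf_le_left))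
  have hXS2 : X ≤ cj g (sigmaCore M) := by
    rw [le_cj_iff]
    refine le_of_isPiHallOf_normal (Cfsg.Agent.S1350.result hG M hM).1
      (le_normalizer_sigmaCore M) (cj_le_iff.mpr (by rwa [inv_inv])) ?_
    intro r hr hrd
    rw [card_cj] at hrd
    have := forall_prime_of_isPGroup q X hS.2.1 r hr hrd
    rw [Set.mem_singleton_iff] at this
    rw [this]; exact hq
  have h3 := h.sylow_inf_eq_bot hG hg hAg hXS hXS2 hS.2.1 hS.2.1 hAP hAP
  rw [inf_idem] at h3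
  exact hX1 h3

/-- BG Lemma 11.2(b) -/
theorem Exc.sigmaCore_inf_cent (hG : IsMinSimpleOddOrder G) (h : Exc M p A A0) {g : G}
    (hg : g ∉ M) (hAg : A ≤ cj g M) :
    sigmaCore M ⊓ Subgroup.centralizer ((cj g A0 : Subgroup G) : Set G) = ⊥ := by
  have h1 : Subgroup.centralizer ((cj g A0 : Subgroup G) : Set G) ≤ cj g M := by
    rw [← cj_centralizer]
    exact cj_mono ((Subgroup.centralizer_le_normalizer _).trans h.norm)
  exact le_bot_iff.mp ((h.sigmaCore_inf_conj hG hg hAg) ▸ inf_le_inf_left _ h1)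

end Cfsg.Agent.Lib.Helper71.BG11
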