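import Mathlib
import Cfsg.Agent.S0026
import Cfsg.Agent.S1404
import Cfsg.Agent.S1445
import Cfsg.Agent.Lib.Helper76.Fitting
import Cfsg.Agent.Lib.Helper71.BG11a

set_option autoImplicit false
set_option linter.unusedSectionVars false

/-! Bender–Glauberman section 11 (exceptional maximal subgroups), Lemmas 11.3 and 11.4. -/

namespace Cfsg.Agent.Lib.Helper71.BG11

open Cfsg Cfsg.Agent.Lib.Helper55 Cfsg.Agent.Lib.Helper31 Cfsg.Agent.Lib.Helper71.BG10

variable {G : Type*} [Group G] [Finite G]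

variable {M A A0 : Subgroup G} {p : ℕ} [Fact p.Prime]

/-- a subgroup of a proper subgroup admitting a fixed-point-free subgroup of prime order (of order
prime to it) is nilpotent -/
theorem nilpotent_of_fpf (hG : IsMinSimpleOddOrder G) {S B : Subgroup G} (hL : S ⊔ B ≠ ⊤)
    (hBS : B ≤ Subgroup.normalizer (S : Set G)) (hB : Nat.card B = p)
    (hcop : (Nat.card S).Coprime p) (hfpf : S ⊓ Subgroup.centralizer (B : Set G) = ⊥) :
    Group.IsNilpotent S := by
  set L : Subgroup G := S ⊔ B with hLdef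
  have hSL : S ≤ L := le_sup_left
  have hBL : B ≤ L := le_sup_right
  haveI : Group.IsSolvable L := ms_solvable hG hL
  have hodd : Odd (Nat.card L) := ms_odd hG L
  set K : Subgroup L := S.subgroupOf L with hKdef
  set R : Subgroup L := B.subgroupOf L with hRdef
  have hLS : L ≤ Subgroup.normalizer (S : Set G) := sup_le Subgroup.le_normalizer hBS
  haveI hKn : K.Normal := (Subgroup.normal_subgroupOf_iff_le_normalizer hSL).mpr hLS
  have hKR : K ⊔ R = ⊤ := by
    rw [hKdef, hRdef, ← Subgroup.subgroupOf_sup hSL hBL]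
    exact Subgroup.subgroupOf_self L
  have hcK : Nat.card K = Nat.card S := Nat.card_congr (Subgroup.subgroupOfEquivOfLe hSL).toEquiv
  have hcR : Nat.card R = p := by
    rw [← hB]; exact Nat.card_congr (Subgroup.subgroupOfEquivOfLe hBL).toEquiv
  have hcopKR : (Nat.card K).Coprime (Nat.card R) := by rw [hcK, hcR]; exact hcop
  have hKC : K ⊓ Subgroup.centralizer (R : Set L) = ⊥ := by
    rw [eq_bot_iff]
    intro y hy
    obtain ⟨hyK, hyC⟩ := Subgroup.mem_inf.mp hy
    have h1 : (y : G) ∈ S ⊓ Subgroup.centralizer (B : Set G) := by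
      refine Subgroup.mem_inf.mpr ⟨hyK, ?_⟩
      rw [Subgroup.mem_centralizer_iff]
      intro b hb
      have hbR : (⟨b, hBL hb⟩ : L) ∈ R := by
        rw [hRdef, Subgroup.mem_subgroupOf]; exact hb
      have := Subgroup.mem_centralizer_iff.mp hyC ⟨b, hBL hb⟩ hbR
      exact congrArg Subtype.val this
    rw [hfpf, Subgroup.mem_bot] at h1
    rw [Subgroup.mem_bot]
    exact Subtype.ext h1
  have hprime : ∀ x ∈ R, x ≠ 1 → K ⊓ Subgroup.centralizer ({x} : Set L) =
      K ⊓ Subgroup.centralizer (R : Set L) := by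
    intro x hx hx1
    have hgen : ∀ r ∈ R, r ∈ Subgroup.zpowers x := by
      intro r hr
      have hx1' : (⟨x, hx⟩ : R) ≠ 1 := by
        intro e
        apply hx1
        exact congrArg Subtype.val e
      have h2 := mem_zpowers_of_prime_card (G := R) hcR (g := ⟨x, hx⟩) (g' := ⟨r, hr⟩) hx1'
      obtain ⟨k, hk⟩ := Subgroup.mem_zpowers_iff.mp h2
      rw [Subgroup.mem_zpowers_iff]
      refine ⟨k, ?_⟩
      have := congrArg Subtype.val hk
      simpa using this
    apply le_antisymm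
    · intro y hy
      obtain ⟨hyK, hyC⟩ := Subgroup.mem_inf.mp hy
      refine Subgroup.mem_inf.mpr ⟨hyK, ?_⟩
      rw [Subgroup.mem_centralizer_iff]
      intro r hr
      obtain ⟨k, rfl⟩ := Subgroup.mem_zpowers_iff.mp (hgen r hr)
      have h1 : Commute x y := Subgroup.mem_centralizer_iff.mp hyC x rfl
      exact (h1.zpow_left k).eq
    · exact inf_le_inf_left _ (Subgroup.centralizer_le (by
        intro z hz
        rw [Set.mem_singleton_iff] at hz
        rw [hz]; exact hx))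
  have hF : fittingOf K ⊓ Subgroup.centralizer (R : Set L) = ⊥ := by
    apply le_bot_iff.mp
    rw [← hKC]
    exact inf_le_inf_right _ (Subgroup.map_subtype_le _)
  have h1445 := Cfsg.Agent.S1445.result hodd K R hKR hcopKR hprime hF
  have hRK : R ≤ Subgroup.normalizer (K : Set L) := by
    rw [Subgroup.normalizer_eq_top]; exact le_top
  have h26 := Cfsg.Agent.S0026.result R K hRK hcopKR.symm (Or.inr inferInstance)
  rw [hKC, sup_bot_eq] at h26
  have h3 : K ≤ fittingOf K := by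
    rw [h26] at h1445
    exact h1445
  have h4 : fittingSubgroup K = ⊤ := by
    rw [eq_top_iff]
    intro y _
    obtain ⟨z, hz, hzy⟩ := h3 y.2
    have : z = y := Subtype.ext hzy
    rwa [← this]
  have h5 : Group.IsNilpotent (fittingSubgroup K) :=
    Cfsg.Agent.Lib.Helper76.fittingSubgroup_isNilpotent
  rw [h4] at h5
  have h6 : Group.IsNilpotent K := Group.nilpotent_of_mulEquiv Subgroup.topEquiv
  exact Group.nilpotent_of_mulEquiv (Subgroup.subgroupOfEquivOfLe hSL)

theorem Exc.dvd_card_M (h : Exc M p A A0) : p ∣ Nat.card M :=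
  dvd_trans (by rw [h.card]; exact dvd_pow_self p two_ne_zero) (Subgroup.card_dvd_of_le h.le)

/-- the normalizer of a Sylow `p`-subgroup of `M` is not contained in `M` -/
theorem Exc.exists_normalizer_not_mem (h : Exc M p A A0) {P : Subgroup G} (hP : IsSylowIn p M P) :
    ∃ g ∈ Subgroup.normalizer (P : Set G), g ∉ M := by
  by_contra hcon
  push Not at hcon
  apply h.notSigma
  refine ⟨Fact.out, h.dvd_card_M, hP.toSylow, ?_⟩
  rw [hP.map_toSylow]
  exact fun g hg => hcon g hg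

/-- for `g ∈ N_G(P) \ M` the subgroup `g A0 g⁻¹ ≤ P` acts fixed-point-freely on `M_σ` -/
theorem Exc.fpf_of_normalizer (hG : IsMinSimpleOddOrder G) (h : Exc M p A A0) {P : Subgroup G}
    (hP : IsSylowIn p M P) (hAP : A ≤ P) {g : G} (hgN : g ∈ Subgroup.normalizer (P : Set G))
    (hgM : g ∉ M) :
    A ≤ cj g M ∧ cj g A0 ≤ P ∧
      sigmaCore M ⊓ Subgroup.centralizer ((cj g A0 : Subgroup G) : Set G) = ⊥ := by
  have hcjP : cj g P = P := cj_eq_self_iff.mpr hgN
  have hAg : A ≤ cj g M := by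
    calc A ≤ P := hAP
      _ = cj g P := hcjP.symm
      _ ≤ cj g M := cj_mono hP.1
  refine ⟨hAg, ?_, h.sigmaCore_inf_cent hG hgM hAg⟩
  calc cj g A0 ≤ cj g P := cj_mono (h.le0.trans hAP)
    _ = P := hcjP

/-- BG Lemma 11.3: `M_σ` is nilpotent -/
theorem Exc.sigmaCore_nilpotent (hG : IsMinSimpleOddOrder G) (h : Exc M p A A0) :
    Group.IsNilpotent (sigmaCore M) := by
  obtain ⟨P, hP, hAP⟩ := exists_isSylowIn_ge h.le h.isPGroup
  obtain ⟨g, hgN, hgM⟩ := h.exists_normalizer_not_mem hP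
  obtain ⟨hAg, hB0P, hfpf⟩ := h.fpf_of_normalizer hG hP hAP hgN hgM
  have hB0M : cj g A0 ≤ M := hB0P.trans hP.1
  refine nilpotent_of_fpf hG (S := sigmaCore M) (B := cj g A0) (p := p) ?_
    (hB0M.trans (le_normalizer_sigmaCore M)) (by rw [card_cj]; exact h.card0) ?_ hfpf
  · intro htop
    exact h.coatom.1 (top_le_iff.mp (htop ▸ sup_le (sigmaCore_le M) hB0M))
  · exact ((Nat.Prime.coprime_iff_not_dvd Fact.out).2 (h.not_dvd_card_sigmaCore hG)).symm

/-- in a nilpotent subgroup `S` normalized by `M`, a Sylow `q`-subgroup is normalized by `M` -/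
theorem sylow_normal_of_nilpotent {S Q M : Subgroup G} {q : ℕ} [Fact q.Prime]
    (hnil : Group.IsNilpotent S) (hQ : IsSylowIn q S Q)
    (hMS : M ≤ Subgroup.normalizer (S : Set G)) : M ≤ Subgroup.normalizer (Q : Set G) := by
  have hall : ∀ (r : ℕ) (_hr : Fact r.Prime) (P : Sylow r S), (P : Subgroup S).Normal :=
    ((Group.isNilpotent_of_finite_tfae (G := S)).out 0 3).mp hnil
  have hn : ((hQ.toSylow : Sylow q S) : Subgroup S).Normal := hall q inferInstance hQ.toSylow
  rw [hQ.coe_toSylow, Subgroup.normal_subgroupOf_iff_le_normalizer hQ.1] at hn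
  intro m hm
  have h1 : cj m S = S := cj_eq_self_iff.mpr (hMS hm)
  have h2 : IsSylowIn q S (cj m Q) := by
    have := isSylowIn_cj hQ m
    rwa [h1] at this
  obtain ⟨k, hk, hkQ⟩ := hQ.exists_conj h2
  have h3 : cj k Q = Q := cj_eq_self_iff.mpr (hn hk)
  rw [h3] at hkQ
  exact cj_eq_self_iff.mp hkQ.symm

/-- every `q`-subgroup of a nilpotent group lies in the given Sylow `q`-subgroup -/
theorem le_sylow_of_nilpotent {S Q X : Subgroup G} {q : ℕ} [Fact q.Prime]
    (hnil : Group.IsNilpotent S) (hQ : IsSylowIn q S Q) (hXS : X ≤ S) (hX : IsPGroup q X) :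
    X ≤ Q := by
  have hn := sylow_normal_of_nilpotent (M := S) hnil hQ Subgroup.le_normalizer
  obtain ⟨k, hk, hkX⟩ := hQ.exists_conj_le hXS hX
  rw [cj_le_iff] at hkX
  have h3 : cj k⁻¹ Q = Q := cj_eq_self_iff.mpr (hn (Subgroup.inv_mem _ hk))
  rwa [h3] at hkX

/-- BG Lemma 11.4 -/
theorem Exc.eq_of_sigmaCore_inf (hG : IsMinSimpleOddOrder G) (h : Exc M p A A0) {H : Subgroup G}
    (hH : IsCoatom H) (hAH : A ≤ H) (hne : sigmaCore H ⊓ sigmaCore M ≠ ⊥) : H = M := by
  have hM := h.coatom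
  set D : Subgroup G := sigmaCore H ⊓ sigmaCore M with hDdef
  have hDc : Nat.card D ≠ 1 := fun h1 => hne (Subgroup.card_eq_one.mp h1)
  obtain ⟨q, hqp, hqD⟩ := Nat.exists_prime_and_dvd hDc
  have : Fact q.Prime := ⟨hqp⟩
  obtain ⟨P⟩ : Nonempty (Sylow q D) := inferInstance
  have hS : IsSylowIn q D ((P : Subgroup D).map D.subtype) := isSylowIn_of_sylow P
  set X : Subgroup G := (P : Subgroup D).map D.subtype with hXdef
  have hX1 : X ≠ ⊥ := sylow_ne_bot hqD hS
  have hXH : X ≤ sigmaCore H := hS.1.trans inf_le_left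
  have hXS : X ≤ sigmaCore M := hS.1.trans inf_le_right
  have hq : q ∈ sigma M :=
    sigmaCore_pi hG hM hqp (hqD.trans (Subgroup.card_dvd_of_le inf_le_right))
  have hqH : q ∈ sigma H :=
    sigmaCore_pi hG hH hqp (hqD.trans (Subgroup.card_dvd_of_le inf_le_left))
  have hnil := h.sigmaCore_nilpotent hG
  -- the Sylow subgroup of `M_σ`
  obtain ⟨Q, hQ, -⟩ := exists_isSylowIn_ge (p := q) (K := sigmaCore M) (Z := ⊥) bot_le
    IsPGroup.of_bot
  have hXQ : X ≤ Q := le_sylow_of_nilpotent hnil hQ hXS hS.2.1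
  have hQ1 : Q ≠ ⊥ := fun e => hX1 (le_bot_iff.mp (e ▸ hXQ))
  have hMQ : M ≤ Subgroup.normalizer (Q : Set G) :=
    sylow_normal_of_nilpotent hnil hQ (le_normalizer_sigmaCore M)
  have hNQ : Subgroup.normalizer (Q : Set G) = M :=
    ms_normalizer_eq hG hM hQ1 (hQ.1.trans (sigmaCore_le M)) hMQ
  have hQtop : IsSylowIn q ⊤ Q :=
    isSylowIn_top_of_not_dvd_index hQ.2.1
      (not_dvd_index_of_isSylowIn hQ (sigmaCore_index hG hM hq))
  -- a Sylow subgroup of `H_σ` over `X`
  obtain ⟨Q2, hQ2, hXQ2⟩ := exists_isSylowIn_ge hXH hS.2.1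
  have hQ2top : IsSylowIn q ⊤ Q2 :=
    isSylowIn_top_of_not_dvd_index hQ2.2.1
      (not_dvd_index_of_isSylowIn hQ2 (sigmaCore_index hG hH hqH))
  obtain ⟨x, -, hx⟩ := hQtop.exists_conj hQ2top
  have h9 : cj x⁻¹ X ≤ M := by
    have : X ≤ cj x Q := hx ▸ hXQ2
    rw [le_cj_iff] at this
    exact this.trans (hQ.1.trans (sigmaCore_le M))
  obtain ⟨m, hm, c, hc, hxmc⟩ :=
    (Cfsg.Agent.S1404.result hG M hM q hq X hS.2.1 hX1 (hXS.trans (sigmaCore_le M))).1 x⁻¹ h9
  have hx' : x = c⁻¹ * m⁻¹ := by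
    have : x = (x⁻¹)⁻¹ := (inv_inv x).symm
    rw [this, hxmc, mul_inv_rev]
  have h11 : Q2 = cj c⁻¹ Q := by
    rw [← hx, hx', cj_mul]
    congr 1
    exact cj_eq_self_iff.mpr (hMQ (Subgroup.inv_mem _ hm))
  have h12 : Subgroup.normalizer (Q2 : Set G) = cj c⁻¹ M := by
    rw [h11, ← cj_normalizer, hNQ]
  have hQ2H : IsSylowIn q H Q2 :=
    ⟨hQ2.1.trans (sigmaCore_le H), hQ2.2.1, fun T' _ hT'p hle => hQ2top.2.2 T' le_top hT'p hle⟩
  have h13 : cj c⁻¹ M ≤ H := h12 ▸ sigma_normalizer_le hqH hQ2H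
  have h14 : cj c⁻¹ M = H := ms_coatom_eq_of_le hH (isCoatom_cj _ hM) h13
  by_cases hcM : c⁻¹ ∈ M
  · rw [← h14]; exact cj_eq_self_of_mem hcM
  · exfalso
    have h15 := h.sigmaCore_inf_conj hG hcM (h14 ▸ hAH)
    apply hX1
    apply le_bot_iff.mp
    rw [← h15, h14]
    exact le_inf hXS (hXH.trans (sigmaCore_le H))

end Cfsg.Agent.Lib.Helper71.BG11
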