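import Mathlib
import Cfsg.Agent.S0027
import Cfsg.Agent.S1443
import Cfsg.Agent.Lib.Helper13.BG12B
import Cfsg.Agent.Lib.Helper15.BG103C
import Cfsg.Agent.Lib.Helper31.Bg10b
import Cfsg.Agent.Lib.Helper71.BG11b

set_option autoImplicit false
set_option linter.unusedSectionVars false

/-! Bender–Glauberman Theorem 11.7, the crux: `A` centralizes every normal `r`-subgroup (`r ≠ p`) of a
complement of `M_σ` in an exceptional maximal subgroup `M`.  The leaves (Hall–Higman type lemma,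
Lemma Z, the arithmetic lemma, the invariant Sylow subgroup and BG Lemma 10.10(c)) enter as explicit
hypotheses. -/

namespace Cfsg.Agent.Lib.Helper71.BG11

open Cfsg Cfsg.Agent.Lib.Helper55 Cfsg.Agent.Lib.Helper31 Cfsg.Agent.Lib.Helper71.BG10
open scoped commutatorElement

variable {G : Type*} [Group G] [Finite G]

/-! ### the hypotheses -/

/-- Hall–Higman type lemma (leaf L1) -/
def HypL1 (G : Type*) [Group G] : Prop :=
  ∀ (M : Subgroup G), IsCoatom M → Group.IsNilpotent (sigmaCore M) →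
    ∀ (p q : ℕ) [Fact p.Prime] [Fact q.Prime], q ≠ p → q ∉ sigma M → p ∉ sigma M →
    ∀ (X Q : Subgroup G), X ≤ M → Nat.card X = p → Q ≤ M → IsPGroup q Q →
      X ≤ Subgroup.normalizer (Q : Set G) →
      sigmaCore M ⊓ Subgroup.centralizer (X : Set G) = ⊥ →
      ⁅Q, X⁆ ≤ Subgroup.centralizer (sigmaCore M : Set G)

/-- Lemma Z (leaf L2) -/
def HypL2 (G : Type*) [Group G] : Prop :=
  ∀ (M : Subgroup G), IsCoatom M → ∀ (r : ℕ) [Fact r.Prime], r ∉ sigma M →
    ∀ (B : Subgroup G), B ≤ M → IsElementaryAbelian r B → Nat.card B = r ^ 2 →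
      Subgroup.centralizer (B : Set G) ≤ M →
      sigmaCore M ⊓ Subgroup.centralizer (B : Set G) = ⊥

/-- the arithmetic lemma (leaf L3) -/
def HypL3 (G : Type*) [Group G] : Prop :=
  ∀ (p r : ℕ) [Fact p.Prime] [Fact r.Prime] (V : Subgroup G), Nat.card V = r →
    ∀ a : G, a ∈ Subgroup.normalizer (V : Set G) → a ^ p = 1 →
      a ∉ Subgroup.centralizer (V : Set G) → p ∣ r - 1

/-- the invariant Sylow subgroup (leaf L4) -/
def HypL4 (G : Type*) [Group G] : Prop :=
  ∀ (M A : Subgroup G), IsCoatom M → ∀ (p r : ℕ) [Fact p.Prime] [Fact r.Prime], p < r →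
    PRankLE p 2 M → p ∣ Nat.card M → A ≤ M → IsPGroup p A →
    ∃ T : Subgroup G, IsSylowIn r M T ∧ A ≤ Subgroup.normalizer (T : Set G)

/-- BG Lemma 10.10(c) (helper65) -/
def HypCent (G : Type*) [Group G] : Prop :=
  ∀ (p : ℕ) [Fact p.Prime] (A : Subgroup G), IsElementaryAbelian p A → Nat.card A = p ^ 2 →
    (∀ B : Subgroup G, IsElementaryAbelian p B → A ≤ B → B = A) →
    ∀ (r : ℕ) [Fact r.Prime], r ≠ p → ∀ S : Subgroup G, IsPGroup r S →
      A ≤ Subgroup.normalizer (S : Set G) →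
      ∀ B : Subgroup G, B ≤ S → IsElementaryAbelian r B → Nat.card B = r ^ 2 →
        (∀ B' : Subgroup G, IsElementaryAbelian r B' → B ≤ B' → B' = B) →
        S ⊓ Subgroup.centralizer (A : Set G) ≠ ⊥ → A ≤ Subgroup.centralizer (S : Set G)

/-! ### `Ω₁(Z(T))` -/

/-- the elements of order dividing `p` in the centre of `T` -/
def omZ (p : ℕ) (T : Subgroup G) : Subgroup G where
  carrier := {x | x ∈ T ∧ (∀ t ∈ T, t * x = x * t) ∧ x ^ p = 1}
  one_mem' := ⟨T.one_mem, fun t _ => by simp, one_pow p⟩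
  mul_mem' := by
    rintro a b ⟨ha, hac, hap⟩ ⟨hb, hbc, hbp⟩
    refine ⟨T.mul_mem ha hb, fun t ht => ?_, ?_⟩
    · rw [← mul_assoc, hac t ht, mul_assoc, hbc t ht, mul_assoc]
    · have hab : Commute a b := (hbc a ha)
      rw [hab.mul_pow, hap, hbp, one_mul]
  inv_mem' := by
    rintro a ⟨ha, hac, hap⟩
    refine ⟨T.inv_mem ha, fun t ht => ?_, by rw [inv_pow, hap, inv_one]⟩
    have := hac t ht
    calc t * a⁻¹ = a⁻¹ * (a * t) * a⁻¹ := by group
      _ = a⁻¹ * (t * a) * a⁻¹ := by rw [this]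
      _ = a⁻¹ * t := by group

theorem omZ_le (p : ℕ) (T : Subgroup G) : omZ p T ≤ T := fun _ hx => hx.1

theorem normalizer_le_normalizer_omZ (p : ℕ) (T : Subgroup G) :
    Subgroup.normalizer (T : Set G) ≤ Subgroup.normalizer (omZ p T : Set G) := by
  have key : ∀ n ∈ Subgroup.normalizer (T : Set G), ∀ x ∈ omZ p T, n * x * n⁻¹ ∈ omZ p T := by
    intro n hn x hx
    rw [Subgroup.mem_normalizer_iff] at hn
    refine ⟨(hn x).mp hx.1, fun t ht => ?_, ?_⟩
    · have h1 : n⁻¹ * t * n ∈ T := by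
        rw [hn]; simpa [mul_assoc] using ht
      have h2 := hx.2.1 _ h1
      calc t * (n * x * n⁻¹) = n * ((n⁻¹ * t * n) * x) * n⁻¹ := by group
        _ = n * (x * (n⁻¹ * t * n)) * n⁻¹ := by rw [h2]
        _ = n * x * n⁻¹ * t := by group
    · rw [conj_pow, hx.2.2]; group
  intro n hn
  rw [Subgroup.mem_normalizer_iff]
  intro x
  constructor
  · exact key n hn x
  · intro h
    have := key n⁻¹ ((Subgroup.normalizer (T : Set G)).inv_mem hn) _ h
    simpa [mul_assoc] using this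

theorem omZ_elemAb (p : ℕ) (T : Subgroup G) : IsElementaryAbelian p (omZ p T) := by
  refine ⟨⟨⟨fun a b => Subtype.ext ?_⟩⟩, fun a ha => ha.2.2⟩
  exact (b.2.2.1 a a.2.1)

theorem omZ_ne_bot {p : ℕ} [Fact p.Prime] {T : Subgroup G} (hT : IsPGroup p T) (hT1 : T ≠ ⊥) :
    omZ p T ≠ ⊥ := by
  obtain ⟨z, hzT, hzo, hzc⟩ := Bg10.exists_central_order_p hT hT1
  have hzZ : z ∈ omZ p T := ⟨hzT, hzc, by rw [← hzo]; exact pow_orderOf_eq_one z⟩
  intro h
  rw [h, Subgroup.mem_bot] at hzZ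
  rw [hzZ, orderOf_one] at hzo
  exact (Fact.out : p.Prime).one_lt.ne hzo

/-! ### generation -/

/-- two distinct subgroups of order `p` of a group of order `p ^ 2` generate it -/
theorem sup_eq_of_card {p : ℕ} [Fact p.Prime] {A X1 X2 : Subgroup G} (hA : Nat.card A = p ^ 2)
    (h1 : X1 ≤ A) (h2 : X2 ≤ A) (hc1 : Nat.card X1 = p) (hc2 : Nat.card X2 = p) (hne : X1 ≠ X2) :
    X1 ⊔ X2 = A := by
  have hp : p.Prime := Fact.out
  have hle : X1 ⊔ X2 ≤ A := sup_le h1 h2
  have hd : Nat.card ↥(X1 ⊔ X2) ∣ p ^ 2 := hA ▸ Subgroup.card_dvd_of_le hle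
  obtain ⟨k, hk, hkc⟩ := (Nat.dvd_prime_pow hp).mp hd
  have h1d : p ∣ Nat.card ↥(X1 ⊔ X2) := hc1 ▸ Subgroup.card_dvd_of_le (le_sup_left : X1 ≤ X1 ⊔ X2)
  have hk2 : k = 2 := by
    interval_cases k
    · rw [pow_zero] at hkc
      rw [hkc] at h1d
      exact absurd (Nat.le_of_dvd one_pos h1d) (not_le.mpr hp.one_lt)
    · exfalso
      rw [pow_one] at hkc
      have e1 : X1 = X1 ⊔ X2 := Subgroup.eq_of_le_of_card_ge le_sup_left (by rw [hkc, hc1])
      have e2 : X2 = X1 ⊔ X2 := Subgroup.eq_of_le_of_card_ge le_sup_right (by rw [hkc, hc2])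
      exact hne (e1.trans e2.symm)
    · rfl
  rw [hk2] at hkc
  exact Subgroup.eq_of_le_of_card_ge hle (by rw [hkc, hA])

/-- commutators with a join -/
theorem commutator_sup_le {T X1 X2 C : Subgroup G} (h1 : ⁅T, X1⁆ ≤ C) (h2 : ⁅T, X2⁆ ≤ C)
    (hN : X1 ⊔ X2 ≤ Subgroup.normalizer (C : Set G)) : ⁅T, X1 ⊔ X2⁆ ≤ C := by
  rw [Subgroup.commutator_le]
  intro t ht a ha
  have hcl : X1 ⊔ X2 = Subgroup.closure ((X1 : Set G) ∪ (X2 : Set G)) := by
    rw [Subgroup.closure_union, Subgroup.closure_eq, Subgroup.closure_eq]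
  have key : ∀ a ∈ Subgroup.closure ((X1 : Set G) ∪ (X2 : Set G)),
      ∀ t ∈ T, ⁅t, a⁆ ∈ C := by
    intro a ha
    induction ha using Subgroup.closure_induction with
    | mem y hy =>
      intro t ht
      rcases hy with hy | hy
      · exact h1 (Subgroup.commutator_mem_commutator ht hy)
      · exact h2 (Subgroup.commutator_mem_commutator ht hy)
    | one =>
      intro t _
      rw [commutatorElement_one_right]; exact C.one_mem
    | mul x y hx hy ihx ihy =>
      intro t ht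
      have hxN : x ∈ Subgroup.normalizer (C : Set G) := hN (hcl ▸ hx)
      have e : ⁅t, x * y⁆ = ⁅t, x⁆ * (x * ⁅t, y⁆ * x⁻¹) := by
        simp only [commutatorElement_def]; group
      rw [e]
      exact C.mul_mem (ihx t ht) ((Subgroup.mem_normalizer_iff.mp hxN _).mp (ihy t ht))
    | inv x hx ihx =>
      intro t ht
      have hxN : x⁻¹ ∈ Subgroup.normalizer (C : Set G) :=
        Subgroup.inv_mem _ (hN (hcl ▸ hx))
      have e : ⁅t, x⁻¹⁆ = x⁻¹ * (⁅t, x⁆)⁻¹ * (x⁻¹)⁻¹ := by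
        simp only [commutatorElement_def]; group
      rw [e]
      exact (Subgroup.mem_normalizer_iff.mp hxN _).mp (C.inv_mem (ihx t ht))
  exact key a (hcl ▸ ha) t ht

theorem normalizer_le_normalizer_centralizer (S : Subgroup G) :
    Subgroup.normalizer (S : Set G) ≤
      Subgroup.normalizer ((Subgroup.centralizer (S : Set G) : Subgroup G) : Set G) := by
  intro n hn
  rw [← cj_eq_self_iff, cj_centralizer, cj_eq_self_iff.mpr hn]

/-- `[R, A] ≤ R` when `A` normalizes `R` -/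
theorem commutator_le_of_le_normalizer {R A : Subgroup G}
    (h : A ≤ Subgroup.normalizer (R : Set G)) : ⁅R, A⁆ ≤ R := by
  rw [Subgroup.commutator_le]
  intro t ht a ha
  have h1 : a * t⁻¹ * a⁻¹ ∈ R := (Subgroup.mem_normalizer_iff.mp (h ha) _).mp (R.inv_mem ht)
  have e : ⁅t, a⁆ = t * (a * t⁻¹ * a⁻¹) := by
    simp only [commutatorElement_def]; group
  rw [e]
  exact R.mul_mem ht h1

theorem le_centralizer_of_commutator_eq_bot {R A : Subgroup G} (h : ⁅R, A⁆ = ⊥) :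
    A ≤ Subgroup.centralizer (R : Set G) := by
  intro a ha
  rw [Subgroup.mem_centralizer_iff]
  intro t ht
  have h1 : ⁅t, a⁆ ∈ ⁅R, A⁆ := Subgroup.commutator_mem_commutator ht ha
  rw [h, Subgroup.mem_bot, commutatorElement_eq_one_iff_mul_comm] at h1
  exact h1

theorem le_centralizer_symm {X Y : Subgroup G} (h : X ≤ Subgroup.centralizer (Y : Set G)) :
    Y ≤ Subgroup.centralizer (X : Set G) := by
  intro y hy
  rw [Subgroup.mem_centralizer_iff]
  intro x hx
  exact (Subgroup.mem_centralizer_iff.mp (h hx) y hy).symm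

/-! ### `M_σ ≠ 1` -/

theorem sigma_nonempty (hG : IsMinSimpleOddOrder G) {M : Subgroup G} (hM : IsCoatom M)
    (hM1 : M ≠ ⊥) : ∃ q, q ∈ sigma M := by
  by_cases hr : RankLE 2 ↥(fittingOf M)
  · obtain ⟨s, Q, hs, hQ, hQ1, hMQ⟩ :=
      exists_normal_sylow_of_rankLE (ms_solvable hG hM.1) (ms_odd hG M) hM1 hr
    have : Fact s.Prime := ⟨hs⟩
    have hN : Subgroup.normalizer (Q : Set G) = M := ms_normalizer_eq hG hM hQ1 hQ.1 hMQ
    refine ⟨s, hs, (ms_prime_dvd_card hG hQ.2.1 hQ1).trans (Subgroup.card_dvd_of_le hQ.1),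
      hQ.toSylow, ?_⟩
    rw [hQ.map_toSylow, hN]
  · unfold RankLE at hr
    push Not at hr
    obtain ⟨q, hq, hqr⟩ := hr
    have h2 : ¬ PRankLE q 2 ↥M :=
      Cfsg.Agent.Lib.Helper15.BG103.not_pRankLE_mono (fittingOf M) M
        (Subgroup.map_subtype_le _) hqr
    exact ⟨q, alpha_subset_sigma hG hM ⟨hq, h2⟩⟩

theorem sigmaCore_ne_bot (hG : IsMinSimpleOddOrder G) {M : Subgroup G} (hM : IsCoatom M)
    (hM1 : M ≠ ⊥) : sigmaCore M ≠ ⊥ := by
  obtain ⟨q, hq⟩ := sigma_nonempty hG hM hM1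
  intro h
  have h1 := (Cfsg.Agent.S1350.result hG M hM).1.2.2 q hq.1 hq
  rw [h, Subgroup.relIndex_bot_left] at h1
  exact h1 hq.2.1

end Cfsg.Agent.Lib.Helper71.BG11
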