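import Mathlib
import Cfsg.Agent.Lib.Helper71.BG11c

set_option autoImplicit false
set_option linter.unusedSectionVars false

/-! Bender–Glauberman Theorem 11.7, the crux: `A` centralizes every normal `r`-subgroup (`r ≠ p`) of a
complement of `M_σ` in an exceptional maximal subgroup `M`. -/

namespace Cfsg.Agent.Lib.Helper71.BG11

open Cfsg Cfsg.Agent.Lib.Helper55 Cfsg.Agent.Lib.Helper31 Cfsg.Agent.Lib.Helper71.BG10
open scoped commutatorElement

variable {G : Type*} [Group G] [Finite G]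

variable {M A A0 : Subgroup G} {p : ℕ} [Fact p.Prime]

/-- the data of two distinct fixed-point-free lines of `A` -/
structure TwoFpf (M A : Subgroup G) (p : ℕ) (X1 X2 : Subgroup G) : Prop where
  le1 : X1 ≤ A
  le2 : X2 ≤ A
  card1 : Nat.card X1 = p
  card2 : Nat.card X2 = p
  ne : X1 ≠ X2
  fpf1 : sigmaCore M ⊓ Subgroup.centralizer (X1 : Set G) = ⊥
  fpf2 : sigmaCore M ⊓ Subgroup.centralizer (X2 : Set G) = ⊥

/-- `[Q, A] ≤ C(M_σ)` for every `A`-invariant `q`-subgroup `Q` of `M`, `q ∉ σ(M) ∪ {p}` -/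
theorem Exc.commutator_le_centralizer (hG : IsMinSimpleOddOrder G) (h : Exc M p A A0)
    (hL1 : HypL1 G) {X1 X2 : Subgroup G} (hX : TwoFpf M A p X1 X2) {q : ℕ} [Fact q.Prime]
    (hqp : q ≠ p) (hq : q ∉ sigma M) {Q : Subgroup G} (hQM : Q ≤ M) (hQ : IsPGroup q Q)
    (hAQ : A ≤ Subgroup.normalizer (Q : Set G)) :
    ⁅Q, A⁆ ≤ Subgroup.centralizer (sigmaCore M : Set G) := by
  have hnil := h.sigmaCore_nilpotent hG
  have h1 := hL1 M h.coatom hnil p q hqp hq h.notSigma X1 Q (hX.le1.trans h.le) hX.card1 hQM hQ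
    (hX.le1.trans hAQ) hX.fpf1
  have h2 := hL1 M h.coatom hnil p q hqp hq h.notSigma X2 Q (hX.le2.trans h.le) hX.card2 hQM hQ
    (hX.le2.trans hAQ) hX.fpf2
  have hsup : X1 ⊔ X2 = A := sup_eq_of_card h.card hX.le1 hX.le2 hX.card1 hX.card2 hX.ne
  rw [← hsup]
  apply commutator_sup_le h1 h2
  rw [hsup]
  exact (h.le.trans (le_normalizer_sigmaCore M)).trans (normalizer_le_normalizer_centralizer _)

/-- the crux of BG Theorem 11.7 -/
theorem Exc.centralizes_of_normal (hG : IsMinSimpleOddOrder G) (h : Exc M p A A0)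
    (hL1 : HypL1 G) (hL2 : HypL2 G) (hL3 : HypL3 G) (hL4 : HypL4 G) (hCent : HypCent G)
    {X1 X2 : Subgroup G} (hX : TwoFpf M A p X1 X2)
    {E R : Subgroup G} (hE : IsComplIn E (sigmaCore M) M) (hAE : A ≤ E) {r : ℕ} [Fact r.Prime]
    (hrp : r ≠ p) (hR : IsPGroup r R) (hRE : R ≤ E)
    (hER : E ≤ Subgroup.normalizer (R : Set G)) : A ≤ Subgroup.centralizer (R : Set G) := by
  by_contra hnc
  have hM := h.coatom
  have hpp : p.Prime := Fact.out
  have hrr : r.Prime := Fact.out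
  have h1350 := Cfsg.Agent.S1350.result hG M hM
  have hHall := h1350.1
  set S : Subgroup G := sigmaCore M with hSdef
  have hS1 : S ≠ ⊥ := sigmaCore_ne_bot hG hM h.M_ne_bot
  have hEM : E ≤ M := hE.1
  have hRM : R ≤ M := hRE.trans hEM
  have hAR : A ≤ Subgroup.normalizer (R : Set G) := hAE.trans hER
  -- `R ≠ 1`, `r ∉ σ(M)`
  have hR1 : R ≠ ⊥ := by
    rintro rfl
    apply hnc
    intro a _
    rw [Subgroup.mem_centralizer_iff]
    intro t ht
    rw [Subgroup.coe_bot, Set.mem_singleton_iff] at ht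
    rw [ht]; simp
  have hrE : r ∣ Nat.card E := (ms_prime_dvd_card hG hR hR1).trans (Subgroup.card_dvd_of_le hRE)
  have hr : r ∉ sigma M :=
    Cfsg.Agent.Lib.Helper13.BG12.complIn_prime_not_mem_sigma hHall hE r hrr hrE
  have hr2 : r ≠ 2 := ms_prime_ne_two hG hR hR1
  -- `[R, A] ≤ R0 := R ∩ C(S)`
  have hRA : ⁅R, A⁆ ≤ Subgroup.centralizer (S : Set G) :=
    h.commutator_le_centralizer hG hL1 hX hrp hr hRM hR hAR
  set R0 : Subgroup G := R ⊓ Subgroup.centralizer (S : Set G) with hR0def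
  have hRA0 : ⁅R, A⁆ ≤ R0 := le_inf (commutator_le_of_le_normalizer hAR) hRA
  have hR0R : R0 ≤ R := inf_le_left
  have hR0M : R0 ≤ M := hR0R.trans hRM
  have hR0r : IsPGroup r R0 := hR.to_le hR0R
  have hR0S : R0 ≤ Subgroup.centralizer (S : Set G) := inf_le_right
  -- `R0` is normal in `M`
  have hMS : M ≤ Subgroup.normalizer (S : Set G) := le_normalizer_sigmaCore M
  have hMR0 : M ≤ Subgroup.normalizer (R0 : Set G) := by
    intro m hm
    obtain ⟨e, he, s, hs, rfl⟩ := hE.2.2.2 m hm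
    apply Subgroup.mul_mem
    · have h1 : e ∈ Subgroup.normalizer (R : Set G) := hER he
      have h2 : e ∈ Subgroup.normalizer ((Subgroup.centralizer (S : Set G) : Subgroup G) : Set G) :=
        normalizer_le_normalizer_centralizer S (hMS (hEM he))
      exact inf_normalizer_le (Subgroup.zpowers e) R (Subgroup.centralizer (S : Set G))
        (by rw [Subgroup.zpowers_le]; exact h1) (by rw [Subgroup.zpowers_le]; exact h2)
        (Subgroup.mem_zpowers e)
    · have h3 : s ∈ Subgroup.centralizer (R0 : Set G) := le_centralizer_symm hR0S hs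
      exact Subgroup.centralizer_le_normalizer _ h3
  -- `[R0, A] ≠ 1`
  have hcopA : ∀ {T : Subgroup G}, IsPGroup r T → (Nat.card A).Coprime (Nat.card T) := by
    intro T hT
    rw [h.card]
    obtain ⟨k, hk⟩ := IsPGroup.iff_card.1 hT
    rw [hk]
    exact Nat.Coprime.pow 2 k ((Nat.coprime_primes hpp hrr).mpr (Ne.symm hrp))
  have hsolvA : Group.IsSolvable A := ms_solvable hG h.ne_top
  have hnc0 : ¬ A ≤ Subgroup.centralizer (R0 : Set G) := by
    intro hc
    apply hnc
    apply le_centralizer_of_commutator_eq_bot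
    have h27 := Cfsg.Agent.S0027.result A R hAR (hcopA hR) (Or.inl hsolvA)
    rw [← h27]
    apply le_bot_iff.mp
    calc ⁅⁅R, A⁆, A⁆ ≤ ⁅R0, A⁆ := Subgroup.commutator_mono hRA0 le_rfl
      _ ≤ ⊥ := by
        rw [Subgroup.commutator_le]
        intro t ht a ha
        rw [Subgroup.mem_bot, commutatorElement_eq_one_iff_mul_comm]
        exact Subgroup.mem_centralizer_iff.mp (hc ha) t ht
  have hR01 : R0 ≠ ⊥ := by
    intro e
    apply hnc0
    rw [e]
    intro a _
    rw [Subgroup.mem_centralizer_iff]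
    intro t ht
    rw [Subgroup.coe_bot, Set.mem_singleton_iff] at ht
    rw [ht]; simp
  -- `V0 := Ω₁(Z(R0))`
  set V0 : Subgroup G := omZ r R0 with hV0def
  have hV0R0 : V0 ≤ R0 := omZ_le r R0
  have hV01 : V0 ≠ ⊥ := omZ_ne_bot hR0r hR01
  have hV0el : IsElementaryAbelian r V0 := omZ_elemAb r R0
  have hV0r : IsPGroup r V0 := hR0r.to_le hV0R0
  have hV0M : V0 ≤ M := hV0R0.trans hR0M
  have hMV0 : M ≤ Subgroup.normalizer (V0 : Set G) :=
    hMR0.trans (normalizer_le_normalizer_omZ r R0)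
  have hNV0 : Subgroup.normalizer (V0 : Set G) = M := ms_normalizer_eq hG hM hV01 hV0M hMV0
  have hCV0 : Subgroup.centralizer (V0 : Set G) ≤ M :=
    (Subgroup.centralizer_le_normalizer _).trans hNV0.le
  have hrank2 : PRankLE r 2 ↥M := by
    by_contra hcon
    exact hr (alpha_subset_sigma hG hM ⟨hrr, hcon⟩)
  have hcomm : ∀ {B : Subgroup G}, IsElementaryAbelian r B → ∀ a ∈ B, ∀ b ∈ B, a * b = b * a := by
    intro B hB a ha b hb
    exact congrArg Subtype.val (hB.1.is_comm.comm (⟨a, ha⟩ : B) ⟨b, hb⟩)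
  have hV0le : Nat.card V0 ≤ r ^ 2 :=
    pRankLE_sub_iff.mp hrank2 V0 hV0M (hcomm hV0el) hV0el.2
  -- subgroups of `R0` centralize `S`, so Lemma Z excludes elementary abelian subgroups of order `r²`
  have hZ : ∀ B : Subgroup G, B ≤ R0 → IsElementaryAbelian r B → Nat.card B = r ^ 2 →
      Subgroup.centralizer (B : Set G) ≤ M → False := by
    intro B hBR0 hBel hBc hCB
    have h2 := hL2 M hM r hr B (hBR0.trans hR0M) hBel hBc hCB
    apply hS1
    apply le_bot_iff.mp
    rw [← h2]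
    exact le_inf le_rfl (le_centralizer_symm (hBR0.trans hR0S))
  obtain ⟨k, hk⟩ := IsPGroup.iff_card.1 hV0r
  have hk2 : k ≤ 2 := by
    rw [hk] at hV0le
    exact (Nat.pow_le_pow_iff_right hrr.one_lt).mp hV0le
  have hk0 : k ≠ 0 := by
    rintro rfl
    rw [pow_zero] at hk
    exact hV01 (Subgroup.card_eq_one.mp hk)
  have hV0card : Nat.card V0 = r := by
    have : k = 1 ∨ k = 2 := by omega
    rcases this with rfl | rfl
    · rw [hk, pow_one]
    · exact (hZ V0 hV0R0 hV0el hk hCV0).elim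
  -- every element of order `r` of `R0` lies in `V0`
  have hOm : ∀ y ∈ R0, y ^ r = 1 → y ∈ V0 := by
    intro y hy hyr
    by_contra hyV
    have hy1 : y ≠ 1 := fun e => hyV (e ▸ V0.one_mem)
    have hyo : orderOf y = r := orderOf_eq_prime hyr hy1
    have hyc : ∀ x ∈ V0, x * y = y * x := fun x hx => (hx.2.1 y hy).symm
    obtain ⟨hBel, hBc⟩ := Bg10.elemAb_sup_zpowers hV0card hyo hyc hyV
    have hBR0 : V0 ⊔ Subgroup.zpowers y ≤ R0 :=
      sup_le hV0R0 (by rw [Subgroup.zpowers_le]; exact hy)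
    refine hZ _ hBR0 hBel hBc ?_
    exact (Subgroup.centralizer_le (SetLike.coe_subset_coe.mpr le_sup_left)).trans hCV0
  -- `A` does not centralize `V0`
  have hncV : ¬ A ≤ Subgroup.centralizer (V0 : Set G) := by
    intro hc
    apply hnc0
    have hbotel : IsElementaryAbelian r (⊥ : Subgroup G) := by
      refine ⟨inferInstance, ?_⟩
      intro a ha
      rw [Subgroup.mem_bot] at ha
      rw [ha, one_pow]
    refine Cfsg.Agent.S1443.result r hr2 R0 ⊥ A hR0r bot_le hbotel
      (h.le.trans hMR0) ?_ ?_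
    · rw [h.card]
      exact Nat.Coprime.pow_left 2 ((Nat.coprime_primes hpp hrr).mpr (Ne.symm hrp))
    · intro x hx hxo a ha
      have hxV : x ∈ V0 := hOm x hx.1 (by rw [← hxo]; exact pow_orderOf_eq_one x)
      rw [Subgroup.mem_centralizer_iff]
      intro y hy
      rw [Set.mem_singleton_iff] at hy
      rw [hy]
      exact Subgroup.mem_centralizer_iff.mp (hc ha) x hxV
  -- `p ∣ r - 1`
  obtain ⟨a, haA, haV⟩ := SetLike.not_le_iff_exists.mp hncV
  have hpr1 : p ∣ r - 1 :=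
    hL3 p r V0 hV0card a (hMV0 (h.le haA)) (h.elem.2 a haA) haV
  have hplt : p < r := by
    have h1 : 0 < r - 1 := by have := hrr.two_le; omega
    have := Nat.le_of_dvd h1 hpr1
    omega
  -- an `A`-invariant Sylow `r`-subgroup of `M`
  obtain ⟨T, hT, hAT⟩ := hL4 M A hM p r hplt (h.rank hG).1 h.dvd_card_M h.le h.isPGroup
  have hV0T : V0 ≤ T := hT.normal_le hV0M hV0r hMV0
  -- an elementary abelian subgroup of order `r²` of `T` containing `V0`
  obtain ⟨⟨hr2M, hr1M⟩, -, B', hB'el, hB'c, hV0B'⟩ :=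
    Cfsg.Agent.S1409.result hG M hM r hr V0 hV0card hNV0.le
  have hB'M : B' ≤ M := by
    refine le_trans ?_ hCV0
    intro b hb
    rw [Subgroup.mem_centralizer_iff]
    intro v hv
    exact hcomm hB'el v (hV0B' hv) b hb
  have hB'r : IsPGroup r B' := IsPGroup.of_card hB'c
  obtain ⟨m, hm, hmB⟩ := hT.exists_conj_le hB'M hB'r
  set B : Subgroup G := cj m B' with hBdef
  have hBel : IsElementaryAbelian r B :=
    Cfsg.Agent.Lib.Helper15.BG103.isElementaryAbelian_map _ B' hB'el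
  have hBc : Nat.card B = r ^ 2 := by rw [hBdef, card_cj, hB'c]
  have hV0B : V0 ≤ B := by
    have h1 : cj m V0 = V0 := cj_eq_self_iff.mpr (hMV0 hm)
    rw [← h1]
    exact cj_mono hV0B'
  have hBM : B ≤ M := hmB.trans hT.1
  have hBmax : ∀ B'' : Subgroup G, IsElementaryAbelian r B'' → B ≤ B'' → B'' = B :=
    (Cfsg.Agent.S1408.result hG M hM r hr hr2M hr1M).2 B hBM hBel hBc
  have hCB : Subgroup.centralizer (B : Set G) ≤ M :=
    (Subgroup.centralizer_le (SetLike.coe_subset_coe.mpr hV0B)).trans hCV0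
  have hZB := hL2 M hM r hr B hBM hBel hBc hCB
  -- `C_T(A) ≠ 1`
  have hTA : ⁅T, A⁆ ≤ Subgroup.centralizer (S : Set G) :=
    h.commutator_le_centralizer hG hL1 hX hrp hr hT.1 hT.2.1 hAT
  have hCT : T ⊓ Subgroup.centralizer (A : Set G) ≠ ⊥ := by
    intro hbot
    have h26 := Cfsg.Agent.S0026.result A T hAT (hcopA hT.2.1) (Or.inl hsolvA)
    rw [hbot, sup_bot_eq] at h26
    have hTS : T ≤ Subgroup.centralizer (S : Set G) := h26 ▸ hTA
    apply hS1
    apply le_bot_iff.mp
    rw [← hZB]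
    exact le_inf le_rfl (le_centralizer_symm (hmB.trans hTS))
  -- BG Lemma 10.10(c)
  have hfin := hCent p A h.elem h.card (h.maxElem hG) r hrp T hT.2.1 hAT B hmB hBel hBc hBmax hCT
  apply hncV
  exact hfin.trans (Subgroup.centralizer_le (SetLike.coe_subset_coe.mpr hV0T))

end Cfsg.Agent.Lib.Helper71.BG11
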