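import Mathlib
import Cfsg.Agent.Lib.Helper71.BG11d

set_option autoImplicit false
set_option linter.unusedSectionVars false

/-! Bender–Glauberman Theorem 11.7 (`M_σ A ⊴ M`) and the packaging of Theorem 12.5, modulo the
leaves, which enter as explicit hypotheses. -/

namespace Cfsg.Agent.Lib.Helper71.BG11

open Cfsg Cfsg.Agent.Lib.Helper55 Cfsg.Agent.Lib.Helper31 Cfsg.Agent.Lib.Helper71.BG10
open scoped commutatorElement

variable {G : Type*} [Group G] [Finite G]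

variable {M A A0 : Subgroup G} {p : ℕ} [Fact p.Prime]

/-- the conclusions of BG 11.5 and 11.6 for a Sylow `p`-subgroup `P ≥ A` of `M` -/
structure Str116 (M A P : Subgroup G) (p : ℕ) : Prop where
  comm : ∀ x ∈ P, ∀ y ∈ P, x * y = y * x
  mem_iff : ∀ x ∈ P, x ^ p = 1 ↔ x ∈ A
  not_le : ¬ Subgroup.normalizer (P : Set G) ≤ M
  norm_le : Subgroup.normalizer (P : Set G) ≤ Subgroup.normalizer (A : Set G)
  cent : sigmaCore M ⊓ Subgroup.centralizer (A : Set G) = ⊥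
  fpf : ∃ X1 X2 : Subgroup G, TwoFpf M A p X1 X2

/-- BG 11.5 and 11.6 as a hypothesis -/
def Hyp116 (G : Type*) [Group G] : Prop :=
  ∀ (M A A0 : Subgroup G) (p : ℕ) [Fact p.Prime], Exc M p A A0 →
    ∀ P : Subgroup G, IsSylowIn p M P → A ≤ P → Str116 M A P p

/-- the outer layer of BG 11.7 (leaf K9) as a hypothesis -/
def HypK9 (G : Type*) [Group G] : Prop :=
  ∀ (M A P E : Subgroup G) (p : ℕ) [Fact p.Prime], IsCoatom M → p ∉ sigma M → PRankLE p 2 M →
    IsSylowIn p M P → A ≤ P → P ≤ E → IsComplIn E (sigmaCore M) M →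
    Subgroup.normalizer (P : Set G) ≤ Subgroup.normalizer (A : Set G) →
    (∀ (r : ℕ) [Fact r.Prime] (R : Subgroup G), r ≠ p → IsPGroup r R → R ≤ E →
      E ≤ Subgroup.normalizer (R : Set G) → A ≤ Subgroup.centralizer (R : Set G)) →
    M ≤ Subgroup.normalizer ((sigmaCore M ⊔ A : Subgroup G) : Set G)

/-- all the leaves of BG 11.7 -/
structure Leaves (G : Type*) [Group G] : Prop where
  l1 : HypL1 G
  l2 : HypL2 G
  l3 : HypL3 G
  l4 : HypL4 G
  cent : HypCent G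
  k9 : HypK9 G
  h116 : Hyp116 G

/-- BG Theorem 11.7 -/
theorem Exc.le_normalizer_sup (hG : IsMinSimpleOddOrder G) (h : Exc M p A A0) (hL : Leaves G) :
    M ≤ Subgroup.normalizer ((sigmaCore M ⊔ A : Subgroup G) : Set G) := by
  have hM := h.coatom
  have hpp : p.Prime := Fact.out
  obtain ⟨P, hP, hAP⟩ := exists_isSylowIn_ge h.le h.isPGroup
  have hstr := hL.h116 M A A0 p h P hP hAP
  obtain ⟨X1, X2, hX⟩ := hstr.fpf
  have hHall := (Cfsg.Agent.S1350.result hG M hM).1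
  have hPσ : ∀ q : ℕ, q.Prime → q ∣ Nat.card P → q ∉ sigma M := by
    intro q hq hqd hqσ
    obtain ⟨k, hk⟩ := IsPGroup.iff_card.1 hP.2.1
    rw [hk] at hqd
    have : q = p := (Nat.prime_dvd_prime_iff_eq hq hpp).mp (hq.dvd_of_dvd_pow hqd)
    exact h.notSigma (this ▸ hqσ)
  obtain ⟨E, hE, hPE⟩ := Cfsg.Agent.Lib.Helper13.BG12.exists_complIn_ge hG hM hHall hP.1 hPσ
  exact hL.k9 M A P E p hM h.notSigma (h.rank hG).1 hP hAP hPE hE hstr.norm_le
    (fun r _ R hrp hR hRE hER =>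
      h.centralizes_of_normal hG hL.l1 hL.l2 hL.l3 hL.l4 hL.cent hX hE (hAP.trans hPE) hrp hR hRE hER)

/-- exceptional tuples are stable under conjugation by elements of `M` -/
theorem Exc.conj (h : Exc M p A A0) {m : G} (hm : m ∈ M) : Exc M p (cj m A) (cj m A0) where
  coatom := h.coatom
  notSigma := h.notSigma
  le := by
    have : cj m M = M := cj_eq_self_of_mem hm
    exact this ▸ cj_mono h.le
  elem := Cfsg.Agent.Lib.Helper15.BG103.isElementaryAbelian_map _ A h.elem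
  card := by rw [card_cj, h.card]
  le0 := cj_mono h.le0
  card0 := by rw [card_cj, h.card0]
  norm := by
    have : cj m M = M := cj_eq_self_of_mem hm
    rw [← cj_normalizer, ← this]
    exact cj_mono h.norm

/-- BG Theorem 12.5 from section 11 and Proposition 12.4 -/
theorem tau2_structure (hG : IsMinSimpleOddOrder G) {M : Subgroup G} (hM : IsCoatom M) {p : ℕ}
    [Fact p.Prime] (hp : p ∈ tau2 M) {A : Subgroup G}
    (hA : A ≤ M ∧ IsElementaryAbelian p A ∧ Nat.card A = p ^ 2)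
    (h124 : ∃ A1 : Subgroup G, A1 ≤ A ∧ Nat.card A1 = p ∧ Subgroup.normalizer (A1 : Set G) ≤ M)
    (h116 : Hyp116 G)
    (h117 : ∀ A1 : Subgroup G, Exc M p A A1 →
      M ≤ Subgroup.normalizer ((sigmaCore M ⊔ A : Subgroup G) : Set G))
    (h125e : ∀ A1 : Subgroup G, Exc M p A A1 → ∀ Mstar : Subgroup G, IsCoatom Mstar → Mstar ≠ M →
      A ≤ Mstar → sigmaCore M ⊓ Mstar = ⊥) :
    Group.IsNilpotent (Cfsg.sigmaCore M) ∧
      (∀ P : Sylow p M, IsMulCommutative (P : Subgroup M) ∧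
        (A ≤ (P : Subgroup M).map M.subtype →
          (∀ x ∈ (P : Subgroup M).map M.subtype, x ^ p = 1 ↔ x ∈ A) ∧
          ¬ Subgroup.normalizer ((((P : Subgroup M).map M.subtype : Subgroup G)) : Set G) ≤ M)) ∧
      M ≤ Subgroup.normalizer ((Cfsg.sigmaCore M ⊔ A : Subgroup G) : Set G) ∧
      Cfsg.sigmaCore M ⊓ Subgroup.centralizer (A : Set G) = ⊥ ∧
      (∀ Mstar : Subgroup G, IsCoatom Mstar → Mstar ≠ M → A ≤ Mstar →
        Cfsg.sigmaCore M ⊓ Mstar = ⊥) ∧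
      ∃ A₁ : Subgroup G, A₁ ≤ A ∧ Nat.card A₁ = p ∧
        Cfsg.sigmaCore M ⊓ Subgroup.centralizer (A₁ : Set G) = ⊥ := by
  obtain ⟨A1, hA1A, hA1c, hA1N⟩ := h124
  have h : Exc M p A A1 := ⟨hM, hp.2.1, hA.1, hA.2.1, hA.2.2, hA1A, hA1c, hA1N⟩
  obtain ⟨P0, hP0, hAP0⟩ := exists_isSylowIn_ge h.le h.isPGroup
  have hstr0 := h116 M A A1 p h P0 hP0 hAP0
  refine ⟨h.sigmaCore_nilpotent hG, ?_, h117 A1 h, hstr0.cent, h125e A1 h, ?_⟩
  · intro P
    have hP : IsSylowIn p M ((P : Subgroup M).map M.subtype) := isSylowIn_of_sylow P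
    constructor
    · obtain ⟨m, hm, hmA⟩ := hP.exists_conj_le h.le h.isPGroup
      have hstr := h116 M (cj m A) (cj m A1) p (h.conj hm) _ hP hmA
      refine ⟨⟨fun a b => Subtype.ext (Subtype.ext ?_)⟩⟩
      exact hstr.comm _ ⟨a.1, a.2, rfl⟩ _ ⟨b.1, b.2, rfl⟩
    · intro hAP
      have hstr := h116 M A A1 p h _ hP hAP
      exact ⟨hstr.mem_iff, hstr.not_le⟩
  · obtain ⟨X1, X2, hX⟩ := hstr0.fpf
    exact ⟨X1, hX.le1, hX.card1, hX.fpf1⟩

end Cfsg.Agent.Lib.Helper71.BG11
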