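import Mathlib
import Cfsg.Agent.Lib.Helper65.BG117K9a
import Cfsg.Agent.Lib.Helper71.BG11e

set_option autoImplicit false
set_option linter.unusedSectionVars false

/-! The outer layer of Bender–Glauberman Theorem 11.7 (leaf K9): if `A` centralizes every normal
`r`-subgroup (`r ≠ p`) of a complement `E ≥ P` of `M_σ` in `M`, then `M` normalizes `M_σ A`. -/

namespace Cfsg.Agent.Lib.Helper71.BG11

open Cfsg Cfsg.Agent.Lib.Helper55 Cfsg.Agent.Lib.Helper31 Cfsg.Agent.Lib.Helper71.BG10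

variable {G : Type*} [Group G] [Finite G]

theorem le_normalizer_of_centralizes_opc (hG : IsMinSimpleOddOrder G) {M A P E : Subgroup G}
    {p : ℕ} [Fact p.Prime] (hM : IsCoatom M) (hr2 : PRankLE p 2 M)
    (hP : IsSylowIn p M P) (hAP : A ≤ P) (hPE : P ≤ E) (hE : IsComplIn E (sigmaCore M) M)
    (hPA : Subgroup.normalizer (P : Set G) ≤ Subgroup.normalizer (A : Set G))
    (hc : A ≤ Subgroup.centralizer ((opc p E : Subgroup G) : Set G)) :
    M ≤ Subgroup.normalizer ((sigmaCore M ⊔ A : Subgroup G) : Set G) := by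
  have hEM := hE.1
  have hEN : E ≤ Subgroup.normalizer (A : Set G) := by
    by_cases hP1 : P = ⊥
    · have hA : A = ⊥ := le_bot_iff.mp (hP1 ▸ hAP)
      intro e _
      rw [hA, ← cj_eq_self_iff, cj_bot]
    · have hPE' : IsSylowIn p E P :=
        ⟨hPE, hP.2.1, fun T' hT'E hT'p hle => hP.2.2 T' (hT'E.trans hEM) hT'p hle⟩
      have hEtop : E ≠ ⊤ := fun e => hM.1 (top_le_iff.mp (e ▸ hEM))
      have hrP : PRankLE p 2 ↥P :=
        pRankLE_sub_iff.mpr (fun E' hE'P hc he =>
          pRankLE_sub_iff.mp hr2 E' (hE'P.trans hP.1) hc he)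
      have h1 : P ≤ oppc p E :=
        le_oppc_of_pRankLE (ms_solvable hG hEtop) (ms_odd hG E) hPE' hP1 hrP
      have h2 := le_opc_sup_normalizer_inf_oppc hPE'
      rw [inf_of_le_left h1] at h2
      refine h2.trans (sup_le ?_ hPA)
      exact (le_centralizer_symm hc).trans (Subgroup.centralizer_le_normalizer _)
  intro m hm
  obtain ⟨e, he, s, hs, rfl⟩ := hE.2.2.2 m hm
  apply Subgroup.mul_mem
  · rw [← cj_eq_self_iff]
    show (sigmaCore M ⊔ A).map _ = _
    rw [Subgroup.map_sup]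
    have h1 : cj e (sigmaCore M) = sigmaCore M :=
      cj_eq_self_iff.mpr (le_normalizer_sigmaCore M (hEM he))
    have h2 : cj e A = A := cj_eq_self_iff.mpr (hEN he)
    show cj e (sigmaCore M) ⊔ cj e A = _
    rw [h1, h2]
  · exact Subgroup.le_normalizer ((le_sup_left : sigmaCore M ≤ sigmaCore M ⊔ A) hs)

/-- leaf K9 -/
theorem hypK9 (hG : IsMinSimpleOddOrder G) : HypK9 G := by
  intro M A P E p _ hM _ hr2 hP hAP hPE hE hPA hcrux
  refine le_normalizer_of_centralizes_opc hG hM hr2 hP hAP hPE hE hPA ?_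
  exact Cfsg.Agent.Lib.Helper65.BG117.centralizes_opc_of_crux hG hM hE (hAP.trans hPE)
    (hP.2.1.to_le hAP) hcrux

end Cfsg.Agent.Lib.Helper71.BG11
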