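import Mathlib
import Cfsg.Agent.Lib.Helper71.BG11e
import Cfsg.Agent.Lib.Helper71.BG11h
import Cfsg.Agent.Lib.Helper32.BG117c
import Cfsg.Agent.Lib.Helper65.BG1010Glue
import Cfsg.Agent.Lib.Helper63.BG117a
import Cfsg.Agent.Lib.Helper27.BGLemmaZ
import Cfsg.Agent.Lib.Helper18.BG117L4
import Cfsg.Agent.Lib.Helper83.BG11eGlue

set_option autoImplicit false

/-! Bender–Glauberman Theorem 11.7, unconditionally. -/

namespace Cfsg.Agent.Lib.Helper71.BG11

open Cfsg Cfsg.Agent.Lib.Helper55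

variable {G : Type*} [Group G] [Finite G]

/-- all the leaves of BG 11.7 -/
theorem leaves (hG : IsMinSimpleOddOrder G) : Leaves G where
  l1 := fun M hM hnil p q _ _ hqp hq hp X Q hXM hX hQM hQ hXQ hfpf =>
    Cfsg.Agent.Lib.Helper63.BG117.comm_le_centralizer_of_fpf hG hM hnil hqp hq hp hXM hX hQM hQ hXQ hfpf
  l2 := fun M hM r _ hr B hBM hB hB2 hC =>
    Cfsg.Agent.Lib.Helper27.BGZ.sigmaCore_inf_centralizer_eq_bot hG hM hr hBM hB hB2 hC
  l3 := fun p r _ _ V hV a haV hap hna =>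
    Cfsg.Agent.Lib.Helper32.BG117.dvd_pred_of_acts hV haV hap hna
  l4 := fun M A hM p r _ _ hpr hr2 hpM hAM hA =>
    Cfsg.Agent.Lib.Helper18.BG117.exists_inv_sylow_of_lt hG hM hpr hr2 hpM hAM hA
  cent := Cfsg.Agent.Lib.Helper65.BG1010.hypCent hG
  k9 := hypK9 hG
  h116 := Cfsg.Agent.Lib.Helper83.BG11.hyp116 hG

/-- BG Theorem 11.7: `M_σ A` is normal in the exceptional maximal subgroup `M` -/
theorem Exc.normal_sup (hG : IsMinSimpleOddOrder G) {M A A0 : Subgroup G} {p : ℕ} [Fact p.Prime]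
    (h : Exc M p A A0) :
    M ≤ Subgroup.normalizer ((sigmaCore M ⊔ A : Subgroup G) : Set G) :=
  h.le_normalizer_sup hG (leaves hG)

end Cfsg.Agent.Lib.Helper71.BG11
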