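import Mathlib

set_option autoImplicit false

namespace Cfsg.Agent.Lib.Helper71

/-- In a finite group an element of `p`-power order lies in any normal Sylow `p`-subgroup. -/
theorem mem_sylow_of_normal_of_orderOf {G : Type*} [Group G] [Finite G] (p : ℕ) [Fact p.Prime]
    (P : Sylow p G) (hP : (P : Subgroup G).Normal) {g : G} {k : ℕ} (hk : orderOf g = p ^ k) :
    g ∈ (P : Subgroup G) := by
  have hz : IsPGroup p (Subgroup.zpowers g) := by
    apply IsPGroup.of_card (n := k)
    rw [Nat.card_zpowers, hk]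
  obtain ⟨Q, hQ⟩ := hz.exists_le_sylow
  have : Q = P := by
    have := Sylow.unique_of_normal P hP
    exact Subsingleton.elim _ _
  rw [this] at hQ
  exact hQ (Subgroup.mem_zpowers g)

/-- A subgroup containing a Sylow `r`-subgroup for every prime `r` is the whole group. -/
theorem eq_top_of_forall_sylow_le {G : Type*} [Group G] [Finite G] (H : Subgroup G)
    (h : ∀ (r : ℕ) [Fact r.Prime], ∃ S : Sylow r G, (S : Subgroup G) ≤ H) : H = ⊤ := by
  rw [← Subgroup.index_eq_one, Nat.eq_one_iff_not_exists_prime_dvd]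
  intro r hr hdvd
  have := Fact.mk hr
  obtain ⟨S, hS⟩ := h r
  exact S.not_dvd_index (hdvd.trans (Subgroup.index_dvd_of_le hS))

/-- Elements of a Sylow `r`-subgroup have `r`-power order. -/
theorem exists_orderOf_eq_of_mem_sylow {G : Type*} [Group G] (r : ℕ) [Fact r.Prime] (S : Sylow r G)
    {y : G} (hy : y ∈ (S : Subgroup G)) : ∃ b : ℕ, orderOf y = r ^ b := by
  obtain ⟨k, hk⟩ := (IsPGroup.iff_orderOf.mp S.isPGroup') ⟨y, hy⟩
  exact ⟨k, by rw [← hk]; exact (Subgroup.orderOf_mk y hy).symm⟩

/-- The statement "some Sylow `p`-subgroup is a direct factor". -/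
def SylowDirectFactor (p : ℕ) (G : Type*) [Group G] : Prop :=
  ∃ (P : Sylow p G) (K : Subgroup G), (P : Subgroup G).Normal ∧ K.Normal ∧
    (P : Subgroup G) ⊓ K = ⊥ ∧ (P : Subgroup G) ⊔ K = ⊤

/-- The statement "`p`-elements commute with `q`-elements for all primes `q ≠ p`". -/
def PElementsCommute (p : ℕ) (G : Type*) [Group G] : Prop :=
  ∀ x y : G, (∃ a : ℕ, orderOf x = p ^ a) → (∃ q b : ℕ, q.Prime ∧ q ≠ p ∧ orderOf y = q ^ b) →
    x * y = y * x

/-- In a direct decomposition `G = P × K` with `P` a normal Sylow `p`-subgroup, an element of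
`q`-power order (`q ≠ p`) lies in `K`. -/
theorem mem_complement_of_orderOf {G : Type*} [Group G] [Finite G] (p : ℕ) [Fact p.Prime]
    (P : Sylow p G) (K : Subgroup G) (hP : (P : Subgroup G).Normal) (hK : K.Normal)
    (hdisj : (P : Subgroup G) ⊓ K = ⊥) (htop : (P : Subgroup G) ⊔ K = ⊤)
    {y : G} {q b : ℕ} (hq : q.Prime) (hqp : q ≠ p) (hy : orderOf y = q ^ b) : y ∈ K := by
  have hp : p.Prime := Fact.out
  have hymem : y ∈ ((P : Subgroup G) ⊔ K : Subgroup G) := by rw [htop]; trivial
  have hymem' : y ∈ (((P : Subgroup G) ⊔ K : Subgroup G) : Set G) := hymem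
  rw [Subgroup.mul_normal] at hymem'
  obtain ⟨a, ha, c, hc, rfl⟩ := Set.mem_mul.mp hymem'
  have hcomm : Commute a c :=
    Subgroup.commute_of_normal_of_disjoint _ _ hP hK (disjoint_iff.mpr hdisj) a c ha hc
  have h1 : (a * c) ^ (q ^ b) = 1 := by rw [← hy]; exact pow_orderOf_eq_one _
  rw [hcomm.mul_pow] at h1
  have h2 : a ^ (q ^ b) ∈ (P : Subgroup G) ⊓ K := by
    refine Subgroup.mem_inf.mpr ⟨(P : Subgroup G).pow_mem ha _, ?_⟩
    have : a ^ (q ^ b) = (c ^ (q ^ b))⁻¹ := eq_inv_of_mul_eq_one_left h1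
    rw [this]
    exact K.inv_mem (K.pow_mem hc _)
  rw [hdisj, Subgroup.mem_bot] at h2
  obtain ⟨k, hk⟩ := exists_orderOf_eq_of_mem_sylow p P ha
  have h3 : orderOf a ∣ q ^ b := orderOf_dvd_of_pow_eq_one h2
  have h4 : orderOf a = 1 := by
    have hcop : Nat.Coprime (p ^ k) (q ^ b) :=
      Nat.Coprime.pow k b ((Nat.coprime_primes hp hq).mpr (Ne.symm hqp))
    rw [hk] at h3 ⊢
    exact Nat.Coprime.eq_one_of_dvd hcop h3
  rw [orderOf_eq_one_iff] at h4
  rw [h4, one_mul]
  exact hc

theorem SylowDirectFactor.pElementsCommute {G : Type*} [Group G] [Finite G] (p : ℕ) [Fact p.Prime]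
    (h : SylowDirectFactor p G) : PElementsCommute p G := by
  obtain ⟨P, K, hP, hK, hdisj, htop⟩ := h
  rintro x y ⟨a, ha⟩ ⟨q, b, hq, hqp, hy⟩
  have hx : x ∈ (P : Subgroup G) := mem_sylow_of_normal_of_orderOf p P hP ha
  have hyK : y ∈ K := mem_complement_of_orderOf p P K hP hK hdisj htop hq hqp hy
  exact Subgroup.commute_of_normal_of_disjoint _ _ hP hK (disjoint_iff.mpr hdisj) x y hx hyK

theorem PElementsCommute.sylowDirectFactor {G : Type*} [Group G] [Finite G] (p : ℕ) [Fact p.Prime]
    (h : PElementsCommute p G) : SylowDirectFactor p G := by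
  have hp : p.Prime := Fact.out
  obtain ⟨P⟩ : Nonempty (Sylow p G) := inferInstance
  -- Sylow r-subgroups for r ≠ p centralize P
  have hcent : ∀ (r : ℕ) [Fact r.Prime], r ≠ p → ∀ S : Sylow r G,
      (S : Subgroup G) ≤ Subgroup.centralizer ((P : Subgroup G) : Set G) := by
    intro r hr hrp S y hy
    rw [Subgroup.mem_centralizer_iff]
    intro x hx
    obtain ⟨b, hb⟩ := exists_orderOf_eq_of_mem_sylow r S hy
    obtain ⟨a, ha⟩ := exists_orderOf_eq_of_mem_sylow p P hx
    exact h x y ⟨a, ha⟩ ⟨r, b, hr.out, hrp, hb⟩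
  -- P is normal
  have hPn : (P : Subgroup G).Normal := by
    rw [← Subgroup.normalizer_eq_top_iff]
    apply eq_top_of_forall_sylow_le
    intro r hr
    by_cases hrp : r = p
    · subst hrp
      exact ⟨P, Subgroup.le_normalizer⟩
    · obtain ⟨S⟩ : Nonempty (Sylow r G) := inferInstance
      exact ⟨S, (hcent r hrp S).trans (Subgroup.centralizer_le_normalizer _)⟩
  -- complement by Schur–Zassenhaus
  have hcop : Nat.Coprime (Nat.card (P : Subgroup G)) (P : Subgroup G).index := by
    obtain ⟨n, hn⟩ := IsPGroup.iff_card.mp P.isPGroup'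
    rw [hn]
    exact Nat.Coprime.pow_left n ((Nat.Prime.coprime_iff_not_dvd hp).mpr P.not_dvd_index)
  obtain ⟨K, hK⟩ := Subgroup.exists_right_complement'_of_coprime hcop
  have hdisj : (P : Subgroup G) ⊓ K = ⊥ := disjoint_iff.mp hK.disjoint
  have htop : (P : Subgroup G) ⊔ K = ⊤ := hK.sup_eq_top
  -- K centralizes P
  have hKcard : Nat.Coprime (Nat.card K) p := by
    have h1 : Nat.card (P : Subgroup G) * Nat.card K = Nat.card G := hK.card_mul_card
    have h2 := (P : Subgroup G).card_mul_index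
    have h3 : Nat.card K = (P : Subgroup G).index := by
      have hpos : 0 < Nat.card (P : Subgroup G) := Nat.card_pos
      exact Nat.eq_of_mul_eq_mul_left hpos (h1.trans h2.symm)
    rw [h3]
    exact ((Nat.Prime.coprime_iff_not_dvd hp).mpr P.not_dvd_index).symm
  have hKC : K ≤ Subgroup.centralizer ((P : Subgroup G) : Set G) := by
    have : (Subgroup.centralizer ((P : Subgroup G) : Set G)).subgroupOf K = ⊤ := by
      apply eq_top_of_forall_sylow_le
      intro r hr
      obtain ⟨S⟩ : Nonempty (Sylow r K) := inferInstance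
      refine ⟨S, ?_⟩
      by_cases hrp : r = p
      · subst hrp
        have : (S : Subgroup K) = ⊥ := by
          obtain ⟨n, hn⟩ := IsPGroup.iff_card.mp S.isPGroup'
          have hdvd : r ^ n ∣ Nat.card K := hn ▸ (S : Subgroup K).card_subgroup_dvd_card
          have : n = 0 := by
            by_contra hne
            have : r ∣ Nat.card K := (dvd_pow_self r hne).trans hdvd
            exact (Nat.Prime.coprime_iff_not_dvd hp).mp hKcard.symm this
          rw [this, pow_zero] at hn
          exact Subgroup.card_eq_one.mp hn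
        rw [this]; exact bot_le
      · intro y hy
        rw [Subgroup.mem_subgroupOf]
        obtain ⟨b, hb⟩ := exists_orderOf_eq_of_mem_sylow r S hy
        rw [Subgroup.mem_centralizer_iff]
        intro x hx
        obtain ⟨a, ha⟩ := exists_orderOf_eq_of_mem_sylow p P hx
        refine h x y ⟨a, ha⟩ ⟨r, b, hr.out, hrp, ?_⟩
        rw [← hb]; exact Subgroup.orderOf_coe y
    exact Subgroup.subgroupOf_eq_top.mp this
  -- K is normal
  have hKn : K.Normal := by
    rw [← Subgroup.normalizer_eq_top_iff, eq_top_iff, ← htop]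
    apply sup_le
    · exact (Subgroup.le_centralizer_iff.mp hKC).trans (Subgroup.centralizer_le_normalizer _)
    · exact Subgroup.le_normalizer
  exact ⟨P, K, hPn, hKn, hdisj, htop⟩

theorem sylowDirectFactor_iff_pElementsCommute {G : Type*} [Group G] [Finite G] (p : ℕ)
    [Fact p.Prime] : SylowDirectFactor p G ↔ PElementsCommute p G :=
  ⟨SylowDirectFactor.pElementsCommute p, PElementsCommute.sylowDirectFactor p⟩

end Cfsg.Agent.Lib.Helper71
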