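import Mathlib
import Cfsg.Prelude.Def_OddOrderLocal
import Cfsg.Agent.Lib.Helper31.BG134Defs2

/-!
# BG 13.10 / 13.11 (the case "E₃ does not act regularly on M_σ"): shared definitions

Paper proof: `notes/BG13_7_notes_helper71.md` (LEMMA D, (D1), (D2)); spec of the leaves:
`notes/LemmaD12_keystones.lean.txt`.
-/

set_option autoImplicit false

namespace Cfsg.Agent.Lib.Helper71.BG1310

open Cfsg Cfsg.Agent.Lib.Helper55 Cfsg.Agent.Lib.Helper31.BG134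

variable {G : Type*} [Group G] [Finite G]

/-- the nonregular configuration: `E` a complement of `M_σ` in the maximal subgroup `M`, `E₁`, `E₃` Hall
`τ₁(M)`-, `τ₃(M)`-subgroups of `E`, `E₃ ≠ 1` and `C_{M_σ}(E₃) ≠ 1`. -/
structure NR (M E E₁ E₃ : Subgroup G) : Prop where
  hG : IsMinSimpleOddOrder G
  hM : IsCoatom M
  hE : IsComplIn E (sigmaCore M) M
  hE₁ : IsPiHallOf (tau1 M) E₁ E
  hE₃ : IsPiHallOf (tau3 M) E₃ E
  hE₃1 : E₃ ≠ ⊥
  hC3 : CP M E₃ ≠ ⊥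

/-- case (I): every subgroup of prime order of `E₁` centralizes `E₃`, and `C_{M_σ}(E₁) ≤ C_{M_σ}(E₃)` -/
def CaseI (M E₁ E₃ : Subgroup G) : Prop :=
  (∀ P : Subgroup G, P ≤ E₁ → (Nat.card P).Prime → E₃ ≤ Subgroup.centralizer (P : Set G)) ∧
    CP M E₁ ≤ CP M E₃

/-- case (II): `E = E₃ ⋊ E₁` is a Frobenius group with complement `E₁` of prime order,
`C_{M_σ}(E₁) ≰ C_{M_σ}(E₃)` and `N_M(E₁) = C_{M_σ}(E₁) E₁`. -/
def CaseII (M E₁ E₃ : Subgroup G) : Prop :=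
  (Nat.card E₁).Prime ∧
    (∀ x ∈ E₁, x ≠ 1 → E₃ ⊓ Subgroup.centralizer ({x} : Set G) = ⊥) ∧
    ¬ CP M E₁ ≤ CP M E₃ ∧
    M ⊓ Subgroup.normalizer (E₁ : Set G) = CP M E₁ ⊔ E₁

end Cfsg.Agent.Lib.Helper71.BG1310
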