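import Mathlib
import Cfsg.Agent.Lib.Helper71.BG1310Defs
import Cfsg.Agent.Lib.Helper03.CoprimeAbelian
import Cfsg.Agent.Lib.Helper29.Sup

/-!
# BG 13.10 pack, keystone 131012 (K-BG1310-L): `NR.not_le_of_move`, core part

`(D2)(ii)`: if `P ≤ E₁` of prime order does not centralize `E₃`, then `C_{M_σ}(E₁) ≰ C_{M_σ}(E₃)`.
The core lemma takes the outputs of the leaves E (`NR.structure`), F (`NR.ne_top`), G (`NR.wielandt`)
as hypotheses.
-/

set_option autoImplicit false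

namespace Cfsg.Agent.Lib.Helper71.BG1310

open Cfsg Cfsg.Agent.Lib.Helper55 Cfsg.Agent.Lib.Helper31.BG134
open scoped commutatorElement

variable {G : Type*} [Group G] [Finite G]

/-- a nontrivial finite subgroup contains a subgroup of prime order -/
theorem exists_prime_card_le {K : Subgroup G} (hK : K ≠ ⊥) :
    ∃ P : Subgroup G, P ≤ K ∧ (Nat.card P).Prime := by
  have hc : Nat.card K ≠ 1 := fun h => hK (Subgroup.card_eq_one.mp h)
  obtain ⟨p, hp, hpd⟩ := Nat.exists_prime_and_dvd hc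
  have : Fact p.Prime := ⟨hp⟩
  obtain ⟨x, hx⟩ := exists_prime_orderOf_dvd_card' p hpd
  refine ⟨Subgroup.zpowers (x : G), ?_, ?_⟩
  · rw [Subgroup.zpowers_le]; exact x.2
  · rw [Nat.card_zpowers, Subgroup.orderOf_coe, hx]; exact hp

omit [Finite G] in
/-- `y` commuting with all of `A` and all of `B` commutes with all of `A ⊔ B` -/
theorem mem_centralizer_sup {A B : Subgroup G} {y : G}
    (hA : y ∈ Subgroup.centralizer (A : Set G)) (hB : y ∈ Subgroup.centralizer (B : Set G)) :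
    y ∈ Subgroup.centralizer ((A ⊔ B : Subgroup G) : Set G) := by
  have h1 : A ≤ Subgroup.centralizer ({y} : Set G) := by
    intro a ha
    rw [Subgroup.mem_centralizer_iff]
    intro z hz
    rw [Set.mem_singleton_iff] at hz
    subst hz
    exact ((Subgroup.mem_centralizer_iff.mp hA) a ha).symm
  have h2 : B ≤ Subgroup.centralizer ({y} : Set G) := by
    intro a ha
    rw [Subgroup.mem_centralizer_iff]
    intro z hz
    rw [Set.mem_singleton_iff] at hz
    subst hz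
    exact ((Subgroup.mem_centralizer_iff.mp hB) a ha).symm
  rw [Subgroup.mem_centralizer_iff]
  intro d hd
  have h3 := (sup_le h1 h2) hd
  exact ((Subgroup.mem_centralizer_iff.mp h3) y rfl).symm

/-- `P` normalizing the cyclic group `E₃` of coprime order without centralizing it:
there is `S₀ ≤ E₃` of prime order with `C_{S₀}(P) = 1`. -/
theorem exists_moved_prime {E₃ P : Subgroup G} (hcyc : IsCyclic E₃)
    (hPn : P ≤ Subgroup.normalizer (E₃ : Set G))
    (hcop : Nat.Coprime (Nat.card E₃) (Nat.card P))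
    (hmove : ¬ E₃ ≤ Subgroup.centralizer (P : Set G)) :
    ∃ S₀ : Subgroup G, S₀ ≤ E₃ ∧ (Nat.card S₀).Prime ∧
      S₀ ⊓ Subgroup.centralizer (P : Set G) = ⊥ := by
  have hc : IsMulCommutative E₃ := IsCyclic.isMulCommutative
  have hcomm : ∀ a ∈ E₃, ∀ b ∈ E₃, a * b = b * a := by
    intro a ha b hb
    have := (isMulCommutative_iff.mp hc) ⟨a, ha⟩ ⟨b, hb⟩
    exact congrArg Subtype.val this
  set D : Subgroup G := E₃ ⊔ P with hD
  have hE₃D : E₃ ≤ D := le_sup_left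
  have hPD : P ≤ D := le_sup_right
  have hDn : D ≤ Subgroup.normalizer (E₃ : Set G) := sup_le Subgroup.le_normalizer hPn
  -- `|D : E₃|` divides `|P|`
  have hrel : E₃.relIndex D ∣ Nat.card P := by
    have h1 : Nat.card D ∣ Nat.card E₃ * Nat.card P :=
      Cfsg.Agent.Lib.Helper29.card_sup_dvd_of_le_normalizer E₃ P hPn
    have h6 : Nat.card E₃ * E₃.relIndex D = Nat.card D := by
      have := Subgroup.relIndex_mul_relIndex (⊥ : Subgroup G) E₃ D bot_le hE₃D
      rwa [Subgroup.relIndex_bot_left, Subgroup.relIndex_bot_left] at this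
    have hpos : 0 < Nat.card E₃ := Nat.card_pos
    rw [← h6] at h1
    exact Nat.dvd_of_mul_dvd_mul_left hpos h1
  have hcopD : Nat.Coprime (Nat.card E₃) (E₃.relIndex D) := Nat.Coprime.coprime_dvd_right hrel hcop
  have hkey := Cfsg.Agent.Lib.Helper03.commutator_inf_centralizer_inf_eq_bot_of_abelian_hall
    E₃ D hE₃D hc hcopD
  -- `K₀ := ⁅E₃, D⁆ ≤ E₃`
  have hK₀E : ⁅E₃, D⁆ ≤ E₃ := by
    rw [Subgroup.commutator_le]
    intro a ha d hd
    have h1 : d * a⁻¹ * d⁻¹ ∈ E₃ :=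
      (Subgroup.mem_normalizer_iff.mp (hDn hd) a⁻¹).mp (E₃.inv_mem ha)
    have h2 : ⁅a, d⁆ = a * (d * a⁻¹ * d⁻¹) := by
      rw [commutatorElement_def]; group
    rw [h2]
    exact E₃.mul_mem ha h1
  have hK₀D : ⁅E₃, D⁆ ≤ ⁅D, D⁆ := Subgroup.commutator_mono hE₃D le_rfl
  -- `K₀ ≠ ⊥`
  have hK₀1 : ⁅E₃, D⁆ ≠ ⊥ := by
    intro h
    apply hmove
    intro a ha
    rw [Subgroup.mem_centralizer_iff]
    intro b hb
    have h1 : ⁅a, b⁆ ∈ ⁅E₃, D⁆ := Subgroup.commutator_mem_commutator ha (hPD hb)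
    rw [h, Subgroup.mem_bot, commutatorElement_eq_one_iff_mul_comm] at h1
    exact h1.symm
  obtain ⟨S₀, hS₀K, hS₀p⟩ := exists_prime_card_le hK₀1
  have hS₀E : S₀ ≤ E₃ := hS₀K.trans hK₀E
  refine ⟨S₀, hS₀E, hS₀p, ?_⟩
  rw [eq_bot_iff, ← hkey]
  intro x hx
  obtain ⟨hxS, hxP⟩ := Subgroup.mem_inf.mp hx
  have hxE : x ∈ E₃ := hS₀E hxS
  refine Subgroup.mem_inf.mpr ⟨Subgroup.mem_inf.mpr ⟨hK₀D (hS₀K hxS), ?_⟩, hxE⟩
  apply mem_centralizer_sup _ hxP
  rw [Subgroup.mem_centralizer_iff]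
  intro a ha
  exact hcomm a ha x hxE

/-- **core of keystone 131012**: `(D2)(ii)` from the structure of `E`, `C_{M_σ}(E₃) ≠ M_σ` and the
Frobenius–Wielandt identity. -/
theorem not_le_of_move_core {M E E₁ E₃ : Subgroup G} (c : NR M E E₁ E₃)
    (hcyc : IsCyclic E₃) (hE₃n : E ≤ Subgroup.normalizer (E₃ : Set G))
    (hne : CP M E₃ ≠ sigmaCore M)
    (hW : ∀ X : Subgroup G, X ≤ E₁ → X ≠ ⊥ → ∀ S₀ : Subgroup G, S₀ ≤ E₃ → (Nat.card S₀).Prime →
      (∀ x ∈ X, x ≠ 1 → S₀ ⊓ Subgroup.centralizer ({x} : Set G) = ⊥) →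
      Nat.card ↥(CP M E₁ ⊓ CP M E₃) ^ Nat.card X * Nat.card ↥(sigmaCore M) =
        Nat.card ↥(CP M E₁) ^ Nat.card X * Nat.card ↥(CP M E₃))
    {P : Subgroup G} (hP : P ≤ E₁) (hPc : (Nat.card P).Prime)
    (hmove : ¬ E₃ ≤ Subgroup.centralizer (P : Set G)) : ¬ CP M E₁ ≤ CP M E₃ := by
  intro hle
  have hPE : P ≤ E := hP.trans c.hE₁.1
  have hPn : P ≤ Subgroup.normalizer (E₃ : Set G) := hPE.trans hE₃n
  -- coprimality: `|E₃|` is a `τ₃`-number, `|P|` is a prime of `τ₁`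
  have hp1 : Nat.card P ∈ tau1 M :=
    c.hE₁.2.1 _ hPc (Subgroup.card_dvd_of_le hP)
  have hcop : Nat.Coprime (Nat.card E₃) (Nat.card P) := by
    rw [Nat.coprime_comm, Nat.Prime.coprime_iff_not_dvd hPc]
    intro hd
    have h3 : Nat.card P ∈ tau3 M := c.hE₃.2.1 _ hPc hd
    exact hp1.2.2.2.1 h3.2.2.1
  obtain ⟨S₀, hS₀E, hS₀p, hS₀fix⟩ := exists_moved_prime hcyc hPn hcop hmove
  have hP1 : P ≠ ⊥ := by
    intro h
    rw [h, Subgroup.card_bot] at hPc
    exact Nat.not_prime_one hPc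
  have hfpf : ∀ x ∈ P, x ≠ 1 → S₀ ⊓ Subgroup.centralizer ({x} : Set G) = ⊥ := by
    intro x hx hx1
    -- `zpowers x = P`
    have hz : Subgroup.zpowers x = P := by
      have hle' : Subgroup.zpowers x ≤ P := by rw [Subgroup.zpowers_le]; exact hx
      have hcard : Nat.card (Subgroup.zpowers x) ∣ Nat.card P := Subgroup.card_dvd_of_le hle'
      rcases (Nat.dvd_prime hPc).mp hcard with h | h
      · exfalso
        apply hx1
        have := Subgroup.card_eq_one.mp h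
        exact Subgroup.zpowers_eq_bot.mp this
      · exact Subgroup.eq_of_le_of_card_ge hle' (le_of_eq h.symm)
    rw [eq_bot_iff, ← hS₀fix]
    apply inf_le_inf_left
    intro y hy
    rw [Subgroup.mem_centralizer_iff] at hy ⊢
    intro z hz'
    rw [← hz] at hz'
    obtain ⟨k, rfl⟩ := Subgroup.mem_zpowers_iff.mp hz'
    have h1 : x * y = y * x := hy x rfl
    exact ((Commute.zpow_left (show Commute x y from h1) k).eq)
  have hWi := hW P hP hP1 S₀ hS₀E hS₀p hfpf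
  rw [inf_eq_left.mpr hle] at hWi
  have hpos : 0 < Nat.card ↥(CP M E₁) ^ Nat.card P := Nat.pow_pos Nat.card_pos
  have hcard : Nat.card ↥(sigmaCore M) = Nat.card ↥(CP M E₃) := Nat.eq_of_mul_eq_mul_left hpos hWi
  apply hne
  exact Subgroup.eq_of_le_of_card_ge inf_le_left (le_of_eq hcard)

end Cfsg.Agent.Lib.Helper71.BG1310
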