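import Mathlib
import Cfsg.Agent.Lib.Helper71.BG1310Defs
import Cfsg.Agent.Lib.Helper71.BG1310L
import Cfsg.Agent.Lib.Helper54.BG134A3a
import Cfsg.Agent.Lib.Helper13.BG12B
import Cfsg.Agent.Lib.Helper13.BG127
import Cfsg.Agent.Lib.Helper13.BG135
import Cfsg.Agent.Lib.Helper48.BG1310F
import Cfsg.Agent.S1350
import Cfsg.Agent.S1415
import Cfsg.Agent.S1428

/-!
# BG 13.10 pack, keystone 131010 (K-BG1310-J): `NR.false_of_reg`, core part

`(D1)` steps 4-5.  The core lemma takes the outputs of the leaves E (`NR.structure`), F (`NR.ne_top`),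
G (`NR.wielandt`) as hypotheses.
-/

set_option autoImplicit false

namespace Cfsg.Agent.Lib.Helper71.BG1310

open Cfsg Cfsg.Agent.Lib.Helper55 Cfsg.Agent.Lib.Helper31.BG134

variable {G : Type*} [Group G] [Finite G]

/-- a subgroup of a group of prime order that is not everything is trivial -/
theorem inf_eq_bot_of_prime_card {S C : Subgroup G} (hS : (Nat.card S).Prime) (h : ¬ S ≤ C) :
    S ⊓ C = ⊥ := by
  have hd : Nat.card ↥(S ⊓ C) ∣ Nat.card S := Subgroup.card_dvd_of_le inf_le_left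
  rcases (Nat.dvd_prime hS).mp hd with h1 | h1
  · exact Subgroup.card_eq_one.mp h1
  · exfalso
    apply h
    have : S ⊓ C = S := Subgroup.eq_of_le_of_card_ge inf_le_left (le_of_eq h1.symm)
    exact inf_eq_left.mp this

/-- for `P` of prime order and `x ∈ P - 1`: `C(x) ≤ C(P)` -/
theorem centralizer_singleton_le_of_prime {P : Subgroup G} (hPc : (Nat.card P).Prime) {x : G}
    (hx : x ∈ P) (hx1 : x ≠ 1) :
    Subgroup.centralizer ({x} : Set G) ≤ Subgroup.centralizer (P : Set G) := by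
  have hz : Subgroup.zpowers x = P := by
    have hle' : Subgroup.zpowers x ≤ P := by rw [Subgroup.zpowers_le]; exact hx
    have hcard : Nat.card (Subgroup.zpowers x) ∣ Nat.card P := Subgroup.card_dvd_of_le hle'
    rcases (Nat.dvd_prime hPc).mp hcard with h | h
    · exfalso
      apply hx1
      have := Subgroup.card_eq_one.mp h
      exact Subgroup.zpowers_eq_bot.mp this
    · exact Subgroup.eq_of_le_of_card_ge hle' (le_of_eq h.symm)
  intro y hy
  rw [Subgroup.mem_centralizer_iff] at hy ⊢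
  intro z hz'
  rw [← hz] at hz'
  obtain ⟨k, rfl⟩ := Subgroup.mem_zpowers_iff.mp hz'
  have h1 : x * y = y * x := hy x rfl
  exact ((Commute.zpow_left (show Commute x y from h1) k).eq)

/-- **core of keystone 131010**: `(D1)` steps 4-5. -/
theorem false_of_reg_core {M E E₁ E₃ : Subgroup G} (c : NR M E E₁ E₃) (hreg : CP M E₁ = ⊥)
    (hE₁1 : E₁ ≠ ⊥) (hfix : E₃ ⊓ Subgroup.centralizer (E₁ : Set G) = ⊥)
    (hne : CP M E₃ ≠ sigmaCore M)
    (hW : ∀ X : Subgroup G, X ≤ E₁ → X ≠ ⊥ → ∀ S₀ : Subgroup G, S₀ ≤ E₃ → (Nat.card S₀).Prime →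
      (∀ x ∈ X, x ≠ 1 → S₀ ⊓ Subgroup.centralizer ({x} : Set G) = ⊥) →
      Nat.card ↥(CP M E₁ ⊓ CP M E₃) ^ Nat.card X * Nat.card ↥(sigmaCore M) =
        Nat.card ↥(CP M E₁) ^ Nat.card X * Nat.card ↥(CP M E₃))
    {S₀ H : Subgroup G} (hS₀ : S₀ ≤ E₃) {s : ℕ} (hs : s.Prime) (hS₀c : Nat.card S₀ = s)
    (hH : IsCoatom H) (hNH : Subgroup.normalizer (S₀ : Set G) ≤ H) (hsσ : s ∈ sigma H)
    (h1 : ∀ u : ℕ, u.Prime → u ∣ Nat.card E₁ → u ∈ tau1 H) : False := by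
  have hG := c.hG
  have hS₀p : (Nat.card S₀).Prime := hS₀c ▸ hs
  have hS₀1 : S₀ ≠ ⊥ := by
    intro h
    rw [h, Subgroup.card_bot] at hS₀p
    exact Nat.not_prime_one hS₀p
  obtain ⟨P, hP, hPc⟩ := exists_prime_card_le hE₁1
  have hP1 : P ≠ ⊥ := by
    intro h
    rw [h, Subgroup.card_bot] at hPc
    exact Nat.not_prime_one hPc
  by_cases hcase : S₀ ≤ Subgroup.centralizer (P : Set G)
  · -- (A): `S₀ ≤ C_{H_σ}(P) = C_{H_σ}(E_{H,1}) ≤ C(E₁)`
    have hS₀H : S₀ ≤ H := Subgroup.le_normalizer.trans hNH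
    have : Fact s.Prime := ⟨hs⟩
    have hS₀σ : S₀ ≤ sigmaCore H :=
      Cfsg.Agent.Lib.Helper13.BG127.pgroup_le_sigmaCore hG hH hsσ hS₀H (IsPGroup.of_card
        (n := 1) (by rw [hS₀c, pow_one]))
    -- `E₁ ≤ H`
    have hE₁E : E₁ ≤ E := c.hE₁.1
    obtain ⟨-, -, h15b⟩ := Cfsg.Agent.S1415.result hG M c.hM E c.hE
    obtain ⟨hE₃c, -, hE₃n⟩ := h15b E₃ c.hE₃
    have hEN : E ≤ Subgroup.normalizer (S₀ : Set G) :=
      hE₃n.trans (Cfsg.Agent.Lib.Helper48.BG1310.normalizer_le_normalizer_of_le_cyclic hE₃c hS₀)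
    have hEH : E ≤ H := hEN.trans hNH
    have hE₁H : E₁ ≤ H := hE₁E.trans hEH
    have hHallH := (Cfsg.Agent.S1350.result hG H hH).1
    have hE₁σ : ∀ p : ℕ, p.Prime → p ∣ Nat.card E₁ → p ∉ sigma H := by
      intro p hp hpd
      exact (h1 p hp hpd).2.1
    obtain ⟨EH, hEHc, hE₁EH⟩ :=
      Cfsg.Agent.Lib.Helper13.BG12.exists_complIn_ge hG hH hHallH hE₁H hE₁σ
    have hEHtop : EH ≠ ⊤ := fun h => hH.1 (top_le_iff.mp (h ▸ hEHc.1))
    have hsolv : Group.IsSolvable ↥EH := ms_solvable hG hEHtop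
    obtain ⟨EH1, hEH1, hE₁EH1⟩ :=
      Cfsg.Agent.Lib.Helper54.BG134.exists_isPiHallOf_ge hsolv (tau1 H) hE₁EH h1
    obtain ⟨-, h15aH, -⟩ := Cfsg.Agent.S1415.result hG H hH EH hEHc
    have hEH1c : IsCyclic EH1 := h15aH EH1 hEH1
    have h28 : Cfsg.Agent.Lib.Helper13.BG135.H1428 G :=
      fun M hM E hE p hp P hPE hP R hRE hR =>
        Cfsg.Agent.S1428.result hG M hM E hE p hp P hPE hP R hRE hR
    have hpa := Cfsg.Agent.Lib.Helper13.BG135.prime_action_subgroup hG h28 hH hEHc hEH1 hEH1c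
      (hP.trans hE₁EH1) hP1
    have hS₀CP : S₀ ≤ sigmaCore H ⊓ Subgroup.centralizer (P : Set G) := le_inf hS₀σ hcase
    rw [hpa] at hS₀CP
    have hS₀C : S₀ ≤ Subgroup.centralizer (E₁ : Set G) :=
      (hS₀CP.trans inf_le_right).trans (Subgroup.centralizer_le (by exact_mod_cast hE₁EH1))
    apply hS₀1
    rw [eq_bot_iff, ← hfix]
    exact le_inf hS₀ hS₀C
  · -- (B): Frobenius–Wielandt
    have hS₀fix : S₀ ⊓ Subgroup.centralizer (P : Set G) = ⊥ :=
      inf_eq_bot_of_prime_card hS₀p hcase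
    have hfpf : ∀ x ∈ P, x ≠ 1 → S₀ ⊓ Subgroup.centralizer ({x} : Set G) = ⊥ := by
      intro x hx hx1
      rw [eq_bot_iff, ← hS₀fix]
      exact inf_le_inf_left _ (centralizer_singleton_le_of_prime hPc hx hx1)
    have hWi := hW P hP hP1 S₀ hS₀ hS₀p hfpf
    rw [hreg, bot_inf_eq, Subgroup.card_bot, one_pow, one_mul, one_mul] at hWi
    apply hne
    exact Subgroup.eq_of_le_of_card_ge inf_le_left (le_of_eq hWi)

end Cfsg.Agent.Lib.Helper71.BG1310
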