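import Mathlib
import Cfsg.Agent.Lib.Helper71.BG1310Defs
import Cfsg.Agent.Lib.Helper54.BG134A3a
import Cfsg.Agent.Lib.Helper13.BG12B
import Cfsg.Agent.S1350

/-!
# BG 13.10 pack, keystone 131018 (K-BG1310-R): `exists_halls`
-/

set_option autoImplicit false

namespace Cfsg.Agent.Lib.Helper71.BG1310

open Cfsg Cfsg.Agent.Lib.Helper55 Cfsg.Agent.Lib.Helper31.BG134

variable {G : Type*} [Group G] [Finite G]

/-- **keystone 131018**: a complement `E` of `M_σ` and Hall `τ₁(M)`-, `τ₃(M)`-subgroups of `E` exist. -/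
theorem exists_halls (hG : IsMinSimpleOddOrder G) {M : Subgroup G} (hM : IsCoatom M) :
    ∃ E E₁ E₃ : Subgroup G, IsComplIn E (sigmaCore M) M ∧ IsPiHallOf (tau1 M) E₁ E ∧
      IsPiHallOf (tau3 M) E₃ E := by
  have hHall := (Cfsg.Agent.S1350.result hG M hM).1
  obtain ⟨E, hE, -⟩ := Cfsg.Agent.Lib.Helper13.BG12.exists_complIn_ge hG hM hHall
    (K := ⊥) bot_le (by
      intro p hp hpd
      rw [Subgroup.card_bot] at hpd
      exact absurd (Nat.dvd_one.mp hpd) hp.one_lt.ne')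
  have hEtop : E ≠ ⊤ := fun h => hM.1 (top_le_iff.mp (h ▸ hE.1))
  have hsolv : Group.IsSolvable ↥E := ms_solvable hG hEtop
  have hbot : ∀ π : Set ℕ, ∀ p : ℕ, p.Prime → p ∣ Nat.card (⊥ : Subgroup G) → p ∈ π := by
    intro π p hp hpd
    rw [Subgroup.card_bot] at hpd
    exact absurd (Nat.dvd_one.mp hpd) hp.one_lt.ne'
  obtain ⟨E₁, hE₁, -⟩ :=
    Cfsg.Agent.Lib.Helper54.BG134.exists_isPiHallOf_ge hsolv (tau1 M) (K := ⊥) bot_le (hbot _)
  obtain ⟨E₃, hE₃, -⟩ :=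
    Cfsg.Agent.Lib.Helper54.BG134.exists_isPiHallOf_ge hsolv (tau3 M) (K := ⊥) bot_le (hbot _)
  exact ⟨E, E₁, E₃, hE, hE₁, hE₃⟩

end Cfsg.Agent.Lib.Helper71.BG1310
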