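import Mathlib
import Cfsg.Agent.Lib.Helper71.BG1310Defs
import Cfsg.Agent.Lib.Helper71.BG1310L
import Cfsg.Agent.Lib.Helper71.BG1310R
import Cfsg.Agent.Lib.Helper71.BG1310J
import Cfsg.Agent.Lib.Helper55.Uniq2
import Cfsg.Agent.Lib.Helper54.Conj
import Cfsg.Agent.Lib.Helper02.BG1310Defs
import Cfsg.Agent.Lib.Helper13.BG135
import Cfsg.Agent.Lib.Helper32.BG1310A
import Cfsg.Agent.Lib.Helper48.BG1310F
import Cfsg.Agent.Lib.Helper90.BG1310G0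
import Cfsg.Agent.Lib.Helper96.BG1310Iaux
import Cfsg.Agent.Lib.Helper28.BG1310Ka
import Cfsg.Agent.Lib.Helper77.BG1310M
import Cfsg.Agent.Lib.Helper22.BG1310N
import Cfsg.Agent.Lib.Helper13.BG1310Oa
import Cfsg.Agent.Lib.Helper03.BG1310PQcore
import Cfsg.Agent.Lib.Helper90.BG1310B
import Cfsg.Agent.Lib.Helper14.BG1310H
import Cfsg.Agent.Lib.Helper54.BG1310CER
import Cfsg.Agent.S1415
import Cfsg.Agent.S1428
import Cfsg.Agent.Lib.Helper05.BG1310D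

/-!
# BG 13.10 / 13.11, part 1: the glue of (R1) + (D1) + (D2) (helper71)

`E₃` (the Hall `τ₃(M)`-subgroup of a complement `E` of `M_σ`) does NOT act regularly on `M_σ`:
* `NR.C1_ne_bot` (D1): `C_{M_σ}(E₁) ≠ 1`;
* `NR.dichotomy` (D2): case (I) or case (II);
* `not_tau3_of_kappa_hall_comm`: a commutative Hall `κ(M)`-subgroup forces the regular case;
* `hnrs`: the whole output in the form `Helper02.BG1310.HNRS G`.
Leaves: keystones 131001-131018 (`notes/LemmaD12_keystones.lean.txt`).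
-/

set_option autoImplicit false

namespace Cfsg.Agent.Lib.Helper71.BG1310

open Cfsg Cfsg.Agent.Lib.Helper55 Cfsg.Agent.Lib.Helper31.BG134
open Cfsg.Agent.Lib.Helper32.BG1310 (local_facts)
open Cfsg.Agent.Lib.Helper22.BG1310 (normalizer_eq)
open Cfsg.Agent.Lib.Helper90.BG1310 (prime_action_tau3)
open Cfsg.Agent.Lib.Helper54.BG1310 (NR.structure)
open Cfsg.Agent.Lib.Helper05.BG1310 (tau2_faithful)
open scoped commutatorElement

variable {G : Type*} [Group G] [Finite G]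

/-! ### exact-signature wrappers of the leaves delivered in hypothesis form -/

theorem NR.ne_top {M E E₁ E₃ : Subgroup G} (c : NR M E E₁ E₃) : CP M E₃ ≠ sigmaCore M :=
  Cfsg.Agent.Lib.Helper48.BG1310.NR.ne_top c

theorem NR.wielandt {M E E₁ E₃ : Subgroup G} (c : NR M E E₁ E₃) {X : Subgroup G} (hX : X ≤ E₁)
    (hX1 : X ≠ ⊥) {S₀ : Subgroup G} (hS₀ : S₀ ≤ E₃) (hS₀c : (Nat.card S₀).Prime)
    (hfpf : ∀ x ∈ X, x ≠ 1 → S₀ ⊓ Subgroup.centralizer ({x} : Set G) = ⊥) :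
    Nat.card ↥(CP M E₁ ⊓ CP M E₃) ^ Nat.card X * Nat.card ↥(sigmaCore M) =
      Nat.card ↥(CP M E₁) ^ Nat.card X * Nat.card ↥(CP M E₃) := by
  have hS₀1 : S₀ ≠ ⊥ := by
    intro h
    rw [h, Subgroup.card_bot] at hS₀c
    exact Nat.not_prime_one hS₀c
  exact Cfsg.Agent.Lib.Helper90.BG1310.NR.wielandt_of c hX hX1 hS₀ hS₀c hfpf
    (prime_action_tau3 c.hG c.hM c.hE c.hE₃ hS₀ hS₀1)

theorem NR.le_of_fix {M E E₁ E₃ : Subgroup G} (c : NR M E E₁ E₃) {P : Subgroup G} (hP : P ≤ E₁)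
    (hPc : (Nat.card P).Prime) (hfix : E₃ ⊓ Subgroup.centralizer (P : Set G) ≠ ⊥) :
    CP M E₁ ≤ CP M E₃ :=
  Cfsg.Agent.Lib.Helper28.BG1310.NR.le_of_fix_of c
    (fun hY hY1 => prime_action_tau3 c.hG c.hM c.hE c.hE₃ hY hY1) hP hPc hfix

theorem NR.sub_tau1_of_reg {M E E₁ E₃ : Subgroup G} (c : NR M E E₁ E₃) (hreg : CP M E₁ = ⊥)
    {S₀ H : Subgroup G} (hS₀ : S₀ ≤ E₃) (hS₀c : (Nat.card S₀).Prime)
    (hH : IsCoatom H) (hNH : Subgroup.normalizer (S₀ : Set G) ≤ H) :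
    ∀ u : ℕ, u.Prime → u ∣ Nat.card E₁ → u ∈ tau1 H := by
  have hS₀1 : S₀ ≠ ⊥ := by
    intro h
    rw [h, Subgroup.card_bot] at hS₀c
    exact Nat.not_prime_one hS₀c
  have hS₀M : S₀ ≤ M := (hS₀.trans c.hE₃.1).trans c.hE.1
  have hs3 : Nat.card S₀ ∈ tau3 M := c.hE₃.2.1 _ hS₀c (Subgroup.card_dvd_of_le hS₀)
  obtain ⟨-, hnc, hC⟩ := local_facts c.hG c.hM hH (Or.inr hs3) hS₀M rfl hNH
  refine Cfsg.Agent.Lib.Helper96.BG1310.NR.sub_tau1_of_reg_aux c hreg hS₀ hH hNH hnc ?_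
  rw [hC]
  exact prime_action_tau3 c.hG c.hM c.hE c.hE₃ hS₀ hS₀1

theorem NR.not_tau2_of_reg {M E E₁ E₃ : Subgroup G} (c : NR M E E₁ E₃) (hreg : CP M E₁ = ⊥)
    {S₀ H : Subgroup G} (hS₀ : S₀ ≤ E₃) {s : ℕ} (hs : s.Prime) (hS₀c : Nat.card S₀ = s)
    (hH : IsCoatom H) (hNH : Subgroup.normalizer (S₀ : Set G) ≤ H) : s ∉ tau2 H := by
  have hS₀1 : S₀ ≠ ⊥ := by
    intro h
    rw [h, Subgroup.card_bot] at hS₀c
    rw [← hS₀c] at hs
    exact Nat.not_prime_one hs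
  have hS₀M : S₀ ≤ M := (hS₀.trans c.hE₃.1).trans c.hE.1
  have hs3 : s ∈ tau3 M := c.hE₃.2.1 s hs (hS₀c ▸ Subgroup.card_dvd_of_le hS₀)
  obtain ⟨-, hnc, hC⟩ := local_facts c.hG c.hM hH (Or.inr hs3) hS₀M hS₀c hNH
  exact Cfsg.Agent.Lib.Helper14.BG1310.not_tau2_of_reg_core c hreg hS₀ hs hS₀c hH hNH hnc hC
    (prime_action_tau3 c.hG c.hM c.hE c.hE₃ hS₀ hS₀1) (NR.structure c).2.2.2.2.2.2.2
    (fun A Y hSA hA hAc hY hY1 =>
      tau2_faithful c.hG c.hM (Or.inr hs3) hS₀M hS₀c hSA hA hAc hY hY1)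

theorem NR.card_prime {M E E₁ E₃ : Subgroup G} (c : NR M E E₁ E₃)
    (hII : ∀ x ∈ E₁, x ≠ 1 → E₃ ⊓ Subgroup.centralizer ({x} : Set G) = ⊥)
    (hnot : ¬ CP M E₁ ≤ CP M E₃) : (Nat.card E₁).Prime :=
  Cfsg.Agent.Lib.Helper77.BG1310.card_prime_of c
    (fun hX hX1 _ hS₀ hS₀c hfpf => NR.wielandt c hX hX1 hS₀ hS₀c hfpf)
    (NR.structure c).2.2.2.2.2.2.2 hII hnot

theorem NR.of_kappa (hG : IsMinSimpleOddOrder G) {M E E₁ E₃ : Subgroup G} (hM : IsCoatom M)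
    (hE : IsComplIn E (sigmaCore M) M) (hE₁ : IsPiHallOf (tau1 M) E₁ E)
    (hE₃ : IsPiHallOf (tau3 M) E₃ E) {s : ℕ} (hsκ : s ∈ kappa M) (hs3 : s ∈ tau3 M) :
    NR M E E₁ E₃ :=
  Cfsg.Agent.Lib.Helper13.BG1310.NR.of_kappa_of_primeAct hG hM hE hE₁ hE₃ hsκ hs3
    (fun _ hY hY1 => prime_action_tau3 hG hM hE hE₃ hY hY1)

theorem NR.not_comm_of_kappa_hall {M E E₁ E₃ : Subgroup G} (c : NR M E E₁ E₃) (hC1 : CP M E₁ ≠ ⊥)
    {K : Subgroup G} (hK : IsPiHallOf (kappa M) K M) : ¬ ∀ a ∈ K, ∀ b ∈ K, a * b = b * a := by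
  have h2 := (NR.structure c).1
  have hκ := Cfsg.Agent.Lib.Helper03.BG1310.kappa_of_data c.hG c.hM c.hE c.hE₁ c.hE₃ h2 hC1 c.hC3
  have h15 := Cfsg.Agent.S1415.result c.hG M c.hM E c.hE
  have hE₃d : E₃ ≤ ⁅E, E⁆ := (h15.2.2 E₃ c.hE₃).2.1
  have hEnc : ¬ ∀ a ∈ E, ∀ b ∈ E, a * b = b * a := by
    intro hc
    apply c.hE₃1
    rw [eq_bot_iff]
    refine hE₃d.trans ?_
    rw [Subgroup.commutator_le]
    intro a ha b hb
    rw [Subgroup.mem_bot, commutatorElement_eq_one_iff_mul_comm]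
    exact hc a ha b hb
  exact Cfsg.Agent.Lib.Helper03.BG1310.not_comm_of_data c.hG c.hM c.hE hκ hEnc hK

/-- **keystone 131012**: `(D2)(ii)`. -/
theorem NR.not_le_of_move {M E E₁ E₃ : Subgroup G} (c : NR M E E₁ E₃) {P : Subgroup G} (hP : P ≤ E₁)
    (hPc : (Nat.card P).Prime) (hmove : ¬ E₃ ≤ Subgroup.centralizer (P : Set G)) :
    ¬ CP M E₁ ≤ CP M E₃ := by
  obtain ⟨-, -, hcyc, hE₃n, -⟩ := NR.structure c
  exact not_le_of_move_core c hcyc hE₃n (NR.ne_top c)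
    (fun X hX hX1 S₀ hS₀ hS₀c hfpf => NR.wielandt c hX hX1 hS₀ hS₀c hfpf) hP hPc hmove

theorem NR.false_of_reg {M E E₁ E₃ : Subgroup G} (c : NR M E E₁ E₃) (hreg : CP M E₁ = ⊥)
    {S₀ H : Subgroup G} (hS₀ : S₀ ≤ E₃) {s : ℕ} (hs : s.Prime) (hS₀c : Nat.card S₀ = s)
    (hH : IsCoatom H) (hNH : Subgroup.normalizer (S₀ : Set G) ≤ H) (hsσ : s ∈ sigma H)
    (h1 : ∀ u : ℕ, u.Prime → u ∣ Nat.card E₁ → u ∈ tau1 H) : False :=
  false_of_reg_core c hreg (NR.structure c).2.2.2.2.2.2.2 (NR.structure c).2.2.2.2.2.2.1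
    (NR.ne_top c) (fun X hX hX1 S₀ hS₀ hS₀c hfpf => NR.wielandt c hX hX1 hS₀ hS₀c hfpf)
    hS₀ hs hS₀c hH hNH hsσ h1

/-! ### (D1) -/

/-- **(D1)**: in the nonregular configuration `E₁` has fixed points on `M_σ`. -/
theorem NR.C1_ne_bot {M E E₁ E₃ : Subgroup G} (c : NR M E E₁ E₃) : CP M E₁ ≠ ⊥ := by
  intro hreg
  have hG := c.hG
  obtain ⟨S₀, hS₀, hS₀p⟩ := exists_prime_card_le c.hE₃1
  have hS₀E : S₀ ≤ E := hS₀.trans c.hE₃.1
  have hS₀M : S₀ ≤ M := hS₀E.trans c.hE.1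
  have hS₀1 : S₀ ≠ ⊥ := by
    intro h
    rw [h, Subgroup.card_bot] at hS₀p
    exact Nat.not_prime_one hS₀p
  have hS₀top : S₀ ≠ ⊤ := by
    rintro h
    exact c.hM.1 (top_le_iff.mp (h ▸ hS₀M))
  obtain ⟨H, hH, hNH⟩ := ms_exists_coatom_ge (ms_normalizer_ne_top hG hS₀1 hS₀top)
  have hs3 : Nat.card S₀ ∈ tau3 M :=
    c.hE₃.2.1 _ hS₀p (Subgroup.card_dvd_of_le hS₀)
  obtain ⟨h0, -, -⟩ := local_facts hG c.hM hH (Or.inr hs3) hS₀M rfl hNH
  have hn2 : Nat.card S₀ ∉ tau2 H := NR.not_tau2_of_reg c hreg hS₀ hS₀p rfl hH hNH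
  have hsσ : Nat.card S₀ ∈ sigma H := h0.resolve_right hn2
  exact NR.false_of_reg c hreg hS₀ hS₀p rfl hH hNH hsσ
    (NR.sub_tau1_of_reg c hreg hS₀ hS₀p hH hNH)

omit [Finite G] in
/-- the centralizer of an element is contained in the centralizer of any subgroup of its powers -/
theorem centralizer_singleton_le {x : G} {P : Subgroup G} (hP : P ≤ Subgroup.zpowers x) :
    Subgroup.centralizer ({x} : Set G) ≤ Subgroup.centralizer (P : Set G) := by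
  intro y hy
  rw [Subgroup.mem_centralizer_iff] at hy ⊢
  intro z hz
  obtain ⟨k, rfl⟩ := Subgroup.mem_zpowers_iff.mp (hP hz)
  have h1 : x * y = y * x := hy x rfl
  exact ((Commute.zpow_left (show Commute x y from h1) k).eq)

/-! ### (D2) -/

/-- **(D2)**: the dichotomy (I) / (II). -/
theorem NR.dichotomy {M E E₁ E₃ : Subgroup G} (c : NR M E E₁ E₃) :
    CaseI M E₁ E₃ ∨ CaseII M E₁ E₃ := by
  obtain ⟨-, -, -, hE₃n, hsup, hinf, hfix, hE₁1⟩ := NR.structure c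
  by_cases hall : ∀ P : Subgroup G, P ≤ E₁ → (Nat.card P).Prime →
      E₃ ≤ Subgroup.centralizer (P : Set G)
  · left
    refine ⟨hall, ?_⟩
    obtain ⟨P, hP, hPp⟩ := exists_prime_card_le hE₁1
    apply NR.le_of_fix c hP hPp
    rw [inf_eq_left.mpr (hall P hP hPp)]
    exact c.hE₃1
  · right
    obtain ⟨P₀, h⟩ := not_forall.mp hall
    obtain ⟨hP₀, h⟩ := Classical.not_imp.mp h
    obtain ⟨hP₀p, hmove⟩ := Classical.not_imp.mp h
    have hnot : ¬ CP M E₁ ≤ CP M E₃ := NR.not_le_of_move c hP₀ hP₀p hmove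
    have hfpf : ∀ P : Subgroup G, P ≤ E₁ → (Nat.card P).Prime →
        E₃ ⊓ Subgroup.centralizer (P : Set G) = ⊥ := by
      intro P hP hPp
      by_contra h
      exact hnot (NR.le_of_fix c hP hPp h)
    have hII : ∀ x ∈ E₁, x ≠ 1 → E₃ ⊓ Subgroup.centralizer ({x} : Set G) = ⊥ := by
      intro x hx hx1
      have hz1 : Subgroup.zpowers x ≠ ⊥ := by
        intro h
        exact hx1 (Subgroup.zpowers_eq_bot.mp h)
      obtain ⟨P, hP, hPp⟩ := exists_prime_card_le hz1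
      have hPE₁ : P ≤ E₁ := hP.trans (by rw [Subgroup.zpowers_le]; exact hx)
      rw [eq_bot_iff, ← hfpf P hPE₁ hPp]
      exact inf_le_inf_left _ (centralizer_singleton_le hP)
    refine ⟨NR.card_prime c hII hnot, hII, hnot, ?_⟩
    rw [normalizer_eq c.hE c.hE₁.1]
    congr 1
    apply le_antisymm
    · intro y hy
      obtain ⟨hyE, hyN⟩ := Subgroup.mem_inf.mp hy
      have hyS : y ∈ E₃ ⊔ E₁ := hsup ▸ hyE
      have hE₁n : E₁ ≤ Subgroup.normalizer (E₃ : Set G) := c.hE₁.1.trans hE₃n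
      obtain ⟨a, ha, b, hb, rfl⟩ :=
        Cfsg.Agent.Lib.Helper54.exists_mul_of_mem_sup_of_le_normalizer hE₁n hyS
      have haN : a ∈ Subgroup.normalizer (E₁ : Set G) := by
        have hbN : b ∈ Subgroup.normalizer (E₁ : Set G) := Subgroup.le_normalizer hb
        have := (Subgroup.normalizer (E₁ : Set G)).mul_mem hyN
          ((Subgroup.normalizer (E₁ : Set G)).inv_mem hbN)
        simpa [mul_assoc] using this
      have haC : a ∈ Subgroup.centralizer (E₁ : Set G) := by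
        rw [Subgroup.mem_centralizer_iff]
        intro e he
        have h1 : a * e * a⁻¹ ∈ E₁ := (Subgroup.mem_normalizer_iff.mp haN e).mp he
        have h2 : a * e * a⁻¹ * e⁻¹ ∈ E₁ := E₁.mul_mem h1 (E₁.inv_mem he)
        have h3 : e * a⁻¹ * e⁻¹ ∈ E₃ :=
          (Subgroup.mem_normalizer_iff.mp (hE₁n he) a⁻¹).mp (E₃.inv_mem ha)
        have h4 : a * e * a⁻¹ * e⁻¹ ∈ E₃ := by
          have := E₃.mul_mem ha h3
          simpa [mul_assoc] using this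
        have h5 : a * e * a⁻¹ * e⁻¹ ∈ E₃ ⊓ E₁ := ⟨h4, h2⟩
        rw [hinf, Subgroup.mem_bot] at h5
        have h6 : a * e * a⁻¹ = e := by
          have := congrArg (· * e) h5
          simpa [mul_assoc] using this
        have h7 : a * e = e * a := by
          have := congrArg (· * a) h6
          simpa [mul_assoc] using this
        exact h7.symm
      have ha1 : a = 1 := by
        have : a ∈ E₃ ⊓ Subgroup.centralizer (E₁ : Set G) := ⟨ha, haC⟩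
        rwa [hfix, Subgroup.mem_bot] at this
      rw [ha1, one_mul]
      exact hb
    · exact le_inf c.hE₁.1 Subgroup.le_normalizer

/-! ### consequences -/

/-- a commutative (e.g. cyclic) Hall `κ(M)`-subgroup forces the regular case `κ(M) ∩ τ₃(M) = ∅`. -/
theorem not_tau3_of_kappa_hall_comm (hG : IsMinSimpleOddOrder G) {M K : Subgroup G}
    (hM : IsCoatom M) (hK : IsPiHallOf (kappa M) K M) (hKc : ∀ a ∈ K, ∀ b ∈ K, a * b = b * a) :
    ∀ s : ℕ, s ∈ kappa M → s ∉ tau3 M := by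
  intro s hsκ hs3
  obtain ⟨E, E₁, E₃, hE, hE₁, hE₃⟩ := exists_halls hG hM
  have c : NR M E E₁ E₃ := NR.of_kappa hG hM hE hE₁ hE₃ hsκ hs3
  exact NR.not_comm_of_kappa_hall c (NR.C1_ne_bot c) hK hKc

/-- helper2's form of the nonregular configuration gives ours -/
theorem nr_of_nr2 {M E E₁ E₃ : Subgroup G} (c : Cfsg.Agent.Lib.Helper02.BG1310.NR M E E₁ E₃) :
    NR M E E₁ E₃ := by
  obtain ⟨S₀, hS₀, hS₀p, hS₀C⟩ := c.hnr
  have hS₀1 : S₀ ≠ ⊥ := by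
    intro h
    rw [h, Subgroup.card_bot] at hS₀p
    exact Nat.not_prime_one hS₀p
  refine ⟨c.hG, c.hM, c.hE, c.hE₁, c.hE₃, ?_, ?_⟩
  · intro h
    apply hS₀1
    rw [eq_bot_iff, ← h]
    exact hS₀
  · rw [← prime_action_tau3 c.hG c.hM c.hE c.hE₃ hS₀ hS₀1]
    exact hS₀C

/-- **the output of the pack (R1) + (D1) + (D2)** in helper2's form `HNRS`. -/
theorem hnrs : Cfsg.Agent.Lib.Helper02.BG1310.HNRS G := by
  intro M E E₁ E₃ c2
  have c : NR M E E₁ E₃ := nr_of_nr2 c2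
  have hG := c.hG
  obtain ⟨hτ2, hE₁c, hE₃c, hE₃n, hsup, hinf, hfix, hE₁1⟩ := NR.structure c
  have h15 := Cfsg.Agent.S1415.result hG M c.hM E c.hE
  have h28 : Cfsg.Agent.Lib.Helper13.BG135.H1428 G := by
    intro M hM E hE p hp P hPE hPc R hR hRc
    exact Cfsg.Agent.S1428.result hG M hM E hE p hp P hPE hPc R hR hRc
  have hE₁n : E₁ ≤ Subgroup.normalizer (E₃ : Set G) := c.hE₁.1.trans hE₃n
  refine ⟨c2, hτ2, hE₁c, hE₃c, hE₃n, (h15.2.2 E₃ c.hE₃).2.1, ?_, ?_, ?_, NR.C1_ne_bot c, ?_, ?_⟩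
  · intro x hx
    have hxS : x ∈ E₃ ⊔ E₁ := hsup ▸ hx
    exact Cfsg.Agent.Lib.Helper54.exists_mul_of_mem_sup_of_le_normalizer hE₁n hxS
  · intro Y hY hY1
    exact prime_action_tau3 hG c.hM c.hE c.hE₃ hY hY1
  · intro Y hY hY1
    exact Cfsg.Agent.Lib.Helper13.BG135.prime_action_subgroup hG h28 c.hM c.hE c.hE₁ hE₁c hY hY1
  · intro S₀ H hS₀ hS₀p hH hNH
    have hS₀1 : S₀ ≠ ⊥ := by
      intro h
      rw [h, Subgroup.card_bot] at hS₀p
      exact Nat.not_prime_one hS₀p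
    have hS₀M : S₀ ≤ M := (hS₀.trans c.hE₃.1).trans c.hE.1
    have hs3 : Nat.card S₀ ∈ tau3 M := c.hE₃.2.1 _ hS₀p (Subgroup.card_dvd_of_le hS₀)
    obtain ⟨-, hnc, hC⟩ := local_facts hG c.hM hH (Or.inr hs3) hS₀M rfl hNH
    refine ⟨?_, hnc, ?_⟩
    · refine le_trans ?_ hNH
      exact hE₃n.trans
        (Cfsg.Agent.Lib.Helper48.BG1310.normalizer_le_normalizer_of_le_cyclic hE₃c hS₀)
    · rw [hC]
      exact prime_action_tau3 hG c.hM c.hE c.hE₃ hS₀ hS₀1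
  · rcases NR.dichotomy c with h | h
    · exact Or.inl h
    · right
      obtain ⟨h1, -, h3, h4⟩ := h
      exact ⟨h1, hfix, h3, le_of_eq h4⟩

end Cfsg.Agent.Lib.Helper71.BG1310
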