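import Cfsg.Agent.Lib.Helper31.BG147Defs

/-!
# BG Theorem 14.7 (a)-(d): the partner `M*` of a maximal subgroup with `κ(M) ≠ ∅` (S1366, S1368, S1351).
Shared definitions of the pack K-1366.  Architect: helper71.  Spec: `notes/S1366_keystones.lean.txt`.
-/

set_option autoImplicit false

namespace Cfsg.Agent.Lib.Helper71.BG1366

open Cfsg Subgroup Cfsg.Agent.Lib.Helper11.BG14D Cfsg.Agent.Lib.Helper11.BG144

variable {G : Type*} [Group G]

/-- a `P`-pair: a maximal subgroup `M` with a Hall `κ(M)`-subgroup `K ≠ 1`. -/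
structure PPair (M K : Subgroup G) : Prop where
  coatom : IsCoatom M
  hall : IsPiHallOf (kappa M) K M
  ne : K ≠ ⊥

/-- `M` is of type `P₁`: every prime divisor of `|M|` lies in `σ(M) ∪ κ(M)` (i.e. `U = 1`). -/
def IsP1 (M : Subgroup G) : Prop :=
  ∀ q : ℕ, q.Prime → q ∣ Nat.card M → q ∈ sigma M ∨ q ∈ kappa M

/-- `J` (with Hall `κ(J)`-subgroup `KJ`) is a NEIGHBOUR of the `P`-pair `(M, K)`: the home of some
subgroup of prime order of `K`, with the common torus `M ⊓ J = K K* = KJ KJ*`. -/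
structure Nbr (M K J KJ : Subgroup G) : Prop where
  pj : PPair J KJ
  nc : ∀ g : G, J ≠ cj g M
  ks_le : Ks M K ≤ KJ
  inter : M ⊓ J = K ⊔ Ks M K
  zeq : KJ ⊔ Ks J KJ = K ⊔ Ks M K
  ksJ : Ks J KJ = K ⊓ sigmaCore J

/-- a member of a `P`-family with common torus `Z`, of type `P₁`. -/
structure Mem (Z J KJ : Subgroup G) : Prop where
  pj : PPair J KJ
  zeq : KJ ⊔ Ks J KJ = Z
  p1 : IsP1 J

/-- a `P`-family with common torus `Z`: pairwise non-conjugate members of type `P₁`, the `K*`'s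
covering all primes of `|Z|`. -/
structure PFam (Z : Subgroup G) (F : Set (Subgroup G × Subgroup G)) : Prop where
  mem : ∀ p ∈ F, Mem Z p.1 p.2
  nc : ∀ p ∈ F, ∀ q ∈ F, p ≠ q → ∀ g : G, q.1 ≠ cj g p.1
  cover : ∀ r : ℕ, r.Prime → r ∣ Nat.card Z → ∃ p ∈ F, r ∣ Nat.card (Ks p.1 p.2)

/-- the union of the sets `Ẑ` of a family. -/
def WW (F : Set (Subgroup G × Subgroup G)) : Set G :=
  {z | ∃ p ∈ F, z ∈ Zhat p.1 p.2}

end Cfsg.Agent.Lib.Helper71.BG1366
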