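import Mathlib

/-!
# The join of two commuting cyclic subgroups of coprime orders is cyclic
-/

set_option autoImplicit false

namespace Cfsg.Agent.Lib.Helper71.BG1366

variable {G : Type*} [Group G] [Finite G]

theorem isCyclic_sup_of_coprime {K Y : Subgroup G} (hK : IsCyclic K) (hY : IsCyclic Y)
    (hc : Y ≤ Subgroup.centralizer (K : Set G))
    (hcop : (Nat.card K).Coprime (Nat.card Y)) : IsCyclic ↥(K ⊔ Y) := by
  obtain ⟨⟨a, haK⟩, ha⟩ := hK.exists_generator
  obtain ⟨⟨b, hbY⟩, hb⟩ := hY.exists_generator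
  have hoa : orderOf a = Nat.card K := by
    have := orderOf_eq_card_of_forall_mem_zpowers ha
    rwa [Subgroup.orderOf_mk] at this
  have hob : orderOf b = Nat.card Y := by
    have := orderOf_eq_card_of_forall_mem_zpowers hb
    rwa [Subgroup.orderOf_mk] at this
  have hcomm : Commute a b := (Subgroup.mem_centralizer_iff.mp (hc hbY) a haK)
  have hoab : orderOf (a * b) = Nat.card K * Nat.card Y := by
    rw [hcomm.orderOf_mul_eq_mul_orderOf_of_coprime (by rw [hoa, hob]; exact hcop), hoa, hob]
  have habm : a * b ∈ K ⊔ Y :=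
    Subgroup.mul_mem _ (Subgroup.mem_sup_left haK) (Subgroup.mem_sup_right hbY)
  -- |K ⊔ Y| ≤ |K| |Y|
  have hcard : Nat.card ↥(K ⊔ Y) = Nat.card K * Nat.card Y := by
    have comm : ∀ (m : K) (n : Y), Commute (K.subtype m) (Y.subtype n) := by
      intro m n
      exact (Subgroup.mem_centralizer_iff.mp (hc n.2) m m.2)
    have hinf : K ⊓ Y = ⊥ := (Subgroup.disjoint_of_coprime_natCard hcop).eq_bot
    have hinj : Function.Injective (MonoidHom.noncommCoprod K.subtype Y.subtype comm) := by
      rw [MonoidHom.noncommCoprod_injective]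
      refine ⟨K.subtype_injective, Y.subtype_injective, ?_⟩
      rw [Subgroup.range_subtype, Subgroup.range_subtype, disjoint_iff, hinf]
    have hrange : (MonoidHom.noncommCoprod K.subtype Y.subtype comm).range = K ⊔ Y := by
      rw [MonoidHom.noncommCoprod_range, Subgroup.range_subtype, Subgroup.range_subtype]
    rw [← hrange, Nat.card_congr (MonoidHom.ofInjective hinj).symm.toEquiv, Nat.card_prod]
  apply isCyclic_of_orderOf_eq_card (⟨a * b, habm⟩ : ↥(K ⊔ Y))
  rw [Subgroup.orderOf_mk, hoab, hcard]

end Cfsg.Agent.Lib.Helper71.BG1366
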