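import Mathlib
import Cfsg.Agent.Lib.Helper71.BG1366Defs
import Cfsg.Agent.Lib.Helper31.BG147C
import Cfsg.Agent.Lib.Helper91.BG125e
import Cfsg.Agent.Lib.Helper31.BG12a
import Cfsg.Agent.Lib.Helper12.CNMaxSub
import Cfsg.Agent.Lib.Helper82.BG142D2
import Cfsg.Agent.Lib.Helper57.BG142D4
import Cfsg.Agent.Lib.Helper64.BG14K
import Cfsg.Agent.Lib.Helper28.BG147H
import Cfsg.Agent.Lib.Helper77.BG147N

/-!
# K-1366-J (keystone 136611): all subgroups of prime order of `K` have the same home
-/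

set_option autoImplicit false
set_option linter.unusedVariables false
set_option linter.unusedSectionVars false
set_option linter.style.haveILetI false

namespace Cfsg.Agent.Lib.Helper71.BG1366

open Cfsg Subgroup Cfsg.Agent.Lib.Helper11.BG14D Cfsg.Agent.Lib.Helper31.BG147

variable {G : Type*} [Group G] [Finite G]

local notation "cjj" => Cfsg.Agent.Lib.Helper55.cj

/-- `K* ≠ 1` -/
theorem PPair.Ks_ne_bot (hG : IsMinSimpleOddOrder G) (h30 : H1430 G) {M K : Subgroup G}
    (hp : PPair M K) : Ks M K ≠ ⊥ := by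
  obtain ⟨hM, hK, hK1⟩ := hp
  obtain ⟨⟨k, hkK⟩, hk1⟩ := (Subgroup.ne_bot_iff_exists_ne_one).mp hK1
  have hk1' : (k : G) ≠ 1 := fun h => hk1 (Subtype.ext h)
  -- a prime dividing the order of `k`
  have hord : orderOf (k : G) ≠ 1 := by
    rw [Ne, orderOf_eq_one_iff]; exact hk1'
  obtain ⟨p, hpp, hpd⟩ := Nat.exists_prime_and_dvd hord
  haveI : Fact p.Prime := ⟨hpp⟩
  -- element of order p in zpowers k
  set x : G := (k : G) ^ (orderOf (k : G) / p) with hx
  have hxo : orderOf x = p := by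
    rw [hx]
    exact orderOf_pow_orderOf_div (orderOf_pos (k : G)).ne' hpd
  have hxK : x ∈ K := K.pow_mem hkK _
  have hx1 : x ≠ 1 := by
    intro h
    rw [h, orderOf_one] at hxo
    exact hpp.one_lt.ne hxo
  have hPc : Nat.card (Subgroup.zpowers x) = p := by rw [Nat.card_zpowers, hxo]
  have hpK : p ∣ Nat.card K := by
    rw [← hxo]
    exact orderOf_dvd_natCard (⟨x, hxK⟩ : K) |> fun h => by
      have : orderOf (⟨x, hxK⟩ : K) = orderOf x := by
        rw [← Subgroup.orderOf_coe]
      rwa [this] at h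
  have hpκ : p ∈ kappa M := hK.2.1 p hpp hpK
  have hPM : Subgroup.zpowers x ≤ M := (Subgroup.zpowers_le.mpr hxK).trans hK.1
  have h1 := Cfsg.Agent.Lib.Helper64.BG14.cent_ne_bot_of_mem_kappa hG hM hpκ hPM hPc
  have h2 := (h30 M hM K hK hK1).1 x hxK hx1
  intro hbot
  apply h1
  rw [eq_bot_iff, ← hbot]
  show sigmaCore M ⊓ centralizer ((Subgroup.zpowers x : Subgroup G) : Set G) ≤
    sigmaCore M ⊓ centralizer (K : Set G)
  rw [← h2]
  apply inf_le_inf_left
  apply Subgroup.centralizer_le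
  intro y hy
  rw [Set.mem_singleton_iff] at hy
  rw [hy]
  exact Subgroup.mem_zpowers x

/-- a subgroup of prime order of `K` is the only one of its order -/
theorem PPair.prime_sub_unique (hG : IsMinSimpleOddOrder G) (h30 : H1430 G) {M K : Subgroup G}
    (hp : PPair M K) :
    ∀ X Y : Subgroup G, X ≤ K → Y ≤ K → (Nat.card X).Prime → Nat.card Y = Nat.card X → Y = X := by
  obtain ⟨hM, hK, hK1⟩ := hp
  apply Cfsg.Agent.Lib.Helper82.BG142.uniq_prime_sub_of_normal
  · intro r hr R
    by_cases hrK : r ∣ Nat.card K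
    · have hrκ : r ∈ kappa M := hK.2.1 r hr.out hrK
      exact (Cfsg.Agent.Lib.Helper57.BG142.kappa_facts hM hrκ).2.2 K hK.1 R
    · have hc : Nat.card (R : Subgroup K) = 1 := by
        rw [Sylow.card_eq_multiplicity]
        rw [Nat.factorization_eq_zero_of_not_dvd hrK, pow_zero]
      haveI : Subsingleton (R : Subgroup K) := (Nat.card_eq_one_iff_unique.mp hc).1
      exact isCyclic_of_subsingleton
  · intro X hXK hXc
    have h := ((h30 M hM K hK hK1).2.2 X hXK hXc).1
    have : K ≤ M ⊓ normalizer (X : Set G) := by rw [h]; exact le_sup_left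
    exact this.trans inf_le_right

/-- Cauchy inside a subgroup: a subgroup of order `r` for a prime `r` dividing `|K|` -/
theorem exists_le_card_prime {K : Subgroup G} {r : ℕ} (hr : r.Prime) (hrK : r ∣ Nat.card K) :
    ∃ X : Subgroup G, X ≤ K ∧ Nat.card X = r := by
  haveI : Fact r.Prime := ⟨hr⟩
  obtain ⟨x, hx⟩ := exists_prime_orderOf_dvd_card' (G := K) r hrK
  refine ⟨Subgroup.zpowers (x : G), Subgroup.zpowers_le.mpr x.2, ?_⟩
  rw [Nat.card_zpowers, Subgroup.orderOf_coe, hx]

/-- **K-1366-J** (136611). -/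
theorem uniq_home (hG : IsMinSimpleOddOrder G) (h30 : H1430 G) (h31 : H1431 G) {M K : Subgroup G} (hp : PPair M K)
    (hNbr : ∀ X J : Subgroup G, X ≤ K → (Nat.card X).Prime → IsCoatom J → normalizer (X : Set G) ≤ J →
      ∃ KJ : Subgroup G, Nbr M K J KJ ∧ X ≤ Ks J KJ)
    (hP1 : ∀ M K : Subgroup G, PPair M K → ¬ (Nat.card K).Prime → IsP1 M)
    (hFalse : ∀ (Z : Subgroup G) (F : Set (Subgroup G × Subgroup G)), PFam Z F →
      (∃ p ∈ F, ∃ q ∈ F, p ≠ q) → False)
    {X X' J J' : Subgroup G} (hXK : X ≤ K) (hXc : (Nat.card X).Prime) (hX'K : X' ≤ K)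
    (hX'c : (Nat.card X').Prime) (hJ : IsCoatom J) (hNJ : normalizer (X : Set G) ≤ J)
    (hJ' : IsCoatom J') (hNJ' : normalizer (X' : Set G) ≤ J') : J = J' := by
  classical
  by_contra hne
  have hM := hp.coatom
  have hK := hp.hall
  have hK1 := hp.ne
  have hKs1 : Ks M K ≠ ⊥ := hp.Ks_ne_bot hG h30
  have huniq := hp.prime_sub_unique hG h30
  -- homes
  set IsHome : Subgroup G → Prop := fun L => IsCoatom L ∧ ∃ Y : Subgroup G, Y ≤ K ∧
    (Nat.card Y).Prime ∧ normalizer (Y : Set G) ≤ L with hIsHome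
  have hex : ∀ L, IsHome L → ∃ KL, Nbr M K L KL := by
    rintro L ⟨hL, Y, h1, h2, h3⟩
    obtain ⟨KL, hn, -⟩ := hNbr Y L h1 h2 hL h3
    exact ⟨KL, hn⟩
  set f : Subgroup G → Subgroup G := fun L => if h : IsHome L then Classical.choose (hex L h) else ⊥
    with hfdef
  have hf : ∀ L, IsHome L → Nbr M K L (f L) := by
    intro L h
    have : f L = Classical.choose (hex L h) := by rw [hfdef]; simp only [dif_pos h]
    rw [this]
    exact Classical.choose_spec (hex L h)
  -- (B) the subgroup of a home lies in its sigma core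
  have hB : ∀ Y L : Subgroup G, Y ≤ K → (Nat.card Y).Prime → IsCoatom L →
      normalizer (Y : Set G) ≤ L → Y ≤ sigmaCore L := by
    intro Y L h1 h2 hL h3
    obtain ⟨KL, -, hX⟩ := hNbr Y L h1 h2 hL h3
    exact hX.trans inf_le_left
  -- (A) a subgroup of prime order of `K` inside `L_σ` has home `L`
  have hA : ∀ L, IsHome L → ∀ Y : Subgroup G, Y ≤ K → (Nat.card Y).Prime →
      Y ≤ sigmaCore L → ∀ L' : Subgroup G, IsCoatom L' → normalizer (Y : Set G) ≤ L' → L' = L := by
    intro L hL Y h1 h2 h3 L' hL' hN'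
    have nb := hf L hL
    have hX : Y ≤ Ks L (f L) := by
      rw [nb.ksJ]; exact le_inf h1 h3
    exact (cent_uniq hG h31 nb.pj.coatom nb.pj.hall nb.pj.ne hX h2).2 L' hL'
      ((Subgroup.centralizer_le_normalizer _).trans hN')
  have hJhome : IsHome J := ⟨hJ, X, hXK, hXc, hNJ⟩
  have hJ'home : IsHome J' := ⟨hJ', X', hX'K, hX'c, hNJ'⟩
  -- the orders of `X`, `X'` differ
  have hcards : Nat.card X' ≠ Nat.card X := by
    intro h
    have hXX : X' = X := huniq X X' hXK hX'K hXc h
    apply hne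
    have := hA J hJhome X' hX'K hX'c (hXX ▸ hB X J hXK hXc hJ hNJ) J' hJ' hNJ'
    exact this.symm
  -- `|K|` is not prime
  have hKnp : ¬ (Nat.card K).Prime := by
    intro hKp
    have h1 : Nat.card X ∣ Nat.card K := Subgroup.card_dvd_of_le hXK
    have h2 : Nat.card X' ∣ Nat.card K := Subgroup.card_dvd_of_le hX'K
    have e1 := (Nat.prime_dvd_prime_iff_eq hXc hKp).mp h1
    have e2 := (Nat.prime_dvd_prime_iff_eq hX'c hKp).mp h2
    exact hcards (e2.trans e1.symm)
  -- every home has another home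
  have hother : ∀ L, IsHome L → ∃ L', IsHome L' ∧ L' ≠ L := by
    intro L hL
    by_cases h : L = J
    · exact ⟨J', hJ'home, fun h' => hne (h ▸ h'.symm)⟩
    · exact ⟨J, hJhome, fun h' => h h'.symm⟩
  have hZcard : Nat.card ↥(K ⊔ Ks M K) = Nat.card K * Nat.card (Ks M K) := by
    apply Cfsg.Agent.Lib.Helper28.BG147.card_sup_of_commute inf_le_right
    have hcop := Cfsg.Agent.Lib.Helper77.BG147.coprime_card_Ks hG hM hK
    exact (Subgroup.disjoint_of_coprime_natCard hcop).eq_bot
  -- `|f L|` is not prime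
  have hfnp : ∀ L, IsHome L → ¬ (Nat.card (f L)).Prime := by
    intro L hL
    have nb := hf L hL
    obtain ⟨L', ⟨hL'c, Y, h1, h2, h3⟩, hLL'⟩ := hother L hL
    have hnot : ¬ Y ≤ sigmaCore L := fun h => hLL' (hA L hL Y h1 h2 h L' hL'c h3)
    have hcard2 : Nat.card ↥(f L ⊔ Ks L (f L)) = Nat.card (f L) * Nat.card (Ks L (f L)) := by
      apply Cfsg.Agent.Lib.Helper28.BG147.card_sup_of_commute inf_le_right
      have hcop := Cfsg.Agent.Lib.Helper77.BG147.coprime_card_Ks hG nb.pj.coatom nb.pj.hall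
      exact (Subgroup.disjoint_of_coprime_natCard hcop).eq_bot
    rw [nb.zeq, hZcard] at hcard2
    -- `d := |K ⊓ L_σ|` divides `|K|` properly
    have hd : Nat.card (Ks L (f L)) ∣ Nat.card K := by
      rw [nb.ksJ]; exact Subgroup.card_dvd_of_le inf_le_left
    obtain ⟨e, he⟩ := hd
    have hdpos : 0 < Nat.card (Ks L (f L)) := Nat.card_pos
    have he1 : e ≠ 1 := by
      intro h1'
      rw [h1', mul_one] at he
      have : K ⊓ sigmaCore L = K := by
        apply Subgroup.eq_of_le_of_card_ge inf_le_left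
        rw [← nb.ksJ, he]
      apply hnot
      rw [← this] at h1
      exact h1.trans inf_le_right
    have hfe : Nat.card (f L) = e * Nat.card (Ks M K) := by
      rw [he] at hcard2
      have : Nat.card (Ks L (f L)) * (e * Nat.card (Ks M K)) =
          Nat.card (Ks L (f L)) * Nat.card (f L) := by
        rw [← mul_assoc, hcard2, mul_comm]
      exact (Nat.eq_of_mul_eq_mul_left hdpos this).symm
    rw [hfe]
    apply Nat.not_prime_mul he1
    intro h1'
    exact hKs1 ((Subgroup.card_eq_one).mp h1')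
  -- the family
  set F : Set (Subgroup G × Subgroup G) := {p | p = (M, K) ∨ (IsHome p.1 ∧ p.2 = f p.1)} with hF
  have hMF : (M, K) ∈ F := Or.inl rfl
  have hLF : ∀ L, IsHome L → (L, f L) ∈ F := fun L hL => Or.inr ⟨hL, rfl⟩
  have hJM : ∀ L, IsHome L → L ≠ M := by
    intro L hL h
    have := (hf L hL).nc 1
    apply this
    rw [h]
    exact (Cfsg.Agent.Lib.Helper55.cj_one M).symm
  have hfam : PFam (K ⊔ Ks M K) F := by
    refine ⟨?_, ?_, ?_⟩
    · rintro p (rfl | ⟨hL, hp2⟩)
      · exact ⟨hp, rfl, hP1 M K hp hKnp⟩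
      · obtain ⟨L, KL⟩ := p
        simp only at hL hp2
        subst hp2
        have nb := hf L hL
        exact ⟨nb.pj, nb.zeq, hP1 L (f L) nb.pj (hfnp L hL)⟩
    · rintro p (rfl | ⟨hL, hp2⟩) q (rfl | ⟨hL', hq2⟩) hpq g
      · exact absurd rfl hpq
      · exact (hf q.1 hL').nc g
      · -- `M ≠ cj g L`
        intro h
        apply (hf p.1 hL).nc g⁻¹
        show p.1 = cjj g⁻¹ M
        have h' : M = cjj g p.1 := h
        rw [h']
        exact (Cfsg.Agent.Lib.Helper55.cj_inv_cj g p.1).symm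
      · obtain ⟨L, KL⟩ := p
        obtain ⟨L', KL'⟩ := q
        simp only at hL hp2 hL' hq2
        subst hp2 hq2
        have hLL' : L' ≠ L := by
          intro h
          apply hpq
          rw [h]
        intro h
        obtain ⟨hL'c, Y, h1, h2, h3⟩ := hL'
        have hX3 : Y ≤ sigmaCore L' := hB Y L' h1 h2 hL'c h3
        set r := Nat.card Y with hr
        haveI : Fact r.Prime := ⟨h2⟩
        have hrσ' : r ∈ sigma L' :=
          Cfsg.Agent.Lib.Helper71.BG11.sigmaCore_pi hG hL'c h2 (Subgroup.card_dvd_of_le hX3)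
        have hrσ : r ∈ sigma L := by
          have h4 := Cfsg.Agent.Lib.Helper31.BG12.mem_sigma_cj hrσ' g⁻¹
          have h5 : cjj g⁻¹ L' = L := by
            have h' : L' = cjj g L := h
            rw [h']; exact Cfsg.Agent.Lib.Helper55.cj_inv_cj g L
          rwa [h5] at h4
        have nb := hf L hL
        have hXL : Y ≤ L := by
          have : Y ≤ M ⊓ L := by
            rw [nb.inter]; exact h1.trans le_sup_left
          exact this.trans inf_le_right
        have hXp : IsPGroup r Y := IsPGroup.of_card (n := 1) (by rw [pow_one])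
        have hX4 : Y ≤ sigmaCore L :=
          Cfsg.Agent.Lib.Helper91.BG125.le_sigmaCore_of_mem_sigma hG nb.pj.coatom hrσ hXp hXL
        exact hLL' (hA L hL Y h1 h2 hX4 L' hL'c h3)
    · intro r hr hrZ
      rw [hZcard] at hrZ
      rcases (Nat.Prime.dvd_mul hr).mp hrZ with h | h
      · obtain ⟨Xr, hXrK, hXrc⟩ := exists_le_card_prime hr h
        have hXr1 : Xr ≠ ⊥ := by
          intro hb
          rw [hb, Subgroup.card_bot] at hXrc
          exact hr.one_lt.ne hXrc
        have hXrtop : Xr ≠ ⊤ := by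
          intro ht
          have : (⊤ : Subgroup G) ≤ M := ht ▸ (hXrK.trans hK.1)
          exact hM.1 (top_le_iff.mp this)
        obtain ⟨L, hLc, hLN⟩ :=
          Cfsg.Agent.Lib.Helper12.CNMaxSub.exists_coatom_normalizer_le hG hXr1 hXrtop
        have hXrp : (Nat.card Xr).Prime := hXrc ▸ hr
        have hLhome : IsHome L := ⟨hLc, Xr, hXrK, hXrp, hLN⟩
        refine ⟨(L, f L), hLF L hLhome, ?_⟩
        have nb := hf L hLhome
        have : Xr ≤ Ks L (f L) := by
          rw [nb.ksJ]; exact le_inf hXrK (hB Xr L hXrK hXrp hLc hLN)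
        rw [← hXrc]
        exact Subgroup.card_dvd_of_le this
      · exact ⟨(M, K), hMF, h⟩
  apply hFalse (K ⊔ Ks M K) F hfam
  refine ⟨(M, K), hMF, (J, f J), hLF J hJhome, ?_⟩
  intro h
  have : M = J := congrArg Prod.fst h
  exact hJM J hJhome this.symm


end Cfsg.Agent.Lib.Helper71.BG1366
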