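import Mathlib
import Cfsg.Agent.S1430
import Cfsg.Agent.S1431
import Cfsg.Agent.S1433
import Cfsg.Agent.S1377
import Cfsg.Agent.Lib.Helper11.BG144Glue
import Cfsg.Agent.Lib.Helper02.BG1310Final
import Cfsg.Agent.Lib.Helper31.BG147C
import Cfsg.Agent.Lib.Helper77.BG147N
import Cfsg.Agent.Lib.Helper54.BG134A3a
import Cfsg.Agent.Lib.Helper71.BG1366J
import Cfsg.Agent.Lib.Helper71.BG1366Cyc
import Cfsg.Agent.Lib.Helper68.BG1366A
import Cfsg.Agent.Lib.Helper62.BG1366B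
import Cfsg.Agent.Lib.Helper83.BG1366D
import Cfsg.Agent.Lib.Helper72.BG1366E
import Cfsg.Agent.Lib.Helper80.BG1366G
import Cfsg.Agent.Lib.Helper84.BG1366H
import Cfsg.Agent.Lib.Helper83.BG1366I
import Cfsg.Agent.Lib.Helper65.BG1366K
import Cfsg.Agent.Lib.Helper56.BG1366M
import Cfsg.Agent.Lib.Helper18.BG1366F
import Cfsg.Agent.Lib.Helper05.BG1366N
import Cfsg.Agent.Lib.Helper65.BG1366L
import Cfsg.Agent.Lib.Helper84.BG1366C1
import Cfsg.Agent.Lib.Helper71.BG1366C2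

/-!
# BG Theorem 14.7 (a)-(d): FINAL GLUE of the pack K-1366 (S1366, S1368, S1351).
-/

set_option autoImplicit false

namespace Cfsg.Agent.Lib.Helper71.BG1366

open Cfsg Subgroup Cfsg.Agent.Lib.Helper55 Cfsg.Agent.Lib.Helper11.BG14D Cfsg.Agent.Lib.Helper11.BG144
  Cfsg.Agent.Lib.Helper31.BG147

variable {G : Type*} [Group G] [Finite G]

theorem h30_main (hG : IsMinSimpleOddOrder G) : H1430 G :=
  fun M hM K hK hK1 => Cfsg.Agent.S1430.result hG M hM K hK hK1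

theorem h31_main (hG : IsMinSimpleOddOrder G) : H1431 G :=
  fun M hM K hK hK1 => Cfsg.Agent.S1431.result hG M hM K hK hK1

theorem h33_main (hG : IsMinSimpleOddOrder G) : H1433 G :=
  fun M N hM hN x y hx hy hx1 hy1 hxy => Cfsg.Agent.S1433.result hG M N hM hN x y hx hy hx1 hy1 hxy

theorem h77_main (hG : IsMinSimpleOddOrder G) : H1377 G :=
  fun M hM => Cfsg.Agent.S1377.result hG M hM

/-- the local theory of a home. -/
theorem nbr_main (hG : IsMinSimpleOddOrder G) {M K : Subgroup G} (hp : PPair M K) :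
    ∀ X J : Subgroup G, X ≤ K → (Nat.card X).Prime → IsCoatom J → normalizer (X : Set G) ≤ J →
      ∃ KJ : Subgroup G, Nbr M K J KJ ∧ X ≤ Ks J KJ := by
  intro X J hXK hXc hJ hNJ
  have h30 := h30_main hG
  have h31 := h31_main hG
  obtain ⟨hXJ, hnc, hdis, hZJ, -⟩ :=
    Cfsg.Agent.Lib.Helper68.BG1366.home_basic hG h30 hp hXK hXc hJ hNJ
  obtain ⟨KJ, hpj, hKs⟩ :=
    Cfsg.Agent.Lib.Helper62.BG1366.home_kappa hG h30 h31 hp hXK hXc hJ hXJ hnc hdis hZJ
  obtain ⟨h1, h2, h3⟩ :=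
    Cfsg.Agent.Lib.Helper84.BG1366.home_sigma_inf hG h30 h31 hp hXK hXc hJ hXJ hdis hZJ hpj hKs
  exact ⟨KJ, Cfsg.Agent.Lib.Helper71.BG1366.home_torus hG h30 h31 hp hXK hXc hJ hXJ hnc hdis hpj hKs
    h1 h2 h3⟩

/-- the count: no `P`-family with two members. -/
theorem pfam_false_main (hG : IsMinSimpleOddOrder G) :
    ∀ (Z : Subgroup G) (F : Set (Subgroup G × Subgroup G)), PFam Z F →
      (∃ p ∈ F, ∃ q ∈ F, p ≠ q) → False := by
  intro Z F hF h2
  have h30 := h30_main hG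
  have h31 := h31_main hG
  have h33 := h33_main hG
  have h77 := h77_main hG
  have hB := Cfsg.Agent.Lib.Helper11.BG144.hB_main hG
  have hC := Cfsg.Agent.Lib.Helper11.BG144.hC_main hG
  exact Cfsg.Agent.Lib.Helper83.BG1366.PFam.false hG h30 h31 h33 hF h2
    (fun M K z g hM hK hK1 hz hg =>
      Cfsg.Agent.Lib.Helper72.BG1366.zhat_conj_mem hG h31 hM hK hK1 hz hg)
    (fun J M K hJ hp =>
      Cfsg.Agent.Lib.Helper18.BG1366.tilde_disjoint_zhat hG h30 h31 hB hC hJ hp)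
    (fun Z J KJ hm => Cfsg.Agent.Lib.Helper80.BG1366.Mem.card_bound hG h30 h31 h77 hm)
    (fun s Z W hWZ hnorm hTI T c hdisj hdisjW hc hZW hT hn =>
      Cfsg.Agent.Lib.Helper84.BG1366.count_false s Z W hWZ hnorm hTI T c hdisj hdisjW hc hZW hT hn)

/-- the partner exists (with `M ⊓ M* = K K*`). -/
theorem partner_main (hG : IsMinSimpleOddOrder G) {M K : Subgroup G} (hp : PPair M K) :
    ∃ Mstar : Subgroup G, IsCoatom Mstar ∧
      K = sigmaCore Mstar ⊓ centralizer ((Ks M K : Subgroup G) : Set G) ∧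
      IsPiHallOf (kappa Mstar) (Ks M K) Mstar ∧ M ⊓ Mstar = K ⊔ Ks M K := by
  have h30 := h30_main hG
  have h31 := h31_main hG
  exact Cfsg.Agent.Lib.Helper65.BG1366.exists_partner hG h30 h31 hp (nbr_main hG hp)
    (fun X X' J J' hXK hXc hX'K hX'c hJ hNJ hJ' hNJ' =>
      uniq_home hG h30 h31 hp (nbr_main hG hp)
        (fun M K hp hnp => Cfsg.Agent.Lib.Helper83.BG1366.isP1_of_card_not_prime hG h30 hp hnp)
        (pfam_false_main hG) hXK hXc hX'K hX'c hJ hNJ hJ' hNJ')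

/-- **S1366** -/
theorem s1366_main (hG : IsMinSimpleOddOrder G) (M : Subgroup G) (hM : IsCoatom M) (K U : Subgroup G)
    (hKU : IsSigmaDecomposition M K U) (hK1 : K ≠ ⊥) :
    ∃! Mstar : Subgroup G, IsCoatom Mstar ∧
      K = sigmaCore Mstar ⊓ centralizer ((sigmaCore M ⊓ centralizer (K : Set G) : Subgroup G) : Set G) ∧
        IsPiHallOf (kappa Mstar) (sigmaCore M ⊓ centralizer (K : Set G)) Mstar := by
  have hp : PPair M K := ⟨hM, hKU.hall, hK1⟩
  have h30 := h30_main hG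
  have h31 := h31_main hG
  obtain ⟨Ms, hMs, hKst, hKstH, -⟩ := partner_main hG hp
  refine ⟨Ms, ⟨hMs, hKst, hKstH⟩, ?_⟩
  rintro L ⟨hL, hLst, hLH⟩
  have hKs1 : Ks M K ≠ ⊥ := hp.Ks_ne_bot hG h30
  -- a subgroup of prime order of `K`
  have hcK : Nat.card K ≠ 1 := fun h => hK1 ((Subgroup.card_eq_one).mp h)
  obtain ⟨X, hXK, hXc⟩ := exists_le_card_prime (Nat.minFac_prime hcK) (Nat.minFac_dvd (Nat.card K))
  have hXc' : (Nat.card X).Prime := hXc ▸ Nat.minFac_prime hcK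
  have hXL : X ≤ Ks L (Ks M K) := le_of_le_of_eq hXK hLst
  have hXMs : X ≤ Ks Ms (Ks M K) := le_of_le_of_eq hXK hKst
  have u1 := cent_uniq hG h31 hL hLH hKs1 hXL hXc'
  have u2 := cent_uniq hG h31 hMs hKstH hKs1 hXMs hXc'
  exact u2.2 L hL u1.1

/-- `K*` is abelian, for any partner. -/
theorem abelian_main (hG : IsMinSimpleOddOrder G) {M K Mstar : Subgroup G} (hp : PPair M K)
    (hMstar : IsCoatom Mstar)
    (hKst : K = sigmaCore Mstar ⊓ centralizer ((Ks M K : Subgroup G) : Set G))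
    (hKstH : IsPiHallOf (kappa Mstar) (Ks M K) Mstar) :
    (∀ a ∈ K, ∀ b ∈ K, a * b = b * a) ∧ (∀ a ∈ Ks M K, ∀ b ∈ Ks M K, a * b = b * a) :=
  Cfsg.Agent.Lib.Helper65.BG1366.partner_abelian hG (h30_main hG) (h31_main hG)
    (Cfsg.Agent.Lib.Helper02.BG1310.hd_main hG) hp hMstar hKst hKstH (pfam_false_main hG)

/-- **S1368** -/
theorem s1368_main (hG : IsMinSimpleOddOrder G) (M : Subgroup G) (hM : IsCoatom M) (K U : Subgroup G)
    (hKU : IsSigmaDecomposition M K U) (hK1 : K ≠ ⊥) (Mstar : Subgroup G) (hMstar : IsCoatom Mstar)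
    (hKst : K = sigmaCore Mstar ⊓
      centralizer ((sigmaCore M ⊓ centralizer (K : Set G) : Subgroup G) : Set G))
    (hKstH : IsPiHallOf (kappa Mstar) (sigmaCore M ⊓ centralizer (K : Set G)) Mstar) :
    M ⊓ Mstar = K ⊔ (sigmaCore M ⊓ centralizer (K : Set G)) ∧
      IsCyclic ↥(K ⊔ (sigmaCore M ⊓ centralizer (K : Set G))) := by
  have hp : PPair M K := ⟨hM, hKU.hall, hK1⟩
  have h30 := h30_main hG
  refine ⟨Cfsg.Agent.Lib.Helper05.BG1366.inter_partner hG h30 hp hMstar hKst hKstH, ?_⟩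
  have hab := (abelian_main hG hp hMstar hKst hKstH).2
  have hcyc : IsCyclic (Ks M K) :=
    Cfsg.Agent.Lib.Helper56.BG1366.isCyclic_of_comm_kappa hMstar hKstH.1 hKstH.2.1 hab
  exact isCyclic_sup_of_coprime hKU.cyclic hcyc inf_le_right
    (Cfsg.Agent.Lib.Helper77.BG147.coprime_card_Ks hG hM hKU.hall)

/-- **S1351** -/
theorem s1351_main (hG : IsMinSimpleOddOrder G) (M : Subgroup G) (hM : IsCoatom M) :
    (∃ K : Subgroup G, IsPiHallOf (kappa M) K M) ∧
      ∀ K : Subgroup G, IsPiHallOf (kappa M) K M → IsCyclic K := by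
  constructor
  · have hs : Group.IsSolvable ↥M := ms_solvable hG hM.1
    obtain ⟨L, hL, -⟩ := Cfsg.Agent.Lib.Helper54.BG134.exists_isPiHallOf_ge hs (kappa M)
      (bot_le : (⊥ : Subgroup G) ≤ M) (by
        intro p hp hpd
        rw [Subgroup.card_bot] at hpd
        exact absurd (Nat.dvd_one.mp hpd) hp.ne_one)
    exact ⟨L, hL⟩
  · intro K hK
    by_cases hK1 : K = ⊥
    · subst hK1
      infer_instance
    · have hp : PPair M K := ⟨hM, hK, hK1⟩
      obtain ⟨Ms, hMs, hKst, hKstH, -⟩ := partner_main hG hp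
      have hab := (abelian_main hG hp hMs hKst hKstH).1
      exact Cfsg.Agent.Lib.Helper56.BG1366.isCyclic_of_comm_kappa hM hK.1 hK.2.1 hab

end Cfsg.Agent.Lib.Helper71.BG1366
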