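import Mathlib
import Cfsg.Agent.S1350
import Cfsg.Agent.Lib.Helper31.FittingHall
import Cfsg.Agent.Lib.Helper32.BG151B
import Cfsg.Agent.Lib.Helper33.CNFrob
import Cfsg.Agent.Lib.Helper71.BG11a
import Cfsg.Agent.Lib.Helper55.Basic
import Cfsg.Agent.Lib.Helper01.Commutator

/-!
# K-1381-E1 `fittingHallOf_derived` (keystone 138105): `(M')_F = M_F` for type `P₂`.
-/

set_option autoImplicit false

namespace Cfsg.Agent.Lib.Helper71.BG1381

open Cfsg Subgroup Cfsg.Agent.Lib.Helper55

variable {G : Type*} [Group G] [Finite G]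

theorem card_mul_relIndex' {A B : Subgroup G} (h : A ≤ B) :
    Nat.card A * A.relIndex B = Nat.card B := by
  have := Subgroup.relIndex_mul_relIndex ⊥ A B bot_le h
  rwa [Subgroup.relIndex_bot_left, Subgroup.relIndex_bot_left] at this

/-- `fittingHallOf D` is nilpotent. -/
theorem isNilpotent_fittingHallOf (D : Subgroup G) : Group.IsNilpotent ↥(fittingHallOf D) := by
  haveI := Cfsg.Agent.Lib.Helper33.fittingHall_isNilpotent ↥D
  exact Group.nilpotent_of_mulEquiv
    (Subgroup.equivMapOfInjective (fittingHall ↥D) D.subtype D.subtype_injective)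

/-- `fittingHallOf D` is a Hall subgroup of `D`. -/
theorem coprime_fittingHallOf (D : Subgroup G) :
    (Nat.card (fittingHallOf D)).Coprime ((fittingHallOf D).relIndex D) := by
  have h := Cfsg.Agent.Lib.Helper31.fittingHall_coprime ↥D
  rw [Cfsg.Agent.Lib.Helper31.card_fittingHallOf]
  have h2 : (fittingHallOf D).relIndex D = (fittingHall ↥D).index := by
    unfold Subgroup.relIndex fittingHallOf
    rw [Subgroup.subgroupOf, Subgroup.comap_map_eq_self_of_injective D.subtype_injective]
  rw [h2]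
  exact h

/-- `fittingHallOf D` is normalized by everything normalizing `D`. -/
theorem le_normalizer_fittingHallOf_of_le {M D : Subgroup G} (hDn : M ≤ normalizer (D : Set G)) :
    M ≤ normalizer (fittingHallOf D : Set G) := by
  intro m hm
  have key : ∀ g : G, g ∈ normalizer (D : Set G) → cj g (fittingHallOf D) ≤ fittingHallOf D := by
    intro g hg
    have hgD : cj g D = D := cj_eq_self_iff.mpr hg
    have hFD : fittingHallOf D ≤ D := Cfsg.Agent.Lib.Helper31.fittingHallOf_le D
    have hle : cj g (fittingHallOf D) ≤ D := le_of_le_of_eq (cj_mono hFD) hgD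
    apply Cfsg.Agent.Lib.Helper32.BG151.le_fittingHallOf hle
    · have h1 : D ≤ normalizer (fittingHallOf D : Set G) :=
        Cfsg.Agent.Lib.Helper31.le_normalizer_fittingHallOf D
      have h2 := cj_mono (g := g) h1
      rwa [hgD, cj_normalizer] at h2
    · haveI := isNilpotent_fittingHallOf D
      exact Group.nilpotent_of_mulEquiv
        (Subgroup.equivMapOfInjective (fittingHallOf D) _ (MulAut.conj g).injective)
    · have hc := coprime_fittingHallOf D
      have e1 := card_mul_relIndex' hFD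
      have e2 := card_mul_relIndex' hle
      rw [card_cj] at e2 ⊢
      have hpos : 0 < Nat.card (fittingHallOf D) := Nat.card_pos
      have : (cj g (fittingHallOf D)).relIndex D = (fittingHallOf D).relIndex D :=
        Nat.eq_of_mul_eq_mul_left hpos (e2.trans e1.symm)
      rw [this]
      exact hc
  apply cj_eq_self_iff.mp
  apply le_antisymm (key m (hDn hm))
  have h := key m⁻¹ (Subgroup.inv_mem _ (hDn hm))
  have h2 := cj_mono (g := m) h
  rwa [cj_cj_inv] at h2

theorem fittingHallOf_derived (hG : IsMinSimpleOddOrder G) {M K U : Subgroup G} (hM : IsCoatom M)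
    (hKU : IsSigmaDecomposition M K U) (hp : (Nat.card K).Prime)
    (hnil : Group.IsNilpotent (sigmaCore M)) (hF : fittingHallOf M = sigmaCore M)
    (hd : ⁅M, M⁆ = U ⊔ sigmaCore M) (hcompl : IsComplIn ⁅M, M⁆ K M) :
    fittingHallOf ⁅M, M⁆ = fittingHallOf M := by
  have hDM : ⁅M, M⁆ ≤ M := hcompl.1
  have hσD : sigmaCore M ≤ ⁅M, M⁆ := hd ▸ le_sup_right
  have hσM : sigmaCore M ≤ M := Cfsg.Agent.Lib.Helper71.BG11.sigmaCore_le M
  have hHall := (Cfsg.Agent.S1350.result hG M hM).1
  apply le_antisymm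
  · -- `(M')_F ≤ M_F`
    have hFD : fittingHallOf ⁅M, M⁆ ≤ ⁅M, M⁆ := Cfsg.Agent.Lib.Helper31.fittingHallOf_le _
    apply Cfsg.Agent.Lib.Helper32.BG151.le_fittingHallOf (hFD.trans hDM)
    · exact le_normalizer_fittingHallOf_of_le (Cfsg.Agent.Lib.Helper01.le_normalizer_commutator_left M M)
    · exact isNilpotent_fittingHallOf _
    · -- coprime
      have hc := coprime_fittingHallOf ⁅M, M⁆
      have hidx : (fittingHallOf ⁅M, M⁆).relIndex M
          = (fittingHallOf ⁅M, M⁆).relIndex ⁅M, M⁆ * (⁅M, M⁆).relIndex M :=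
        (Subgroup.relIndex_mul_relIndex _ _ _ hFD hDM).symm
      have hDK : Nat.card ↥⁅M, M⁆ * Nat.card K = Nat.card M :=
        Cfsg.Agent.Lib.Helper31.IsComplIn.card_mul hcompl
      have hDi : (⁅M, M⁆).relIndex M = Nat.card K := by
        have e1 := card_mul_relIndex' hDM
        have hpos : 0 < Nat.card ↥⁅M, M⁆ := Nat.card_pos
        exact Nat.eq_of_mul_eq_mul_left hpos (e1.trans hDK.symm)
      have hKi : K.relIndex M = Nat.card ↥⁅M, M⁆ := by
        have e1 := card_mul_relIndex' hKU.hall.1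
        have hpos : 0 < Nat.card K := Nat.card_pos
        apply Nat.eq_of_mul_eq_mul_left hpos
        rw [e1, ← hDK, mul_comm]
      have hpκ : Nat.card K ∈ kappa M := hKU.hall.2.1 _ hp dvd_rfl
      have hpD : ¬ Nat.card K ∣ Nat.card ↥⁅M, M⁆ := by
        rw [← hKi]
        exact hKU.hall.2.2 _ hp hpκ
      have hpF : ¬ Nat.card K ∣ Nat.card (fittingHallOf ⁅M, M⁆) := fun h =>
        hpD (h.trans (Subgroup.card_dvd_of_le hFD))
      rw [hidx, hDi]
      exact Nat.Coprime.mul_right hc ((Nat.Prime.coprime_iff_not_dvd hp).mpr hpF).symm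
  · -- `M_F = M_σ ≤ (M')_F`
    rw [hF]
    apply Cfsg.Agent.Lib.Helper32.BG151.le_fittingHallOf hσD
    · exact hDM.trans (Cfsg.Agent.Lib.Helper71.BG11.le_normalizer_sigmaCore M)
    · exact hnil
    · have h1 : (sigmaCore M).relIndex ⁅M, M⁆ ∣ (sigmaCore M).relIndex M :=
        Dvd.intro _ (Subgroup.relIndex_mul_relIndex _ _ _ hσD hDM)
      apply Nat.Coprime.coprime_dvd_right h1
      apply Nat.coprime_of_dvd
      intro q hq hq1 hq2
      exact hHall.2.2 q hq (hHall.2.1 q hq hq1) hq2

end Cfsg.Agent.Lib.Helper71.BG1381
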