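import Mathlib
import Cfsg.Agent.Lib.Helper73.RUDefs
import Cfsg.Agent.Lib.Helper73.RUHub
import Cfsg.Agent.Lib.Helper02.RU4Defs

set_option autoImplicit false
set_option linter.unusedVariables false

/-! # K-RU4 leaf K (S2279): the `c_k`, `k ≤ m+1`, span `{x | x 0 = 0}` -/

namespace Cfsg.Agent.Lib.Helper71.RU4

open Matrix Cfsg.Agent.Lib.Helper73.RU Cfsg.Agent.Lib.Helper73.RUSpec Cfsg.Agent.Lib.Helper02.RU4

theorem k_ck_apply {m : ℕ} {F : Type*} [Field F]
    (hH : ∀ (k : ℕ) (i j : Fin (m + 3)),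
      (aMat m F ^ k) i j = if i.val ≤ j.val then ((Nat.choose k (j.val - i.val) : ℕ) : F) else 0)
    (k : ℕ) (i : Fin (m + 3)) : ck m F k i = ((Nat.choose k (m + 2 - i.val) : ℕ) : F) := by
  unfold ck
  rw [mulVec_single_one]
  simp only [Matrix.col_apply]
  rw [hH, if_pos (by have := i.isLt; simp; omega)]
  simp

theorem tri_fill {m : ℕ} {F : Type*} [Field F]
    (hH : ∀ (k : ℕ) (i j : Fin (m + 3)),
      (aMat m F ^ k) i j = if i.val ≤ j.val then ((Nat.choose k (j.val - i.val) : ℕ) : F) else 0)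
    (M : Set (Fin (m + 3) → F)) (h0 : (0 : Fin (m + 3) → F) ∈ M)
    (hadd : ∀ v w, v ∈ M → w ∈ M → v + w ∈ M) (hneg : ∀ v, v ∈ M → -v ∈ M)
    (hck : ∀ k, k ≤ m + 1 → ∀ s : F, s • ck m F k ∈ M) :
    ∀ x : Fin (m + 3) → F, x 0 = 0 → x ∈ M := by
  have key : ∀ t : ℕ, t ≤ m + 2 → ∀ x : Fin (m + 3) → F,
      (∀ i : Fin (m + 3), i.val < m + 3 - t → x i = 0) → x ∈ M := by
    intro t
    induction t with
    | zero =>
      intro _ x hx
      have : x = 0 := by
        ext i
        exact hx i (by have := i.isLt; omega)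
      rw [this]; exact h0
    | succ t ih =>
      intro ht x hx
      have hi₀ : m + 2 - t < m + 3 := by omega
      have hx' : ∀ i : Fin (m + 3), i.val < m + 3 - t →
          (x - x ⟨m + 2 - t, hi₀⟩ • ck m F t) i = 0 := by
        intro i hi
        rw [Pi.sub_apply, Pi.smul_apply, k_ck_apply hH, smul_eq_mul]
        rcases Nat.lt_or_ge i.val (m + 2 - t) with h | h
        · rw [hx i (by omega), Nat.choose_eq_zero_of_lt (by omega)]
          simp
        · have hival : i.val = m + 2 - t := by omega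
          have hieq : i = ⟨m + 2 - t, hi₀⟩ := Fin.ext hival
          have h3 : m + 2 - i.val = t := by omega
          rw [h3, Nat.choose_self, ← hieq]
          simp
      have h1 := ih (by omega) _ hx'
      have h2 := hck t (by omega) (x ⟨m + 2 - t, hi₀⟩)
      have := hadd _ _ h1 h2
      rwa [sub_add_cancel] at this
  intro x hx0
  refine key (m + 2) le_rfl x ?_
  intro i hi
  have hi0 : i.val = 0 := by omega
  have : i = 0 := Fin.ext (by rw [hi0]; rfl)
  rw [this]; exact hx0

end Cfsg.Agent.Lib.Helper71.RU4
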