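import Mathlib

set_option autoImplicit false

namespace Cfsg.Agent.Lib.Helper71

/-- In a finite cyclic group, the elements with `ω ^ p = 1` all lie in the subgroup generated by
any element of order `p`. -/
theorem mem_zpowers_of_pow_eq_one {A : Type*} [Group A] [Finite A] [IsCyclic A] (p : ℕ)
    (hp : 0 < p) (z ω : A) (hz : orderOf z = p) (hω : ω ^ p = 1) : ω ∈ Subgroup.zpowers z := by
  classical
  have := Fintype.ofFinite A
  set F : Finset A := Finset.univ.filter (fun a => a ^ p = 1) with hF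
  have hFcard : F.card ≤ p := IsCyclic.card_pow_eq_one_le hp
  set Zf : Finset A := (Set.toFinite (Subgroup.zpowers z : Set A)).toFinset with hZf
  have hsub : Zf ⊆ F := by
    intro a ha
    rw [hZf, Set.Finite.mem_toFinset] at ha
    obtain ⟨i, rfl⟩ := Subgroup.mem_zpowers_iff.mp ha
    rw [hF, Finset.mem_filter]
    refine ⟨Finset.mem_univ _, ?_⟩
    rw [← zpow_natCast, ← zpow_mul, mul_comm, zpow_mul, zpow_natCast, ← hz, pow_orderOf_eq_one,
      one_zpow]
  have hZcard : Zf.card = p := by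
    rw [← hz, ← Nat.card_zpowers, ← Set.ncard_coe_finset, hZf, Set.Finite.coe_toFinset]
    rfl
  have heq : Zf = F := Finset.eq_of_subset_of_card_le hsub (by rw [hZcard]; exact hFcard)
  have hωF : ω ∈ F := by
    rw [hF, Finset.mem_filter]; exact ⟨Finset.mem_univ _, hω⟩
  rw [← heq, hZf, Set.Finite.mem_toFinset] at hωF
  exact hωF

/-- In a finite cyclic `p`-group, an element with `ω ^ p = 1` is a power of any non-identity
element. -/
theorem mem_zpowers_of_pow_eq_one_of_ne_one {A : Type*} [Group A] [Finite A] [IsCyclic A] (p : ℕ)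
    [hpf : Fact p.Prime] (hA : IsPGroup p A) (x ω : A) (hx : x ≠ 1) (hω : ω ^ p = 1) :
    ω ∈ Subgroup.zpowers x := by
  have hp : p.Prime := hpf.out
  obtain ⟨j, hj⟩ := (IsPGroup.iff_orderOf.mp hA) x
  have hj0 : j ≠ 0 := by
    rintro rfl
    rw [pow_zero, orderOf_eq_one_iff] at hj
    exact hx hj
  obtain ⟨i, rfl⟩ : ∃ i, j = i + 1 := ⟨j - 1, by omega⟩
  set z := x ^ p ^ i with hz
  have hzord : orderOf z = p := by
    rw [hz, orderOf_pow_of_dvd (pow_pos hp.pos i).ne' (by rw [hj]; exact pow_dvd_pow p (Nat.le_succ i)),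
      hj, pow_succ, Nat.mul_div_cancel_left _ (pow_pos hp.pos i)]
  have h1 := mem_zpowers_of_pow_eq_one p hp.pos z ω hzord hω
  have h2 : Subgroup.zpowers z ≤ Subgroup.zpowers x :=
    Subgroup.zpowers_le.mpr (Subgroup.npow_mem_zpowers x _)
  exact h2 h1

end Cfsg.Agent.Lib.Helper71
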