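import Mathlib
import Cfsg.Agent.S1350
import Cfsg.Agent.Lib.Helper31.FittingHall
import Cfsg.Agent.Lib.Helper71.BG11a
import Cfsg.Agent.Lib.Helper55.Basic

/-!
# K-1381-G `normalizer_le_of_typeP` (keystone 138108)
If `M' = M_σ`, the nilpotent complement `U'` of `M_F` in `M'` has `N_G(U') ≤ M`.
-/

set_option autoImplicit false

namespace Cfsg.Agent.Lib.Helper71.BG1381

open Cfsg Subgroup Cfsg.Agent.Lib.Helper55

variable {G : Type*} [Group G] [Finite G]

/-- a subgroup of `M` whose order is the full `r`-part of `|M|`, for `r ∈ σ(M)`, has its normalizer in `M`. -/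
theorem normalizer_le_of_card_eq {M Q : Subgroup G} {r : ℕ} [Fact r.Prime] (hr : r ∈ sigma M)
    (hQM : Q ≤ M) (hQc : Nat.card Q = r ^ (Nat.card M).factorization r) :
    normalizer (Q : Set G) ≤ M := by
  obtain ⟨-, -, P₀, hP₀⟩ := hr
  have hc : Nat.card (Q.subgroupOf M) = r ^ (Nat.card M).factorization r := by
    rw [Nat.card_congr (Subgroup.subgroupOfEquivOfLe hQM).toEquiv, hQc]
  let Q' : Sylow r ↥M := Sylow.ofCard (Q.subgroupOf M) hc
  obtain ⟨m, hm⟩ := MulAction.exists_smul_eq ↥M P₀ Q'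
  -- `Q = m P₀ m⁻¹`
  have hQ'map : (Q' : Subgroup ↥M).map M.subtype = Q := by
    show (Q.subgroupOf M).map M.subtype = Q
    rw [Subgroup.map_subgroupOf_eq_of_le hQM]
  have hcj : cj (m : G) ((P₀ : Subgroup ↥M).map M.subtype) = Q := by
    rw [← hQ'map, ← hm]
    ext x
    constructor
    · rintro ⟨y, ⟨z, hz, rfl⟩, rfl⟩
      refine ⟨m * z * m⁻¹, ?_, ?_⟩
      · rw [Sylow.coe_subgroup_smul]
        exact ⟨z, hz, by simp [MulAut.conj_apply]⟩
      · simp
    · rintro ⟨y, hy, rfl⟩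
      rw [Sylow.coe_subgroup_smul] at hy
      obtain ⟨z, hz, rfl⟩ := hy
      refine ⟨(z : G), ⟨z, hz, rfl⟩, ?_⟩
      simp [MulAut.conj_apply]
  rw [← hcj, ← cj_normalizer]
  intro x hx
  obtain ⟨y, hy, rfl⟩ := hx
  have hyM : y ∈ M := hP₀ hy
  exact M.mul_mem (M.mul_mem m.2 hyM) (M.inv_mem m.2)

theorem normalizer_le_of_typeP (hG : IsMinSimpleOddOrder G) {M W₁ U' W₂ : Subgroup G} (hM : IsCoatom M)
    (h : IsTypePWith M W₁ U' W₂) (hd : ⁅M, M⁆ = sigmaCore M) (hU' : U' ≠ ⊥) :
    normalizer (U' : Set G) ≤ M := by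
  classical
  have hcompl : IsComplIn (fittingHallOf M) U' (sigmaCore M) := hd ▸ h.U_compl
  obtain ⟨hFD, hU'D, hinf, hprod⟩ := hcompl
  have hσM : sigmaCore M ≤ M := Cfsg.Agent.Lib.Helper71.BG11.sigmaCore_le M
  have hcardmul : Nat.card (fittingHallOf M) * Nat.card U' = Nat.card (sigmaCore M) :=
    Cfsg.Agent.Lib.Helper31.IsComplIn.card_mul ⟨hFD, hU'D, hinf, hprod⟩
  have hcop : (Nat.card (fittingHallOf M)).Coprime (Nat.card U') :=
    Cfsg.Agent.Lib.Helper31.coprime_card_of_isComplIn_fittingHallOf hσM ⟨hFD, hU'D, hinf, hprod⟩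
  -- a prime `r ∣ |U'|`
  have hc1 : Nat.card U' ≠ 1 := fun h1 => hU' (Subgroup.card_eq_one.mp h1)
  obtain ⟨r, hr, hrU⟩ := Nat.exists_prime_and_dvd hc1
  haveI : Fact r.Prime := ⟨hr⟩
  have hrσc : r ∣ Nat.card (sigmaCore M) := hcardmul ▸ (hrU.mul_left _)
  have hrσ : r ∈ sigma M := Cfsg.Agent.Lib.Helper71.BG11.sigmaCore_pi hG hM hr hrσc
  have hrF : ¬ r ∣ Nat.card (fittingHallOf M) := fun hdv =>
    Nat.not_coprime_of_dvd_of_dvd hr.one_lt hdv hrU hcop
  have hHall := (Cfsg.Agent.S1350.result hG M hM).1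
  have hri : ¬ r ∣ (sigmaCore M).relIndex M := hHall.2.2 r hr hrσ
  -- factorizations
  have hposF : Nat.card (fittingHallOf M) ≠ 0 := Nat.card_pos.ne'
  have hposU : Nat.card U' ≠ 0 := Nat.card_pos.ne'
  have hposσ : Nat.card (sigmaCore M) ≠ 0 := Nat.card_pos.ne'
  have hposi : (sigmaCore M).relIndex M ≠ 0 := by
    intro h0
    have := Subgroup.relIndex_mul_relIndex ⊥ (sigmaCore M) M bot_le hσM
    rw [h0, mul_zero, Subgroup.relIndex_bot_left] at this
    exact (Nat.card_pos (α := ↥M)).ne' this.symm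
  have hf1 : (Nat.card (sigmaCore M)).factorization r = (Nat.card U').factorization r := by
    rw [← hcardmul, Nat.factorization_mul hposF hposU, Finsupp.add_apply,
      Nat.factorization_eq_zero_of_not_dvd hrF, zero_add]
  have hM_card : Nat.card (sigmaCore M) * (sigmaCore M).relIndex M = Nat.card M := by
    have := Subgroup.relIndex_mul_relIndex ⊥ (sigmaCore M) M bot_le hσM
    rwa [Subgroup.relIndex_bot_left, Subgroup.relIndex_bot_left] at this
  have hf2 : (Nat.card M).factorization r = (Nat.card U').factorization r := by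
    rw [← hM_card, Nat.factorization_mul hposσ hposi, Finsupp.add_apply,
      Nat.factorization_eq_zero_of_not_dvd hri, add_zero, hf1]
  -- the Sylow `r`-subgroup of `U'`
  obtain ⟨P⟩ : Nonempty (Sylow r ↥U') := inferInstance
  set Q : Subgroup G := (P : Subgroup ↥U').map U'.subtype with hQ
  have hQU : Q ≤ U' := Subgroup.map_subtype_le _
  have hQc : Nat.card Q = r ^ (Nat.card M).factorization r := by
    rw [hf2, hQ, Subgroup.card_subtype]
    exact P.card_eq_multiplicity
  have hNQ : normalizer (Q : Set G) ≤ M :=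
    normalizer_le_of_card_eq hrσ (hQU.trans (hU'D.trans hσM)) hQc
  -- `N_G(U') ≤ N_G(Q)`: the Sylow subgroup of the nilpotent `U'` is unique
  refine le_trans ?_ hNQ
  intro g hg
  have hgU : cj g U' = U' := cj_eq_self_iff.mpr hg
  haveI : Group.IsNilpotent ↥U' := h.U_nilpotent
  have hPn : (P : Subgroup ↥U').Normal := inferInstance
  apply cj_eq_self_iff.mp
  -- `cj g Q ≤ U'` has the order of `P`
  have hle : cj g Q ≤ U' := by rw [← hgU]; exact cj_mono hQU
  have hc2 : Nat.card ((cj g Q).subgroupOf U') = r ^ (Nat.card ↥U').factorization r := by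
    rw [Nat.card_congr (Subgroup.subgroupOfEquivOfLe hle).toEquiv, card_cj, hQ, Subgroup.card_subtype]
    exact P.card_eq_multiplicity
  let P' : Sylow r ↥U' := Sylow.ofCard ((cj g Q).subgroupOf U') hc2
  haveI : Unique (Sylow r ↥U') := Sylow.unique_of_normal P hPn
  have hPP : P' = P := Subsingleton.elim _ _
  have : ((cj g Q).subgroupOf U').map U'.subtype = (P : Subgroup ↥U').map U'.subtype := by
    have h1 : (P' : Subgroup ↥U') = (cj g Q).subgroupOf U' := rfl
    rw [← h1, hPP]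
  rw [Subgroup.map_subgroupOf_eq_of_le hle] at this
  exact this

end Cfsg.Agent.Lib.Helper71.BG1381
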