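import Mathlib
import Cfsg.Agent.S1365
import Cfsg.Agent.Lib.Helper39.BG1381F
import Cfsg.Agent.Lib.Helper71.BG1381G

/-!
# S1381, direction `⇒`: a maximal subgroup of type II has `K ≠ 1` and `U ≠ 1` (pack K-1381).
-/

set_option autoImplicit false

namespace Cfsg.Agent.Lib.Helper71.BG1381

open Cfsg Subgroup

variable {G : Type*} [Group G] [Finite G]

/-- `K ≠ ⊥` as soon as `κ(M) ≠ ∅`, for a Hall `κ(M)`-subgroup `K`. -/
theorem ne_bot_of_kappa_nonempty {M K : Subgroup G} (hK : IsPiHallOf (kappa M) K M)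
    (h : (kappa M).Nonempty) : K ≠ ⊥ := by
  obtain ⟨p, hp⟩ := h
  intro hK1
  have hpp : p.Prime := hp.1
  have hpM : p ∣ Nat.card M := hp.2.1
  have hnd : ¬ p ∣ K.relIndex M := hK.2.2 p hpp hp
  apply hnd
  rw [hK1, Subgroup.relIndex_bot_left]
  exact hpM

/-- `⇒` of S1381. -/
theorem of_typeII (hG : IsMinSimpleOddOrder G) {M K U : Subgroup G} (hM : IsCoatom M)
    (hKU : IsSigmaDecomposition M K U) (h : IsOfTypeII M) : K ≠ ⊥ ∧ U ≠ ⊥ := by
  obtain ⟨W₁, U', W₂, hP, hU'1, -, -, -, hN, -, -⟩ := h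
  have hκ := Cfsg.Agent.Lib.Helper39.BG1381.kappa_nonempty_of_typeP hG hM hP
  have hK1 : K ≠ ⊥ := ne_bot_of_kappa_nonempty hKU.hall hκ
  refine ⟨hK1, ?_⟩
  intro hU
  subst hU
  obtain ⟨hd, -⟩ := Cfsg.Agent.S1365.result hG M hM K ⊥ hKU hK1
  rw [bot_sup_eq] at hd
  exact hN (normalizer_le_of_typeP hG hM hP hd hU'1)

end Cfsg.Agent.Lib.Helper71.BG1381
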