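import Mathlib
import Cfsg.Agent.S1432
import Cfsg.Agent.Lib.Helper55.Basic
import Cfsg.Agent.Lib.Helper55.Uniq3

/-!
# K-1436-F `fpf` (keystone 143608).
-/

set_option autoImplicit false

namespace Cfsg.Agent.Lib.Helper71.BG1436

open Cfsg Subgroup Cfsg.Agent.Lib.Helper55

variable {G : Type*} [Group G] [Finite G]

theorem fpf (hG : IsMinSimpleOddOrder G) {M N : Subgroup G} (hM : IsCoatom M) (hN : IsCoatom N)
    (hnc : ∀ g : G, N.map (MulAut.conj g).toMonoidHom ≠ M) (hkM : kappa M = ∅)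
    {p : ℕ} (hpp : p.Prime) (hpM : p ∉ sigma M) {a : G} (haM : a ∈ M) (ha : orderOf a = p)
    (hC : ∃ g : G, centralizer ({a} : Set G) ≤ N.map (MulAut.conj g).toMonoidHom)
    {y : G} (hy : y ∈ sigmaCore M) (hy1 : y ≠ 1) (hc : a * y = y * a) : False := by
  have ha1 : a ≠ 1 := by
    intro h
    rw [h, orderOf_one] at ha
    exact hpp.ne_one ha.symm
  have hacent : a ∈ M ⊓ centralizer ({y} : Set G) := by
    refine Subgroup.mem_inf.mpr ⟨haM, ?_⟩
    rw [Subgroup.mem_centralizer_iff]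
    intro h hh
    rw [Set.mem_singleton_iff] at hh
    subst hh
    exact hc.symm
  have hσ : ∀ p' : ℕ, p'.Prime → p' ∣ orderOf a → p' ∉ sigma M := by
    intro p' hp' hd
    rw [ha] at hd
    rw [(Nat.prime_dvd_prime_iff_eq hp' hpp).mp hd]
    exact hpM
  rcases Cfsg.Agent.S1432.result hG M hM y hy hy1 a hacent ha1 hσ with ⟨h1, -⟩ | ⟨-, -, -, h2⟩
  · have : p ∈ kappa M := h1 p hpp (by rw [ha])
    rw [hkM] at this
    exact this
  · obtain ⟨g, hg⟩ := hC
    have hcoat : IsCoatom (N.map (MulAut.conj g).toMonoidHom) := isCoatom_cj g hN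
    exact hnc g (h2 _ hcoat hg)

end Cfsg.Agent.Lib.Helper71.BG1436
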