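import Mathlib
import Cfsg.Agent.Lib.Helper10.BG1436R
import Cfsg.Agent.Lib.Helper11.BG1436B
import Cfsg.Agent.Lib.Helper11.BG1436C
import Cfsg.Agent.Lib.Helper11.BG1436D
import Cfsg.Agent.Lib.Helper11.BG1436K
import Cfsg.Agent.Lib.Helper11.BG1436S
import Cfsg.Agent.Lib.Helper31.BG1436T
import Cfsg.Agent.Lib.Helper39.BG1436Q
import Cfsg.Agent.Lib.Helper64.BG1436P
import Cfsg.Agent.Lib.Helper71.BG1436F

/-!
# S1436 (BG Lemma 15.9): FINAL GLUE of the pack K-1436.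
-/

set_option autoImplicit false

namespace Cfsg.Agent.Lib.Helper71.BG1436

open Cfsg Subgroup

variable {G : Type*} [Group G] [Finite G]

/-- Clause (a) when `κ(N) = ∅`. -/
theorem partA_of_kappa_empty (hG : IsMinSimpleOddOrder G) {M N : Subgroup G} (hM : IsCoatom M) (hN : IsCoatom N)
    {x : G} (hx : x ∈ sigmaCore M) (hx1 : x ≠ 1) (hxM : ¬ centralizer ({x} : Set G) ≤ M)
    (hxN : centralizer ({x} : Set G) ≤ N) (hkN : kappa N = ∅)
    {p : ℕ} (hp : p ∈ sigma N) (hpM : p ∣ Nat.card M) : kappa M = ∅ ∧ tau2 M = ∅ := by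
  obtain ⟨x', hx', hq, hx'M, hx'N⟩ :=
    Cfsg.Agent.Lib.Helper64.BG1436.exists_prime_order hG hM hN hx hx1 hxM hxN
  have hx'1 : x' ≠ 1 := by
    intro h
    rw [h, orderOf_one] at hq
    exact Nat.not_prime_one hq
  obtain ⟨hnil, hcompl, hR, hnc, hdisj⟩ :=
    Cfsg.Agent.Lib.Helper11.BG1436.facts hG hM hN hx' hx'1 hx'M hx'N
  have hkM : kappa M = ∅ :=
    Cfsg.Agent.Lib.Helper11.BG1436.kappa_eq_empty hG hM hN hx' hx'1 hx'M hx'N hdisj hkN hp hpM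
  have hqN : orderOf x' ∈ tau2 N :=
    Cfsg.Agent.Lib.Helper39.BG1436.mem_tau2_of_prime hG hM hN hx' hx'1 hx'N hdisj hR hkN hq
  have hβ : ∀ p' : ℕ, p' ∈ sigma N → p' ∣ Nat.card M → p' ∈ beta N := fun p' hp' hp'M =>
    Cfsg.Agent.Lib.Helper11.BG1436.mem_beta hG hM hN hx' hx'1 hx'M hx'N hnil hcompl hdisj hq hqN hp' hp'M
  have hC : ∀ p' : ℕ, p' ∈ sigma N → p' ∣ Nat.card M → ∀ a : G, orderOf a = p' →
      ∃ g : G, a ∈ sigmaCore (N.map (MulAut.conj g).toMonoidHom) ∧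
        centralizer ({a} : Set G) ≤ N.map (MulAut.conj g).toMonoidHom := by
    intro p' hp' hp'M a ha
    obtain ⟨g, h1, h2, -⟩ :=
      Cfsg.Agent.Lib.Helper11.BG1436.cent_unique hG hN hp' (hβ p' hp' hp'M) ha
    exact ⟨g, h1, h2⟩
  have hF : ∀ p' : ℕ, p' ∈ sigma N → p' ∣ Nat.card M → ∀ a ∈ M, orderOf a = p' →
      ∀ y ∈ sigmaCore M, y ≠ 1 → a * y = y * a → False := by
    intro p' hp' hp'M a haM ha y hy hy1 hc
    obtain ⟨g, -, h2⟩ := hC p' hp' hp'M a ha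
    exact Cfsg.Agent.Lib.Helper71.BG1436.fpf hG hM hN hnc hkM hp'.1 (hdisj p' hp') haM ha ⟨g, h2⟩ hy hy1 hc
  have hσ1 : sigmaCore M ≠ ⊥ := by
    intro h
    rw [h, Subgroup.mem_bot] at hx
    exact hx1 hx
  have hR' : ∀ p' : ℕ, p' ∈ sigma N → p' ∣ Nat.card M → p' ∉ tau2 M := fun p' hp' hp'M =>
    Cfsg.Agent.Lib.Helper10.BG1436.not_mem_tau2 hG hM hσ1 (hF p' hp' hp'M)
  exact ⟨hkM, Cfsg.Agent.Lib.Helper31.BG1436.tau2_eq_empty hG hM hN hx hx1 hnc hdisj hkN hkM hC hF hR' hp hpM⟩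

/-- **S1436**, with the `P₂` case (`κ(N) ≠ ∅`, from the pack of S1376) as a hypothesis. -/
theorem s1436_of (hG : IsMinSimpleOddOrder G) (M : Subgroup G) (hM : IsCoatom M) (x : G)
    (hx : x ∈ sigmaCore M) (hx1 : x ≠ 1) (hxM : ¬ centralizer ({x} : Set G) ≤ M)
    (N : Subgroup G) (hN : IsCoatom N) (hxN : centralizer ({x} : Set G) ≤ N)
    (h76 : (kappa N).Nonempty → kappa M = ∅ ∧ tau2 M = ∅) :
    ((∃ p ∈ sigma N, p ∣ Nat.card M) → kappa M = ∅ ∧ tau2 M = ∅) ∧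
      ∀ (y : G) (N' : Subgroup G) (g : G), y ∈ sigmaCore M → y ≠ 1 → ¬ centralizer ({y} : Set G) ≤ M →
        IsCoatom N' → centralizer ({y} : Set G) ≤ N' →
        N'.map (MulAut.conj g).toMonoidHom = N → ∃ m ∈ M, N'.map (MulAut.conj m).toMonoidHom = N := by
  refine ⟨?_, ?_⟩
  · rintro ⟨p, hp, hpM⟩
    by_cases hkN : (kappa N).Nonempty
    · exact h76 hkN
    · rw [Set.not_nonempty_iff_eq_empty] at hkN
      exact partA_of_kappa_empty hG hM hN hx hx1 hxM hxN hkN hp hpM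
  · intro y N' g hy hy1 hyM hN' hyN' hg
    exact Cfsg.Agent.Lib.Helper11.BG1436.conj_in_M hG hM hN hx hx1 hxM hxN y N' g hy hy1 hyM hN' hyN' hg

end Cfsg.Agent.Lib.Helper71.BG1436
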