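import Mathlib
import Cfsg.Agent.Lib.Helper55.Basic
import Cfsg.Agent.Lib.Helper68.BG144G2
import Cfsg.Agent.Lib.Helper74.BG1379V8
import Cfsg.Agent.Lib.Helper01.BG134CJ

/-!
# K-1436: transporting a cyclic complement of `M_σ` and `κ = ∅` along a conjugation
(adapter between the pack of S1376, which works in `cj c M`, and the glue of S1436).
-/

set_option autoImplicit false

namespace Cfsg.Agent.Lib.Helper71.BG1436

open Cfsg Subgroup Cfsg.Agent.Lib.Helper55

variable {G : Type*} [Group G] [Finite G]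

theorem isComplIn_cj' {A B M : Subgroup G} (g : G) (h : IsComplIn A B M) :
    IsComplIn (cj g A) (cj g B) (cj g M) := by
  obtain ⟨hA, hB, hAB, hm⟩ := h
  refine ⟨cj_mono hA, cj_mono hB, ?_, ?_⟩
  · rw [← cj_inf, hAB, cj_bot]
  · intro m hmM
    rw [mem_cj] at hmM
    obtain ⟨a, ha, b, hb, hab⟩ := hm _ hmM
    refine ⟨g * a * g⁻¹, conj_mem_cj ha, g * b * g⁻¹, conj_mem_cj hb, ?_⟩
    have : m = g * (g⁻¹ * m * g) * g⁻¹ := by group
    rw [this, hab]
    group

theorem kappa_eq_empty_of_cj (hG : IsMinSimpleOddOrder G) {M : Subgroup G} (hM : IsCoatom M) (c : G)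
    (h : kappa (cj c M) = ∅) : kappa M = ∅ := by
  rw [Set.eq_empty_iff_forall_notMem] at h ⊢
  intro q hq
  apply h q
  have hM' : IsCoatom (cj c M) := isCoatom_cj c hM
  apply Cfsg.Agent.Lib.Helper74.BG1379.mem_kappa_cj hG hM' c⁻¹
  show q ∈ kappa (cj c⁻¹ (cj c M))
  rwa [cj_inv_cj]

theorem tau2_eq_empty_of_cj {M : Subgroup G} (c : G) (h : tau2 (cj c M) = ∅) : tau2 M = ∅ := by
  rw [Set.eq_empty_iff_forall_notMem] at h ⊢
  intro q hq
  exact h q (Cfsg.Agent.Lib.Helper01.BG134.mem_tau2_cj hq c)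

/-- A cyclic complement of `(cj c M)_σ` in `cj c M`, together with `κ(cj c M) = ∅`, gives the same for `M`. -/
theorem of_cj (hG : IsMinSimpleOddOrder G) {M : Subgroup G} (hM : IsCoatom M) (c : G) {E : Subgroup G}
    (hk : kappa (cj c M) = ∅) (hE : IsComplIn E (sigmaCore (cj c M)) (cj c M)) (hc : IsCyclic E) :
    kappa M = ∅ ∧ ∃ E' : Subgroup G, IsComplIn E' (sigmaCore M) M ∧ IsCyclic E' := by
  refine ⟨kappa_eq_empty_of_cj hG hM c hk, cj c⁻¹ E, ?_, ?_⟩
  · have h := isComplIn_cj' c⁻¹ hE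
    rw [Cfsg.Agent.Lib.Helper68.BG144.sigmaCore_cj hG hM c, cj_inv_cj, cj_inv_cj] at h
    exact h
  · have e : E ≃* ↥(cj c⁻¹ E) := Subgroup.equivMapOfInjective E _ (MulAut.conj c⁻¹).injective
    exact isCyclic_of_surjective e e.surjective

end Cfsg.Agent.Lib.Helper71.BG1436
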