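import Mathlib
import Cfsg.Agent.Lib.Helper16.BG1376P1
import Cfsg.Agent.Lib.Helper12.BG1376T
import Cfsg.Agent.Lib.Helper58.BG1376AK
import Cfsg.Agent.Lib.Helper71.BG1436Adapt

/-!
# K-1436: the case `κ(N) ≠ ∅` of S1436(a), from the leaves of the pack of S1376
(`exists_conf` of helper16, `τ₂ = ∅` of helper12 + helper58), transported back along the conjugation.
-/

set_option autoImplicit false

namespace Cfsg.Agent.Lib.Helper71.BG1436

open Cfsg Subgroup Cfsg.Agent.Lib.Helper55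

variable {G : Type*} [Group G] [Finite G]

theorem p2_case (hG : IsMinSimpleOddOrder G) {M N : Subgroup G} (hM : IsCoatom M) (hN : IsCoatom N) {x : G}
    (hx : x ∈ sigmaCore M) (hx1 : x ≠ 1) (hxM : ¬ centralizer ({x} : Set G) ≤ M)
    (hxN : centralizer ({x} : Set G) ≤ N) (hkN : (kappa N).Nonempty) :
    kappa M = ∅ ∧ tau2 M = ∅ := by
  obtain ⟨g, Ns, K, U, x', hc⟩ :=
    Cfsg.Agent.Lib.Helper16.BG1376.exists_conf hG hM hx hx1 hxM hN hxN hkN
  refine ⟨kappa_eq_empty_of_cj hG hM g hc.hk, tau2_eq_empty_of_cj g ?_⟩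
  rw [Set.eq_empty_iff_forall_notMem]
  intro q hq
  by_cases hqk : q = Nat.card K
  · subst hqk
    exact Cfsg.Agent.Lib.Helper58.BG1376.Conf.card_not_mem_tau2 hG hc hq
  · exact Cfsg.Agent.Lib.Helper12.BG1376.conf_false_of_tau2_ne hG hc hq hqk

end Cfsg.Agent.Lib.Helper71.BG1436
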