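import Mathlib

set_option autoImplicit false

/-!
Counting elements of a given order through cyclic subgroups, transport of cyclic subgroups to a
subgroup, and fibre counting for homomorphisms.
-/

namespace Cfsg.Agent.Lib.Helper71

/-- number of elements of order `d` in a finite cyclic group, `Nat.card` form -/
theorem natCard_orderOf_eq_totient {α : Type*} [Group α] [Finite α] [IsCyclic α] {d : ℕ}
    (hd : d ∣ Nat.card α) : Nat.card {a : α // orderOf a = d} = Nat.totient d := by
  classical
  have := Fintype.ofFinite α
  rw [Nat.card_eq_fintype_card, Fintype.card_subtype]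
  exact IsCyclic.card_orderOf_eq_totient (by rwa [← Nat.card_eq_fintype_card])

/-- in a finite cyclic group the number of elements of order `d` is `φ d` or `0` -/
theorem natCard_orderOf_cyclic_cases {α : Type*} [Group α] [Finite α] [IsCyclic α] (d : ℕ) :
    Nat.card {a : α // orderOf a = d} = Nat.totient d ∨ Nat.card {a : α // orderOf a = d} = 0 := by
  by_cases hd : d ∣ Nat.card α
  · exact Or.inl (natCard_orderOf_eq_totient hd)
  · right
    rw [Nat.card_eq_zero]
    left
    constructor
    rintro ⟨a, ha⟩
    exact hd (ha ▸ orderOf_dvd_natCard a)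

/-- the generators of a cyclic subgroup `C` of order `k` -/
theorem natCard_generators {P : Type*} [Group P] [Finite P] (k : ℕ) (C : Subgroup P)
    (hC : IsCyclic C) (hk : Nat.card C = k) :
    Nat.card {x : P // orderOf x = k ∧ Subgroup.zpowers x = C} = Nat.totient k := by
  have h := natCard_orderOf_eq_totient (α := C) (d := k) (by rw [hk])
  rw [← h]
  apply Nat.card_congr
  refine
    { toFun := fun x => ⟨⟨x.1, by
          obtain ⟨x, -, hx2⟩ := x
          subst hx2
          exact Subgroup.mem_zpowers x⟩, by
        have h1 : orderOf x.1 = k := x.2.1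
        rw [Subgroup.orderOf_mk]; exact h1⟩
      invFun := fun c => ⟨c.1.1, by
        have h1 : orderOf c.1 = k := c.2
        rw [Subgroup.orderOf_coe]; exact h1, by
        apply Subgroup.eq_of_le_of_card_ge
        · rw [Subgroup.zpowers_le]; exact c.1.2
        · have h1 : orderOf c.1 = k := c.2
          rw [Nat.card_zpowers, Subgroup.orderOf_coe, h1, hk]⟩
      left_inv := fun x => rfl
      right_inv := fun c => rfl }

/-- the number of elements of order `k` is `φ k` times the number of cyclic subgroups of order
`k` -/
theorem card_orderOf_eq_totient_mul {P : Type*} [Group P] [Finite P] (k : ℕ) :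
    Nat.card {x : P // orderOf x = k} =
      Nat.totient k * Nat.card {C : Subgroup P // IsCyclic C ∧ Nat.card C = k} := by
  classical
  let F : {x : P // orderOf x = k} → {C : Subgroup P // IsCyclic C ∧ Nat.card C = k} :=
    fun x => ⟨Subgroup.zpowers x.1, ⟨inferInstance, by rw [Nat.card_zpowers, x.2]⟩⟩
  haveI := Fintype.ofFinite {C : Subgroup P // IsCyclic C ∧ Nat.card C = k}
  rw [Nat.card_congr (Equiv.sigmaFiberEquiv F).symm, Nat.card_sigma]
  have hfib : ∀ C : {C : Subgroup P // IsCyclic C ∧ Nat.card C = k},
      Nat.card {x // F x = C} = Nat.totient k := by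
    intro C
    rw [← natCard_generators k C.1 C.2.1 C.2.2]
    apply Nat.card_congr
    refine
      { toFun := fun x => ⟨x.1.1, x.1.2, congrArg Subtype.val x.2⟩
        invFun := fun x => ⟨⟨x.1, x.2.1⟩, Subtype.ext x.2.2⟩
        left_inv := fun x => rfl
        right_inv := fun x => rfl }
  rw [Finset.sum_congr rfl (fun C _ => hfib C), Finset.sum_const, Finset.card_univ,
    smul_eq_mul, mul_comm,
    Nat.card_eq_fintype_card (α := {C : Subgroup P // IsCyclic C ∧ Nat.card C = k})]

/-- cyclic subgroups of a subgroup `M` correspond to cyclic subgroups of the ambient group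
contained in `M` -/
theorem card_cyclic_subgroupOf {P : Type*} [Group P] (M : Subgroup P) (k : ℕ) :
    Nat.card {D : Subgroup M // IsCyclic D ∧ Nat.card D = k} =
      Nat.card {C : Subgroup P // C ≤ M ∧ IsCyclic C ∧ Nat.card C = k} := by
  apply Nat.card_congr
  refine
    { toFun := fun D => ⟨D.1.map M.subtype, Subgroup.map_subtype_le D.1, ?_, ?_⟩
      invFun := fun C => ⟨C.1.subgroupOf M, ?_, ?_⟩
      left_inv := fun D => Subtype.ext
        (Subgroup.comap_map_eq_self_of_injective M.subtype_injective D.1)
      right_inv := fun C => Subtype.ext (Subgroup.map_subgroupOf_eq_of_le C.2.1) }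
  · haveI := D.2.1
    exact isCyclic_of_surjective _
      (Subgroup.equivMapOfInjective D.1 M.subtype M.subtype_injective).surjective
  · exact (Nat.card_congr
      (Subgroup.equivMapOfInjective D.1 M.subtype M.subtype_injective).toEquiv).symm.trans D.2.2
  · haveI := C.2.2.1
    exact isCyclic_of_surjective _ (Subgroup.subgroupOfEquivOfLe C.2.1).symm.surjective
  · exact (Nat.card_congr (Subgroup.subgroupOfEquivOfLe C.2.1).toEquiv).trans C.2.2.2

/-- fibre counting for a homomorphism of finite groups -/
theorem card_preimage_eq_card_ker_mul {G H : Type*} [Group G] [Group H] [Finite G]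
    (f : G →* H) (S : Set H) :
    Nat.card {x : G // f x ∈ S} = Nat.card f.ker * Nat.card {y : f.range // (y : H) ∈ S} := by
  classical
  let F : {x : G // f x ∈ S} → {y : f.range // (y : H) ∈ S} :=
    fun x => ⟨⟨f x.1, x.1, rfl⟩, x.2⟩
  haveI : Finite f.range := Finite.of_surjective f.rangeRestrict f.rangeRestrict_surjective
  haveI := Fintype.ofFinite {y : f.range // (y : H) ∈ S}
  rw [Nat.card_congr (Equiv.sigmaFiberEquiv F).symm, Nat.card_sigma]
  have hfib : ∀ y : {y : f.range // (y : H) ∈ S}, Nat.card {x // F x = y} = Nat.card f.ker := by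
    rintro ⟨⟨_, a, rfl⟩, hy⟩
    rw [← Nat.card_congr (f.fiberEquivKer a)]
    apply Nat.card_congr
    refine
      { toFun := fun x => ⟨x.1.1, by
          have := congrArg (fun z => ((z.1 : f.range) : H)) x.2
          simpa [F] using this⟩
        invFun := fun x => ⟨⟨x.1, by
          have : f x.1 = f a := x.2
          rw [this]; exact hy⟩, by
          apply Subtype.ext; apply Subtype.ext
          exact x.2⟩
        left_inv := fun x => rfl
        right_inv := fun x => rfl }
  rw [Finset.sum_congr rfl (fun y _ => hfib y), Finset.sum_const, Finset.card_univ,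
    smul_eq_mul, mul_comm, Nat.card_eq_fintype_card (α := {y : f.range // (y : H) ∈ S})]

end Cfsg.Agent.Lib.Helper71
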