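import Mathlib

set_option autoImplicit false

namespace Cfsg.Agent.Lib.Helper71

open MulAction

/-- If every orbit inside an invariant finite set has size divisible by `d`, so has the set. -/
theorem dvd_ncard_of_dvd_orbit {G α : Type*} [Group G] [MulAction G α] (d : ℕ) :
    ∀ (k : ℕ) (Y : Set α), Y.ncard = k → Y.Finite → (∀ g : G, ∀ y ∈ Y, g • y ∈ Y) →
      (∀ y ∈ Y, d ∣ (orbit G y).ncard) → d ∣ Y.ncard := by
  intro k
  induction k using Nat.strong_induction_on with
  | _ k ih =>
    intro Y hk hfin hinv hd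
    rcases Set.eq_empty_or_nonempty Y with hY | ⟨y0, hy0⟩
    · rw [hY, Set.ncard_empty]; exact dvd_zero d
    · have hO : orbit G y0 ⊆ Y := by
        rintro _ ⟨g, rfl⟩
        exact hinv g y0 hy0
      have hOfin : (orbit G y0).Finite := hfin.subset hO
      have hsplit := Set.ncard_sdiff_add_ncard_of_subset hO hfin
      have hOpos : 0 < (orbit G y0).ncard :=
        (Set.ncard_pos hOfin).mpr ⟨y0, mem_orbit_self y0⟩
      have hlt : (Y \ orbit G y0).ncard < k := by omega
      have hY' := ih _ hlt (Y \ orbit G y0) rfl (hfin.subset Set.sdiff_subset) ?_ ?_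
      · rw [← hsplit]
        exact dvd_add hY' (hd y0 hy0)
      · intro g y hy
        refine ⟨hinv g y hy.1, ?_⟩
        intro hgy
        apply hy.2
        have : y = g⁻¹ • (g • y) := by rw [inv_smul_smul]
        rw [this]
        exact (orbit_eq_iff.mpr hgy) ▸ mem_orbit _ g⁻¹
      · intro y hy
        exact hd y hy.1

/-- Orbit counting modulo `d` with a set `T` of special points whose orbits have size `m`. -/
theorem ncard_modEq_of_orbits {G α : Type*} [Group G] [MulAction G α] (d m : ℕ) :
    ∀ (k : ℕ) (T Y : Set α), T.ncard = k → T.Finite → Y.Finite → T ⊆ Y →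
      (∀ g : G, ∀ y ∈ Y, g • y ∈ Y) →
      (∀ t ∈ T, (orbit G t).ncard = m) →
      (∀ t ∈ T, ∀ t' ∈ T, t' ∈ orbit G t → t' = t) →
      (∀ y ∈ Y, (∀ t ∈ T, t ∉ orbit G y) → d ∣ (orbit G y).ncard) →
      Y.ncard ≡ m * T.ncard [MOD d] := by
  intro k
  induction k with
  | zero =>
    intro T Y hk hTfin hYfin hTY hinv _ _ hd
    have hT : T = ∅ := (Set.ncard_eq_zero hTfin).mp hk
    subst hT
    rw [Set.ncard_empty, mul_zero]
    apply (Nat.modEq_zero_iff_dvd).mpr
    apply dvd_ncard_of_dvd_orbit d _ Y rfl hYfin hinv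
    intro y hy
    exact hd y hy (fun t ht => absurd ht (Set.notMem_empty t))
  | succ k ih =>
    intro T Y hk hTfin hYfin hTY hinv hm huniq hd
    have hTne : T.Nonempty := by
      rw [← Set.ncard_pos hTfin]; omega
    obtain ⟨t0, ht0⟩ := hTne
    have hO : orbit G t0 ⊆ Y := by
      rintro _ ⟨g, rfl⟩
      exact hinv g t0 (hTY ht0)
    have hsplit := Set.ncard_sdiff_add_ncard_of_subset hO hYfin
    have hTsplit : (T \ {t0}).ncard + 1 = T.ncard := by
      rw [Set.ncard_sdiff_singleton_add_one ht0 hTfin]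
    have key := ih (T \ {t0}) (Y \ orbit G t0) (by omega) (hTfin.subset Set.sdiff_subset)
      (hYfin.subset Set.sdiff_subset) ?_ ?_ ?_ ?_ ?_
    · rw [← hsplit, ← hTsplit, hm t0 ht0, mul_add, mul_one]
      exact Nat.ModEq.add_right m key
    · intro t ht
      refine ⟨hTY ht.1, ?_⟩
      intro hmem
      exact ht.2 (huniq t0 ht0 t ht.1 hmem)
    · intro g y hy
      refine ⟨hinv g y hy.1, ?_⟩
      intro hgy
      apply hy.2
      have : y = g⁻¹ • (g • y) := by rw [inv_smul_smul]
      rw [this]
      exact (orbit_eq_iff.mpr hgy) ▸ mem_orbit _ g⁻¹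
    · intro t ht
      exact hm t ht.1
    · intro t ht t' ht' h
      exact huniq t ht.1 t' ht'.1 h
    · intro y hy hno
      apply hd y hy.1
      intro t ht htorb
      by_cases h : t = t0
      · subst h
        apply hy.2
        exact orbit_eq_iff.mp (orbit_eq_iff.mpr htorb).symm
      · exact hno t ⟨ht, h⟩ htorb

end Cfsg.Agent.Lib.Helper71
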