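import Mathlib
import Cfsg.Agent.Lib.Helper71.OrbitCount

set_option autoImplicit false

namespace Cfsg.Agent.Lib.Helper71

open MulAction
open scoped Pointwise

section
variable {G : Type*} [Group G] [Finite G] [DecidableEq G]

/-- A subgroup of a finite group as a finset. -/
noncomputable def sgFinset (K : Subgroup G) : Finset G := (Set.toFinite (K : Set G)).toFinset

theorem coe_sgFinset (K : Subgroup G) : (sgFinset K : Set G) = K := Set.Finite.coe_toFinset _

theorem mem_sgFinset {K : Subgroup G} {x : G} : x ∈ sgFinset K ↔ x ∈ K := by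
  rw [← Finset.mem_coe, coe_sgFinset]; rfl

theorem card_sgFinset (K : Subgroup G) : (sgFinset K).card = Nat.card K := by
  rw [← Set.ncard_coe_finset, coe_sgFinset]
  exact (Nat.card_coe_set_eq (K : Set G)).symm

theorem sgFinset_injective : Function.Injective (sgFinset : Subgroup G → Finset G) := by
  intro K K' h
  ext x
  rw [← mem_sgFinset, h, mem_sgFinset]

theorem stabilizer_sgFinset (K : Subgroup G) : stabilizer G (sgFinset K) = K := by
  rw [← stabilizer_coe_finset, coe_sgFinset, stabilizer_subgroup]

theorem orbit_ncard_mul_card_stabilizer (S : Finset G) :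
    (orbit G S).ncard * Nat.card (stabilizer G S) = Nat.card G := by
  rw [← index_stabilizer, mul_comm, Subgroup.card_mul_index]

theorem sgFinset_stabilizer_mul (S : Finset G) : sgFinset (stabilizer G S) * S = S := by
  apply Finset.coe_injective
  rw [Finset.coe_mul, coe_sgFinset, ← stabilizer_coe_finset, stabilizer_mul_self]

theorem card_stabilizer_dvd (S : Finset G) : Nat.card (stabilizer G S) ∣ S.card := by
  have h := Finset.card_dvd_card_mul_left (s := sgFinset (stabilizer G S)) (t := S) ?_
  · rwa [sgFinset_stabilizer_mul, card_sgFinset] at h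
  · rintro _ ⟨b, _, rfl⟩ _ ⟨b', _, rfl⟩ hne
    rw [Function.onFun, id, id, Finset.disjoint_left]
    intro x hx hx'
    apply hne
    rw [Finset.mem_image] at hx hx'
    simp only [mem_sgFinset] at hx hx'
    obtain ⟨h1, hh1, rfl⟩ := hx
    obtain ⟨h2, hh2, h12⟩ := hx'
    -- b' = h2⁻¹ * h1 * b
    have hb' : b' = h2⁻¹ * h1 * b := by
      rw [mul_assoc, ← h12]; group
    ext y
    simp only [Finset.mem_image, mem_sgFinset]
    constructor
    · rintro ⟨h, hh, rfl⟩
      refine ⟨h * (h2⁻¹ * h1)⁻¹, ?_, ?_⟩
      · exact Subgroup.mul_mem _ hh (Subgroup.inv_mem _ (Subgroup.mul_mem _ (Subgroup.inv_mem _ hh2) hh1))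
      · rw [hb']; group
    · rintro ⟨h, hh, rfl⟩
      refine ⟨h * (h2⁻¹ * h1), ?_, ?_⟩
      · exact Subgroup.mul_mem _ hh (Subgroup.mul_mem _ (Subgroup.inv_mem _ hh2) hh1)
      · rw [hb']; group

/-- If the stabilizer of `S` is as large as `S`, then a translate of `S` is a subgroup. -/
theorem exists_subgroup_mem_orbit (S : Finset G) (hS : S.Nonempty)
    (h : Nat.card (stabilizer G S) = S.card) :
    ∃ K : Subgroup G, Nat.card K = S.card ∧ sgFinset K ∈ orbit G S := by
  obtain ⟨s, hs⟩ := hS
  set H := stabilizer G S with hH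
  have himg : (sgFinset H).image (· * s) = S := by
    apply Finset.eq_of_subset_of_card_le
    · intro x hx
      obtain ⟨a, ha, rfl⟩ := Finset.mem_image.mp hx
      rw [mem_sgFinset] at ha
      have : a • S = S := ha
      rw [← this]
      exact Finset.smul_mem_smul_finset hs
    · rw [Finset.card_image_of_injective _ (mul_left_injective s), card_sgFinset, h]
  refine ⟨H.map (MulAut.conj s⁻¹).toMonoidHom, ?_, ⟨s⁻¹, ?_⟩⟩
  · rw [← h]
    exact Nat.card_congr (H.equivMapOfInjective _ (MulAut.conj s⁻¹).injective).symm.toEquiv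
  · ext x
    simp only [Finset.mem_inv_smul_finset_iff, mem_sgFinset, Subgroup.mem_map, smul_eq_mul]
    constructor
    · intro hx
      rw [← himg] at hx
      obtain ⟨a, ha, hax⟩ := Finset.mem_image.mp hx
      rw [mem_sgFinset] at ha
      refine ⟨a, ha, ?_⟩
      simp only [MulEquiv.coe_toMonoidHom, MulAut.conj_apply, inv_inv]
      have : a = s * x * s⁻¹ := by
        have h2 : a * s = s * x := hax
        rw [eq_mul_inv_iff_mul_eq]; exact h2
      rw [this]; group
    · rintro ⟨a, ha, rfl⟩
      rw [← himg]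
      refine Finset.mem_image.mpr ⟨a, mem_sgFinset.mpr ha, ?_⟩
      simp only [MulEquiv.coe_toMonoidHom, MulAut.conj_apply, inv_inv]
      group

/-- Distinct subgroups lie in distinct orbits of the translation action on finsets. -/
theorem sgFinset_eq_of_mem_orbit (K K' : Subgroup G) (h : sgFinset K' ∈ orbit G (sgFinset K)) :
    sgFinset K' = sgFinset K := by
  obtain ⟨g, hg⟩ := h
  have h1 : (1 : G) ∈ sgFinset K' := mem_sgFinset.mpr K'.one_mem
  rw [← hg] at h1
  obtain ⟨k, hk, hgk⟩ := Finset.mem_smul_finset.mp h1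
  rw [mem_sgFinset] at hk
  have hgK : g ∈ K := by
    have : g = k⁻¹ := by
      rw [smul_eq_mul] at hgk
      exact eq_inv_of_mul_eq_one_left hgk
    rw [this]; exact K.inv_mem hk
  have : g ∈ stabilizer G (sgFinset K) := by rw [stabilizer_sgFinset]; exact hgK
  rw [← hg]
  exact this

end

end Cfsg.Agent.Lib.Helper71
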