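import Mathlib
import Cfsg.Agent.Lib.Helper71.Wielandt

set_option autoImplicit false

namespace Cfsg.Agent.Lib.Helper71

open MulAction
open scoped Pointwise

theorem choose_pred_modEq_one (p : ℕ) [hp : Fact p.Prime] :
    ∀ (β m : ℕ), 0 < m → Nat.choose (p ^ β * m - 1) (p ^ β - 1) ≡ 1 [MOD p] := by
  have hp1 : 1 ≤ p := hp.out.one_lt.le
  have hppos : 0 < p := hp.out.pos
  intro β
  induction β with
  | zero =>
    intro m _
    simp [Nat.ModEq.refl]
  | succ β ih =>
    intro m hm
    have hpos : 1 ≤ p ^ β * m := Nat.mul_pos (pow_pos hppos β) hm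
    have hpos' : 1 ≤ p ^ β := pow_pos hppos β
    have hn : p ^ (β + 1) * m - 1 = (p - 1) + p * (p ^ β * m - 1) := by
      have : p ^ (β + 1) * m = p * (p ^ β * m) := by ring
      rw [this, Nat.mul_sub, mul_one]
      have h2 : p ≤ p * (p ^ β * m) := Nat.le_mul_of_pos_right p hpos
      omega
    have hk : p ^ (β + 1) - 1 = (p - 1) + p * (p ^ β - 1) := by
      have : p ^ (β + 1) = p * p ^ β := by ring
      rw [this, Nat.mul_sub, mul_one]
      have h2 : p ≤ p * p ^ β := Nat.le_mul_of_pos_right p hpos'
      omega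
    have hlt : p - 1 < p := Nat.sub_lt hppos Nat.one_pos
    have h1 := Choose.choose_modEq_choose_mod_mul_choose_div_nat (n := p ^ (β + 1) * m - 1)
      (k := p ^ (β + 1) - 1) (p := p)
    rw [hn, hk, Nat.add_mul_mod_self_left, Nat.add_mul_mod_self_left, Nat.mod_eq_of_lt hlt,
      Nat.add_mul_div_left _ _ hppos, Nat.add_mul_div_left _ _ hppos, Nat.div_eq_of_lt hlt,
      zero_add, zero_add, Nat.choose_self, one_mul] at h1
    rw [hn, hk]
    exact h1.trans (ih m hm)

/-- **Frobenius**: the number of subgroups of order `p ^ β` of a finite group whose order is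
divisible by `p ^ β` is congruent to `1` modulo `p`. -/
theorem card_subgroups_modEq_one {G : Type*} [Group G] [Finite G] (p β : ℕ) [hp : Fact p.Prime]
    (hdiv : p ^ β ∣ Nat.card G) :
    Nat.card {H : Subgroup G // Nat.card H = p ^ β} ≡ 1 [MOD p] := by
  classical
  obtain ⟨m, hm⟩ := hdiv
  have hppos : 0 < p := hp.out.pos
  have hpβ : 0 < p ^ β := pow_pos hppos β
  have hmpos : 0 < m := by
    rcases Nat.eq_zero_or_pos m with h | h
    · rw [h, mul_zero] at hm
      exact absurd hm Nat.card_pos.ne'
    · exact h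
  have := Fintype.ofFinite G
  set Y : Set (Finset G) := {S | S.card = p ^ β} with hY
  set T : Set (Finset G) := sgFinset '' {K : Subgroup G | Nat.card K = p ^ β} with hT
  have key : Y.ncard ≡ m * T.ncard [MOD m * p] := by
    apply ncard_modEq_of_orbits (G := G) (m * p) m T.ncard T Y rfl (Set.toFinite _) (Set.toFinite _)
    · rintro _ ⟨K, hK, rfl⟩
      change (sgFinset K).card = p ^ β
      rw [card_sgFinset]; exact hK
    · intro g S hS
      change (g • S).card = p ^ β
      rw [Finset.card_smul_finset]; exact hS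
    · rintro _ ⟨K, hK, rfl⟩
      rw [← index_stabilizer, stabilizer_sgFinset]
      have h1 := K.card_mul_index
      rw [hm, hK] at h1
      exact Nat.eq_of_mul_eq_mul_left hpβ h1
    · rintro _ ⟨K, _, rfl⟩ _ ⟨K', _, rfl⟩ h
      exact sgFinset_eq_of_mem_orbit K K' h
    · intro S hS hno
      have hScard : S.card = p ^ β := hS
      have hSne : S.Nonempty := by
        rw [← Finset.card_pos, hScard]; exact hpβ
      have hdvd := card_stabilizer_dvd S
      rw [hScard] at hdvd
      obtain ⟨k, hkβ, hk⟩ := (Nat.dvd_prime_pow hp.out).mp hdvd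
      have hklt : k < β := by
        rcases Nat.lt_or_ge k β with h | h
        · exact h
        · exfalso
          have hkeq : k = β := le_antisymm hkβ h
          rw [hkeq, ← hScard] at hk
          obtain ⟨K, hKcard, hKorb⟩ := exists_subgroup_mem_orbit S hSne hk
          exact hno (sgFinset K) ⟨K, by rw [Set.mem_ofPred_eq, hKcard, hScard], rfl⟩ hKorb
      have h2 := orbit_ncard_mul_card_stabilizer S
      rw [hk, hm] at h2
      have h3 : p ^ β = p ^ k * (p * p ^ (β - k - 1)) := by
        rw [← pow_succ', ← pow_add]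
        congr 1; omega
      rw [h3] at h2
      have h4 : (orbit G S).ncard = p * p ^ (β - k - 1) * m := by
        have hpk : 0 < p ^ k := pow_pos hppos k
        apply Nat.eq_of_mul_eq_mul_left hpk
        rw [mul_comm, h2]; ring
      rw [h4]
      exact ⟨p ^ (β - k - 1), by ring⟩
  have hYcard : Y.ncard = (Nat.card G).choose (p ^ β) := by
    have : Y = ↑(Finset.powersetCard (p ^ β) (Finset.univ : Finset G)) := by
      ext S
      simp [hY]
    rw [this, Set.ncard_coe_finset, Finset.card_powersetCard, Finset.card_univ,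
      Nat.card_eq_fintype_card]
  have hTcard : T.ncard = Nat.card {H : Subgroup G // Nat.card H = p ^ β} := by
    rw [hT, Set.ncard_image_of_injective _ sgFinset_injective]
    rfl
  have hchoose : (p ^ β * m).choose (p ^ β) = m * (p ^ β * m - 1).choose (p ^ β - 1) := by
    have h1 := Nat.add_one_mul_choose_eq (p ^ β * m - 1) (p ^ β - 1)
    have hpos : 1 ≤ p ^ β * m := Nat.mul_pos hpβ hmpos
    rw [Nat.sub_add_cancel hpos, Nat.sub_add_cancel hpβ] at h1
    apply Nat.eq_of_mul_eq_mul_left hpβ
    rw [mul_comm, ← h1]; ring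
  rw [hYcard, hTcard, hm, hchoose] at key
  have h5 : m * (p ^ β * m - 1).choose (p ^ β - 1) ≡ m * 1 [MOD m * p] :=
    Nat.ModEq.mul_left' m (choose_pred_modEq_one p β m hmpos)
  exact Nat.ModEq.mul_left_cancel' hmpos.ne' (key.symm.trans h5)

end Cfsg.Agent.Lib.Helper71
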