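import Mathlib
import Cfsg.Agent.Lib.Helper71.SubgroupCount
import Cfsg.Agent.Lib.Helper71.CyclicCount
import Cfsg.Agent.Lib.Helper15.CycMax
import Cfsg.Agent.Lib.Helper04.CyclicIndexP

set_option autoImplicit false

/-!
Miller's theorem: in a noncyclic `p`-group, `p` odd, the number of cyclic subgroups of order
`p ^ s`, `s ≥ 2`, is divisible by `p`.
-/

namespace Cfsg.Agent.Lib.Helper71

universe u

section MaxCount

variable {P : Type*} [Group P] [Finite P] {p : ℕ} [Fact p.Prime]

/-- index-`p` subgroups of a finite `p`-group are normal -/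
theorem normal_of_index_eq_prime (hP : IsPGroup p P) (M : Subgroup P) (hM : M.index = p) :
    M.Normal := by
  obtain ⟨n, hn⟩ := IsPGroup.iff_card.mp hP
  have hn0 : n ≠ 0 := by
    rintro rfl
    have h1 : M.index ∣ Nat.card P := M.index_dvd_card
    rw [hM, hn, pow_zero] at h1
    exact (Fact.out : p.Prime).one_lt.ne' (Nat.dvd_one.mp h1)
  apply Subgroup.normal_of_index_eq_minFac_card
  rw [hM, hn, Nat.Prime.pow_minFac (Fact.out : p.Prime) hn0]

/-- a proper subgroup of a finite `p`-group lies in a subgroup of index `p` -/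
theorem exists_index_prime_ge (hP : IsPGroup p P) (C : Subgroup P) (hC : C ≠ ⊤) :
    ∃ M : Subgroup P, M.index = p ∧ C ≤ M := by
  have hp : p.Prime := Fact.out
  obtain ⟨n, hn⟩ := IsPGroup.iff_card.mp hP
  obtain ⟨c, hc⟩ := IsPGroup.iff_card.mp (hP.to_subgroup C)
  have hcn : c < n := by
    by_contra hge
    push Not at hge
    apply hC
    apply Subgroup.eq_top_of_le_card
    rw [hn, hc]
    exact Nat.pow_le_pow_right hp.pos hge
  obtain ⟨M, hMcard, hCM⟩ := Sylow.exists_subgroup_card_pow_prime_le p
    (show p ^ (n - 1) ∣ Nat.card P by rw [hn]; exact pow_dvd_pow p (by omega)) C hc (by omega)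
  refine ⟨M, ?_, hCM⟩
  have h := M.card_mul_index
  rw [hMcard, hn] at h
  have h2 : p ^ n = p ^ (n - 1) * p := by
    rw [← pow_succ]; congr 1; omega
  rw [h2] at h
  exact Nat.eq_of_mul_eq_mul_left (pow_pos hp.pos _) h

/-- the number of index-`p` subgroups containing a given proper subgroup is `≡ 1 mod p` -/
theorem card_index_prime_ge_modEq_one (hP : IsPGroup p P) (C : Subgroup P) (hC : C ≠ ⊤) :
    Nat.card {M : Subgroup P // M.index = p ∧ C ≤ M} ≡ 1 [MOD p] := by
  have hp : p.Prime := Fact.out
  set R : Subgroup P := Subgroup.normalClosure (C : Set P) with hR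
  have hCR : C ≤ R := Subgroup.le_normalClosure
  obtain ⟨M0, hM0i, hCM0⟩ := exists_index_prime_ge hP C hC
  have hRle : ∀ M : Subgroup P, M.index = p → C ≤ M → R ≤ M := by
    intro M hMi hCM
    haveI := normal_of_index_eq_prime hP M hMi
    exact Subgroup.normalClosure_le_normal hCM
  have hker : (QuotientGroup.mk' R).ker = R := QuotientGroup.ker_mk' R
  have hsurj : Function.Surjective (QuotientGroup.mk' R) := QuotientGroup.mk'_surjective R
  -- the order of the quotient
  obtain ⟨r, hr⟩ := IsPGroup.iff_card.mp (hP.to_quotient R)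
  have hr0 : r ≠ 0 := by
    rintro rfl
    rw [pow_zero] at hr
    have hRtop : R = ⊤ := by
      rw [← Subgroup.index_eq_one, Subgroup.index_eq_card]
      exact hr
    have := hRle M0 hM0i hCM0
    rw [hRtop, top_le_iff] at this
    rw [this, Subgroup.index_top] at hM0i
    exact hp.one_lt.ne hM0i
  have hequiv : Nat.card {M : Subgroup P // M.index = p ∧ C ≤ M} =
      Nat.card {N : Subgroup (P ⧸ R) // Nat.card N = p ^ (r - 1)} := by
    apply Nat.card_congr
    refine
      { toFun := fun M => ⟨M.1.map (QuotientGroup.mk' R), ?_⟩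
        invFun := fun N => ⟨N.1.comap (QuotientGroup.mk' R), ?_, ?_⟩
        left_inv := fun M => Subtype.ext (Subgroup.comap_map_eq_self (by
          rw [hker]; exact hRle M.1 M.2.1 M.2.2))
        right_inv := fun N => Subtype.ext (Subgroup.map_comap_eq_self_of_surjective hsurj N.1) }
    · have hidx : (M.1.map (QuotientGroup.mk' R)).index = p := by
        rw [Subgroup.index_map_eq _ hsurj (by rw [hker]; exact hRle M.1 M.2.1 M.2.2)]
        exact M.2.1
      have h := (M.1.map (QuotientGroup.mk' R)).card_mul_index
      rw [hidx, hr] at h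
      have h2 : p ^ r = p ^ (r - 1) * p := by
        rw [← pow_succ]; congr 1; omega
      rw [h2] at h
      exact Nat.eq_of_mul_eq_mul_right hp.pos h
    · rw [Subgroup.index_comap_of_surjective _ hsurj]
      have h := N.1.card_mul_index
      rw [N.2, hr] at h
      have h2 : p ^ r = p ^ (r - 1) * p := by
        rw [← pow_succ]; congr 1; omega
      rw [h2] at h
      exact Nat.eq_of_mul_eq_mul_left (pow_pos hp.pos _) h
    · refine hCR.trans ?_
      exact hker.symm.le.trans (Subgroup.ker_le_comap _ _)
  rw [hequiv]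
  exact card_subgroups_modEq_one p (r - 1) (by rw [hr]; exact pow_dvd_pow p (by omega))

end MaxCount

section Direct

variable {P : Type*} [Group P] [Finite P] {p : ℕ} [Fact p.Prime]

theorem orderOf_eq_prime_pow_iff_pow (hP : IsPGroup p P) (x : P) (s : ℕ) (hs : 2 ≤ s) :
    orderOf x = p ^ s ↔ orderOf (x ^ p) = p ^ (s - 1) := by
  have hp : p.Prime := Fact.out
  obtain ⟨j, hj⟩ := (IsPGroup.iff_orderOf.mp hP) x
  rw [orderOf_pow' x hp.ne_zero, hj]
  rcases j with _ | j
  · rw [pow_zero, Nat.gcd_one_left, Nat.div_one]
    constructor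
    · intro h
      exact absurd h.symm (Nat.one_lt_pow (by omega) hp.one_lt).ne'
    · intro h
      exact absurd h.symm (Nat.one_lt_pow (by omega) hp.one_lt).ne'
  · have hg : Nat.gcd (p ^ (j + 1)) p = p := Nat.gcd_eq_right (dvd_pow_self p (by omega))
    rw [hg, pow_succ, Nat.mul_div_cancel _ hp.pos, ← pow_succ]
    constructor
    · intro h
      have := Nat.pow_right_injective hp.two_le h
      rw [show s - 1 = j by omega]
    · intro h
      have := Nat.pow_right_injective hp.two_le h
      rw [show s = j + 1 by omega]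

/-- a noncyclic `p`-group (`p` odd) with a cyclic subgroup of index `p`: the number of elements of
order `p ^ s`, `s ≥ 2`, is divisible by `p ^ s` -/
theorem pow_dvd_card_orderOf_of_cyclic_index (hodd : p ≠ 2) (hP : IsPGroup p P)
    (hnc : ¬ IsCyclic P) (C : Subgroup P) (hC : IsCyclic C) (hCi : C.index = p) (s : ℕ)
    (hs : 2 ≤ s) : p ^ s ∣ Nat.card {x : P // orderOf x = p ^ s} := by
  have hp : p.Prime := Fact.out
  haveI : C.Normal := normal_of_index_eq_prime hP C hCi
  let π : P →* P :=
    { toFun := fun x => x ^ p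
      map_one' := one_pow p
      map_mul' := Cfsg.Agent.Lib.Helper15.mul_pow_prime_of_cyclic_index hodd hP C hC hCi }
  obtain ⟨-, hexp, hcard⟩ :=
    Cfsg.Agent.Lib.Helper04.omega_one_of_cyclic_index_p hodd hP hnc C hC hCi
  have hkerEq : π.ker = Subgroup.closure {x : P | x ^ p = 1} := by
    ext x
    rw [MonoidHom.mem_ker]
    constructor
    · intro h
      exact Subgroup.subset_closure h
    · intro h
      exact hexp x h
  have hker : Nat.card π.ker = p ^ 2 := by rw [hkerEq]; exact hcard
  have hrange : π.range ≤ C := by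
    rintro _ ⟨x, rfl⟩
    have := C.pow_index_mem x
    rwa [hCi] at this
  haveI : IsCyclic π.range := by
    haveI := hC
    exact isCyclic_of_injective (Subgroup.inclusion hrange) (Subgroup.inclusion_injective hrange)
  have h1 : Nat.card {x : P // orderOf x = p ^ s} =
      Nat.card {x : P // π x ∈ {y : P | orderOf y = p ^ (s - 1)}} := by
    apply Nat.card_congr
    exact Equiv.subtypeEquivRight (fun x => orderOf_eq_prime_pow_iff_pow hP x s hs)
  rw [h1, card_preimage_eq_card_ker_mul, hker]
  have h2 : Nat.card {y : π.range // (y : P) ∈ {y : P | orderOf y = p ^ (s - 1)}} =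
      Nat.card {y : π.range // orderOf y = p ^ (s - 1)} := by
    apply Nat.card_congr
    exact Equiv.subtypeEquivRight (fun y => by
      rw [Set.mem_ofPred_eq, Subgroup.orderOf_coe])
  rw [h2]
  have hs' : p ^ s = p ^ 2 * p ^ (s - 2) := by
    rw [← pow_add]; congr 1; omega
  rw [hs']
  apply Nat.mul_dvd_mul_left
  rcases natCard_orderOf_cyclic_cases (α := π.range) (p ^ (s - 1)) with h | h
  · rw [h, show s - 1 = (s - 2) + 1 by omega, Nat.totient_prime_pow_succ hp]
    exact dvd_mul_right _ _
  · rw [h]
    exact dvd_zero _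

end Direct

section MillerMain

variable {p : ℕ} [Fact p.Prime]

/-- **Miller**: in a noncyclic `p`-group, `p` odd, the number of cyclic subgroups of order `p ^ s`,
`s ≥ 2`, is divisible by `p`. -/
theorem miller_aux (hodd : p ≠ 2) (s : ℕ) (hs : 2 ≤ s) :
    ∀ (n : ℕ) (P : Type u) [Group P] [Finite P], Nat.card P = p ^ n → ¬ IsCyclic P →
      p ∣ Nat.card {C : Subgroup P // IsCyclic C ∧ Nat.card C = p ^ s} := by
  have hp : p.Prime := Fact.out
  intro n
  induction n using Nat.strong_induction_on with
  | _ n IH =>
    intro P _ _ hn hnc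
    have hP : IsPGroup p P := IsPGroup.of_card hn
    by_cases hex : ∃ C : Subgroup P, IsCyclic C ∧ C.index = p
    · obtain ⟨C, hC, hCi⟩ := hex
      have h1 := pow_dvd_card_orderOf_of_cyclic_index hodd hP hnc C hC hCi s hs
      rw [card_orderOf_eq_totient_mul] at h1
      obtain ⟨t, ht⟩ : ∃ t, s = t + 1 := ⟨s - 1, by omega⟩
      have htot : Nat.totient (p ^ s) = p ^ t * (p - 1) := by
        rw [ht, Nat.totient_prime_pow_succ hp]
      have hps : p ^ s = p ^ t * p := by rw [ht, pow_succ]
      set c := Nat.card {C : Subgroup P // IsCyclic C ∧ Nat.card C = p ^ s} with hc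
      have h1' : p ^ t * p ∣ p ^ t * ((p - 1) * c) := by
        rw [← hps, ← mul_assoc, ← htot]; exact h1
      have h2 := Nat.dvd_of_mul_dvd_mul_left (pow_pos hp.pos _) h1'
      have hcop : Nat.Coprime p (p - 1) := by
        rw [Nat.coprime_comm]
        have : (p - 1) + 1 = p := Nat.sub_add_cancel hp.pos
        have h3 : Nat.Coprime (p - 1) ((p - 1) + 1) := by simp
        rwa [this] at h3
      exact hcop.dvd_of_dvd_mul_left h2
    · push Not at hex
      classical
      -- double counting of pairs `C ≤ M`
      let 𝒞 := {C : Subgroup P // IsCyclic C ∧ Nat.card C = p ^ s}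
      let 𝓜 := {M : Subgroup P // M.index = p}
      let Pairs := {q : 𝒞 × 𝓜 // q.1.1 ≤ q.2.1}
      haveI : Fintype 𝒞 := Fintype.ofFinite _
      haveI : Fintype 𝓜 := Fintype.ofFinite _
      have hcount1 : Nat.card Pairs = ∑ C : 𝒞, Nat.card {M : 𝓜 // C.1 ≤ M.1} := by
        let F : Pairs → 𝒞 := fun q => q.1.1
        rw [Nat.card_congr (Equiv.sigmaFiberEquiv F).symm, Nat.card_sigma]
        apply Finset.sum_congr rfl
        intro C _
        apply Nat.card_congr
        exact
          { toFun := fun q => ⟨q.1.1.2, by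
              obtain ⟨⟨⟨C', M⟩, hle⟩, hq⟩ := q
              have hq' : C' = C := hq
              subst hq'
              exact hle⟩
            invFun := fun M => ⟨⟨(C, M.1), M.2⟩, rfl⟩
            left_inv := fun q => by
              obtain ⟨⟨⟨C', M⟩, hle⟩, hq⟩ := q
              have hq' : C' = C := hq
              subst hq'
              rfl
            right_inv := fun M => rfl }
      have hcount2 : Nat.card Pairs = ∑ M : 𝓜, Nat.card {C : 𝒞 // C.1 ≤ M.1} := by
        let F : Pairs → 𝓜 := fun q => q.1.2
        rw [Nat.card_congr (Equiv.sigmaFiberEquiv F).symm, Nat.card_sigma]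
        apply Finset.sum_congr rfl
        intro M _
        apply Nat.card_congr
        exact
          { toFun := fun q => ⟨q.1.1.1, by
              obtain ⟨⟨⟨C, M'⟩, hle⟩, hq⟩ := q
              have hq' : M' = M := hq
              subst hq'
              exact hle⟩
            invFun := fun C => ⟨⟨(C.1, M), C.2⟩, rfl⟩
            left_inv := fun q => by
              obtain ⟨⟨⟨C, M'⟩, hle⟩, hq⟩ := q
              have hq' : M' = M := hq
              subst hq'
              rfl
            right_inv := fun C => rfl }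
      -- each cyclic subgroup lies in `≡ 1` maximal subgroups
      have hC1 : ∀ C : 𝒞, (Nat.card {M : 𝓜 // C.1 ≤ M.1} : ZMod p) = 1 := by
        intro C
        have hCtop : C.1 ≠ ⊤ := by
          intro htop
          apply hnc
          haveI := C.2.1
          exact isCyclic_of_surjective _
            ((Subgroup.topEquiv (G := P)).symm.trans (MulEquiv.subgroupCongr htop.symm)).symm.surjective
        have h := card_index_prime_ge_modEq_one hP C.1 hCtop
        have heq : Nat.card {M : 𝓜 // C.1 ≤ M.1} =
            Nat.card {M : Subgroup P // M.index = p ∧ C.1 ≤ M} := by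
          apply Nat.card_congr
          exact
            { toFun := fun M => ⟨M.1.1, M.1.2, M.2⟩
              invFun := fun M => ⟨⟨M.1, M.2.1⟩, M.2.2⟩
              left_inv := fun M => rfl
              right_inv := fun M => rfl }
        rw [heq]
        have := (ZMod.natCast_eq_natCast_iff _ _ _).mpr h
        simpa using this
      -- each maximal subgroup contains `≡ 0` cyclic subgroups
      have hM0 : ∀ M : 𝓜, (Nat.card {C : 𝒞 // C.1 ≤ M.1} : ZMod p) = 0 := by
        intro M
        have heq : Nat.card {C : 𝒞 // C.1 ≤ M.1} =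
            Nat.card {C : Subgroup P // C ≤ M.1 ∧ IsCyclic C ∧ Nat.card C = p ^ s} := by
          apply Nat.card_congr
          exact
            { toFun := fun C => ⟨C.1.1, C.2, C.1.2⟩
              invFun := fun C => ⟨⟨C.1, C.2.2⟩, C.2.1⟩
              left_inv := fun C => rfl
              right_inv := fun C => rfl }
        rw [heq, ← card_cyclic_subgroupOf, ZMod.natCast_eq_zero_iff]
        have hn0 : n ≠ 0 := by
          rintro rfl
          have h1 : M.1.index ∣ Nat.card P := M.1.index_dvd_card
          rw [M.2, hn, pow_zero] at h1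
          exact hp.one_lt.ne' (Nat.dvd_one.mp h1)
        have hMcard : Nat.card M.1 = p ^ (n - 1) := by
          have h := M.1.card_mul_index
          rw [M.2, hn] at h
          have h2 : p ^ n = p ^ (n - 1) * p := by
            rw [← pow_succ]; congr 1; omega
          rw [h2] at h
          exact Nat.eq_of_mul_eq_mul_right hp.pos h
        exact IH (n - 1) (by omega) M.1 hMcard (fun hcyc => hex M.1 hcyc M.2)
      have e1 : ((Nat.card Pairs : ℕ) : ZMod p) = (Nat.card 𝒞 : ZMod p) := by
        rw [hcount1]
        push_cast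
        rw [Finset.sum_congr rfl (fun C _ => hC1 C)]
        simp [Nat.card_eq_fintype_card]
      have e2 : ((Nat.card Pairs : ℕ) : ZMod p) = 0 := by
        rw [hcount2]
        push_cast
        rw [Finset.sum_congr rfl (fun M _ => hM0 M)]
        simp
      rw [e1] at e2
      exact (ZMod.natCast_eq_zero_iff _ _).mp e2

/-- **Miller**, for a noncyclic finite `p`-group -/
theorem miller (hodd : p ≠ 2) (s : ℕ) (hs : 2 ≤ s) {P : Type u} [Group P] [Finite P]
    (hP : IsPGroup p P) (hnc : ¬ IsCyclic P) :
    p ∣ Nat.card {C : Subgroup P // IsCyclic C ∧ Nat.card C = p ^ s} := by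
  obtain ⟨n, hn⟩ := IsPGroup.iff_card.mp hP
  exact miller_aux hodd s hs n P hn hnc

end MillerMain

end Cfsg.Agent.Lib.Helper71
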