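import Cfsg.Agent.Lib.Helper60.FHDefs

/-!
# Keystone K-S1142-J (Feit–Higman, number theory part): rationality of `Dclosed` forces
`n ∈ {2,3,4,6,8}` (Niven).
-/

set_option autoImplicit false

open Cfsg.Agent.Lib.Helper60.FH

namespace Cfsg.Agent.Lib.Helper71.FH

open Real

theorem Qr_sq' (q1 q2 : ℝ) (h : 0 ≤ q1 * q2) : Qr q1 q2 ^ 2 = q1 * q2 := by
  unfold Qr
  exact Real.sq_sqrt h

/-- clearing the denominator of `Dclosed` -/
theorem dclosed_mul (q1 q2 : ℝ) (n : ℕ) (θ : ℝ) (hq1 : q1 ≠ 0) (hq2 : q2 ≠ 0)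
    (hs : Real.sin θ ≠ 0) :
    Dclosed q1 q2 n θ * (2 * q1 * q2 * (1 - Real.cos θ ^ 2)) =
      n * (q1 + q2 + 2 * Qr q1 q2 * Real.cos θ) * (q1 * q2 + 1 - 2 * Qr q1 q2 * Real.cos θ) := by
  unfold Dclosed
  rw [← Real.sin_sq θ]
  have h : (2 * q1 * q2 * Real.sin θ ^ 2) ≠ 0 := by positivity
  field_simp

theorem theta_pos (n j : ℕ) (hj : 1 ≤ j) (hn : 0 < n) : 0 < theta n j := by
  unfold theta
  have : (0:ℝ) < j := by exact_mod_cast hj
  have : (0:ℝ) < n := by exact_mod_cast hn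
  positivity

theorem theta_lt_pi (n j : ℕ) (hjn : 2 * j < n) : theta n j < π := by
  unfold theta
  have hn : (0:ℝ) < n := by
    have : 0 < n := by omega
    exact_mod_cast this
  rw [div_lt_iff₀ hn]
  have h : (2 * (j:ℝ)) < n := by exact_mod_cast hjn
  nlinarith [Real.pi_pos]

theorem sin_theta_ne (n j : ℕ) (hj : 1 ≤ j) (hjn : 2 * j < n) : Real.sin (theta n j) ≠ 0 :=
  (Real.sin_pos_of_pos_of_lt_pi (theta_pos n j hj (by omega)) (theta_lt_pi n j hjn)).ne'

/-- the two angles `θ`, `π - θ` together give rationality of `cos² θ` and of `2 Q cos θ` -/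
theorem pair (q1 q2 n : ℕ) (h1 : 2 ≤ q1) (h2 : 2 ≤ q2) (hn : 0 < n) (θ : ℝ)
    (hs : Real.sin θ ≠ 0) (r r' : ℚ)
    (h : Dclosed q1 q2 n θ = (r : ℝ)) (h' : Dclosed q1 q2 n (π - θ) = (r' : ℝ)) :
    (∃ u : ℚ, Real.cos θ ^ 2 = (u : ℝ)) ∧ (∃ v : ℚ, 2 * Qr q1 q2 * Real.cos θ = (v : ℝ)) := by
  have hq1 : (2:ℝ) ≤ (q1:ℝ) := by exact_mod_cast h1
  have hq2 : (2:ℝ) ≤ (q2:ℝ) := by exact_mod_cast h2
  have hnr : (0:ℝ) < (n:ℝ) := by exact_mod_cast hn
  have hQ2 : Qr (q1:ℝ) q2 ^ 2 = (q1:ℝ) * q2 := Qr_sq' _ _ (by positivity)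
  have hs' : Real.sin (π - θ) ≠ 0 := by rwa [Real.sin_pi_sub]
  have E1 := dclosed_mul (q1:ℝ) q2 n θ (by positivity) (by positivity) hs
  have E2 := dclosed_mul (q1:ℝ) q2 n (π - θ) (by positivity) (by positivity) hs'
  rw [h] at E1
  rw [h', Real.cos_pi_sub] at E2
  set c := Real.cos θ with hc
  set Q := Qr (q1:ℝ) q2 with hQ
  -- the sum
  have hsum : c ^ 2 * (2 * (q1:ℝ) * q2 * (4 * n - ((r:ℝ) + r'))) =
      2 * n * (((q1:ℝ) + q2) * (q1 * q2 + 1)) - 2 * q1 * q2 * ((r:ℝ) + r') := by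
    have : Q ^ 2 * c ^ 2 = (q1:ℝ) * q2 * c ^ 2 := by rw [hQ2]
    nlinarith [E1, E2, this]
  have hne : (4 * (n:ℝ) - ((r:ℝ) + r')) ≠ 0 := by
    intro h0
    rw [h0] at hsum
    have h3 : ((q1:ℝ) + q2) * (q1 * q2 + 1) - 4 * (q1 * q2) > 0 := by nlinarith
    have h4 : (r:ℝ) + r' = 4 * n := by linarith
    rw [h4] at hsum
    nlinarith
  have hden : (2 * (q1:ℝ) * q2 * (4 * n - ((r:ℝ) + r'))) ≠ 0 := by
    have : (2 * (q1:ℝ) * q2) ≠ 0 := by positivity
    exact mul_ne_zero this hne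
  have hu : c ^ 2 = (2 * n * (((q1:ℝ) + q2) * (q1 * q2 + 1)) - 2 * q1 * q2 * ((r:ℝ) + r')) /
      (2 * (q1:ℝ) * q2 * (4 * n - ((r:ℝ) + r'))) := by
    rw [eq_div_iff hden]; exact hsum
  -- the difference
  have hdiff : (2 * Q * c) * (2 * n * (((q1:ℝ) - 1) * (q2 - 1))) =
      ((r:ℝ) - r') * (2 * q1 * q2 * (1 - c ^ 2)) := by
    nlinarith [E1, E2]
  have hden2 : (2 * (n:ℝ) * (((q1:ℝ) - 1) * (q2 - 1))) ≠ 0 := by
    have h5 : (0:ℝ) < ((q1:ℝ) - 1) * (q2 - 1) := by nlinarith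
    positivity
  have hv : 2 * Q * c = ((r:ℝ) - r') * (2 * q1 * q2 * (1 - c ^ 2)) /
      (2 * (n:ℝ) * (((q1:ℝ) - 1) * (q2 - 1))) := by
    rw [eq_div_iff hden2]; exact hdiff
  refine ⟨⟨(2 * n * (((q1:ℚ) + q2) * (q1 * q2 + 1)) - 2 * q1 * q2 * (r + r')) /
      (2 * (q1:ℚ) * q2 * (4 * n - (r + r'))), ?_⟩, ?_⟩
  · rw [hu]; push_cast; rfl
  · refine ⟨(r - r') * (2 * q1 * q2 * (1 - (2 * n * (((q1:ℚ) + q2) * (q1 * q2 + 1)) -
      2 * q1 * q2 * (r + r')) / (2 * (q1:ℚ) * q2 * (4 * n - (r + r'))))) /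
      (2 * (n:ℚ) * (((q1:ℚ) - 1) * (q2 - 1))), ?_⟩
    rw [hv, hu]; push_cast; rfl


/-- the odd case: `q1 = q2 = q`, one angle suffices for the rationality of `cos θ` -/
theorem single (q n : ℕ) (h1 : 2 ≤ q) (hn : 0 < n) (θ : ℝ)
    (hs : Real.sin θ ≠ 0) (r : ℚ) (h : Dclosed q q n θ = (r : ℝ)) :
    ∃ u : ℚ, Real.cos θ = (u : ℝ) := by
  have hq1 : (2:ℝ) ≤ (q:ℝ) := by exact_mod_cast h1
  have hnr : (0:ℝ) < (n:ℝ) := by exact_mod_cast hn
  have hQ : Qr (q:ℝ) q = q := by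
    unfold Qr
    exact Real.sqrt_mul_self (by positivity)
  have E1 := dclosed_mul (q:ℝ) q n θ (by positivity) (by positivity) hs
  rw [h, hQ] at E1
  set c := Real.cos θ with hc
  have hc1 : 1 + c ≠ 0 := by
    intro h0
    have : c = -1 := by linarith
    have h2 : Real.sin θ ^ 2 = 0 := by rw [Real.sin_sq, ← hc, this]; norm_num
    exact hs (pow_eq_zero_iff (by norm_num) |>.mp h2)
  -- cancel `2 q (1 + c)`
  have E2 : (r:ℝ) * q * (1 - c) = n * ((q:ℝ) * q + 1 - 2 * q * c) := by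
    have h3 : (2 * (q:ℝ) * (1 + c)) ≠ 0 := by
      have : (2 * (q:ℝ)) ≠ 0 := by positivity
      exact mul_ne_zero this hc1
    apply mul_left_cancel₀ h3
    nlinarith [E1]
  have hsum : c * ((q:ℝ) * (2 * n - r)) = n * ((q:ℝ) * q + 1) - r * q := by nlinarith [E2]
  have hne : (2 * (n:ℝ) - r) ≠ 0 := by
    intro h0
    rw [h0] at hsum
    have h4 : (r:ℝ) = 2 * n := by linarith
    rw [h4] at hsum
    have : (n:ℝ) * (((q:ℝ) - 1) * (q - 1)) = 0 := by nlinarith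
    have h5 : (0:ℝ) < ((q:ℝ) - 1) * (q - 1) := by nlinarith
    have : (0:ℝ) < (n:ℝ) * (((q:ℝ) - 1) * (q - 1)) := by positivity
    linarith
  have hden : ((q:ℝ) * (2 * n - r)) ≠ 0 := by
    have : (q:ℝ) ≠ 0 := by positivity
    exact mul_ne_zero this hne
  refine ⟨(n * ((q:ℚ) * q + 1) - r * q) / ((q:ℚ) * (2 * n - r)), ?_⟩
  push_cast
  rw [eq_div_iff hden]
  exact hsum

/-- Niven: `cos (2π/m)` rational forces `m ∈ {2,3,4,6}` (for `m ≥ 2`). -/
theorem niven_two_div (m : ℕ) (hm : 2 ≤ m) (u : ℚ) (h : Real.cos (2 * π / m) = (u : ℝ)) :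
    m = 2 ∨ m = 3 ∨ m = 4 ∨ m = 6 := by
  have hm0 : (0:ℚ) < (m:ℚ) := by
    have : 0 < m := by omega
    exact_mod_cast this
  have hm2 : (2:ℚ) ≤ (m:ℚ) := by exact_mod_cast hm
  have key := niven_angle_div_pi_eq (r := (2:ℚ) / m)
    ⟨u, by rw [← h]; congr 1; push_cast; ring⟩
    ⟨by positivity, by rw [div_le_one hm0]; exact hm2⟩
  simp only [Set.mem_insert_iff, Set.mem_singleton_iff] at key
  have hmne : (m:ℚ) ≠ 0 := hm0.ne'
  rcases key with k | k | k | k | k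
  · rw [div_eq_zero_iff] at k
    rcases k with k | k
    · norm_num at k
    · exact absurd k hmne
  · right; right; right
    rw [div_eq_iff hmne] at k
    have : (m:ℚ) = 6 := by linarith
    exact_mod_cast this
  · right; right; left
    rw [div_eq_iff hmne] at k
    have : (m:ℚ) = 4 := by linarith
    exact_mod_cast this
  · right; left
    rw [div_eq_iff hmne] at k
    have : (m:ℚ) = 3 := by linarith
    exact_mod_cast this
  · left
    rw [div_eq_iff hmne] at k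
    have : (m:ℚ) = 2 := by linarith
    exact_mod_cast this


theorem theta_partner (m j : ℕ) (hm : 0 < m) (hj : j ≤ m) :
    theta (m + m) (m - j) = π - theta (m + m) j := by
  unfold theta
  have hm' : (m:ℝ) ≠ 0 := by
    have : (0:ℝ) < m := by exact_mod_cast hm
    exact this.ne'
  push_cast [Nat.cast_sub hj]
  field_simp
  ring

/-- **K-S1142-J** -/
theorem nt (q1 q2 n : ℕ) (h1 : 2 ≤ q1) (h2 : 2 ≤ q2) (hn : 2 ≤ n) (hodd : Odd n → q1 = q2)
    (hrat : ∀ j : ℕ, 1 ≤ j → 2 * j < n → ∃ r : ℚ, Dclosed q1 q2 n (theta n j) = (r : ℝ)) :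
    n = 2 ∨ n = 3 ∨ n = 4 ∨ n = 6 ∨ n = 8 := by
  rcases Nat.even_or_odd n with he | ho
  · -- even case
    obtain ⟨m, hm⟩ := he
    by_cases hm1 : m = 1
    · left; omega
    have hm2 : 2 ≤ m := by omega
    subst hm
    have hmr : (m:ℝ) ≠ 0 := by
      have : (0:ℝ) < m := by exact_mod_cast (by omega : 0 < m)
      exact this.ne'
    obtain ⟨r, hr⟩ := hrat 1 le_rfl (by omega)
    obtain ⟨r', hr'⟩ := hrat (m - 1) (by omega) (by omega)
    rw [theta_partner m 1 (by omega) (by omega)] at hr'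
    obtain ⟨⟨u, hu⟩, _⟩ := pair q1 q2 (m + m) h1 h2 (by omega) (theta (m + m) 1)
      (sin_theta_ne (m + m) 1 le_rfl (by omega)) r r' hr hr'
    have hcos : Real.cos (2 * π / m) = ((2 * u - 1 : ℚ) : ℝ) := by
      have h3 : 2 * π / m = 2 * theta (m + m) 1 := by
        unfold theta; push_cast; field_simp; ring
      rw [h3, Real.cos_two_mul, hu]; push_cast; ring
    rcases niven_two_div m hm2 _ hcos with h | h | h | h
    · right; right; left; omega
    · right; right; right; left; omega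
    · right; right; right; right; omega
    · -- `m = 6`, `n = 12`
      exfalso
      subst h
      obtain ⟨ra, hra⟩ := hrat 1 le_rfl (by omega)
      obtain ⟨ra', hra'⟩ := hrat (6 - 1) (by omega) (by omega)
      rw [theta_partner 6 1 (by omega) (by omega)] at hra'
      obtain ⟨_, ⟨v1, hv1⟩⟩ := pair q1 q2 (6 + 6) h1 h2 (by omega) (theta (6 + 6) 1)
        (sin_theta_ne (6 + 6) 1 le_rfl (by omega)) ra ra' hra hra'
      obtain ⟨rb, hrb⟩ := hrat 2 (by omega) (by omega)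
      obtain ⟨rb', hrb'⟩ := hrat (6 - 2) (by omega) (by omega)
      rw [theta_partner 6 2 (by omega) (by omega)] at hrb'
      obtain ⟨_, ⟨v2, hv2⟩⟩ := pair q1 q2 (6 + 6) h1 h2 (by omega) (theta (6 + 6) 2)
        (sin_theta_ne (6 + 6) 2 (by omega) (by omega)) rb rb' hrb hrb'
      have ht1 : theta (6 + 6) 1 = π / 6 := by unfold theta; push_cast; ring
      have ht2 : theta (6 + 6) 2 = π / 3 := by unfold theta; push_cast; ring
      rw [ht1, Real.cos_pi_div_six] at hv1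
      rw [ht2, Real.cos_pi_div_three] at hv2
      have hQpos : 0 < Qr (q1:ℝ) q2 := by
        unfold Qr
        apply Real.sqrt_pos.mpr
        have : (0:ℝ) < q1 := by exact_mod_cast (by omega : 0 < q1)
        have : (0:ℝ) < q2 := by exact_mod_cast (by omega : 0 < q2)
        positivity
      have hQ : Qr (q1:ℝ) q2 = (v2:ℝ) := by linarith
      have hv2pos : (0:ℝ) < (v2:ℝ) := by rw [← hQ]; exact hQpos
      have hirr : Irrational (√(3:ℝ)) := by
        have := Nat.Prime.irrational_sqrt (by norm_num : Nat.Prime 3)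
        simpa using this
      apply hirr
      refine ⟨v1 / v2, ?_⟩
      push_cast
      rw [div_eq_iff hv2pos.ne']
      rw [hQ] at hv1
      linarith
  · -- odd case
    have hq := hodd ho
    subst hq
    have hn3 : 3 ≤ n := by
      obtain ⟨k, hk⟩ := ho
      omega
    obtain ⟨r, hr⟩ := hrat 1 le_rfl (by omega)
    obtain ⟨u, hu⟩ := single q1 n h1 (by omega) (theta n 1)
      (sin_theta_ne n 1 le_rfl (by omega)) r hr
    have h3 : theta n 1 = 2 * π / n := by unfold theta; push_cast; ring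
    rw [h3] at hu
    rcases niven_two_div n hn u hu with h | h | h | h
    · left; exact h
    · right; left; exact h
    · exfalso; subst h; exact absurd ho (by decide)
    · exfalso; subst h; exact absurd ho (by decide)

end Cfsg.Agent.Lib.Helper71.FH
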