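import Mathlib

set_option autoImplicit false

namespace Cfsg.Agent.Lib.Helper71

/-- Conjugation action of a subgroup `Z` on a subgroup `Ω` it normalizes. -/
@[reducible] def conjActOn {G : Type*} [Group G] (Z Ω : Subgroup G)
    (h : ∀ z ∈ Z, ∀ ω ∈ Ω, z * ω * z⁻¹ ∈ Ω) : MulAction Z Ω where
  smul z ω := ⟨z * ω * (z : G)⁻¹, h z z.2 ω ω.2⟩
  one_smul ω := by
    apply Subtype.ext
    change ((1 : Z) : G) * ω * ((1 : Z) : G)⁻¹ = ω
    simp
  mul_smul a b ω := by
    apply Subtype.ext
    change ((a * b : Z) : G) * ω * ((a * b : Z) : G)⁻¹ = (a : G) * ((b : G) * ω * (b : G)⁻¹) * (a : G)⁻¹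
    simp [mul_assoc]

/-- If an `r`-group `Z` normalizes `Ω`, the number of elements of `Ω` is congruent modulo `r` to
the number of those centralized by `Z`. -/
theorem card_modEq_card_inf_centralizer {G : Type*} [Group G] [Finite G] (r : ℕ) [Fact r.Prime]
    (Z Ω : Subgroup G) (hZ : IsPGroup r Z) (h : ∀ z ∈ Z, ∀ ω ∈ Ω, z * ω * z⁻¹ ∈ Ω) :
    Nat.card Ω ≡ Nat.card (Ω ⊓ Subgroup.centralizer (Z : Set G) : Subgroup G) [MOD r] := by
  let _ := conjActOn Z Ω h
  have h1 := hZ.card_modEq_card_fixedPoints Ω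
  have h2 : Nat.card (MulAction.fixedPoints Z Ω) =
      Nat.card (Ω ⊓ Subgroup.centralizer (Z : Set G) : Subgroup G) := by
    apply Nat.card_congr
    refine
      { toFun := fun x => ⟨(x.1 : G), ?_⟩
        invFun := fun x => ⟨⟨(x : G), (Subgroup.mem_inf.mp x.2).1⟩, ?_⟩
        left_inv := fun x => rfl
        right_inv := fun x => rfl }
    · refine Subgroup.mem_inf.mpr ⟨x.1.2, ?_⟩
      rw [Subgroup.mem_centralizer_iff]
      intro z hz
      have h3 := x.2 ⟨z, hz⟩
      have h4 : z * (x.1 : G) * z⁻¹ = (x.1 : G) := congrArg Subtype.val h3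
      exact mul_inv_eq_iff_eq_mul.mp h4
    · intro z
      apply Subtype.ext
      change (z : G) * (x : G) * (z : G)⁻¹ = (x : G)
      have h3 := (Subgroup.mem_centralizer_iff.mp (Subgroup.mem_inf.mp x.2).2) z z.2
      rw [h3]; group
  rw [← h2]
  exact h1

/-- A `p'`-element normalizing an abelian `p`-subgroup `P` and centralizing all elements of order
dividing `p` of `P` centralizes `P`. -/
theorem conj_eq_of_conj_eq_on_omega {G : Type*} [Group G] (p : ℕ) (P : Subgroup G)
    (hcomm : ∀ a ∈ P, ∀ b ∈ P, a * b = b * a) (hP : IsPGroup p P) (g : G)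
    (hg : ∀ x ∈ P, g * x * g⁻¹ ∈ P) (hcop : Nat.Coprime (orderOf g) p)
    (hΩ : ∀ x ∈ P, x ^ p = 1 → g * x * g⁻¹ = x) : ∀ x ∈ P, g * x * g⁻¹ = x := by
  have key : ∀ k : ℕ, ∀ x ∈ P, x ^ p ^ k = 1 → g * x * g⁻¹ = x := by
    intro k
    induction k with
    | zero =>
      intro x _ hx
      rw [pow_zero, pow_one] at hx
      rw [hx]; group
    | succ k ih =>
      intro x hxP hx
      have hxp : (x ^ p) ^ p ^ k = 1 := by rw [← pow_mul, ← pow_succ']; exact hx
      have h1 : g * x ^ p * g⁻¹ = x ^ p := ih (x ^ p) (P.pow_mem hxP p) hxp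
      set x' := g * x * g⁻¹ with hx'
      have hx'P : x' ∈ P := hg x hxP
      have h2 : x' ^ p = x ^ p := by rw [hx', conj_pow, h1]
      set w := x' * x⁻¹ with hw
      have hwP : w ∈ P := P.mul_mem hx'P (P.inv_mem hxP)
      have hcx : Commute x' x⁻¹ := hcomm x' hx'P x⁻¹ (P.inv_mem hxP)
      have hwp : w ^ p = 1 := by
        rw [hw, hcx.mul_pow, h2, inv_pow, mul_inv_cancel]
      have hgw : g * w * g⁻¹ = w := hΩ w hwP hwp
      have hgx : g * x * g⁻¹ = w * x := by rw [hw, inv_mul_cancel_right]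
      have hj : ∀ j : ℕ, g ^ j * x * (g ^ j)⁻¹ = w ^ j * x := by
        intro j
        induction j with
        | zero => simp
        | succ j ihj =>
          calc g ^ (j + 1) * x * (g ^ (j + 1))⁻¹ = g * (g ^ j * x * (g ^ j)⁻¹) * g⁻¹ := by
                rw [pow_succ']; group
            _ = g * (w ^ j * x) * g⁻¹ := by rw [ihj]
            _ = (g * w * g⁻¹) ^ j * (g * x * g⁻¹) := by rw [conj_pow]; group
            _ = w ^ (j + 1) * x := by rw [hgw, hgx, pow_succ]; group
      have h3 := hj (orderOf g)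
      rw [pow_orderOf_eq_one, one_mul, inv_one, mul_one] at h3
      have hwm : w ^ orderOf g = 1 := by
        have : w ^ orderOf g * x = 1 * x := by rw [one_mul]; exact h3.symm
        exact mul_right_cancel this
      have hw1 : w = 1 := by
        have hd1 : orderOf w ∣ orderOf g := orderOf_dvd_of_pow_eq_one hwm
        have hd2 : orderOf w ∣ p := orderOf_dvd_of_pow_eq_one hwp
        have : orderOf w = 1 := Nat.eq_one_of_dvd_coprimes hcop hd1 hd2
        exact orderOf_eq_one_iff.mp this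
      calc x' = g * x * g⁻¹ := hx'
        _ = w * x := hgx
        _ = x := by rw [hw1, one_mul]
  intro x hxP
  obtain ⟨k, hk⟩ := hP ⟨x, hxP⟩
  have hk' : x ^ p ^ k = 1 := by
    have := congrArg Subtype.val hk
    simpa using this
  exact key k x hxP hk'

end Cfsg.Agent.Lib.Helper71
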