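import Mathlib

set_option autoImplicit false

namespace Cfsg.Agent.Lib.Helper71

open scoped Pointwise

/-- In a commutative group of exponent dividing `p`, a subgroup generated by `k` elements has at
most `p ^ k` elements. -/
theorem card_closure_le_pow {W : Type*} [CommGroup W] [Finite W] (p : ℕ) (hp : 0 < p)
    (hW : ∀ w : W, w ^ p = 1) (S : Finset W) :
    Nat.card (Subgroup.closure (S : Set W)) ≤ p ^ S.card := by
  classical
  induction S using Finset.induction_on with
  | empty =>
    simp
  | insert a S ha ih =>
    rw [Finset.coe_insert, Set.insert_eq, Subgroup.closure_union, ← Subgroup.zpowers_eq_closure,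
      Finset.card_insert_of_notMem ha, pow_succ']
    have h1 : Nat.card (Subgroup.zpowers a ⊔ Subgroup.closure (S : Set W) : Subgroup W) ≤
        Nat.card (Subgroup.zpowers a) * Nat.card (Subgroup.closure (S : Set W)) := by
      have h2 : ((Subgroup.zpowers a ⊔ Subgroup.closure (S : Set W) : Subgroup W) : Set W) =
          (Subgroup.zpowers a : Set W) * (Subgroup.closure (S : Set W) : Set W) :=
        Subgroup.mul_normal _ _
      calc Nat.card (Subgroup.zpowers a ⊔ Subgroup.closure (S : Set W) : Subgroup W)
          = Nat.card ((Subgroup.zpowers a : Set W) * (Subgroup.closure (S : Set W) : Set W) : Set W) := by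
            rw [← h2]; rfl
        _ ≤ _ := Set.natCard_mul_le
    have h3 : Nat.card (Subgroup.zpowers a) ≤ p := by
      rw [Nat.card_zpowers]
      exact Nat.le_of_dvd hp (orderOf_dvd_of_pow_eq_one (hW a))
    calc _ ≤ _ := h1
      _ ≤ p * p ^ S.card := Nat.mul_le_mul h3 ih

/-- In a finite commutative group generated by `k` elements the subgroup of `p`-th powers has index
at most `p ^ k`. -/
theorem index_range_pow_le {A : Type*} [CommGroup A] [Finite A] (p : ℕ) (hp : 0 < p)
    (S : Finset A) (hS : Subgroup.closure (S : Set A) = ⊤) :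
    (powMonoidHom p : A →* A).range.index ≤ p ^ S.card := by
  classical
  set B : Subgroup A := (powMonoidHom p : A →* A).range with hB
  let π : A →* A ⧸ B := QuotientGroup.mk' B
  have hW : ∀ w : A ⧸ B, w ^ p = 1 := by
    intro w
    obtain ⟨a, rfl⟩ := QuotientGroup.mk'_surjective B w
    rw [← map_pow, QuotientGroup.mk'_apply, QuotientGroup.eq_one_iff]
    exact ⟨a, rfl⟩
  have h1 := card_closure_le_pow p hp hW (S.image π)
  have h2 : Subgroup.closure ((S.image π : Finset (A ⧸ B)) : Set (A ⧸ B)) = ⊤ := by
    rw [Finset.coe_image, ← MonoidHom.map_closure, hS, ← MonoidHom.range_eq_map,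
      MonoidHom.range_eq_top]
    exact QuotientGroup.mk'_surjective B
  rw [h2] at h1
  have h3 : Nat.card (⊤ : Subgroup (A ⧸ B)) = B.index := by
    rw [Subgroup.card_top, Subgroup.index_eq_card]
  rw [h3] at h1
  exact h1.trans (Nat.pow_le_pow_right hp Finset.card_image_le)

/-- In a finite commutative group the number of solutions of `x ^ p = 1` is the index of the
subgroup of `p`-th powers. -/
theorem card_ker_pow_eq_index_range {A : Type*} [CommGroup A] [Finite A] (p : ℕ) :
    Nat.card (powMonoidHom p : A →* A).ker = (powMonoidHom p : A →* A).range.index := by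
  have h1 := (powMonoidHom p : A →* A).ker.card_mul_index
  have h2 := (powMonoidHom p : A →* A).range.card_mul_index
  rw [Subgroup.index_ker] at h1
  have hpos : 0 < Nat.card (powMonoidHom p : A →* A).range := Nat.card_pos
  apply Nat.eq_of_mul_eq_mul_right hpos
  rw [h1, mul_comm, h2]

/-- In a finite commutative group generated by `k` elements there are at most `p ^ k` solutions
of `x ^ p = 1`. -/
theorem card_ker_pow_le {A : Type*} [CommGroup A] [Finite A] (p : ℕ) (hp : 0 < p)
    (S : Finset A) (hS : Subgroup.closure (S : Set A) = ⊤) :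
    Nat.card (powMonoidHom p : A →* A).ker ≤ p ^ S.card := by
  rw [card_ker_pow_eq_index_range]
  exact index_range_pow_le p hp S hS

end Cfsg.Agent.Lib.Helper71
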