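import Mathlib
import Cfsg.Agent.Lib.Helper71.CoprimeAction
import Cfsg.Agent.Lib.Helper71.PRank
import Cfsg.Agent.Lib.Helper71.DirectFactor

set_option autoImplicit false

namespace Cfsg.Agent.Lib.Helper71

open scoped IsMulCommutative

/-- The subgroup of elements of order dividing `p` in a commutative subgroup `P`, inside `G`. -/
noncomputable def omegaOne {G : Type*} [Group G] (p : ℕ) (P : Subgroup G)
    [IsMulCommutative P] : Subgroup G :=
  ((powMonoidHom p : P →* P).ker).map P.subtype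

theorem mem_omegaOne {G : Type*} [Group G] (p : ℕ) (P : Subgroup G) [IsMulCommutative P] (x : G) :
    x ∈ omegaOne p P ↔ x ∈ P ∧ x ^ p = 1 := by
  unfold omegaOne
  constructor
  · rintro ⟨y, hy, rfl⟩
    refine ⟨y.2, ?_⟩
    have : y ^ p = 1 := hy
    have h2 := congrArg Subtype.val this
    simpa using h2
  · rintro ⟨hx, hxp⟩
    refine ⟨⟨x, hx⟩, ?_, rfl⟩
    change (⟨x, hx⟩ : P) ^ p = 1
    apply Subtype.ext
    simpa using hxp

theorem card_omegaOne_le {G : Type*} [Group G] [Finite G] (p : ℕ) (hp : 0 < p) (P : Subgroup G)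
    [IsMulCommutative P] : Nat.card (omegaOne p P) ≤ p ^ Group.rank P := by
  obtain ⟨S, hScard, hSgen⟩ := Group.rank_spec P
  have h1 : Nat.card (powMonoidHom p : P →* P).ker ≤ p ^ S.card := card_ker_pow_le p hp S hSgen
  rw [hScard] at h1
  have h2 : Nat.card (omegaOne p P) = Nat.card (powMonoidHom p : P →* P).ker :=
    Nat.card_congr (((powMonoidHom p : P →* P).ker).equivMapOfInjective P.subtype
      P.subtype_injective).symm.toEquiv
  rw [h2]; exact h1

/-- Key step: in the situation of the theorem, an `r`-element of `N_G(P)` which does not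
centralize the abelian `p`-group `P` forces `r ∣ p ^ i - 1` for some `1 ≤ i ≤ d`, where
`p ^ d` bounds the number of elements of order dividing `p`. -/
theorem exists_dvd_pow_sub_one_of_not_centralize' {G : Type*} [Group G] [Finite G] (p : ℕ)
    [hpf : Fact p.Prime] (P : Subgroup G) [IsMulCommutative P] (hP : IsPGroup p P) (d : ℕ)
    (hd : Nat.card (omegaOne p P) ≤ p ^ d) (r : ℕ)
    (hr : r.Prime) (hrp : r ≠ p) (g : G) (hgN : g ∈ Subgroup.normalizer (P : Set G)) (k : ℕ)
    (hk : orderOf g = r ^ k) (hgC : g ∉ Subgroup.centralizer (P : Set G)) :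
    ∃ i : ℕ, 1 ≤ i ∧ i ≤ d ∧ r ∣ p ^ i - 1 := by
  have hp : p.Prime := hpf.out
  have hcomm : ∀ a ∈ P, ∀ b ∈ P, a * b = b * a := by
    intro a ha b hb
    have := mul_comm (⟨a, ha⟩ : P) ⟨b, hb⟩
    exact congrArg Subtype.val this
  have hgP : ∀ x ∈ P, g * x * g⁻¹ ∈ P := fun x hx => (Subgroup.mem_normalizer_iff.mp hgN x).mp hx
  have hcopg : Nat.Coprime (orderOf g) p := by
    rw [hk]; exact Nat.Coprime.pow_left k ((Nat.coprime_primes hr hp).mpr hrp)
  have hnot : ¬ ∀ x ∈ P, x ^ p = 1 → g * x * g⁻¹ = x := by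
    intro hΩ
    apply hgC
    rw [Subgroup.mem_centralizer_iff]
    intro x hx
    have h1 := conj_eq_of_conj_eq_on_omega p P hcomm hP g hgP hcopg hΩ x hx
    exact (mul_inv_eq_iff_eq_mul.mp h1).symm
  have : Fact r.Prime := ⟨hr⟩
  set Ω := omegaOne p P with hΩdef
  set Z := Subgroup.zpowers g with hZdef
  have hZ : IsPGroup r Z := IsPGroup.of_card (n := k) (by rw [Nat.card_zpowers, hk])
  have hZN : Z ≤ Subgroup.normalizer (P : Set G) := Subgroup.zpowers_le.mpr hgN
  have hZΩ : ∀ z ∈ Z, ∀ ω ∈ Ω, z * ω * z⁻¹ ∈ Ω := by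
    intro z hz ω hω
    rw [hΩdef, mem_omegaOne] at hω ⊢
    refine ⟨(Subgroup.mem_normalizer_iff.mp (hZN hz) ω).mp hω.1, ?_⟩
    rw [conj_pow, hω.2]; group
  have hmod := card_modEq_card_inf_centralizer r Z Ω hZ hZΩ
  have hΩP : Ω ≤ P := fun x hx => ((mem_omegaOne p P x).mp hx).1
  have hΩp : IsPGroup p Ω := hP.to_le hΩP
  obtain ⟨e, he⟩ := IsPGroup.iff_card.mp hΩp
  obtain ⟨c, hc⟩ := IsPGroup.iff_card.mp (hΩp.to_le (inf_le_left :
    Ω ⊓ Subgroup.centralizer (Z : Set G) ≤ Ω))
  have hlt : c < e := by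
    by_contra hce
    rw [not_lt] at hce
    have hcard : Nat.card Ω ≤ Nat.card (Ω ⊓ Subgroup.centralizer (Z : Set G) : Subgroup G) := by
      rw [he, hc]; exact Nat.pow_le_pow_right hp.pos hce
    have heq : Ω ⊓ Subgroup.centralizer (Z : Set G) = Ω :=
      Subgroup.eq_of_le_of_card_ge inf_le_left hcard
    apply hnot
    intro x hxP hxp
    have hxΩ : x ∈ Ω := (mem_omegaOne p P x).mpr ⟨hxP, hxp⟩
    rw [← heq] at hxΩ
    have h2 := (Subgroup.mem_centralizer_iff.mp (Subgroup.mem_inf.mp hxΩ).2) g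
      (Subgroup.mem_zpowers g)
    rw [h2]; group
  have hed : e ≤ d := by
    have h1 := hd
    rw [he] at h1
    exact (Nat.pow_le_pow_iff_right hp.one_lt).mp h1
  refine ⟨e - c, by omega, by omega, ?_⟩
  rw [he, hc] at hmod
  have h3 : r ∣ p ^ e - p ^ c :=
    (Nat.modEq_iff_dvd' (Nat.pow_le_pow_right hp.pos hlt.le)).mp hmod.symm
  have h4 : p ^ e - p ^ c = p ^ c * (p ^ (e - c) - 1) := by
    rw [Nat.mul_sub, mul_one, ← pow_add]
    congr 2; omega
  rw [h4] at h3
  rcases (Nat.Prime.dvd_mul hr).mp h3 with h5 | h5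
  · exfalso
    have := (Nat.prime_dvd_prime_iff_eq hr hp).mp (hr.dvd_of_dvd_pow h5)
    exact hrp this
  · exact h5

theorem exists_dvd_pow_sub_one_of_not_centralize {G : Type*} [Group G] [Finite G] (p : ℕ)
    [hpf : Fact p.Prime] (P : Subgroup G) [IsMulCommutative P] (hP : IsPGroup p P) (r : ℕ)
    (hr : r.Prime) (hrp : r ≠ p) (g : G) (hgN : g ∈ Subgroup.normalizer (P : Set G)) (k : ℕ)
    (hk : orderOf g = r ^ k) (hgC : g ∉ Subgroup.centralizer (P : Set G)) :
    ∃ i : ℕ, 1 ≤ i ∧ i ≤ Group.rank P ∧ r ∣ p ^ i - 1 :=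
  exists_dvd_pow_sub_one_of_not_centralize' p P hP (Group.rank P)
    (card_omegaOne_le p hpf.out.pos P) r hr hrp g hgN k hk hgC

/-- If the order of `G` is coprime to `∏ (p ^ i - 1)` for `i ≤ d`, where `p ^ d` bounds the number
of elements of order dividing `p` in an abelian Sylow `p`-subgroup `P`, then `N_G(P) = C_G(P)`. -/
theorem normalizer_le_centralizer_of_coprime' {G : Type*} [Group G] [Finite G] (p : ℕ)
    [hpf : Fact p.Prime] (P : Sylow p G) [IsMulCommutative (P : Subgroup G)] (d : ℕ)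
    (hd : Nat.card (omegaOne p (P : Subgroup G)) ≤ p ^ d)
    (hcop : Nat.Coprime (Nat.card G) (∏ i ∈ Finset.Icc 1 d, (p ^ i - 1))) :
    Subgroup.normalizer ((P : Subgroup G) : Set G) ≤
      Subgroup.centralizer ((P : Subgroup G) : Set G) := by
  have hp : p.Prime := hpf.out
  have key : ∀ r : ℕ, r.Prime → r ≠ p → ∀ g ∈ Subgroup.normalizer ((P : Subgroup G) : Set G),
      ∀ k : ℕ, orderOf g = r ^ k → g ∈ Subgroup.centralizer ((P : Subgroup G) : Set G) := by
    intro r hr hrp g hgN k hk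
    by_contra hgC
    obtain ⟨i, hi1, hid, hri⟩ := exists_dvd_pow_sub_one_of_not_centralize' p (P : Subgroup G)
      P.isPGroup' d hd r hr hrp g hgN k hk hgC
    have hr2 : r ∣ ∏ i ∈ Finset.Icc 1 d, (p ^ i - 1) :=
      hri.trans (Finset.dvd_prod_of_mem _ (Finset.mem_Icc.mpr ⟨hi1, hid⟩))
    have hk0 : k ≠ 0 := by
      rintro rfl
      rw [pow_zero, orderOf_eq_one_iff] at hk
      rw [hk] at hgC
      exact hgC (Subgroup.one_mem _)
    have hr3 : r ∣ Nat.card G := (dvd_pow_self r hk0).trans (hk ▸ orderOf_dvd_natCard g)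
    exact hr.one_lt.ne' (Nat.eq_one_of_dvd_coprimes hcop hr3 hr2)
  set N := Subgroup.normalizer ((P : Subgroup G) : Set G) with hN
  have htop : (Subgroup.centralizer ((P : Subgroup G) : Set G)).subgroupOf N = ⊤ := by
    apply eq_top_of_forall_sylow_le
    intro r hr
    by_cases hrp : r = p
    · subst hrp
      refine ⟨P.subtype Subgroup.le_normalizer, ?_⟩
      intro y hy
      rw [Sylow.coe_subtype, Subgroup.mem_subgroupOf] at hy
      rw [Subgroup.mem_subgroupOf, Subgroup.mem_centralizer_iff]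
      intro x hx
      have := mul_comm (⟨x, hx⟩ : (P : Subgroup G)) ⟨(y : G), hy⟩
      exact congrArg Subtype.val this
    · obtain ⟨S⟩ : Nonempty (Sylow r N) := inferInstance
      refine ⟨S, ?_⟩
      intro y hy
      obtain ⟨k, hk⟩ := exists_orderOf_eq_of_mem_sylow r S hy
      rw [Subgroup.mem_subgroupOf]
      exact key r hr.out hrp (y : G) y.2 k (by rw [← hk]; exact Subgroup.orderOf_coe y)
  exact Subgroup.subgroupOf_eq_top.mp htop

/-- If the order of `G` is coprime to `∏ (p ^ i - 1)` for `i` up to the rank of an abelian Sylow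
`p`-subgroup `P`, then `N_G(P) = C_G(P)`. -/
theorem normalizer_le_centralizer_of_coprime {G : Type*} [Group G] [Finite G] (p : ℕ)
    [hpf : Fact p.Prime] (P : Sylow p G) [IsMulCommutative (P : Subgroup G)] (d : ℕ)
    (hd : Group.rank (P : Subgroup G) ≤ d)
    (hcop : Nat.Coprime (Nat.card G) (∏ i ∈ Finset.Icc 1 d, (p ^ i - 1))) :
    Subgroup.normalizer ((P : Subgroup G) : Set G) ≤
      Subgroup.centralizer ((P : Subgroup G) : Set G) :=
  normalizer_le_centralizer_of_coprime' p P d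
    ((card_omegaOne_le p hpf.out.pos (P : Subgroup G)).trans
      (Nat.pow_le_pow_right hpf.out.pos hd)) hcop

end Cfsg.Agent.Lib.Helper71
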