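import Mathlib

set_option autoImplicit false
set_option linter.style.haveILetI false

namespace Cfsg.Agent.Lib.Helper71

/-- `U` has a cyclic subgroup of index at most two (phrased with a generator). -/
def HasBigCyclic (U : Type*) [Group U] : Prop := ∃ c : U, Nat.card U ≤ 2 * orderOf c

theorem HasBigCyclic.subgroup {U : Type*} [Group U] [Finite U] (h : HasBigCyclic U)
    (K : Subgroup U) : HasBigCyclic K := by
  obtain ⟨c, hc⟩ := h
  set Z := Subgroup.zpowers c with hZ
  set D := K ⊓ Z with hD
  have hDZ : D ≤ Z := inf_le_right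
  have hDK : D ≤ K := inf_le_left
  haveI : IsCyclic Z := by rw [hZ]; infer_instance
  haveI : IsCyclic D := Subgroup.isCyclic_of_le hDZ
  obtain ⟨e, he⟩ := IsCyclic.exists_generator (α := D)
  have hoe : orderOf e = Nat.card D := orderOf_eq_card_of_forall_mem_zpowers he
  refine ⟨⟨e.1, hDK e.2⟩, ?_⟩
  have h0 : orderOf (⟨e.1, hDK e.2⟩ : K) = orderOf e := by
    rw [Subgroup.orderOf_mk, Subgroup.orderOf_coe]
  rw [h0, hoe]
  have h1 : D.relIndex K = Z.relIndex K := Subgroup.inf_relIndex_left K Z
  have hfin : Z.relIndex ⊤ ≠ 0 := by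
    rw [Subgroup.relIndex_top_right]
    exact Subgroup.index_ne_zero_of_finite
  have h2 : Z.relIndex K ≤ Z.relIndex ⊤ := Subgroup.relIndex_le_of_le_right le_top hfin
  rw [Subgroup.relIndex_top_right] at h2
  have h3 : Z.index ≤ 2 := by
    have h4 := Z.card_mul_index
    rw [hZ, Nat.card_zpowers] at h4
    have hpos : 0 < orderOf c := orderOf_pos c
    rw [← h4] at hc
    rw [mul_comm 2] at hc
    exact Nat.le_of_mul_le_mul_left hc hpos
  have h5 : Nat.card (D.subgroupOf K) = Nat.card D :=
    Nat.card_congr (Subgroup.subgroupOfEquivOfLe hDK).toEquiv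
  have h6 := (D.subgroupOf K).card_mul_index
  rw [h5] at h6
  have h7 : (D.subgroupOf K).index = D.relIndex K := rfl
  rw [h7, h1] at h6
  rw [← h6, mul_comm]
  exact Nat.mul_le_mul_right _ (le_trans h2 h3)

theorem HasBigCyclic.of_injective {U V : Type*} [Group U] [Finite U] [Group V]
    (h : HasBigCyclic U) (f : V →* U) (hf : Function.Injective f) : HasBigCyclic V := by
  obtain ⟨c, hc⟩ := h.subgroup f.range
  let e := MonoidHom.ofInjective hf
  refine ⟨e.symm c, ?_⟩
  rw [MulEquiv.orderOf_eq, Nat.card_congr e.toEquiv]
  exact hc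

/-- iterates of the map induced on subgroups. -/
theorem iterate_map_mulAut {U : Type*} [Group U] (α : MulAut U) (n : ℕ) (M : Subgroup U) :
    (fun M : Subgroup U => M.map α.toMonoidHom)^[n] M = M.map (α ^ n).toMonoidHom := by
  induction n with
  | zero =>
    simp only [Function.iterate_zero, id_eq, pow_zero]
    ext x
    simp
  | succ n ih =>
    rw [Function.iterate_succ_apply', ih, Subgroup.map_map]
    congr 1
    rw [pow_succ']
    rfl

/-- restriction of an automorphism to an invariant subgroup. -/
noncomputable def restrictMulAut {U : Type*} [Group U] (α : MulAut U) (K : Subgroup U)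
    (hK : K.map α.toMonoidHom = K) : MulAut K :=
  (α.subgroupMap K).trans (MulEquiv.subgroupCongr hK)

theorem restrictMulAut_apply {U : Type*} [Group U] (α : MulAut U) (K : Subgroup U)
    (hK : K.map α.toMonoidHom = K) (x : K) : ((restrictMulAut α K hK x : K) : U) = α x := rfl

theorem restrictMulAut_pow_apply {U : Type*} [Group U] (α : MulAut U) (K : Subgroup U)
    (hK : K.map α.toMonoidHom = K) (n : ℕ) (x : K) :
    (((restrictMulAut α K hK) ^ n) x : U) = (α ^ n) x := by
  induction n generalizing x with
  | zero => simp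
  | succ n ih =>
    rw [pow_succ', pow_succ', MulAut.mul_apply, MulAut.mul_apply, restrictMulAut_apply, ih]

theorem index_two_unique {U : Type*} [Group U] (c d : U)
    (hcd : Subgroup.closure ({c, d} : Set U) = ⊤) (M1 M2 : Subgroup U) (h1 : M1.index = 2)
    (h2 : M2.index = 2) (hc : c ∈ M1 ↔ c ∈ M2) (hd : d ∈ M1 ↔ d ∈ M2) : M1 = M2 := by
  let T : Subgroup U :=
    { carrier := {x | x ∈ M1 ↔ x ∈ M2}
      mul_mem' := by
        intro x y hx hy
        simp only [Set.mem_ofPred_eq] at hx hy ⊢
        rw [Subgroup.mul_mem_iff_of_index_two h1, Subgroup.mul_mem_iff_of_index_two h2, hx, hy]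
      one_mem' := by simp
      inv_mem' := by
        intro x hx
        simp only [Set.mem_ofPred_eq] at hx ⊢
        rw [inv_mem_iff, inv_mem_iff, hx] }
  have hT : T = ⊤ := by
    rw [eq_top_iff, ← hcd, Subgroup.closure_le]
    intro x hx
    rcases hx with rfl | rfl
    · exact hc
    · exact hd
  ext x
  have : x ∈ T := by rw [hT]; trivial
  exact this

theorem mulAut_eq_one_of_hasBigCyclic.{u} : ∀ (k : ℕ) (U : Type u) [Group U] [Finite U],
    Nat.card U = 2 ^ k → HasBigCyclic U → ∀ (α : MulAut U) (w : ℕ), Nat.Coprime w 6 →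
    α ^ w = 1 → α = 1 := by
  have hcyc : ∀ (k : ℕ) (U : Type u) [Group U] [Finite U], Nat.card U = 2 ^ k → IsCyclic U →
      ∀ (α : MulAut U) (w : ℕ), Nat.Coprime w 6 → α ^ w = 1 → α = 1 := by
    intro k U _ _ hU hc α w hw hα
    have h1 : Nat.card (MulAut U) ∣ 2 ^ k := by
      rw [IsCyclic.card_mulAut U, hU]
      rcases Nat.eq_zero_or_pos k with rfl | hk
      · simp
      · rw [Nat.totient_prime_pow Nat.prime_two hk]
        simp only [Nat.add_one_sub_one, mul_one]
        exact pow_dvd_pow 2 (Nat.sub_le k 1)
    haveI : Finite (MulAut U) := by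
      apply Nat.finite_of_card_ne_zero
      intro h0
      rw [h0] at h1
      have := Nat.eq_zero_of_zero_dvd h1
      exact (pow_ne_zero k (by norm_num)) this
    have h2 : orderOf α ∣ 2 ^ k := dvd_trans (orderOf_dvd_natCard α) h1
    have h3 : orderOf α ∣ w := orderOf_dvd_of_pow_eq_one hα
    have h4 : Nat.Coprime w (2 ^ k) := by
      apply Nat.Coprime.pow_right
      exact Nat.Coprime.coprime_dvd_right (by norm_num : 2 ∣ 6) hw
    have h5 : orderOf α = 1 := Nat.eq_one_of_dvd_coprimes h4 h3 h2
    exact orderOf_eq_one_iff.mp h5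
  intro k
  induction k with
  | zero =>
    intro U _ _ hU _ α w hw hα
    haveI : Subsingleton U := by
      rw [pow_zero] at hU
      exact (Nat.card_eq_one_iff_unique.mp hU).1
    ext x
    exact Subsingleton.elim _ _
  | succ k ih =>
    intro U _ _ hU hB α w hw hα
    by_cases hc : IsCyclic U
    · exact hcyc (k + 1) U hU hc α w hw hα
    obtain ⟨c, hcU⟩ := hB
    have hp2 : Fact (Nat.Prime 2) := ⟨Nat.prime_two⟩
    -- A = zpowers c has index two
    have hoc : orderOf c = 2 ^ k := by
      have h1 : orderOf c ∣ 2 ^ (k + 1) := hU ▸ orderOf_dvd_natCard c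
      obtain ⟨j, hj, hjc⟩ := (Nat.dvd_prime_pow Nat.prime_two).mp h1
      have hjk : j ≠ k + 1 := by
        intro h
        apply hc
        apply isCyclic_of_orderOf_eq_card c
        rw [hjc, h, hU]
      have hjk' : k ≤ j := by
        rw [hU, hjc, pow_succ] at hcU
        have : 2 ^ k ≤ 2 ^ j := by omega
        exact (Nat.pow_le_pow_iff_right (by norm_num)).mp this
      have : j = k := by omega
      rw [hjc, this]
    have hidx : ∀ M : Subgroup U, Nat.card M = 2 ^ k → M.index = 2 := by
      intro M hM
      have := M.card_mul_index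
      rw [hM, hU, pow_succ] at this
      exact Nat.eq_of_mul_eq_mul_left (pow_pos (by norm_num) k) this
    have hA : (Subgroup.zpowers c).index = 2 := hidx _ (by rw [Nat.card_zpowers, hoc])
    obtain ⟨d, hd⟩ : ∃ d : U, d ∉ Subgroup.zpowers c := by
      by_contra hcon
      simp only [not_exists, not_not] at hcon
      exact hc ⟨c, hcon⟩
    have hcd : Subgroup.closure ({c, d} : Set U) = ⊤ := by
      rw [eq_top_iff]
      intro u _
      have hcmem : c ∈ Subgroup.closure ({c, d} : Set U) := Subgroup.subset_closure (by simp)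
      have hdmem : d ∈ Subgroup.closure ({c, d} : Set U) := Subgroup.subset_closure (by simp)
      have hAle : Subgroup.zpowers c ≤ Subgroup.closure ({c, d} : Set U) :=
        (Subgroup.zpowers_le).mpr hcmem
      by_cases hu : u ∈ Subgroup.zpowers c
      · exact hAle hu
      · have h1 : u * d⁻¹ ∈ Subgroup.zpowers c := by
          rw [Subgroup.mul_mem_iff_of_index_two hA, inv_mem_iff]
          exact ⟨fun h => absurd h hu, fun h => absurd h hd⟩
        have h2 : u = u * d⁻¹ * d := by group
        rw [h2]
        exact mul_mem (hAle h1) hdmem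
    have hnotboth : ∀ M : Subgroup U, M.index = 2 → ¬ (c ∈ M ∧ d ∈ M) := by
      rintro M hM ⟨h1, h2⟩
      have : Subgroup.closure ({c, d} : Set U) ≤ M := by
        rw [Subgroup.closure_le]
        intro x hx
        rcases hx with rfl | rfl
        · exact h1
        · exact h2
      rw [hcd, top_le_iff] at this
      rw [this, Subgroup.index_top] at hM
      omega
    -- the induced map on subgroups
    set f : Subgroup U → Subgroup U := fun M => M.map α.toMonoidHom with hf
    have hfinj : Function.Injective f := Subgroup.map_injective α.injective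
    have hfcard : ∀ (n : ℕ) (M : Subgroup U), Nat.card M = 2 ^ k → Nat.card (f^[n] M) = 2 ^ k := by
      intro n M hM
      rw [hf, iterate_map_mulAut, Subgroup.card_map_of_injective (α ^ n).injective, hM]
    have hfix : ∀ K : Subgroup U, Nat.card K = 2 ^ k → K.map α.toMonoidHom = K := by
      intro K hK
      classical
      let g : Fin 4 → {b : Bool × Bool // b ≠ (true, true)} := fun i =>
        ⟨(decide (c ∈ f^[i.1] K), decide (d ∈ f^[i.1] K)), by
          intro h
          simp only [Prod.mk.injEq, decide_eq_true_eq] at h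
          exact hnotboth _ (hidx _ (hfcard i.1 K hK)) h⟩
      have hcard : Fintype.card {b : Bool × Bool // b ≠ (true, true)} < Fintype.card (Fin 4) := by
        decide
      obtain ⟨i, j, hij, hgij⟩ := Fintype.exists_ne_map_eq_of_card_lt g hcard
      have hgij' := congrArg Subtype.val hgij
      simp only [g, Prod.mk.injEq, decide_eq_decide] at hgij'
      have heq : f^[i.1] K = f^[j.1] K :=
        index_two_unique c d hcd _ _ (hidx _ (hfcard i.1 K hK)) (hidx _ (hfcard j.1 K hK))
          hgij'.1 hgij'.2
      -- periodic with period dividing 6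
      have hper6 : Function.IsPeriodicPt f 6 K := by
        have key : ∀ a b : ℕ, a < b → b < 4 → f^[a] K = f^[b] K → Function.IsPeriodicPt f 6 K := by
          intro a b hab hb4 hEq
          have hb : b = a + (b - a) := by omega
          rw [hb, Function.iterate_add_apply] at hEq
          have h1 : K = f^[b - a] K := (hfinj.iterate a) hEq
          have h2 : Function.IsPeriodicPt f (b - a) K := h1.symm
          have h3 : (b - a) ∣ 6 := by
            have : b - a = 1 ∨ b - a = 2 ∨ b - a = 3 := by omega
            rcases this with h | h | h <;> rw [h] <;> norm_num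
          exact h2.trans_dvd h3
        have hne : i.1 ≠ j.1 := fun h => hij (Fin.ext h)
        rcases Nat.lt_or_gt_of_ne hne with h | h
        · exact key i.1 j.1 h j.2 heq
        · exact key j.1 i.1 h i.2 heq.symm
      have hperw : Function.IsPeriodicPt f w K := by
        change f^[w] K = K
        rw [hf, iterate_map_mulAut, hα]
        ext x
        simp
      have h1 := hper6.gcd hperw
      have hg : Nat.gcd 6 w = 1 := Nat.Coprime.symm hw
      rw [hg] at h1
      exact h1
    -- now every element is fixed
    ext u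
    change α u = u
    have hzu : Subgroup.zpowers u ≠ ⊤ := by
      intro h
      apply hc
      exact ⟨u, fun x => by
        have : x ∈ Subgroup.zpowers u := by rw [h]; trivial
        exact this⟩
    obtain ⟨j, hj, hju⟩ := (Nat.dvd_prime_pow Nat.prime_two).mp
      (hU ▸ Subgroup.card_subgroup_dvd_card (Subgroup.zpowers u))
    have hjk : j ≤ k := by
      by_contra hcon
      have : j = k + 1 := by omega
      rw [this, ← hU] at hju
      exact hzu (Subgroup.eq_top_of_card_eq _ hju)
    have hdvd : 2 ^ k ∣ Nat.card U := by rw [hU]; exact pow_dvd_pow 2 (Nat.le_succ k)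
    obtain ⟨K, hK, huK⟩ := Sylow.exists_subgroup_card_pow_prime_le 2 hdvd (Subgroup.zpowers u) hju hjk
    have hKfix := hfix K hK
    have hBK : HasBigCyclic K := HasBigCyclic.subgroup ⟨c, hcU⟩ K
    have hβ : (restrictMulAut α K hKfix) ^ w = 1 := by
      ext x
      rw [restrictMulAut_pow_apply, hα]
      rfl
    have := ih K hK hBK (restrictMulAut α K hKfix) w hw hβ
    have h2 := congrArg (fun β : MulAut K => ((β ⟨u, huK (Subgroup.mem_zpowers u)⟩ : K) : U)) this
    simpa [restrictMulAut_apply] using h2

end Cfsg.Agent.Lib.Helper71
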