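import Mathlib
import Cfsg.Agent.Lib.Helper71.BG11e

set_option autoImplicit false
set_option linter.unusedSectionVars false

/-! Bender–Glauberman Corollary 11.6 from Theorem 11.5: once a Sylow `p`-subgroup `P ≥ A` of the
exceptional maximal subgroup `M` is known to be abelian, `A = Ω₁(P)`, `N_G(P) ≤ N_G(A)`, `N_G(P) ≰ M`,
`C_{M_σ}(A) = 1` and two distinct subgroups of order `p` of `A` act fixed-point-freely on `M_σ`. -/

namespace Cfsg.Agent.Lib.Helper71.BG11

open Cfsg Cfsg.Agent.Lib.Helper55 Cfsg.Agent.Lib.Helper31 Cfsg.Agent.Lib.Helper71.BG10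

variable {G : Type*} [Group G] [Finite G]

variable {M A A0 P : Subgroup G} {p : ℕ} [Fact p.Prime]

/-- an element of odd order whose square lies in a subgroup lies in that subgroup -/
theorem mem_of_sq_mem_of_odd (hodd : Odd (Nat.card G)) {H : Subgroup G} {g : G}
    (h : g * g ∈ H) : g ∈ H := by
  have ho : Odd (orderOf g) := Odd.of_dvd_nat hodd (orderOf_dvd_natCard g)
  obtain ⟨k, hk⟩ := ho
  have e : g = (g * g) ^ (k + 1) := by
    rw [← pow_two, ← pow_mul]
    have : 2 * (k + 1) = orderOf g + 1 := by omega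
    rw [this, pow_succ, pow_orderOf_eq_one, one_mul]
  rw [e]
  exact H.pow_mem h _

/-- BG Corollary 11.6 from Theorem 11.5 -/
theorem str116_of_comm (hG : IsMinSimpleOddOrder G) (h : Exc M p A A0) (hP : IsSylowIn p M P)
    (hAP : A ≤ P) (hcomm : ∀ x ∈ P, ∀ y ∈ P, x * y = y * x) : Str116 M A P p := by
  have hmem : ∀ x ∈ P, x ^ p = 1 ↔ x ∈ A := by
    intro x hx
    constructor
    · intro hxp
      refine h.mem_of_cent hG ?_ hxp
      rw [Subgroup.mem_centralizer_iff]
      intro a ha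
      exact hcomm a (hAP ha) x hx
    · exact h.elem.2 x
  have hnorm : Subgroup.normalizer (P : Set G) ≤ Subgroup.normalizer (A : Set G) := by
    have key : ∀ n ∈ Subgroup.normalizer (P : Set G), ∀ a ∈ A, n * a * n⁻¹ ∈ A := by
      intro n hn a ha
      have h1 : n * a * n⁻¹ ∈ P := (Subgroup.mem_normalizer_iff.mp hn a).mp (hAP ha)
      refine (hmem _ h1).mp ?_
      rw [conj_pow, h.elem.2 a ha]; group
    intro n hn
    rw [Subgroup.mem_normalizer_iff]
    intro a
    constructor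
    · exact key n hn a
    · intro ha
      have := key n⁻¹ (Subgroup.inv_mem _ hn) _ ha
      simpa [mul_assoc] using this
  obtain ⟨g, hgN, hgM⟩ := h.exists_normalizer_not_mem hP
  have hgN' : g⁻¹ ∈ Subgroup.normalizer (P : Set G) := Subgroup.inv_mem _ hgN
  have hgM' : g⁻¹ ∉ M := fun hc => hgM ((Subgroup.inv_mem_iff M).mp hc)
  obtain ⟨-, -, hf1⟩ := h.fpf_of_normalizer hG hP hAP hgN hgM
  obtain ⟨-, -, hf2⟩ := h.fpf_of_normalizer hG hP hAP hgN' hgM'
  have hle1 : cj g A0 ≤ A := by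
    have : cj g A = A := cj_eq_self_iff.mpr (hnorm hgN)
    exact this ▸ cj_mono h.le0
  have hle2 : cj g⁻¹ A0 ≤ A := by
    have : cj g⁻¹ A = A := cj_eq_self_iff.mpr (hnorm hgN')
    exact this ▸ cj_mono h.le0
  refine ⟨hcomm, hmem, fun hle => hgM (hle hgN), hnorm, ?_, cj g A0, cj g⁻¹ A0, ?_⟩
  · apply le_bot_iff.mp
    rw [← hf1]
    exact inf_le_inf_left _ (Subgroup.centralizer_le (SetLike.coe_subset_coe.mpr hle1))
  · refine ⟨hle1, hle2, by rw [card_cj, h.card0], by rw [card_cj, h.card0], ?_, hf1, hf2⟩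
    intro e
    apply hgM
    apply mem_of_sq_mem_of_odd hG.1
    apply h.norm
    rw [← cj_eq_self_iff, cj_mul, e, cj_cj_inv]

end Cfsg.Agent.Lib.Helper71.BG11
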