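import Mathlib
import Cfsg.Agent.Lib.Helper71.BG1366J
import Cfsg.Agent.Lib.Helper62.BG1366B
import Cfsg.Agent.Lib.Helper97.BG1366O

/-!
# K-1366-C2 `home_torus` (keystone 136604): the common torus of a home.
`home_kappa` with the roles of `(M, K)` and `(J, KJ)` swapped gives a Hall `κ(M)`-subgroup over `KJ*`.
-/

set_option autoImplicit false

namespace Cfsg.Agent.Lib.Helper71.BG1366

open Cfsg Subgroup Cfsg.Agent.Lib.Helper55 Cfsg.Agent.Lib.Helper11.BG14D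
  Cfsg.Agent.Lib.Helper31.BG147

variable {G : Type*} [Group G] [Finite G]

theorem home_torus (hG : IsMinSimpleOddOrder G) (h30 : H1430 G) (h31 : H1431 G) {M K X J KJ : Subgroup G}
    (hp : PPair M K) (hXK : X ≤ K) (hXc : (Nat.card X).Prime) (hJ : IsCoatom J)
    (hXJ : X ≤ sigmaCore J) (hnc : ∀ g : G, J ≠ M.map (MulAut.conj g).toMonoidHom) (hdis : ∀ r : ℕ, r ∈ sigma M → r ∉ sigma J)
    (hpj : PPair J KJ) (hKs : Ks M K ≤ KJ)
    (h1 : sigmaCore J ⊓ M = Ks J KJ) (h2 : KJ ⊔ Ks J KJ ≤ M ⊓ J) (h3 : K ⊔ Ks M K ≤ KJ ⊔ Ks J KJ) :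
    Nbr M K J KJ ∧ X ≤ Ks J KJ := by
  have hM := hp.coatom
  have hK := hp.hall
  have hK1 := hp.ne
  have hKM : K ≤ M := hK.1
  obtain ⟨-, -, h30c⟩ := h30 M hM K hK hK1
  obtain ⟨hNX, hNK, -⟩ := h30c X hXK hXc
  obtain ⟨-, h31b, -, -⟩ := h31 M hM K hK hK1
  -- `X ≤ KJ*`
  have hXKs : X ≤ Ks J KJ := by
    rw [← h1]
    exact le_inf hXJ (hXK.trans hKM)
  have hX1 : X ≠ ⊥ := by
    intro h
    rw [h, Subgroup.card_bot] at hXc
    exact Nat.not_prime_one hXc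
  -- `Y ≤ K*` of prime order
  have hKs1 : Ks M K ≠ ⊥ := hp.Ks_ne_bot hG h30
  have hcKs : Nat.card (Ks M K) ≠ 1 := fun h => hKs1 (Subgroup.card_eq_one.mp h)
  obtain ⟨Y, hYKs, hYc⟩ := exists_le_card_prime (Nat.minFac_prime hcKs) (Nat.minFac_dvd _)
  have hYc' : (Nat.card Y).Prime := hYc ▸ Nat.minFac_prime hcKs
  -- `home_kappa` with the roles swapped
  have hnc' : ∀ g : G, M ≠ J.map (MulAut.conj g).toMonoidHom := by
    intro g hg
    apply hnc g⁻¹
    have h : cj g⁻¹ M = cj g⁻¹ (cj g J) := congrArg (cj g⁻¹) hg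
    rw [cj_inv_cj] at h
    exact h.symm
  have hdis' : ∀ r : ℕ, r ∈ sigma J → r ∉ sigma M := fun r hrJ hrM => hdis r hrM hrJ
  obtain ⟨K', hp', hK'⟩ := Cfsg.Agent.Lib.Helper62.BG1366.home_kappa hG h30 h31 hpj (hYKs.trans hKs) hYc' hM
    (hYKs.trans inf_le_left) hnc' hdis' (h2.trans inf_le_left)
  -- the primes of `KJ*` are in `κ(M)`
  have hprimes : ∀ r : ℕ, r.Prime → r ∣ Nat.card (Ks J KJ) → r ∈ kappa M := by
    intro r hr hrd
    exact hp'.hall.2.1 r hr (hrd.trans (Subgroup.card_dvd_of_le hK'))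
  have hs : Group.IsSolvable ↥M := ms_solvable hG hM.1
  have hKsJM : Ks J KJ ≤ M := (le_sup_right.trans h2).trans inf_le_left
  obtain ⟨m, hmM, hm⟩ := Cfsg.Agent.Lib.Helper97.BG1366.exists_cj_ge_of_hall hs hK hKsJM hprimes
  -- `m ∈ K ⊔ K*`
  have hmZ : m ∈ K ⊔ Ks M K := by
    by_contra hmn
    have h := h31b m hmM hmn
    apply hX1
    rw [eq_bot_iff, ← h]
    exact le_inf hXK (hXKs.trans hm)
  have hmN : m ∈ normalizer (K : Set G) := by
    have h : m ∈ M ⊓ normalizer (K : Set G) := by rw [hNK]; exact hmZ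
    exact h.2
  have hcjK : K.map (MulAut.conj m).toMonoidHom = K := cj_eq_self_iff.mpr hmN
  have hKsJK : Ks J KJ ≤ K := by rw [← hcjK]; exact hm
  -- `KJ* = K ⊓ J_σ`
  have hksJ : Ks J KJ = K ⊓ sigmaCore J := by
    apply le_antisymm (le_inf hKsJK inf_le_left)
    rw [← h1]
    exact le_inf inf_le_right (inf_le_left.trans hKM)
  -- `M ⊓ J ≤ K ⊔ K*`
  have hinter : M ⊓ J ≤ K ⊔ Ks M K := by
    intro d hd
    have hdM : d ∈ M := hd.1
    have hdJ : d ∈ J := hd.2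
    have hcj1 : cj d (sigmaCore J) = sigmaCore J :=
      cj_eq_self_iff.mpr (Cfsg.Agent.Lib.Helper71.BG11.le_normalizer_sigmaCore J hdJ)
    have hcj2 : cj d M = M := cj_eq_self_of_mem hdM
    have hcj3 : cj d (Ks J KJ) = Ks J KJ := by
      rw [← h1, cj_inf, hcj1, hcj2]
    have hle : cj d X ≤ K := by
      refine le_trans ?_ hKsJK
      rw [← hcj3]
      exact cj_mono hXKs
    have heq : cj d X = X :=
      hp.prime_sub_unique hG h30 X (cj d X) hXK hle hXc (card_cj d X)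
    have hdN : d ∈ normalizer (X : Set G) := cj_eq_self_iff.mp heq
    have h : d ∈ M ⊓ normalizer (X : Set G) := ⟨hdM, hdN⟩
    rw [hNX] at h
    exact h
  refine ⟨⟨hpj, hnc, hKs, le_antisymm hinter (h3.trans h2), le_antisymm (h2.trans hinter) h3, hksJ⟩, hXKs⟩

end Cfsg.Agent.Lib.Helper71.BG1366
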