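import Mathlib
import Cfsg.Agent.S1354
import Cfsg.Agent.S1366
import Cfsg.Agent.S1368
import Cfsg.Agent.S1370

/-!
# K-1381-D `selfNormalizing` (keystone 138104): `(K, K*)` is a self-normalizing cyclic pair.
-/

set_option autoImplicit false

namespace Cfsg.Agent.Lib.Helper71.BG1381

open Cfsg Subgroup

variable {G : Type*} [Group G] [Finite G]

theorem selfNormalizing (hG : IsMinSimpleOddOrder G) {M K U : Subgroup G} (hM : IsCoatom M)
    (hKU : IsSigmaDecomposition M K U) (hK1 : K ≠ ⊥) :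
    IsSelfNormalizingCyclic K (sigmaCore M ⊓ centralizer (K : Set G)) := by
  have hKs1 : sigmaCore M ⊓ centralizer (K : Set G) ≠ ⊥ :=
    (Cfsg.Agent.S1354.result hG M hM K hKU.cyclic hKU.hall).1
  obtain ⟨Ms, ⟨hMs, hKst, hKstH⟩, -⟩ := Cfsg.Agent.S1366.result hG M hM K U hKU hK1
  obtain ⟨-, hcyc⟩ := Cfsg.Agent.S1368.result hG M hM K U hKU hK1 Ms hMs hKst hKstH
  obtain ⟨hTI, hN⟩ := Cfsg.Agent.S1370.result hG M hM K U hKU hK1
  -- `K ⊓ M_σ = ⊥`
  have hKσ : K ⊓ sigmaCore M = ⊥ := by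
    have hc := hKU.compl.2.2.1
    -- `U ⊓ (K ⊔ M_σ) = ⊥` does not give it; use the orders
    rw [← Subgroup.card_eq_one]
    by_contra hne
    obtain ⟨q, hq, hqd⟩ := Nat.exists_prime_and_dvd hne
    have h1 : q ∈ kappa M :=
      hKU.hall.2.1 q hq (hqd.trans (Subgroup.card_dvd_of_le inf_le_left))
    have h2 : q ∣ Nat.card (sigmaCore M) := hqd.trans (Subgroup.card_dvd_of_le inf_le_right)
    have h3 : q ∈ sigma M :=
      ((Cfsg.Agent.S1350.result hG M hM).1.2.1) q hq h2
    exact h1.2.2.1 h3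
  refine ⟨hK1, hKs1, ?_, ?_, hcyc, ?_⟩
  · rw [eq_bot_iff, ← hKσ]
    exact le_inf inf_le_left (inf_le_right.trans inf_le_left)
  · intro a ha b hb
    exact (Subgroup.mem_centralizer_iff.mp hb.2 a ha)
  · intro X hX hXne
    apply le_antisymm
    · intro g hg
      obtain ⟨x, hx⟩ := hXne
      have hgx : g * x * g⁻¹ ∈ X := (Subgroup.mem_set_normalizer_iff.mp hg x).mp hx
      rw [← hN]
      by_contra hgn
      have hx1 : x = 1 := hTI g hgn x (hX hx) (hX hgx)
      have hxZ := hX hx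
      rw [hx1] at hxZ
      exact hxZ.2 (Or.inl K.one_mem)
    · intro g hg
      haveI := hcyc
      rw [Subgroup.mem_set_normalizer_iff]
      intro x
      have hcomm : ∀ y ∈ K ⊔ (sigmaCore M ⊓ centralizer (K : Set G)), g * y * g⁻¹ = y := by
        intro y hy
        have h := IsCyclic.commGroup.mul_comm
          (⟨g, hg⟩ : ↥(K ⊔ (sigmaCore M ⊓ centralizer (K : Set G)))) ⟨y, hy⟩
        have h' : g * y = y * g := congrArg Subtype.val h
        rw [h', mul_assoc, mul_inv_cancel, mul_one]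
      constructor
      · intro hx
        rw [hcomm x (hX hx).1]
        exact hx
      · intro hx
        have h2 : g⁻¹ * (g * x * g⁻¹) * g = x := by group
        have hinv : g⁻¹ ∈ K ⊔ (sigmaCore M ⊓ centralizer (K : Set G)) := Subgroup.inv_mem _ hg
        have h3 := hcomm (g * x * g⁻¹) (hX hx).1
        -- `g (g x g⁻¹) g⁻¹ = g x g⁻¹`, so `g x g⁻¹ = x`
        have h4 : g * x * g⁻¹ = x := by
          have : g * (g * x * g⁻¹) * g⁻¹ = g * x * g⁻¹ := h3
          have h5 : g⁻¹ * (g * (g * x * g⁻¹) * g⁻¹) * g = g⁻¹ * (g * x * g⁻¹) * g := by rw [this]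
          have h6 : g⁻¹ * (g * (g * x * g⁻¹) * g⁻¹) * g = g * x * g⁻¹ := by group
          rw [h6, h2] at h5
          exact h5
        rw [← h4]
        exact hx

end Cfsg.Agent.Lib.Helper71.BG1381
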