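import Mathlib
import Cfsg.Agent.S1360
import Cfsg.Agent.Lib.Helper71.BG11c
import Cfsg.Agent.Lib.Helper55.Uniq2

/-!
# K-1381-E2 `isOfTypeF_derived` (keystone 138106): `M' = M_σ ⋊ U` is of Frobenius type.
-/

set_option autoImplicit false

namespace Cfsg.Agent.Lib.Helper71.BG1381

open Cfsg Subgroup

variable {G : Type*} [Group G] [Finite G]

theorem isOfTypeF_derived (hG : IsMinSimpleOddOrder G) {M K U : Subgroup G} (hM : IsCoatom M)
    (hKU : IsSigmaDecomposition M K U) (hU1 : U ≠ ⊥) (hUc : IsMulCommutative U)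
    (hd : ⁅M, M⁆ = U ⊔ sigmaCore M) (hF' : fittingHallOf ⁅M, M⁆ = sigmaCore M)
    (hfc : IsComplIn (sigmaCore M) U ⁅M, M⁆) :
    IsOfTypeF ↥⁅M, M⁆ := by
  obtain ⟨hσD, hUD, hinf, hprod⟩ := hfc
  have hDM : ⁅M, M⁆ ≤ M :=
    Subgroup.commutator_le.mpr (fun a ha b hb =>
      M.mul_mem (M.mul_mem (M.mul_mem ha hb) (M.inv_mem ha)) (M.inv_mem hb))
  have hUM : U ≤ M := hUD.trans hDM
  have hM1 : M ≠ ⊥ := by
    intro h
    apply hU1
    rw [eq_bot_iff, ← h]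
    exact hUM
  have hσ1 : sigmaCore M ≠ ⊥ := Cfsg.Agent.Lib.Helper71.BG11.sigmaCore_ne_bot hG hM hM1
  -- membership in `fittingHall ↥M'`
  have hmem : ∀ x : ↥⁅M, M⁆, x ∈ fittingHall ↥⁅M, M⁆ ↔ (x : G) ∈ sigmaCore M := by
    intro x
    rw [← hF']
    unfold fittingHallOf
    constructor
    · intro hx
      exact Subgroup.mem_map.mpr ⟨x, hx, rfl⟩
    · intro hx
      obtain ⟨y, hy, hyx⟩ := Subgroup.mem_map.mp hx
      have : y = x := Subtype.ext hyx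
      rwa [← this]
  have hDtop : ⁅M, M⁆ ≠ ⊤ := by
    intro h
    have : M = ⊤ := top_le_iff.mp (h ▸ hDM)
    exact hM.1 this
  refine ⟨Cfsg.Agent.Lib.Helper55.ms_solvable hG hDtop, Cfsg.Agent.Lib.Helper55.ms_odd hG _, ?_, ?_, ?_⟩
  · -- `fittingHall ≠ ⊥`
    intro h
    apply hσ1
    rw [eq_bot_iff]
    intro x hx
    have hxD : x ∈ ⁅M, M⁆ := hσD hx
    have : (⟨x, hxD⟩ : ↥⁅M, M⁆) ∈ fittingHall ↥⁅M, M⁆ := (hmem ⟨x, hxD⟩).mpr hx
    rw [h, Subgroup.mem_bot] at this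
    rw [Subgroup.mem_bot]
    exact congrArg Subtype.val this
  · -- `fittingHall ≠ ⊤`
    intro h
    apply hU1
    rw [eq_bot_iff]
    intro u hu
    have huD : u ∈ ⁅M, M⁆ := hUD hu
    have : (⟨u, huD⟩ : ↥⁅M, M⁆) ∈ fittingHall ↥⁅M, M⁆ := by rw [h]; exact Subgroup.mem_top _
    have huσ : u ∈ sigmaCore M := (hmem ⟨u, huD⟩).mp this
    rw [← hinf]
    exact ⟨huσ, hu⟩
  · refine ⟨U.subgroupOf ⁅M, M⁆, ?_, ?_, ?_, ?_⟩
    · -- `U' ≠ ⊥`
      intro h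
      apply hU1
      rw [eq_bot_iff]
      intro u hu
      have huD : u ∈ ⁅M, M⁆ := hUD hu
      have : (⟨u, huD⟩ : ↥⁅M, M⁆) ∈ U.subgroupOf ⁅M, M⁆ := Subgroup.mem_subgroupOf.mpr hu
      rw [h, Subgroup.mem_bot] at this
      rw [Subgroup.mem_bot]
      exact congrArg Subtype.val this
    · -- complement
      apply Subgroup.isComplement'_of_disjoint_and_mul_eq_univ
      · rw [Subgroup.disjoint_def]
        intro x hx1 hx2
        have h1 : (x : G) ∈ sigmaCore M := (hmem x).mp hx1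
        have h2 : (x : G) ∈ U := Subgroup.mem_subgroupOf.mp hx2
        have : (x : G) ∈ sigmaCore M ⊓ U := ⟨h1, h2⟩
        rw [hinf, Subgroup.mem_bot] at this
        exact Subtype.ext this
      · rw [Set.eq_univ_iff_forall]
        intro m
        obtain ⟨a, ha, b, hb, hab⟩ := hprod m m.2
        refine ⟨⟨a, hσD ha⟩, (hmem _).mpr ha, ⟨b, hUD hb⟩, Subgroup.mem_subgroupOf.mpr hb, ?_⟩
        exact Subtype.ext hab.symm
    · -- `U₁ := U'`
      refine ⟨U.subgroupOf ⁅M, M⁆, le_rfl, Subgroup.le_normalizer, ?_, fun x _ _ => inf_le_left⟩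
      refine ⟨⟨fun a b => ?_⟩⟩
      have ha : (a : ↥⁅M, M⁆).1 ∈ U := Subgroup.mem_subgroupOf.mp a.2
      have hb : (b : ↥⁅M, M⁆).1 ∈ U := Subgroup.mem_subgroupOf.mp b.2
      have h := hUc.is_comm.comm (⟨_, ha⟩ : ↥U) ⟨_, hb⟩
      have h' : (a : ↥⁅M, M⁆).1 * (b : ↥⁅M, M⁆).1 = (b : ↥⁅M, M⁆).1 * (a : ↥⁅M, M⁆).1 :=
        congrArg Subtype.val h
      exact Subtype.ext (Subtype.ext h')
    · -- `U₀`
      obtain ⟨U₀, hU₀U, hexp, hfpf⟩ := Cfsg.Agent.S1360.result hG M hM K U hKU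
      refine ⟨U₀.subgroupOf ⁅M, M⁆, ?_, ?_, ?_⟩
      · intro x hx
        exact Subgroup.mem_subgroupOf.mpr (hU₀U (Subgroup.mem_subgroupOf.mp hx))
      · rw [Monoid.exponent_eq_of_mulEquiv (Subgroup.subgroupOfEquivOfLe (hU₀U.trans hUD)),
          Monoid.exponent_eq_of_mulEquiv (Subgroup.subgroupOfEquivOfLe hUD), hexp]
      · intro u hu hu1 x hx hux
        by_contra hx1
        have huU₀ : (u : G) ∈ U₀ := Subgroup.mem_subgroupOf.mp hu
        have hxσ : (x : G) ∈ sigmaCore M := (hmem x).mp hx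
        have hx1' : (x : G) ≠ 1 := fun h => hx1 (Subtype.ext h)
        have hcomm : (u : G) * (x : G) = (x : G) * (u : G) := congrArg Subtype.val hux
        have hhat : (u : G) ∈ sigmaHat M :=
          ⟨hUM (hU₀U huU₀), (x : G), hxσ, hx1', hcomm⟩
        exact hu1 (Subtype.ext (hfpf _ huU₀ hhat))

end Cfsg.Agent.Lib.Helper71.BG1381
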