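import Mathlib
import Cfsg.Agent.S1364
import Cfsg.Agent.S1365
import Cfsg.Agent.S1372
import Cfsg.Agent.Lib.Helper11.BG144Glue
import Cfsg.Agent.Lib.Helper78.BG15KPrime
import Cfsg.Agent.Lib.Helper57.BG1381A
import Cfsg.Agent.Lib.Helper21.BG1381B
import Cfsg.Agent.Lib.Helper70.BG1381C
import Cfsg.Agent.Lib.Helper71.BG1381D
import Cfsg.Agent.Lib.Helper71.BG1381E1
import Cfsg.Agent.Lib.Helper71.BG1381E2
import Cfsg.Agent.Lib.Helper71.BG1381Fwd

/-!
# S1381 (type II ⟺ `K ≠ 1 ∧ U ≠ 1`): FINAL GLUE of the pack K-1381.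
`S1356` and `S1363` enter as hypotheses.
-/

set_option autoImplicit false

namespace Cfsg.Agent.Lib.Helper71.BG1381

open Cfsg Subgroup

variable {G : Type*} [Group G] [Finite G]

/-- `⇐` of S1381. -/
theorem typeII_of (hG : IsMinSimpleOddOrder G) {M K U : Subgroup G} (hM : IsCoatom M)
    (hKU : IsSigmaDecomposition M K U) (hK1 : K ≠ ⊥) (hU1 : U ≠ ⊥)
    (h56 : ⁅⁅M, M⁆, ⁅M, M⁆⁆ ≤ fittingOf M ∧
      fittingOf M = (M ⊓ centralizer (fittingHallOf M : Set G)) ⊔ fittingHallOf M ∧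
      ((kappa M).Nonempty → fittingOf M ≤ ⁅M, M⁆))
    (h63 : IsMulCommutative U ∧ ¬ normalizer (U : Set G) ≤ M) :
    IsOfTypeII M := by
  obtain ⟨hp, -, hnil⟩ :=
    Cfsg.Agent.Lib.Helper78.BG15.card_prime_of_sigmaDecomposition hG hM hKU hK1 hU1
  have hF : fittingHallOf M = sigmaCore M :=
    (Cfsg.Agent.Lib.Helper11.BG144.hC_main hG M hM hnil).symm
  obtain ⟨hd, hKs2⟩ := Cfsg.Agent.S1365.result hG M hM K U hKU hK1
  obtain ⟨-, hKs1, hKsF, hncyc⟩ := Cfsg.Agent.S1364.result hG M hM K U hKU hK1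
  obtain ⟨-, hTI, -⟩ := Cfsg.Agent.S1372.result hG M hM K U hKU hK1 hU1
  obtain ⟨h56a, h56b, h56c⟩ := h56
  have hcompl := Cfsg.Agent.Lib.Helper57.BG1381.derived_compl hG hM hKU hd
  have hfc := Cfsg.Agent.Lib.Helper21.BG1381.fitting_compl hKU hd hF
  have hcent := Cfsg.Agent.Lib.Helper70.BG1381.derived_inf_centralizer hG hM hKU hK1 hd hcompl
  have hsn := Cfsg.Agent.Lib.Helper71.BG1381.selfNormalizing hG hM hKU hK1
  have hF' := Cfsg.Agent.Lib.Helper71.BG1381.fittingHallOf_derived hG hM hKU hp hnil hF hd hcompl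
  have hfc' : IsComplIn (sigmaCore M) U ⁅M, M⁆ := hF ▸ hfc
  have htF := Cfsg.Agent.Lib.Helper71.BG1381.isOfTypeF_derived hG hM hKU hU1 h63.1 hd
    (hF'.trans hF) hfc'
  have hκ : (kappa M).Nonempty := by
    by_contra hne
    rw [Set.not_nonempty_iff_eq_empty] at hne
    apply hK1
    rw [← Subgroup.card_eq_one]
    by_contra hc
    obtain ⟨q, hq, hqd⟩ := Nat.exists_prime_and_dvd hc
    have := hKU.hall.2.1 q hq hqd
    rw [hne] at this
    exact this
  have hcop : (Nat.card K).Coprime (K.relIndex M) := by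
    apply Nat.coprime_of_dvd
    intro q hq hqK hqi
    exact hKU.hall.2.2 q hq (hKU.hall.2.1 q hq hqK) hqi
  have hfeq : fittingHallOf M ⊔ (M ⊓ centralizer (fittingHallOf M : Set G)) = fittingOf M := by
    rw [h56b, sup_comm]
  refine ⟨K, U, sigmaCore M ⊓ centralizer (K : Set G), ?_, hU1, hp, hTI, h63.1, h63.2, htF, hF'⟩
  exact
    { W₁_ne := hK1
      W₁_cyclic := hKU.cyclic
      W₁_hall := hcop
      W₁_compl := hcompl
      U_nilpotent :=
        ⟨⟨1, Subgroup.upperCentralSeries_one_eq_top_iff.mpr h63.1⟩⟩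
      U_normal := hKU.normal
      U_compl := hfc
      H_not_cyclic := hncyc
      derived_two_le := by rw [hfeq]; exact h56a
      fitting_eq := hfeq
      fitting_le := h56c hκ
      W₂_le := le_inf hKsF hKs2
      W₂_centralizer := hcent
      selfNormalizing := hsn }

/-- **S1381**, with S1356 and S1363 as hypotheses. -/
theorem s1381_of (hG : IsMinSimpleOddOrder G) (M : Subgroup G) (hM : IsCoatom M) (K U : Subgroup G)
    (hKU : IsSigmaDecomposition M K U)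
    (h56 : ⁅⁅M, M⁆, ⁅M, M⁆⁆ ≤ fittingOf M ∧
      fittingOf M = (M ⊓ centralizer (fittingHallOf M : Set G)) ⊔ fittingHallOf M ∧
      ((kappa M).Nonempty → fittingOf M ≤ ⁅M, M⁆))
    (h63 : K ≠ ⊥ → IsMulCommutative U ∧ ¬ normalizer (U : Set G) ≤ M) :
    IsOfTypeII M ↔ (K ≠ ⊥ ∧ U ≠ ⊥) :=
  ⟨of_typeII hG hM hKU, fun h => typeII_of hG hM hKU h.1 h.2 h56 (h63 h.1)⟩

end Cfsg.Agent.Lib.Helper71.BG1381
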