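import Mathlib

set_option autoImplicit false

namespace Cfsg.Agent.Lib.Helper71

/-- The conjugacy class of `g` (as the set of `h` conjugate to `g`) has `[G : C_G(g)]` elements. -/
theorem ncard_conj_eq_index_centralizer {G : Type*} [Group G] (g : G) :
    {h : G | IsConj g h}.ncard = (Subgroup.centralizer ({g} : Set G)).index := by
  have h1 : {h : G | IsConj g h} = MulAction.orbit (ConjAct G) g := by
    ext h
    rw [ConjAct.mem_orbit_conjAct, Set.mem_ofPred_eq, isConj_comm]
  rw [h1, ← MulAction.index_stabilizer, ConjAct.stabilizer_eq_centralizer]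
  rfl

end Cfsg.Agent.Lib.Helper71
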