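import Mathlib
import Cfsg.Agent.Lib.Helper38.CD3.Defs
import Cfsg.Agent.Lib.Helper42.CD3DIV
import Cfsg.Agent.Lib.Helper83.Quotient

set_option autoImplicit false

/-! # K-CD3 leaf N1 (S4460): the degrees of a normal `p`-complement are the `p'`-parts -/

namespace Cfsg.Agent.Lib.Helper71.CD3

open Cfsg Cfsg.Agent.Lib.Helper97 Cfsg.Agent.Lib.Helper38.CD3

universe u

/-- arithmetic: `c = e * d`, `e ∣ p^k`, `d` prime to `p` gives `d = c / p^(v_p c)`. -/
theorem n1_arith (p : ℕ) (hp : p.Prime) (c d e k : ℕ) (hc : c = e * d) (he : e ∣ p ^ k)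
    (hd : d.Coprime p) (hd0 : 0 < d) : d = c / p ^ c.factorization p := by
  obtain ⟨i, -, rfl⟩ := (Nat.dvd_prime_pow hp).mp he
  subst hc
  have hnd : ¬ p ∣ d := (hp.coprime_iff_not_dvd).mp hd.symm
  have h1 : (p ^ i * d).factorization p = i := by
    rw [Nat.factorization_mul (pow_ne_zero _ hp.ne_zero) hd0.ne', Finsupp.add_apply,
      hp.factorization_pow, Finsupp.single_eq_same, Nat.factorization_eq_zero_of_not_dvd hnd,
      add_zero]
  rw [h1, Nat.mul_div_cancel_left _ (pow_pos hp.pos i)]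

variable {G : Type u} [Group G] [Finite G]

/-- 446001 N1 : degrees of a normal `p`-complement are the `p'`-parts. -/
theorem threeDeg_compl {m n : ℕ} (h : ThreeDeg G m n) (p : ℕ) (hp : p.Prime)
    (H : Subgroup G) [H.Normal] (hcop : (Nat.card H).Coprime p)
    (hidx : ∃ k : ℕ, H.index = p ^ k) :
    ThreeDeg H (m / p ^ m.factorization p) (n / p ^ n.factorization p) := by
  intro θ
  obtain ⟨k, hk⟩ := hidx
  obtain ⟨χ, hχ, e, hce, he⟩ := Cfsg.Agent.Lib.Helper42.CD3.exists_over H θ.2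
  have hddvd : charDegree (θ : H → ℂ) ∣ Nat.card H :=
    Cfsg.Agent.Lib.Helper83.irr_charDegree_dvd_card θ
  have hdcop : (charDegree (θ : H → ℂ)).Coprime p := Nat.Coprime.coprime_dvd_left hddvd hcop
  have hd0 := Cfsg.Agent.Lib.Helper83.irr_charDegree_pos θ
  have key := n1_arith p hp _ _ e k hce (hk ▸ he) hdcop hd0
  rcases h ⟨χ, hχ⟩ with h1 | h1 | h1
  · left
    have h1' : charDegree χ = 1 := h1
    have h2 : e * charDegree (θ : H → ℂ) = 1 := by rw [← hce]; exact h1'
    exact Nat.eq_one_of_mul_eq_one_left h2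
  · right; left
    have h1' : charDegree χ = m := h1
    rw [key, h1']
  · right; right
    have h1' : charDegree χ = n := h1
    rw [key, h1']

end Cfsg.Agent.Lib.Helper71.CD3
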