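import Mathlib

set_option autoImplicit false
set_option linter.style.haveILetI false

namespace Cfsg.Agent.Lib.Helper71

open Matrix

section Comm

/-- two homomorphisms which differ by central elements agree on the commutator subgroup -/
theorem eq_on_commutator_of_div_central {H G' : Type*} [Group H] [Group G'] (f g : H →* G')
    (hfg : ∀ h, f h * (g h)⁻¹ ∈ Subgroup.center G') :
    ∀ h ∈ commutator H, f h = g h := by
  have hc : ∀ (h : H) (y : G'), y * (f h * (g h)⁻¹) = (f h * (g h)⁻¹) * y :=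
    fun h y => Subgroup.mem_center_iff.mp (hfg h) y
  let μ : H →* G' :=
    { toFun := fun h => f h * (g h)⁻¹
      map_one' := by simp
      map_mul' := by
        intro a b
        have h1 := hc b (f a)
        calc f (a * b) * (g (a * b))⁻¹ = f a * (f b * (g b)⁻¹) * (g a)⁻¹ := by
              rw [map_mul, map_mul, _root_.mul_inv_rev]; group
          _ = (f b * (g b)⁻¹) * f a * (g a)⁻¹ := by rw [h1]
          _ = (f b * (g b)⁻¹) * (f a * (g a)⁻¹) := by group
          _ = (f a * (g a)⁻¹) * (f b * (g b)⁻¹) := hc a _ }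
  have hμ : ∀ h, μ h = f h * (g h)⁻¹ := fun h => rfl
  have hcomm : ∀ a b : H, μ a * μ b = μ b * μ a := by
    intro a b
    rw [hμ a]
    exact (hc a (μ b)).symm
  have hker : commutator H ≤ μ.ker := by
    rw [commutator_eq_closure, Subgroup.closure_le]
    rintro c ⟨a, b, rfl⟩
    rw [SetLike.mem_coe, MonoidHom.mem_ker, map_commutatorElement,
      commutatorElement_eq_one_iff_commute]
    exact hcomm a b
  intro h hh
  have := hker hh
  rw [MonoidHom.mem_ker, hμ, mul_inv_eq_one] at this
  exact this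

end Comm

section Ind

variable {Δ : Type*} [Group Δ]

/-- functions on `Δ` transforming under left translation by `K` through the character `χ` -/
def indSpace (K : Subgroup Δ) (χ : K →* ℂˣ) : Submodule ℂ (Δ → ℂ) where
  carrier := {f | ∀ (k : K) (x : Δ), f ((k : Δ) * x) = (χ k : ℂ) * f x}
  add_mem' := by
    intro f g hf hg k x
    simp only [Pi.add_apply, hf k x, hg k x, mul_add]
  zero_mem' := by
    intro k x
    simp
  smul_mem' := by
    intro c f hf k x
    simp only [Pi.smul_apply, smul_eq_mul, hf k x]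
    ring

theorem mem_indSpace {K : Subgroup Δ} {χ : K →* ℂˣ} {f : Δ → ℂ} :
    f ∈ indSpace K χ ↔ ∀ (k : K) (x : Δ), f ((k : Δ) * x) = (χ k : ℂ) * f x := Iff.rfl

/-- right translation on functions -/
def rtrans (g : Δ) : (Δ → ℂ) →ₗ[ℂ] (Δ → ℂ) := LinearMap.funLeft ℂ ℂ (fun x => x * g)

@[simp] theorem rtrans_apply (g : Δ) (f : Δ → ℂ) (x : Δ) : rtrans g f x = f (x * g) := rfl

theorem rtrans_mem (K : Subgroup Δ) (χ : K →* ℂˣ) (g : Δ) :
    ∀ f ∈ indSpace K χ, rtrans g f ∈ indSpace K χ := by
  intro f hf k x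
  rw [rtrans_apply, rtrans_apply, mul_assoc, hf k (x * g)]

/-- the induced representation on `indSpace` -/
def indRep (K : Subgroup Δ) (χ : K →* ℂˣ) : Δ →* Module.End ℂ (indSpace K χ) where
  toFun g := (rtrans g).restrict (rtrans_mem K χ g)
  map_one' := by
    apply LinearMap.ext
    intro f
    apply Subtype.ext
    funext x
    simp
  map_mul' := by
    intro g h
    apply LinearMap.ext
    intro f
    apply Subtype.ext
    funext x
    simp [mul_assoc]

theorem indRep_apply (K : Subgroup Δ) (χ : K →* ℂˣ) (g : Δ) (f : indSpace K χ) (x : Δ) :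
    ((indRep K χ g f : indSpace K χ) : Δ → ℂ) x = (f : Δ → ℂ) (x * g) := rfl

theorem indRep_central (K : Subgroup Δ) (hK : K ≤ Subgroup.center Δ) (χ : K →* ℂˣ) (k : K) :
    indRep K χ (k : Δ) = ((χ k : ℂ) • (1 : Module.End ℂ (indSpace K χ))) := by
  apply LinearMap.ext
  intro f
  apply Subtype.ext
  funext x
  rw [indRep_apply]
  have h1 : x * (k : Δ) = (k : Δ) * x := Subgroup.mem_center_iff.mp (hK k.2) x
  rw [h1, f.2 k x]
  simp

/-- the basic function in `indSpace` supported on `K` -/
noncomputable def indBase (K : Subgroup Δ) (χ : K →* ℂˣ) : Δ → ℂ := by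
  classical
  exact fun x => if h : x ∈ K then (χ ⟨x, h⟩ : ℂ) else 0

theorem indBase_mem (K : Subgroup Δ) (χ : K →* ℂˣ) : indBase K χ ∈ indSpace K χ := by
  classical
  intro k x
  unfold indBase
  by_cases hx : x ∈ K
  · have hkx : (k : Δ) * x ∈ K := K.mul_mem k.2 hx
    rw [dif_pos hkx, dif_pos hx]
    have : (⟨(k : Δ) * x, hkx⟩ : K) = k * ⟨x, hx⟩ := rfl
    rw [this, map_mul, Units.val_mul]
  · have hkx : (k : Δ) * x ∉ K := by
      intro h
      apply hx
      have := K.mul_mem (K.inv_mem k.2) h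
      rwa [inv_mul_cancel_left] at this
    rw [dif_neg hkx, dif_neg hx, mul_zero]

theorem indBase_one (K : Subgroup Δ) (χ : K →* ℂˣ) : indBase K χ 1 = 1 := by
  classical
  unfold indBase
  rw [dif_pos K.one_mem]
  have : (⟨1, K.one_mem⟩ : K) = 1 := rfl
  rw [this, map_one, Units.val_one]

end Ind

section Main

variable {Δ : Type*} [Group Δ] [Finite Δ]

/-- A finite group with a central subgroup `K` and `1 ≠ z ∈ K` has a complex matrix representation
in which `K` acts by scalar matrices and `z` acts nontrivially. -/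
theorem exists_central_scalar_rep (K : Subgroup Δ) (hK : K ≤ Subgroup.center Δ) (z : Δ) (hz : z ∈ K)
    (hz1 : z ≠ 1) :
    ∃ (d : ℕ) (ρ : Δ →* GL (Fin d) ℂ),
      (∀ k ∈ K, ρ k ∈ Subgroup.center (GL (Fin d) ℂ)) ∧ ρ z ≠ 1 := by
  classical
  -- a character of `K` not killing `z`
  letI : CommGroup K :=
    { (inferInstance : Group K) with
      mul_comm := fun a b => Subtype.ext (Subgroup.mem_center_iff.mp (hK b.2) (a : Δ)) }
  have hne : NeZero (Monoid.exponent K) := ⟨Monoid.exponent_ne_zero_of_finite (G := K)⟩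
  have hne' : NeZero ((Monoid.exponent K : ℕ) : ℂ) := NeZero.charZero
  have hzK : (⟨z, hz⟩ : K) ≠ 1 := by
    intro h
    exact hz1 (congrArg Subtype.val h)
  obtain ⟨χ, hχ⟩ := CommGroup.exists_apply_ne_one_of_hasEnoughRootsOfUnity K ℂ hzK
  let V := indSpace K χ
  let b : Module.Basis (Fin (Module.finrank ℂ V)) ℂ V := Module.finBasis ℂ V
  let M : Module.End ℂ V →* Matrix (Fin (Module.finrank ℂ V)) (Fin (Module.finrank ℂ V)) ℂ :=
    MonoidHomClass.toMonoidHom (LinearMap.toMatrixAlgEquiv b)
  have hM : ∀ f, M f = LinearMap.toMatrixAlgEquiv b f := fun f => rfl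
  let ρ : Δ →* GL (Fin (Module.finrank ℂ V)) ℂ := (Units.map M).comp (indRep K χ).toHomUnits
  have hρ : ∀ g, ((ρ g : GL (Fin (Module.finrank ℂ V)) ℂ) : Matrix _ _ ℂ) =
      LinearMap.toMatrixAlgEquiv b (indRep K χ g) := fun g => rfl
  refine ⟨Module.finrank ℂ V, ρ, ?_, ?_⟩
  · intro k hk
    rw [Matrix.GeneralLinearGroup.mem_center_iff_val_mem_range_scalar]
    refine ⟨(χ ⟨k, hk⟩ : ℂ), ?_⟩
    rw [hρ, indRep_central K hK χ ⟨k, hk⟩, map_smul, map_one]
    ext i j
    simp [Matrix.scalar_apply, Matrix.diagonal_apply, Matrix.one_apply]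
  · intro h1
    have h2 : LinearMap.toMatrixAlgEquiv b (indRep K χ z) = 1 := by
      rw [← hρ, h1]; rfl
    have h3 : indRep K χ z = 1 := by
      have := (LinearMap.toMatrixAlgEquiv b).injective (h2.trans (map_one _).symm)
      exact this
    have h4 := indRep_central K hK χ ⟨z, hz⟩
    rw [h3] at h4
    have h5 := congrArg (fun T : Module.End ℂ V => ((T ⟨indBase K χ, indBase_mem K χ⟩ : V) : Δ → ℂ) 1) h4
    simp only [Module.End.one_apply, LinearMap.smul_apply, Submodule.coe_smul, Pi.smul_apply,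
      indBase_one, smul_eq_mul, mul_one] at h5
    apply hχ
    apply Units.ext
    rw [← h5, Units.val_one]

end Main

end Cfsg.Agent.Lib.Helper71
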