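import Mathlib

set_option autoImplicit false
set_option linter.style.haveILetI false

namespace Cfsg.Agent.Lib.Helper71

open Module

/-- a nonzero finite-dimensional representation has an irreducible subrepresentation -/
theorem exists_irreducible_subrep {k G V : Type*} [Field k] [Monoid G] [AddCommGroup V] [Module k V]
    [FiniteDimensional k V] [Nontrivial V] (ρ : Representation k G V) :
    ∃ W : Subrepresentation ρ, W.toRepresentation.IsIrreducible := by
  classical
  -- minimal dimension among nonzero subrepresentations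
  let P : ℕ → Prop := fun n => ∃ W : Subrepresentation ρ, W ≠ ⊥ ∧ finrank k W.toSubmodule = n
  have hP : ∃ n, P n := by
    refine ⟨finrank k (⊤ : Subrepresentation ρ).toSubmodule, ⊤, ?_, rfl⟩
    intro h
    obtain ⟨v, hv⟩ := exists_ne (0 : V)
    have h1 : v ∈ (⊤ : Subrepresentation ρ).toSubmodule := (Submodule.mem_top : v ∈ (⊤ : Submodule k V))
    rw [h] at h1
    exact hv ((Submodule.mem_bot k).mp h1)
  obtain ⟨W, hW0, hWn⟩ := Nat.find_spec hP
  have hmin : ∀ U : Subrepresentation ρ, U ≠ ⊥ → finrank k W.toSubmodule ≤ finrank k U.toSubmodule := by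
    intro U hU
    rw [hWn]
    exact Nat.find_min' hP ⟨U, hU, rfl⟩
  refine ⟨W, ?_⟩
  have hWne : W.toSubmodule ≠ ⊥ := by
    intro h
    apply hW0
    apply Subrepresentation.toSubmodule_injective
    exact h
  haveI : Nontrivial (Subrepresentation W.toRepresentation) := by
    refine ⟨⊥, ⊤, ?_⟩
    intro h
    have h1 : (⊥ : Subrepresentation W.toRepresentation).toSubmodule =
        (⊤ : Subrepresentation W.toRepresentation).toSubmodule := congrArg _ h
    have h2 : (⊥ : Submodule k W.toSubmodule) = ⊤ := h1
    apply hWne
    rw [eq_bot_iff]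
    intro v hv
    have : (⟨v, hv⟩ : W.toSubmodule) ∈ (⊤ : Submodule k W.toSubmodule) := Submodule.mem_top
    rw [← h2, Submodule.mem_bot] at this
    rw [Submodule.mem_bot]
    exact congrArg Subtype.val this
  refine { eq_bot_or_eq_top := ?_ }
  intro U
  -- push `U` forward to a subrepresentation of `ρ`
  let U' : Subrepresentation ρ :=
    { toSubmodule := U.toSubmodule.map W.toSubmodule.subtype
      apply_mem_toSubmodule := by
        rintro g _ ⟨u, hu, rfl⟩
        refine ⟨W.toRepresentation g u, U.apply_mem_toSubmodule g hu, ?_⟩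
        rfl }
  have hU'le : U'.toSubmodule ≤ W.toSubmodule := by
    rintro _ ⟨u, _, rfl⟩
    exact u.2
  by_cases hU : U' = ⊥
  · left
    apply Subrepresentation.toSubmodule_injective
    show U.toSubmodule = ⊥
    rw [eq_bot_iff]
    intro u hu
    have h1 : (u : V) ∈ U'.toSubmodule := ⟨u, hu, rfl⟩
    rw [hU] at h1
    have h2 : (u : V) = 0 := h1
    rw [Submodule.mem_bot]
    exact Subtype.ext h2
  · right
    have h1 := hmin U' hU
    have h2 : U'.toSubmodule = W.toSubmodule :=
      Submodule.eq_of_le_of_finrank_le hU'le h1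
    apply Subrepresentation.toSubmodule_injective
    show U.toSubmodule = ⊤
    rw [eq_top_iff]
    intro w _
    have h3 : (w : V) ∈ U'.toSubmodule := by rw [h2]; exact w.2
    obtain ⟨u, hu, huw⟩ := h3
    have : u = w := Subtype.ext huw
    rw [← this]
    exact hu

end Cfsg.Agent.Lib.Helper71
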