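import Mathlib
import Cfsg.Agent.Lib.Helper84.Schur
import Cfsg.Agent.Lib.Helper04.CharValues
import Cfsg.Agent.Lib.Helper71.CentralRep
import Cfsg.Agent.Lib.Helper71.IrrSub

set_option autoImplicit false
set_option linter.style.haveILetI false

namespace Cfsg.Agent.Lib.Helper71

open Module
open scoped ComplexConjugate

/-- an irreducible complex representation in which a central subgroup `Z` acts through the
character `χ` has `|Z| * d² ≤ |E|` -/
theorem card_mul_sq_le_of_central_scalar {E : Type*} [Group E] [Fintype E] {W : Type*}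
    [AddCommGroup W] [Module ℂ W] [FiniteDimensional ℂ W] (ρ : Representation ℂ E W)
    [ρ.IsIrreducible] (Z : Subgroup E) (χ : Z →* ℂˣ)
    (hχ : ∀ k : Z, ρ (k : E) = ((χ k : ℂ) • (1 : Module.End ℂ W))) :
    Nat.card Z * (finrank ℂ W) ^ 2 ≤ Nat.card E := by
  classical
  have hsum := Cfsg.Agent.Lib.Helper84.sum_char_mul_char_inv ρ
  have hchar : ∀ k : Z, ρ.character (k : E) = (χ k : ℂ) * (finrank ℂ W : ℂ) := by
    intro k
    show LinearMap.trace ℂ W (ρ (k : E)) = _
    rw [hχ k, map_smul, Module.End.one_eq_id, LinearMap.trace_id, smul_eq_mul]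
  have hterm : ∀ h : E, 0 ≤ (ρ.character h * ρ.character h⁻¹).re := by
    intro h
    rw [Cfsg.Agent.Lib.Helper04.char_inv ρ h, Complex.mul_conj]
    exact_mod_cast Complex.normSq_nonneg _
  have htermZ : ∀ h : E, h ∈ Z → (ρ.character h * ρ.character h⁻¹).re = ((finrank ℂ W : ℝ)) ^ 2 := by
    intro h hh
    have h1 := hchar ⟨h, hh⟩
    have h2 := hchar ⟨h⁻¹, Z.inv_mem hh⟩
    simp only at h1 h2
    rw [h1, h2]
    have h3 : (⟨h⁻¹, Z.inv_mem hh⟩ : Z) = (⟨h, hh⟩ : Z)⁻¹ := rfl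
    rw [h3, map_inv]
    have h4 : ((χ ⟨h, hh⟩ : ℂˣ) : ℂ) * (((χ ⟨h, hh⟩)⁻¹ : ℂˣ) : ℂ) = 1 := by
      rw [← Units.val_mul, mul_inv_cancel, Units.val_one]
    have : ((χ ⟨h, hh⟩ : ℂˣ) : ℂ) * (finrank ℂ W : ℂ) * ((((χ ⟨h, hh⟩)⁻¹ : ℂˣ) : ℂ) * (finrank ℂ W : ℂ))
        = ((finrank ℂ W : ℂ)) ^ 2 := by
      calc _ = (((χ ⟨h, hh⟩ : ℂˣ) : ℂ) * (((χ ⟨h, hh⟩)⁻¹ : ℂˣ) : ℂ)) * (finrank ℂ W : ℂ) ^ 2 := by ring
        _ = _ := by rw [h4, one_mul]
    rw [this]
    norm_cast
  have hre : (∑ h : E, (ρ.character h * ρ.character h⁻¹).re) = (Fintype.card E : ℝ) := by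
    have := congrArg Complex.re hsum
    rw [Complex.re_sum] at this
    rw [this]
    simp
  have hZsum : ∑ h ∈ Finset.univ.filter (fun h : E => h ∈ Z), (ρ.character h * ρ.character h⁻¹).re
      = (Nat.card Z : ℝ) * ((finrank ℂ W : ℝ)) ^ 2 := by
    rw [Finset.sum_congr rfl (fun h hh => htermZ h (Finset.mem_filter.mp hh).2),
      Finset.sum_const, nsmul_eq_mul]
    congr 2
    rw [Nat.card_eq_fintype_card, Fintype.card_subtype]
  have hle : ∑ h ∈ Finset.univ.filter (fun h : E => h ∈ Z), (ρ.character h * ρ.character h⁻¹).re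
      ≤ ∑ h : E, (ρ.character h * ρ.character h⁻¹).re :=
    Finset.sum_le_sum_of_subset_of_nonneg (Finset.filter_subset _ _) (fun h _ _ => hterm h)
  rw [hZsum, hre] at hle
  rw [Nat.card_eq_fintype_card (α := E)]
  exact_mod_cast hle

/-- generic form of the degree bound -/
theorem pow_two_mul_card_le_aux {E : Type*} [Group E] [Fintype E] {W : Type*}
    [AddCommGroup W] [Module ℂ W] [FiniteDimensional ℂ W] (ρ : Representation ℂ E W)
    [ρ.IsIrreducible] (Z : Subgroup E) (χ : Z →* ℂˣ)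
    (hχ : ∀ k : Z, ρ (k : E) = ((χ k : ℂ) • (1 : Module.End ℂ W)))
    (z : Z) (hzc : (z : E) ∈ commutator E) (m : ℕ) (hord : orderOf (χ z) = m) :
    m ^ 2 * Nat.card Z ≤ Nat.card E := by
  have hbound := card_mul_sq_le_of_central_scalar ρ Z χ hχ
  have hdpos : 0 < finrank ℂ W := Cfsg.Agent.Lib.Helper84.irr_finrank_pos ρ
  let detHom : E →* ℂˣ := ((LinearMap.det : Module.End ℂ W →* ℂ).comp ρ).toHomUnits
  have hdet1 : detHom (z : E) = 1 := Abelianization.commutator_subset_ker detHom hzc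
  have hdetz : ((detHom (z : E) : ℂˣ) : ℂ) = (χ z : ℂ) ^ finrank ℂ W := by
    show LinearMap.det (ρ (z : E)) = _
    rw [hχ z, LinearMap.det_smul, Module.End.one_eq_id, LinearMap.det_id, mul_one]
  have hχpow : (χ z) ^ finrank ℂ W = 1 := by
    apply Units.ext
    rw [Units.val_pow_eq_pow_val, ← hdetz, hdet1, Units.val_one]
  have hdvd : m ∣ finrank ℂ W := by
    rw [← hord]
    exact orderOf_dvd_of_pow_eq_one hχpow
  have hle : m ≤ finrank ℂ W := Nat.le_of_dvd hdpos hdvd
  calc m ^ 2 * Nat.card Z = Nat.card Z * m ^ 2 := by ring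
    _ ≤ Nat.card Z * (finrank ℂ W) ^ 2 :=
        Nat.mul_le_mul_left _ (Nat.pow_le_pow_left hle 2)
    _ ≤ Nat.card E := hbound

/-- **degree bound**: if `z` lies in a central subgroup `Z` and in the commutator subgroup of the
finite group `E`, and has order `p ^ k`, then `p ^ (2 k) * |Z| ≤ |E|`. -/
theorem pow_two_mul_card_le {E : Type*} [Group E] [Finite E] (Z : Subgroup E)
    (hZ : Z ≤ Subgroup.center E) (z : E) (hzZ : z ∈ Z) (hzc : z ∈ commutator E) (p k : ℕ)
    (hp : p.Prime) (hz : orderOf z = p ^ k) : p ^ (2 * k) * Nat.card Z ≤ Nat.card E := by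
  classical
  haveI : Fintype E := Fintype.ofFinite E
  rcases Nat.eq_zero_or_pos k with rfl | hk
  · simpa using Subgroup.card_le_card_group Z
  obtain ⟨n, rfl⟩ := Nat.exists_eq_succ_of_ne_zero hk.ne'
  -- a character of `Z` nontrivial on `z ^ (p ^ n)`
  letI : CommGroup Z :=
    { (inferInstance : Group Z) with
      mul_comm := fun a b => Subtype.ext (Subgroup.mem_center_iff.mp (hZ b.2) (a : E)) }
  have hne : NeZero (Monoid.exponent Z) := ⟨Monoid.exponent_ne_zero_of_finite (G := Z)⟩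
  have hne' : NeZero ((Monoid.exponent Z : ℕ) : ℂ) := NeZero.charZero
  have hpow_ne : z ^ (p ^ n) ≠ 1 := by
    apply pow_ne_one_of_lt_orderOf (pow_pos hp.pos _).ne'
    rw [hz]
    exact Nat.pow_lt_pow_right hp.one_lt (Nat.lt_succ_self n)
  let zZ : Z := ⟨z, hzZ⟩
  have hzZne : zZ ^ (p ^ n) ≠ 1 := by
    intro h
    apply hpow_ne
    have := congrArg Subtype.val h
    rwa [Subgroup.coe_pow] at this
  obtain ⟨χ, hχ⟩ := CommGroup.exists_apply_ne_one_of_hasEnoughRootsOfUnity Z ℂ hzZne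
  -- the induced representation and an irreducible constituent
  let V := indSpace Z χ
  haveI : Nontrivial V := by
    refine ⟨⟨⟨indBase Z χ, indBase_mem Z χ⟩, 0, ?_⟩⟩
    intro h
    have h1 := congrArg (fun f : V => (f : E → ℂ) 1) h
    simp only [indBase_one] at h1
    exact one_ne_zero h1
  let ρV : Representation ℂ E V := indRep Z χ
  obtain ⟨W, hW⟩ := exists_irreducible_subrep ρV
  let ρW := W.toRepresentation
  have hρW : ∀ c : Z, ρW (c : E) = ((χ c : ℂ) • (1 : Module.End ℂ W.toSubmodule)) := by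
    intro c
    apply LinearMap.ext
    intro w
    apply Subtype.ext
    have h1 := indRep_central Z hZ χ c
    show ρV (c : E) (w : V) = _
    rw [show ρV (c : E) = indRep Z χ (c : E) from rfl, h1]
    rfl
  -- the order of `χ z` is `p ^ (n+1)`
  have hord : orderOf (χ zZ) = p ^ (n + 1) := by
    have hfact : Fact p.Prime := ⟨hp⟩
    apply orderOf_eq_prime_pow
    · intro h
      apply hχ
      rw [map_pow, h]
    · have h1 : zZ ^ (p ^ (n + 1)) = 1 := by
        apply Subtype.ext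
        rw [Subgroup.coe_pow, ← hz]
        exact pow_orderOf_eq_one z
      rw [← map_pow, h1, map_one]
  have := @pow_two_mul_card_le_aux E _ _ W.toSubmodule _ _ _ ρW hW Z χ hρW zZ hzc _ hord
  calc p ^ (2 * (n + 1)) * Nat.card Z = (p ^ (n + 1)) ^ 2 * Nat.card Z := by ring
    _ ≤ Nat.card E := this

end Cfsg.Agent.Lib.Helper71
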