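import Mathlib

set_option autoImplicit false

namespace Cfsg.Agent.Lib.Helper71

section
variable {G : Type*} [Group G] {x y c : G}

/-- If `y * x = c * x * y` with `c` commuting with `x` then `y * x ^ n = c ^ n * x ^ n * y`. -/
theorem mul_pow_of_comm_rel (h : y * x = c * x * y) (hcx : Commute c x) (n : ℕ) :
    y * x ^ n = c ^ n * x ^ n * y := by
  induction n with
  | zero => simp
  | succ n ih =>
    calc y * x ^ (n + 1) = (y * x ^ n) * x := by rw [pow_succ]; group
      _ = c ^ n * x ^ n * (y * x) := by rw [ih]; group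
      _ = c ^ n * x ^ n * (c * x * y) := by rw [h]
      _ = c ^ n * (x ^ n * c) * x * y := by group
      _ = c ^ n * (c * x ^ n) * x * y := by rw [(hcx.pow_right n).eq]
      _ = c ^ (n + 1) * x ^ (n + 1) * y := by rw [pow_succ, pow_succ]; group

/-- If `y * x = c * x * y` with `c` commuting with `y` then `y ^ n * x = c ^ n * x * y ^ n`. -/
theorem pow_mul_of_comm_rel (h : y * x = c * x * y) (hcy : Commute c y) (n : ℕ) :
    y ^ n * x = c ^ n * x * y ^ n := by
  induction n with
  | zero => simp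
  | succ n ih =>
    calc y ^ (n + 1) * x = y * (y ^ n * x) := by rw [pow_succ']; group
      _ = y * (c ^ n * x * y ^ n) := by rw [ih]
      _ = (y * c ^ n) * x * y ^ n := by group
      _ = (c ^ n * y) * x * y ^ n := by rw [((hcy.pow_left n).eq)]
      _ = c ^ n * (y * x) * y ^ n := by group
      _ = c ^ n * (c * x * y) * y ^ n := by rw [h]
      _ = c ^ (n + 1) * x * y ^ (n + 1) := by rw [pow_succ, pow_succ']; group

/-- Power of a product in class two. -/
theorem mul_pow_of_comm_rel' (h : y * x = c * x * y) (hcx : Commute c x) (hcy : Commute c y)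
    (n : ℕ) : (x * y) ^ n = x ^ n * y ^ n * c ^ (n * (n - 1) / 2) := by
  induction n with
  | zero => simp
  | succ n ih =>
    have hT : (n + 1) * (n + 1 - 1) / 2 = n * (n - 1) / 2 + n := Nat.triangle_succ n
    have hcxn : Commute (c ^ (n * (n - 1) / 2)) x := hcx.pow_left _
    have hcyn : Commute (c ^ (n * (n - 1) / 2)) y := hcy.pow_left _
    have hcnx : Commute (c ^ n) x := hcx.pow_left _
    calc (x * y) ^ (n + 1) = (x * y) ^ n * (x * y) := pow_succ _ _
      _ = x ^ n * y ^ n * c ^ (n * (n - 1) / 2) * (x * y) := by rw [ih]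
      _ = x ^ n * y ^ n * (c ^ (n * (n - 1) / 2) * x) * y := by group
      _ = x ^ n * y ^ n * (x * c ^ (n * (n - 1) / 2)) * y := by rw [hcxn.eq]
      _ = x ^ n * (y ^ n * x) * (c ^ (n * (n - 1) / 2) * y) := by group
      _ = x ^ n * (c ^ n * x * y ^ n) * (y * c ^ (n * (n - 1) / 2)) := by
        rw [pow_mul_of_comm_rel h hcy n, hcyn.eq]
      _ = x ^ n * (c ^ n * x) * y ^ n * y * c ^ (n * (n - 1) / 2) := by group
      _ = x ^ n * (x * c ^ n) * y ^ n * y * c ^ (n * (n - 1) / 2) := by rw [hcnx.eq]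
      _ = x ^ (n + 1) * (c ^ n * y ^ (n + 1)) * c ^ (n * (n - 1) / 2) := by
        rw [pow_succ, pow_succ]; group
      _ = x ^ (n + 1) * (y ^ (n + 1) * c ^ n) * c ^ (n * (n - 1) / 2) := by
        rw [((hcy.pow_left n).pow_right (n + 1)).eq]
      _ = x ^ (n + 1) * y ^ (n + 1) * c ^ ((n + 1) * (n + 1 - 1) / 2) := by
        rw [hT, pow_add]; group

end

end Cfsg.Agent.Lib.Helper71
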