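import Mathlib

set_option autoImplicit false
set_option linter.style.haveILetI false

namespace Cfsg.Agent.Lib.Helper71

open Matrix

/-- extension of homomorphisms into a commutative group with roots, from a subgroup meeting the
commutator subgroup trivially -/
theorem exists_extension_of_rootable {H D : Type*} [Group H] [CommGroup D]
    (hD : ∀ (d : D) (k : ℕ), k ≠ 0 → ∃ x : D, x ^ k = d)
    (S : Subgroup H) (hS : S ⊓ commutator H = ⊥) (l₀ : S →* D) :
    ∃ l : H →* D, ∀ s : S, l (s : H) = l₀ s := by
  letI : DivisibleBy (Additive D) ℤ := divisibleByOfSMulRightSurj (Additive D) ℤ (by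
    intro n hn a
    obtain ⟨k, rfl | rfl⟩ := Int.eq_nat_or_neg n
    · have hk : k ≠ 0 := by
        rintro rfl; exact hn rfl
      obtain ⟨x, hx⟩ := hD (Additive.toMul a) k hk
      refine ⟨Additive.ofMul x, ?_⟩
      show ((k : ℤ) • Additive.ofMul x) = a
      rw [natCast_zsmul, ← ofMul_pow, hx]; rfl
    · have hk : k ≠ 0 := by
        rintro rfl; exact hn rfl
      obtain ⟨x, hx⟩ := hD (Additive.toMul a) k hk
      refine ⟨Additive.ofMul x⁻¹, ?_⟩
      show ((-(k : ℤ)) • Additive.ofMul x⁻¹) = a
      rw [neg_smul, natCast_zsmul, ← ofMul_pow, inv_pow, hx, ofMul_inv, neg_neg]; rfl)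
  have hB : Module.Baer ℤ (Additive D) := Module.Baer.of_divisible _
  let j : S →* Abelianization H := Abelianization.of.comp S.subtype
  have hj : Function.Injective j := by
    rw [injective_iff_map_eq_one]
    intro a ha
    have h2 : (a : H) ∈ commutator H := by
      rw [← Abelianization.ker_of]; exact ha
    have h3 : (a : H) ∈ S ⊓ commutator H := ⟨a.2, h2⟩
    rw [hS, Subgroup.mem_bot] at h3
    exact Subtype.ext h3
  let e : S ≃* j.range := MonoidHom.ofInjective hj
  have he : ∀ s : S, ((e s : j.range) : Abelianization H) = Abelianization.of (s : H) := fun s => rfl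
  let g' : j.range →* D := l₀.comp e.symm.toMonoidHom
  let f' : Additive j.range →+ Additive (Abelianization H) := MonoidHom.toAdditive j.range.subtype
  have hf' : Function.Injective f' := by
    intro a b hab
    have : ((Additive.toMul a : j.range) : Abelianization H) = (Additive.toMul b : j.range) :=
      congrArg Additive.toMul hab
    exact congrArg Additive.ofMul (Subtype.ext this)
  obtain ⟨h, hh⟩ := hB.extension_property_addMonoidHom f' hf' (MonoidHom.toAdditive g')
  refine ⟨(MonoidHom.toAdditive.symm h).comp Abelianization.of, ?_⟩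
  intro s
  have h1 := DFunLike.congr_fun hh (Additive.ofMul (e s))
  have h2 : Additive.toMul (h (f' (Additive.ofMul (e s)))) = g' (e s) := congrArg Additive.toMul h1
  have h3 : g' (e s) = l₀ s := by
    show l₀ (e.symm (e s)) = l₀ s
    rw [e.symm_apply_apply]
  rw [← h3, ← h2]
  rfl

/-- the centre of `GL n ℂ` has roots of all orders -/
theorem center_GL_rootable (n : ℕ) (d : Subgroup.center (GL (Fin n) ℂ)) (k : ℕ) (hk : k ≠ 0) :
    ∃ x : Subgroup.center (GL (Fin n) ℂ), x ^ k = d := by
  have hd : (d : GL (Fin n) ℂ) ∈ (Matrix.GeneralLinearGroup.scalar (Fin n)).range := by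
    rw [← Matrix.GeneralLinearGroup.center_eq_range_scalar]; exact d.2
  obtain ⟨c, hc⟩ := hd
  obtain ⟨w, hw⟩ := IsAlgClosed.exists_pow_nat_eq (c : ℂ) (Nat.pos_of_ne_zero hk)
  have hw0 : w ≠ 0 := by
    rintro rfl
    rw [zero_pow hk] at hw
    exact c.ne_zero hw.symm
  let wu : ℂˣ := Units.mk0 w hw0
  have hwu : wu ^ k = c := by
    apply Units.ext
    rw [Units.val_pow_eq_pow_val]
    exact hw
  have hmem : Matrix.GeneralLinearGroup.scalar (Fin n) wu ∈ Subgroup.center (GL (Fin n) ℂ) := by
    rw [Matrix.GeneralLinearGroup.center_eq_range_scalar]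
    exact ⟨wu, rfl⟩
  refine ⟨⟨_, hmem⟩, ?_⟩
  apply Subtype.ext
  rw [Subgroup.coe_pow]
  show (Matrix.GeneralLinearGroup.scalar (Fin n) wu) ^ k = d
  rw [← map_pow, hwu, hc]

end Cfsg.Agent.Lib.Helper71
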