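import Mathlib
import Cfsg.Agent.Lib.Helper07.SLGen

set_option autoImplicit false

/-!
Coordinates on an elementary abelian group of order `p²` and the induced action of `SL₂(p)`;
if every automorphism of order `p` of such a subgroup is induced by conjugation, then so is the
diagonal automorphism `z ↦ z ^ s`, `a ↦ a ^ s'` (`s s' = 1`).
-/

namespace Cfsg.Agent.Lib.Helper71.PlaneCoords

variable {p : ℕ} [Fact p.Prime]

lemma pow_val_add {Q : Type*} [Group Q] {w : Q} (h : w ^ p = 1) (x y : ZMod p) :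
    w ^ (x + y).val = w ^ x.val * w ^ y.val := by
  rw [ZMod.val_add, ← pow_add, ← pow_eq_pow_mod _ h]

lemma pow_val_mul {Q : Type*} [Group Q] {w : Q} (h : w ^ p = 1) (x y : ZMod p) :
    w ^ (x * y).val = (w ^ x.val) ^ y.val := by
  rw [ZMod.val_mul, ← pow_mul, ← pow_eq_pow_mod _ h]

lemma pow_val_natCast {Q : Type*} [Group Q] {w : Q} (h : w ^ p = 1) (n : ℕ) :
    w ^ ((n : ZMod p).val) = w ^ n := by
  rw [ZMod.val_natCast, ← pow_eq_pow_mod _ h]

lemma pow_eq_of_natCast_eq {Q : Type*} [Group Q] {w : Q} (h : w ^ p = 1) {m n : ℕ}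
    (hmn : (m : ZMod p) = (n : ZMod p)) : w ^ m = w ^ n := by
  rw [← pow_val_natCast h m, ← pow_val_natCast h n, hmn]

/-- the parametrisation of a plane by `𝔽_p²` -/
def par {Q : Type*} [Group Q] (z a : Q) (v : Fin 2 → ZMod p) : Q := z ^ (v 0).val * a ^ (v 1).val

/-- the parametrisation as a homomorphism -/
def parHom {Q : Type*} [Group Q] (z a : Q) (hz : z ^ p = 1) (ha : a ^ p = 1)
    (hc : Commute z a) : Multiplicative (Fin 2 → ZMod p) →* Q where
  toFun v := par z a (Multiplicative.toAdd v)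
  map_one' := by simp [par]
  map_mul' u v := by
    show par z a (Multiplicative.toAdd u + Multiplicative.toAdd v) = _
    unfold par
    simp only [Pi.add_apply]
    rw [pow_val_add hz, pow_val_add ha]
    have h1 : Commute (z ^ (Multiplicative.toAdd v 0).val) (a ^ (Multiplicative.toAdd u 1).val) :=
      hc.pow_pow _ _
    rw [mul_assoc, ← mul_assoc (z ^ (Multiplicative.toAdd v 0).val), h1.eq, mul_assoc, ← mul_assoc]

theorem exists_coords {Q : Type*} [Group Q] [Finite Q] (hcard : Nat.card Q = p ^ 2)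
    (hexp : ∀ x : Q, x ^ p = 1) (hcomm : ∀ x y : Q, x * y = y * x) (z a : Q) (hz : z ≠ 1)
    (ha : a ∉ Subgroup.zpowers z) :
    ∃ e : Q ≃* Multiplicative (Fin 2 → ZMod p),
      e z = Multiplicative.ofAdd (Pi.single 0 1) ∧ e a = Multiplicative.ofAdd (Pi.single 1 1) ∧
      ∀ v : Fin 2 → ZMod p, e.symm (Multiplicative.ofAdd v) = z ^ (v 0).val * a ^ (v 1).val := by
  have hp := (Fact.out : p.Prime)
  set f := parHom (p := p) z a (hexp z) (hexp a) (hcomm z a) with hf
  have hfa : ∀ v : Fin 2 → ZMod p, f (Multiplicative.ofAdd v) = z ^ (v 0).val * a ^ (v 1).val :=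
    fun v => rfl
  have hinj : Function.Injective f := by
    rw [injective_iff_map_eq_one]
    intro u hu
    obtain ⟨v, hv⟩ : ∃ v : Fin 2 → ZMod p, v = Multiplicative.toAdd u := ⟨_, rfl⟩
    have hu' : z ^ (v 0).val * a ^ (v 1).val = 1 := by rw [hv]; exact hu
    clear hu
    rename' hu' => hu
    have h1 : v 1 = 0 := by
      by_contra hne
      apply ha
      have h2 : a ^ (v 1).val = (z ^ (v 0).val)⁻¹ := eq_inv_of_mul_eq_one_right hu
      have h3 : a = (a ^ (v 1).val) ^ ((v 1)⁻¹).val := by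
        rw [← pow_val_mul (hexp a), mul_inv_cancel₀ hne, ZMod.val_one, pow_one]
      rw [h3, h2]
      exact Subgroup.pow_mem _ (Subgroup.inv_mem _ (Subgroup.pow_mem _ (Subgroup.mem_zpowers z) _)) _
    rw [h1, ZMod.val_zero, pow_zero, mul_one] at hu
    have hoz : orderOf z = p := orderOf_eq_prime (hexp z) hz
    have h0 : v 0 = 0 := by
      have h4 : p ∣ (v 0).val := by
        have h6 := orderOf_dvd_of_pow_eq_one hu
        generalize (v 0).val = n at h6 ⊢
        rwa [hoz] at h6
      have h5 : (v 0).val = 0 := Nat.eq_zero_of_dvd_of_lt h4 (ZMod.val_lt _)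
      exact (ZMod.val_eq_zero _).mp h5
    have : v = 0 := by
      funext i; fin_cases i
      · exact h0
      · exact h1
    rw [this] at hv
    exact (congrArg Multiplicative.ofAdd hv).symm
  have hbij : Function.Bijective f := by
    rw [Nat.bijective_iff_injective_and_card]
    refine ⟨hinj, ?_⟩
    rw [hcard, Nat.card_eq_fintype_card]
    simp [ZMod.card]
  refine ⟨(MulEquiv.ofBijective f hbij).symm, ?_, ?_, ?_⟩
  · rw [MulEquiv.symm_apply_eq]
    show z = f (Multiplicative.ofAdd (Pi.single 0 1))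
    rw [hfa]; simp [ZMod.val_one]
  · rw [MulEquiv.symm_apply_eq]
    show a = f (Multiplicative.ofAdd (Pi.single 1 1))
    rw [hfa]; simp [ZMod.val_one]
  · intro v
    rw [MulEquiv.symm_symm]
    exact hfa v

/-- linear automorphisms as automorphisms of the multiplicative copy -/
def linMulAut (V : Type*) [AddCommGroup V] [Module (ZMod p) V] :
    (V ≃ₗ[ZMod p] V) →* MulAut (Multiplicative V) where
  toFun L := AddEquiv.toMultiplicative L.toAddEquiv
  map_one' := rfl
  map_mul' _ _ := rfl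

/-- the action of `SL₂(p)` on a coordinatised plane -/
noncomputable def planeAct {Q : Type*} [Group Q] (e : Q ≃* Multiplicative (Fin 2 → ZMod p)) :
    Matrix.SpecialLinearGroup (Fin 2) (ZMod p) →* MulAut Q :=
  (MulAut.congr e.symm).toMonoidHom.comp
    ((linMulAut (p := p) (Fin 2 → ZMod p)).comp Matrix.SpecialLinearGroup.toLin')

lemma planeAct_apply {Q : Type*} [Group Q] (e : Q ≃* Multiplicative (Fin 2 → ZMod p))
    (M : Matrix.SpecialLinearGroup (Fin 2) (ZMod p)) (x : Q) :
    planeAct e M x = e.symm (Multiplicative.ofAdd (M.1.mulVec (Multiplicative.toAdd (e x)))) := by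
  rfl

lemma transvection_pow {i j : Fin 2} (hij : i ≠ j) (c : ZMod p) (n : ℕ) :
    (Matrix.SpecialLinearGroup.transvection hij c) ^ n =
      Matrix.SpecialLinearGroup.transvection hij (n • c) := by
  induction n with
  | zero => rw [pow_zero, zero_smul, Matrix.SpecialLinearGroup.transvection_coeff_zero]
  | succ n ih =>
    rw [pow_succ, ih]
    apply Subtype.ext
    rw [Matrix.SpecialLinearGroup.coe_mul]
    show Matrix.transvection i j (n • c) * Matrix.transvection i j c = Matrix.transvection i j _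
    rw [Matrix.transvection_mul_transvection_same i j hij, succ_nsmul]

lemma transvection_pow_p {i j : Fin 2} (hij : i ≠ j) (c : ZMod p) :
    (Matrix.SpecialLinearGroup.transvection hij c) ^ p = 1 := by
  rw [transvection_pow, nsmul_eq_mul, CharP.cast_eq_zero, zero_mul,
    Matrix.SpecialLinearGroup.transvection_coeff_zero]

/-- the subgroup of automorphisms of a subgroup induced by conjugation -/
def induced {G : Type*} [Group G] (A : Subgroup G) : Subgroup (MulAut A) where
  carrier := {φ | ∃ g : G, ∀ x : A, (φ x : G) = g * x * g⁻¹}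
  one_mem' := ⟨1, fun x => by simp⟩
  mul_mem' := by
    rintro φ ψ ⟨g, hg⟩ ⟨h, hh⟩
    refine ⟨g * h, fun x => ?_⟩
    rw [MulAut.mul_apply, hg, hh]; group
  inv_mem' := by
    rintro φ ⟨g, hg⟩
    refine ⟨g⁻¹, fun x => ?_⟩
    have h1 := hg (φ⁻¹ x)
    rw [MulAut.apply_inv_self] at h1
    rw [h1]; group

/-- If every automorphism of order `p` of a subgroup `A` of order `p²` and exponent `p` is
induced by conjugation, then so is the diagonal automorphism `z ↦ z ^ s`, `a ↦ a ^ s'`. -/
theorem exists_conj_diag {G : Type*} [Group G] (A : Subgroup G) [Finite A]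
    (hcard : Nat.card A = p ^ 2) (hexp : ∀ x ∈ A, x ^ p = 1)
    (hcomm : ∀ x ∈ A, ∀ y ∈ A, x * y = y * x) (z a : G) (hzA : z ∈ A) (haA : a ∈ A) (hz : z ≠ 1)
    (ha : a ∉ Subgroup.zpowers z)
    (hSL : ∀ φ : MulAut A, orderOf φ = p → ∃ g : G, ∀ x : A, (φ x : G) = g * x * g⁻¹)
    (s s' : ℕ) (hss : (s : ZMod p) * (s' : ZMod p) = 1) :
    (∃ g : G, g * z * g⁻¹ = z ^ s ∧ g * a * g⁻¹ = a ^ s') ∧
      (∀ y ∈ A, ∃ j k : ℕ, y = z ^ j * a ^ k) := by
  have hp := (Fact.out : p.Prime)
  have ha' : (⟨a, haA⟩ : A) ∉ Subgroup.zpowers (⟨z, hzA⟩ : A) := by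
    intro h
    obtain ⟨k, hk⟩ := Subgroup.mem_zpowers_iff.mp h
    apply ha
    rw [Subgroup.mem_zpowers_iff]
    refine ⟨k, ?_⟩
    have := congrArg (Subtype.val) hk
    simpa using this
  obtain ⟨e, hez, hea, hes⟩ := exists_coords (p := p) (Q := A) hcard
    (fun x => Subtype.ext (by simpa using hexp x x.2))
    (fun x y => Subtype.ext (by simpa using hcomm x x.2 y y.2)) ⟨z, hzA⟩ ⟨a, haA⟩
    (fun h => hz (by simpa using congrArg Subtype.val h)) ha'
  refine ⟨?_, ?_⟩
  · have htop : (induced A).comap (planeAct e) = ⊤ := by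
      apply Cfsg.Agent.Lib.Helper07.eq_top_of_transvection_mem
      intro i j hij c
      rw [Subgroup.mem_comap]
      have h1 : (planeAct e (Matrix.SpecialLinearGroup.transvection hij c)) ^ p = 1 := by
        rw [← map_pow, transvection_pow_p, map_one]
      have h2 := orderOf_dvd_of_pow_eq_one h1
      rcases (Nat.dvd_prime hp).mp h2 with h3 | h3
      · rw [orderOf_eq_one_iff] at h3
        rw [h3]; exact Subgroup.one_mem _
      · exact hSL _ h3
    obtain ⟨D, hDv⟩ : ∃ D : Matrix.SpecialLinearGroup (Fin 2) (ZMod p),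
        D.1 = !![(s : ZMod p), 0; 0, (s' : ZMod p)] :=
      ⟨⟨!![(s : ZMod p), 0; 0, (s' : ZMod p)], by rw [Matrix.det_fin_two_of]; simp [hss]⟩, rfl⟩
    have hD : D ∈ (induced A).comap (planeAct e) := by rw [htop]; trivial
    obtain ⟨g, hg⟩ : ∃ g : G, ∀ x : A, ((planeAct e D x : A) : G) = g * x * g⁻¹ := hD
    refine ⟨g, ?_, ?_⟩
    · have h1 := hg ⟨z, hzA⟩
      rw [planeAct_apply, hez, hDv] at h1
      rw [← h1]
      have h2 : (!![(s : ZMod p), 0; 0, (s' : ZMod p)]).mulVec (Pi.single 0 1) =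
          s • (Pi.single 0 1 : Fin 2 → ZMod p) := by
        funext i; fin_cases i <;> simp [Matrix.mulVec, dotProduct, Fin.sum_univ_two]
      show ((e.symm (Multiplicative.ofAdd ((!![(s : ZMod p), 0; 0, (s' : ZMod p)]).mulVec
        (Pi.single 0 1)))) : G) = _
      rw [h2, ofAdd_nsmul, map_pow, ← hez, MulEquiv.symm_apply_apply]
      rfl
    · have h1 := hg ⟨a, haA⟩
      rw [planeAct_apply, hea, hDv] at h1
      rw [← h1]
      have h2 : (!![(s : ZMod p), 0; 0, (s' : ZMod p)]).mulVec (Pi.single 1 1) =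
          s' • (Pi.single 1 1 : Fin 2 → ZMod p) := by
        funext i; fin_cases i <;> simp [Matrix.mulVec, dotProduct, Fin.sum_univ_two]
      show ((e.symm (Multiplicative.ofAdd ((!![(s : ZMod p), 0; 0, (s' : ZMod p)]).mulVec
        (Pi.single 1 1)))) : G) = _
      rw [h2, ofAdd_nsmul, map_pow, ← hea, MulEquiv.symm_apply_apply]
      rfl
  · intro y hy
    refine ⟨(Multiplicative.toAdd (e ⟨y, hy⟩) 0).val, (Multiplicative.toAdd (e ⟨y, hy⟩) 1).val, ?_⟩
    have h1 := hes (Multiplicative.toAdd (e ⟨y, hy⟩))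
    rw [ofAdd_toAdd, MulEquiv.symm_apply_apply] at h1
    have := congrArg Subtype.val h1
    simpa using this

end Cfsg.Agent.Lib.Helper71.PlaneCoords
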