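import Mathlib
import Cfsg.Agent.Lib.Helper71.PlaneCoords

set_option autoImplicit false

/-!
A Sylow `p`-subgroup `P` of class two with commutators in `⟨z⟩`, and a plane `⟨z, a⟩` on which some
`g` acts as `z ↦ z ^ s`, `a ↦ a ^ s'`: we correct `g` into the normalizer of `P` and compute its
action on `P` modulo the centralizer of `a`.
-/

namespace Cfsg.Agent.Lib.Helper71.ExtraPlane

open Cfsg.Agent.Lib.Helper71.PlaneCoords

variable {G : Type*} [Group G] {p : ℕ} [Fact p.Prime]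

lemma conj_fix_of_mem_zpowers {x z w : G} (h : x * z * x⁻¹ = z) (hw : w ∈ Subgroup.zpowers z) :
    x * w * x⁻¹ = w := by
  obtain ⟨k, rfl⟩ := Subgroup.mem_zpowers_iff.mp hw
  rw [← conj_zpow, h]

lemma conj_mem_zpowers {x z w : G} {s : ℕ} (h : x * z * x⁻¹ = z ^ s) (hw : w ∈ Subgroup.zpowers z) :
    x * w * x⁻¹ = w ^ s := by
  obtain ⟨k, rfl⟩ := Subgroup.mem_zpowers_iff.mp hw
  rw [← conj_zpow, h, ← zpow_natCast, ← zpow_natCast, ← zpow_mul, ← zpow_mul, mul_comm]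

/-- the stabilizer of the flag `⟨z⟩ < ⟨z, a⟩` acting trivially on the factors -/
def stabR (z a : G) : Subgroup G where
  carrier := {x | x * z * x⁻¹ = z ∧ a⁻¹ * (x * a * x⁻¹) ∈ Subgroup.zpowers z}
  one_mem' := ⟨by simp, by simp⟩
  mul_mem' := by
    rintro x y ⟨hx1, hx2⟩ ⟨hy1, hy2⟩
    refine ⟨?_, ?_⟩
    · calc x * y * z * (x * y)⁻¹ = x * (y * z * y⁻¹) * x⁻¹ := by group
        _ = z := by rw [hy1, hx1]
    · have h1 : a⁻¹ * (x * y * a * (x * y)⁻¹) =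
          (a⁻¹ * (x * a * x⁻¹)) * (x * (a⁻¹ * (y * a * y⁻¹)) * x⁻¹) := by group
      rw [h1, conj_fix_of_mem_zpowers hx1 hy2]
      exact Subgroup.mul_mem _ hx2 hy2
  inv_mem' := by
    rintro x ⟨hx1, hx2⟩
    have h0 : x⁻¹ * z * x⁻¹⁻¹ = z := by
      calc x⁻¹ * z * x⁻¹⁻¹ = x⁻¹ * (x * z * x⁻¹) * x := by rw [hx1, inv_inv]
        _ = z := by group
    refine ⟨h0, ?_⟩
    have h1 : a⁻¹ * (x⁻¹ * a * x⁻¹⁻¹) = (x⁻¹ * (a⁻¹ * (x * a * x⁻¹)) * x⁻¹⁻¹)⁻¹ := by group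
    rw [h1, conj_fix_of_mem_zpowers h0 hx2]
    exact Subgroup.inv_mem _ hx2

lemma mem_stabR {z a x : G} :
    x ∈ stabR z a ↔ x * z * x⁻¹ = z ∧ a⁻¹ * (x * a * x⁻¹) ∈ Subgroup.zpowers z := Iff.rfl

/-- **Step 2**: correct `g` into the normalizer of `P`. -/
theorem exists_normalizer_elt [Finite G] (P : Sylow p G) (z a g : G) (s s' : ℕ)
    (hss : (s : ZMod p) * (s' : ZMod p) = 1)
    (hzp : z ^ p = 1) (hap : a ^ p = 1)
    (hzc : ∀ x ∈ P, x * z * x⁻¹ = z)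
    (hcomm : ∀ x ∈ P, ∀ y ∈ P, x * y * x⁻¹ * y⁻¹ ∈ Subgroup.zpowers z)
    (haP : a ∈ P)
    (hgz : g * z * g⁻¹ = z ^ s) (hga : g * a * g⁻¹ = a ^ s') :
    ∃ h : G, h ∈ Subgroup.normalizer ((P : Subgroup G) : Set G) ∧ h * z * h⁻¹ = z ^ s ∧
      ∃ w ∈ Subgroup.zpowers z, h * a * h⁻¹ = a ^ s' * w := by
  have hza : a * z * a⁻¹ = z := hzc a haP
  have hss' : ((s * s' : ℕ) : ZMod p) = ((1 : ℕ) : ZMod p) := by push_cast; exact hss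
  have hss'' : ((s' * s : ℕ) : ZMod p) = ((1 : ℕ) : ZMod p) := by rw [mul_comm]; exact hss'
  -- inverse action of `g`
  have hgz' : g⁻¹ * z * g = z ^ s' := by
    have h1 : g * z ^ s' * g⁻¹ = z := by
      rw [← conj_pow, hgz, ← pow_mul, pow_eq_of_natCast_eq hzp hss', pow_one]
    calc g⁻¹ * z * g = g⁻¹ * (g * z ^ s' * g⁻¹) * g := by rw [h1]
      _ = z ^ s' := by group
  have hga' : g⁻¹ * a * g = a ^ s := by
    have h1 : g * a ^ s * g⁻¹ = a := by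
      rw [← conj_pow, hga, ← pow_mul, pow_eq_of_natCast_eq hap hss'', pow_one]
    calc g⁻¹ * a * g = g⁻¹ * (g * a ^ s * g⁻¹) * g := by rw [h1]
      _ = a ^ s := by group
  have h1 : (P : Subgroup G) ≤ stabR z a := by
    intro x hx
    refine ⟨hzc x hx, ?_⟩
    have := hcomm a⁻¹ (Subgroup.inv_mem _ haP) x hx
    have h2 : a⁻¹ * x * a⁻¹⁻¹ * x⁻¹ = a⁻¹ * (x * a * x⁻¹) := by group
    rwa [h2] at this
  have h2 : ((g • P : Sylow p G) : Subgroup G) ≤ stabR z a := by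
    rintro - ⟨x, hx, rfl⟩
    show g * x * g⁻¹ ∈ stabR z a
    have hx1 := hzc x hx
    obtain ⟨hx1', hx2⟩ := h1 hx
    refine ⟨?_, ?_⟩
    · calc g * x * g⁻¹ * z * (g * x * g⁻¹)⁻¹ = g * (x * (g⁻¹ * z * g) * x⁻¹) * g⁻¹ := by group
        _ = g * z ^ s' * g⁻¹ := by rw [hgz', ← conj_pow, hx1]
        _ = z := by rw [← conj_pow, hgz, ← pow_mul, pow_eq_of_natCast_eq hzp hss', pow_one]
    · set w := a⁻¹ * (x * a * x⁻¹) with hw
      have hxa : x * a * x⁻¹ = a * w := by rw [hw]; group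
      have hcw : Commute a w := by
        have := conj_fix_of_mem_zpowers hza hx2
        show a * w = w * a
        calc a * w = (a * w * a⁻¹) * a := by group
          _ = w * a := by rw [this]
      have h3 : a⁻¹ * (g * x * g⁻¹ * a * (g * x * g⁻¹)⁻¹) =
          a⁻¹ * (g * (x * (g⁻¹ * a * g) * x⁻¹) * g⁻¹) := by group
      rw [h3, hga', ← conj_pow, hxa, hcw.mul_pow]
      have h4 : g * (a ^ s * w ^ s) * g⁻¹ = (g * a ^ s * g⁻¹) * (g * w ^ s * g⁻¹) := by group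
      rw [h4, ← conj_pow, hga, ← pow_mul, pow_eq_of_natCast_eq hap hss'', pow_one, inv_mul_cancel_left,
        conj_mem_zpowers hgz (Subgroup.pow_mem _ hx2 _)]
      exact Subgroup.pow_mem _ (Subgroup.pow_mem _ hx2 _) _
  obtain ⟨y, hy⟩ :=
    MulAction.exists_smul_eq (stabR z a) ((g • P).subtype h2) (P.subtype h1)
  simp_rw [Sylow.smul_subtype, Subgroup.smul_def, smul_smul] at hy
  have hn : (y : G) * g ∈ Subgroup.normalizer ((P : Subgroup G) : Set G) :=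
    Sylow.smul_eq_iff_mem_normalizer.mp (Sylow.subtype_injective hy)
  obtain ⟨hy1, hy2⟩ := y.2
  refine ⟨(y : G) * g, hn, ?_, ?_⟩
  · calc (y : G) * g * z * ((y : G) * g)⁻¹ = y * (g * z * g⁻¹) * (y : G)⁻¹ := by group
      _ = z ^ s := by rw [hgz, ← conj_pow, hy1]
  · set w := a⁻¹ * ((y : G) * a * (y : G)⁻¹) with hw
    have hya : (y : G) * a * (y : G)⁻¹ = a * w := by rw [hw]; group
    have hcw : Commute a w := by
      have := conj_fix_of_mem_zpowers hza hy2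
      show a * w = w * a
      calc a * w = (a * w * a⁻¹) * a := by group
        _ = w * a := by rw [this]
    refine ⟨w ^ s', Subgroup.pow_mem _ hy2 _, ?_⟩
    calc (y : G) * g * a * ((y : G) * g)⁻¹ = y * (g * a * g⁻¹) * (y : G)⁻¹ := by group
      _ = a ^ s' * w ^ s' := by rw [hga, ← conj_pow, hya, hcw.mul_pow]

section classTwo

variable (P : Subgroup G) (z : G)

lemma cm_mul_right (hzc : ∀ x ∈ P, x * z * x⁻¹ = z)
    (hcomm : ∀ x ∈ P, ∀ y ∈ P, x * y * x⁻¹ * y⁻¹ ∈ Subgroup.zpowers z)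
    {b u v : G} (hb : b ∈ P) (hu : u ∈ P) (hv : v ∈ P) :
    b * (u * v) * b⁻¹ * (u * v)⁻¹ = (b * u * b⁻¹ * u⁻¹) * (b * v * b⁻¹ * v⁻¹) := by
  have h1 : b * (u * v) * b⁻¹ * (u * v)⁻¹ =
      (b * u * b⁻¹ * u⁻¹) * (u * (b * v * b⁻¹ * v⁻¹) * u⁻¹) := by group
  rw [h1, conj_fix_of_mem_zpowers (hzc u hu) (hcomm b hb v hv)]

lemma cm_pow_right (hzc : ∀ x ∈ P, x * z * x⁻¹ = z)
    (hcomm : ∀ x ∈ P, ∀ y ∈ P, x * y * x⁻¹ * y⁻¹ ∈ Subgroup.zpowers z)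
    {b u : G} (hb : b ∈ P) (hu : u ∈ P) (n : ℕ) :
    b * (u ^ n) * b⁻¹ * (u ^ n)⁻¹ = (b * u * b⁻¹ * u⁻¹) ^ n := by
  induction n with
  | zero => simp
  | succ n ih =>
    rw [pow_succ, cm_mul_right P z hzc hcomm hb (Subgroup.pow_mem _ hu n) hu, ih, pow_succ]

lemma cm_pow_left (hzc : ∀ x ∈ P, x * z * x⁻¹ = z)
    (hcomm : ∀ x ∈ P, ∀ y ∈ P, x * y * x⁻¹ * y⁻¹ ∈ Subgroup.zpowers z)
    {b u : G} (hb : b ∈ P) (hu : u ∈ P) (n : ℕ) :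
    (b ^ n) * u * (b ^ n)⁻¹ * u⁻¹ = (b * u * b⁻¹ * u⁻¹) ^ n := by
  have h1 : (b ^ n) * u * (b ^ n)⁻¹ * u⁻¹ = (u * (b ^ n) * u⁻¹ * (b ^ n)⁻¹)⁻¹ := by group
  have h2 : b * u * b⁻¹ * u⁻¹ = (u * b * u⁻¹ * b⁻¹)⁻¹ := by group
  rw [h1, h2, cm_pow_right P z hzc hcomm hu hb, inv_pow]

lemma cm_inv_right (hzc : ∀ x ∈ P, x * z * x⁻¹ = z)
    (hcomm : ∀ x ∈ P, ∀ y ∈ P, x * y * x⁻¹ * y⁻¹ ∈ Subgroup.zpowers z)
    {b u : G} (hb : b ∈ P) (hu : u ∈ P) :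
    b * u⁻¹ * b⁻¹ * u⁻¹⁻¹ = (b * u * b⁻¹ * u⁻¹)⁻¹ := by
  have h1 := cm_mul_right P z hzc hcomm hb hu (Subgroup.inv_mem _ hu)
  rw [mul_inv_cancel] at h1
  have h2 : b * 1 * b⁻¹ * 1⁻¹ = 1 := by group
  rw [h2] at h1
  exact eq_inv_of_mul_eq_one_right h1.symm

/-- **Step 3**: the action on `P` modulo the centralizer of `a`. -/
theorem commute_conj_mul_pow_inv {p : ℕ} [Fact p.Prime] (a h : G) (s s' : ℕ)
    (hss : (s : ZMod p) * (s' : ZMod p) = 1)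
    (hzp : z ^ p = 1)
    (hzc : ∀ x ∈ P, x * z * x⁻¹ = z)
    (hcomm : ∀ x ∈ P, ∀ y ∈ P, x * y * x⁻¹ * y⁻¹ ∈ Subgroup.zpowers z)
    (haP : a ∈ P) (hh : h ∈ Subgroup.normalizer (P : Set G))
    (hhz : h * z * h⁻¹ = z ^ s) (hha : ∃ w ∈ Subgroup.zpowers z, h * a * h⁻¹ = a ^ s' * w)
    (x : G) (hx : x ∈ P) :
    Commute a (h * x * h⁻¹ * (x ^ (s ^ 2))⁻¹) := by
  have hss'' : ((s' * s : ℕ) : ZMod p) = ((1 : ℕ) : ZMod p) := by
    push_cast; rw [mul_comm]; exact hss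
  have hyP : h * x * h⁻¹ ∈ P := (Subgroup.mem_normalizer_iff.mp hh x).mp hx
  set y := h * x * h⁻¹ with hy
  obtain ⟨w, hw, hhaw⟩ := hha
  -- `c(y)^{s'} = c(x)^s`
  have E1 : h * (a * x * a⁻¹ * x⁻¹) * h⁻¹ = (a * x * a⁻¹ * x⁻¹) ^ s :=
    conj_mem_zpowers hhz (hcomm a haP x hx)
  have hwy : w * y * w⁻¹ = y := by
    have h1 := conj_fix_of_mem_zpowers (hzc y hyP) hw
    have h2 : y * w = w * y := by
      calc y * w = (y * w * y⁻¹) * y := by group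
        _ = w * y := by rw [h1]
    rw [← h2]; group
  have E2 : h * (a * x * a⁻¹ * x⁻¹) * h⁻¹ = (a * y * a⁻¹ * y⁻¹) ^ s' := by
    have h1 : h * (a * x * a⁻¹ * x⁻¹) * h⁻¹ = (h * a * h⁻¹) * y * (h * a * h⁻¹)⁻¹ * y⁻¹ := by
      rw [hy]; group
    rw [h1, hhaw]
    have h2 : a ^ s' * w * y * (a ^ s' * w)⁻¹ * y⁻¹ = a ^ s' * (w * y * w⁻¹) * (a ^ s')⁻¹ * y⁻¹ := by
      group
    rw [h2, hwy, cm_pow_left P z hzc hcomm haP hyP]
  have hcp : (a * y * a⁻¹ * y⁻¹) ^ p = 1 := by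
    obtain ⟨k, hk⟩ := Subgroup.mem_zpowers_iff.mp (hcomm a haP y hyP)
    rw [← hk, ← zpow_natCast, ← zpow_mul, mul_comm, zpow_mul, zpow_natCast, hzp, one_zpow]
  have E3 : a * y * a⁻¹ * y⁻¹ = a * (x ^ (s ^ 2)) * a⁻¹ * (x ^ (s ^ 2))⁻¹ := by
    rw [cm_pow_right P z hzc hcomm haP hx, pow_two, pow_mul, ← E1, E2, ← pow_mul,
      pow_eq_of_natCast_eq hcp hss'', pow_one]
  have E4 : a * (y * (x ^ (s ^ 2))⁻¹) * a⁻¹ * (y * (x ^ (s ^ 2))⁻¹)⁻¹ = 1 := by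
    rw [cm_mul_right P z hzc hcomm haP hyP (Subgroup.inv_mem _ (Subgroup.pow_mem _ hx _)),
      cm_inv_right P z hzc hcomm haP (Subgroup.pow_mem _ hx _), E3, mul_inv_cancel]
  show a * (y * (x ^ (s ^ 2))⁻¹) = (y * (x ^ (s ^ 2))⁻¹) * a
  calc a * (y * (x ^ (s ^ 2))⁻¹)
      = (a * (y * (x ^ (s ^ 2))⁻¹) * a⁻¹ * (y * (x ^ (s ^ 2))⁻¹)⁻¹) * ((y * (x ^ (s ^ 2))⁻¹) * a) := by
        group
    _ = (y * (x ^ (s ^ 2))⁻¹) * a := by rw [E4, one_mul]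

end classTwo

end Cfsg.Agent.Lib.Helper71.ExtraPlane
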