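import Mathlib
import Cfsg.Agent.Lib.Helper71.PlaneCoords
import Cfsg.Agent.Lib.Helper71.ExtraPlane

set_option autoImplicit false
set_option linter.deprecated false

/-!
Data attached to a plane `A ≤ P` (`P` an extraspecial Sylow `p`-subgroup of order `p³` and exponent
`p`) all of whose automorphisms of order `p` are induced by conjugation.
-/

namespace Cfsg.Agent.Lib.Helper71.ExtraData

open Cfsg.Agent.Lib.Helper71.PlaneCoords Cfsg.Agent.Lib.Helper71.ExtraPlane

theorem plane_data {G : Type*} [Group G] [Finite G] {p : ℕ} [Fact p.Prime] (P : Sylow p G)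
    (hcard : Nat.card (P : Subgroup G) = p ^ 3) (hexp : ∀ x : (P : Subgroup G), x ^ p = 1)
    (z₀ : (P : Subgroup G)) (hz₀ : z₀ ≠ 1)
    (hZ : Subgroup.zpowers z₀ = Subgroup.center (P : Subgroup G))
    (hcomm : ∀ x y : (P : Subgroup G), x * y * x⁻¹ * y⁻¹ ∈ Subgroup.center (P : Subgroup G))
    (A : Subgroup G) (hAP : A ≤ P) (hAcard : Nat.card A = p ^ 2)
    (hSL : ∀ φ : MulAut A, orderOf φ = p → ∃ g : G, ∀ a : A, (φ a : G) = g * a * g⁻¹)
    (s s' : ℕ) (hss : (s : ZMod p) * (s' : ZMod p) = 1) :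
    ∃ (a : (P : Subgroup G)) (h : G), a ∉ Subgroup.center (P : Subgroup G) ∧ (a : G) ∈ A ∧
      (z₀ : G) ∈ A ∧
      (∀ y ∈ A, ∃ j k : ℕ, y = (z₀ : G) ^ j * (a : G) ^ k) ∧
      h ∈ Subgroup.normalizer ((P : Subgroup G) : Set G) ∧
      (∃ w ∈ Subgroup.zpowers (z₀ : G), h * a * h⁻¹ = (a : G) ^ s' * w) ∧
      (∀ x : (P : Subgroup G), Commute (a : G) (h * x * h⁻¹ * ((x : G) ^ (s ^ 2))⁻¹)) ∧
      (∀ u : (P : Subgroup G), Commute (a : G) (u : G) →
        ∃ j k : ℕ, (u : G) = (z₀ : G) ^ j * (a : G) ^ k) := by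
  have hpp : p.Prime := Fact.out
  set Z := Subgroup.center (P : Subgroup G) with hZdef
  set z : G := (z₀ : G) with hz
  have hz1 : z ≠ 1 := fun h => hz₀ (Subtype.ext h)
  have hzp : z ^ p = 1 := by simpa using congrArg Subtype.val (hexp z₀)
  have hoz₀ : orderOf z₀ = p := orderOf_eq_prime (hexp z₀) hz₀
  have hoz : orderOf z = p := orderOf_eq_prime hzp hz1
  have hZcard : Nat.card Z = p := by rw [← hZ, Nat.card_zpowers, hoz₀]
  have hz₀Z : z₀ ∈ Z := by rw [← hZ]; exact Subgroup.mem_zpowers z₀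
  -- facts in `G`
  have hzc : ∀ x ∈ (P : Subgroup G), x * z * x⁻¹ = z := by
    intro x hx
    have := (Subgroup.mem_center_iff.mp hz₀Z) ⟨x, hx⟩
    have h1 : x * z = z * x := by simpa using congrArg Subtype.val this
    rw [h1, mul_inv_cancel_right]
  have hcommG : ∀ x ∈ (P : Subgroup G), ∀ y ∈ (P : Subgroup G),
      x * y * x⁻¹ * y⁻¹ ∈ Subgroup.zpowers z := by
    intro x hx y hy
    have := hcomm ⟨x, hx⟩ ⟨y, hy⟩
    rw [← hZ] at this
    obtain ⟨k, hk⟩ := Subgroup.mem_zpowers_iff.mp this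
    rw [Subgroup.mem_zpowers_iff]
    exact ⟨k, by simpa using congrArg Subtype.val hk⟩
  -- any nontrivial element of `Z` generates it
  have hgen : ∀ w ∈ Z, w ≠ 1 → z₀ ∈ Subgroup.zpowers w := by
    intro w hw hw1
    have h1 : Subgroup.zpowers w = Z :=
      Subgroup.eq_of_le_of_card_ge (Subgroup.zpowers_le.mpr hw)
        (by rw [Nat.card_zpowers, orderOf_eq_prime (hexp w) hw1, hZcard])
    rw [h1]; exact hz₀Z
  -- the plane inside `P`
  set A' : Subgroup (P : Subgroup G) := A.subgroupOf P with hA'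
  have hA'card : Nat.card A' = p ^ 2 := by
    rw [← hAcard]; exact Nat.card_congr (Subgroup.subgroupOfEquivOfLe hAP).toEquiv
  have hA'normal : A'.Normal := by
    apply Subgroup.normal_of_index_eq_minFac_card
    rw [hcard, hpp.pow_minFac (by norm_num)]
    have h1 := Subgroup.card_mul_index A'
    rw [hA'card, hcard] at h1
    have h2 : p ^ 2 * A'.index = p ^ 2 * p := by rw [h1]; ring
    exact Nat.eq_of_mul_eq_mul_left (pow_pos hpp.pos 2) h2
  have hz₀A' : z₀ ∈ A' := by
    by_contra hcon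
    have hdisj : ∀ w ∈ A', w ∈ Z → w = 1 := by
      intro w hwA hwZ
      by_contra hw1
      exact hcon (Subgroup.zpowers_le.mpr hwA (hgen w hwZ hw1))
    have hbot : ∀ a ∈ A', a = 1 := by
      intro a ha
      apply hdisj a ha
      rw [Subgroup.mem_center_iff]
      intro x
      have h1 : x * a * x⁻¹ * a⁻¹ = 1 :=
        hdisj _ (A'.mul_mem (hA'normal.conj_mem a ha x) (A'.inv_mem ha)) (hcomm x a)
      calc x * a = (x * a * x⁻¹ * a⁻¹) * (a * x) := by group
        _ = a * x := by rw [h1, one_mul]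
    have h2 : A' = ⊥ := (Subgroup.eq_bot_iff_forall _).mpr hbot
    rw [h2, Subgroup.card_bot] at hA'card
    have := hpp.one_lt
    nlinarith
  have hzA : z ∈ A := Subgroup.mem_subgroupOf.mp hz₀A'
  have hAexp : ∀ x ∈ A, x ^ p = 1 := fun x hx => by
    simpa using congrArg Subtype.val (hexp ⟨x, hAP hx⟩)
  have hAcomm : ∀ x ∈ A, ∀ y ∈ A, x * y = y * x := fun x hx y hy => by
    simpa using congrArg Subtype.val
      (IsPGroup.commutative_of_card_eq_prime_sq hAcard (⟨x, hx⟩ : A) ⟨y, hy⟩)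
  -- an element outside `⟨z⟩`
  obtain ⟨a, haA, haz⟩ : ∃ a ∈ A, a ∉ Subgroup.zpowers z := by
    apply SetLike.exists_of_lt
    refine lt_of_le_of_ne (Subgroup.zpowers_le.mpr hzA) ?_
    intro h
    have h1 := Nat.card_zpowers z
    rw [h, hAcard, hoz] at h1
    have := hpp.one_lt
    nlinarith
  have haP : a ∈ (P : Subgroup G) := hAP haA
  have haZ : (⟨a, haP⟩ : (P : Subgroup G)) ∉ Z := by
    intro h
    rw [← hZ] at h
    obtain ⟨k, hk⟩ := Subgroup.mem_zpowers_iff.mp h
    apply haz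
    rw [Subgroup.mem_zpowers_iff]
    exact ⟨k, by simpa using congrArg Subtype.val hk⟩
  have : Finite A := inferInstance
  obtain ⟨⟨g, hgz, hga⟩, hAgen⟩ := exists_conj_diag (p := p) A hAcard hAexp hAcomm z a hzA haA hz1 haz
    hSL s s' hss
  have hap : a ^ p = 1 := hAexp a haA
  obtain ⟨h, hhN, hhz, hha⟩ := exists_normalizer_elt P z a g s s' hss hzp hap hzc hcommG haP hgz hga
  refine ⟨⟨a, haP⟩, h, haZ, haA, hzA, hAgen, hhN, hha, ?_, ?_⟩
  · intro x
    exact commute_conj_mul_pow_inv (P : Subgroup G) z a h s s' hss hzp hzc hcommG haP hhN hhz hha x x.2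
  · -- the centralizer of `a` in `P` is `A`
    intro u hu
    apply hAgen
    by_contra huA
    set C : Subgroup (P : Subgroup G) := Subgroup.centralizer {(⟨a, haP⟩ : (P : Subgroup G))}
      with hC
    have hA'C : A' ≤ C := by
      intro x hx
      rw [hC, Subgroup.mem_centralizer_singleton_iff]
      apply Subtype.ext
      simpa using hAcomm x (Subgroup.mem_subgroupOf.mp hx) a haA
    have huC : u ∈ C := by
      rw [hC, Subgroup.mem_centralizer_singleton_iff]
      apply Subtype.ext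
      simpa using hu.eq.symm
    have hlt : Nat.card A' < Nat.card C := by
      by_contra hle
      push Not at hle
      have := Subgroup.eq_of_le_of_card_ge hA'C hle
      rw [← this] at huC
      exact huA (Subgroup.mem_subgroupOf.mp huC)
    obtain ⟨k, hk3, hk⟩ := (Nat.dvd_prime_pow hpp).mp (hcard ▸ Subgroup.card_subgroup_dvd_card C)
    rw [hA'card, hk] at hlt
    have hk2 : 2 < k := (Nat.pow_lt_pow_iff_right hpp.one_lt).mp hlt
    have hk3' : k = 3 := le_antisymm hk3 hk2
    have hCtop : C = ⊤ := by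
      rw [← Subgroup.card_eq_iff_eq_top, hk, hk3', hcard]
    apply haZ
    rw [Subgroup.mem_center_iff]
    intro x
    have : x ∈ C := by rw [hCtop]; trivial
    rw [hC, Subgroup.mem_centralizer_singleton_iff] at this
    exact this

end Cfsg.Agent.Lib.Helper71.ExtraData
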