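import Mathlib
import Cfsg.Agent.Lib.Helper71.PlaneCoords

set_option autoImplicit false
set_option linter.unusedSimpArgs false

/-!
Variant of `PlaneCoords.exists_conj_diag`: it suffices that the two root groups of transvections
(with respect to the basis `z, a`) are induced by conjugation.
-/

namespace Cfsg.Agent.Lib.Helper71.PlaneCoords

variable {p : ℕ} [Fact p.Prime]

theorem exists_conj_diag' {G : Type*} [Group G] (A : Subgroup G) [Finite A]
    (hcard : Nat.card A = p ^ 2) (hexp : ∀ x ∈ A, x ^ p = 1)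
    (hcomm : ∀ x ∈ A, ∀ y ∈ A, x * y = y * x) (z a : G) (hzA : z ∈ A) (haA : a ∈ A) (hz : z ≠ 1)
    (ha : a ∉ Subgroup.zpowers z)
    (hU : ∀ c : ℕ, ∃ g : G, g * z * g⁻¹ = z ∧ g * a * g⁻¹ = z ^ c * a)
    (hL : ∀ c : ℕ, ∃ g : G, g * z * g⁻¹ = z * a ^ c ∧ g * a * g⁻¹ = a)
    (s s' : ℕ) (hss : (s : ZMod p) * (s' : ZMod p) = 1) :
    (∃ g : G, g * z * g⁻¹ = z ^ s ∧ g * a * g⁻¹ = a ^ s') ∧
      (∀ y ∈ A, ∃ j k : ℕ, y = z ^ j * a ^ k) := by
  have hp := (Fact.out : p.Prime)
  have hzp : z ^ p = 1 := hexp z hzA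
  have hap : a ^ p = 1 := hexp a haA
  have hza : Commute z a := hcomm z hzA a haA
  have ha' : (⟨a, haA⟩ : A) ∉ Subgroup.zpowers (⟨z, hzA⟩ : A) := by
    intro h
    obtain ⟨k, hk⟩ := Subgroup.mem_zpowers_iff.mp h
    apply ha
    rw [Subgroup.mem_zpowers_iff]
    refine ⟨k, ?_⟩
    have := congrArg (Subtype.val) hk
    simpa using this
  obtain ⟨e, hez, hea, hes⟩ := exists_coords (p := p) (Q := A) hcard
    (fun x => Subtype.ext (by simpa using hexp x x.2))
    (fun x y => Subtype.ext (by simpa using hcomm x x.2 y y.2)) ⟨z, hzA⟩ ⟨a, haA⟩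
    (fun h => hz (by simpa using congrArg Subtype.val h)) ha'
  -- every element in coordinates
  have hcoord : ∀ x : A, (x : G) = z ^ (Multiplicative.toAdd (e x) 0).val *
      a ^ (Multiplicative.toAdd (e x) 1).val := by
    intro x
    have h1 := hes (Multiplicative.toAdd (e x))
    rw [ofAdd_toAdd, MulEquiv.symm_apply_apply] at h1
    have := congrArg Subtype.val h1
    simpa using this
  have hact : ∀ (M : Matrix.SpecialLinearGroup (Fin 2) (ZMod p)) (x : A),
      ((planeAct e M x : A) : G) = z ^ ((M.1.mulVec (Multiplicative.toAdd (e x))) 0).val *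
        a ^ ((M.1.mulVec (Multiplicative.toAdd (e x))) 1).val := by
    intro M x
    rw [planeAct_apply, hes]
    simp
  refine ⟨?_, ?_⟩
  · have htop : (induced A).comap (planeAct e) = ⊤ := by
      apply Cfsg.Agent.Lib.Helper07.eq_top_of_transvection_mem
      intro i j hij c
      rw [Subgroup.mem_comap]
      fin_cases i <;> fin_cases j
      · exact absurd rfl hij
      · -- upper transvection
        obtain ⟨g, hgz, hga⟩ := hU c.val
        refine ⟨g, fun x => ?_⟩
        rw [hact]
        set w := Multiplicative.toAdd (e x) with hw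
        have h0 : ((Matrix.SpecialLinearGroup.transvection hij c).1.mulVec w) 0 = w 0 + c * w 1 := by
          simp [Matrix.SpecialLinearGroup.transvection_coe, Matrix.mulVec, dotProduct,
            Fin.sum_univ_two, Matrix.add_apply, Matrix.one_apply, Matrix.single_apply]
        have h1 : ((Matrix.SpecialLinearGroup.transvection hij c).1.mulVec w) 1 = w 1 := by
          simp [Matrix.SpecialLinearGroup.transvection_coe, Matrix.mulVec, dotProduct,
            Fin.sum_univ_two, Matrix.add_apply, Matrix.one_apply, Matrix.single_apply]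
        rw [h0, h1, hcoord x]
        have h2 : g * (z ^ (w 0).val * a ^ (w 1).val) * g⁻¹ =
            (g * z * g⁻¹) ^ (w 0).val * (g * a * g⁻¹) ^ (w 1).val := by
          rw [conj_pow, conj_pow]; group
        rw [h2, hgz, hga, (hza.pow_left c.val).mul_pow, ← mul_assoc, ← pow_mul, ← pow_add]
        congr 1
        apply pow_eq_of_natCast_eq hzp
        rw [ZMod.natCast_zmod_val]
        push_cast
        rw [ZMod.natCast_zmod_val, ZMod.natCast_zmod_val, ZMod.natCast_zmod_val]
      · -- lower transvection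
        obtain ⟨g, hgz, hga⟩ := hL c.val
        refine ⟨g, fun x => ?_⟩
        rw [hact]
        set w := Multiplicative.toAdd (e x) with hw
        have h0 : ((Matrix.SpecialLinearGroup.transvection hij c).1.mulVec w) 0 = w 0 := by
          simp [Matrix.SpecialLinearGroup.transvection_coe, Matrix.mulVec, dotProduct,
            Fin.sum_univ_two, Matrix.add_apply, Matrix.one_apply, Matrix.single_apply]
        have h1 : ((Matrix.SpecialLinearGroup.transvection hij c).1.mulVec w) 1 = c * w 0 + w 1 := by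
          simp [Matrix.SpecialLinearGroup.transvection_coe, Matrix.mulVec, dotProduct,
            Fin.sum_univ_two, Matrix.add_apply, Matrix.one_apply, Matrix.single_apply]
        rw [h0, h1, hcoord x]
        have h2 : g * (z ^ (w 0).val * a ^ (w 1).val) * g⁻¹ =
            (g * z * g⁻¹) ^ (w 0).val * (g * a * g⁻¹) ^ (w 1).val := by
          rw [conj_pow, conj_pow]; group
        rw [h2, hgz, hga, (hza.pow_right c.val).mul_pow, mul_assoc, ← pow_mul, ← pow_add]
        congr 1
        apply pow_eq_of_natCast_eq hap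
        rw [ZMod.natCast_zmod_val]
        push_cast
        rw [ZMod.natCast_zmod_val, ZMod.natCast_zmod_val, ZMod.natCast_zmod_val]
      · exact absurd rfl hij
    obtain ⟨D, hDv⟩ : ∃ D : Matrix.SpecialLinearGroup (Fin 2) (ZMod p),
        D.1 = !![(s : ZMod p), 0; 0, (s' : ZMod p)] :=
      ⟨⟨!![(s : ZMod p), 0; 0, (s' : ZMod p)], by rw [Matrix.det_fin_two_of]; simp [hss]⟩, rfl⟩
    have hD : D ∈ (induced A).comap (planeAct e) := by rw [htop]; trivial
    obtain ⟨g, hg⟩ : ∃ g : G, ∀ x : A, ((planeAct e D x : A) : G) = g * x * g⁻¹ := hD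
    refine ⟨g, ?_, ?_⟩
    · have h1 := hg ⟨z, hzA⟩
      rw [planeAct_apply, hez, hDv] at h1
      rw [← h1]
      have h2 : (!![(s : ZMod p), 0; 0, (s' : ZMod p)]).mulVec (Pi.single 0 1) =
          s • (Pi.single 0 1 : Fin 2 → ZMod p) := by
        funext i; fin_cases i <;> simp [Matrix.mulVec, dotProduct, Fin.sum_univ_two]
      show ((e.symm (Multiplicative.ofAdd ((!![(s : ZMod p), 0; 0, (s' : ZMod p)]).mulVec
        (Pi.single 0 1)))) : G) = _
      rw [h2, ofAdd_nsmul, map_pow, ← hez, MulEquiv.symm_apply_apply]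
      rfl
    · have h1 := hg ⟨a, haA⟩
      rw [planeAct_apply, hea, hDv] at h1
      rw [← h1]
      have h2 : (!![(s : ZMod p), 0; 0, (s' : ZMod p)]).mulVec (Pi.single 1 1) =
          s' • (Pi.single 1 1 : Fin 2 → ZMod p) := by
        funext i; fin_cases i <;> simp [Matrix.mulVec, dotProduct, Fin.sum_univ_two]
      show ((e.symm (Multiplicative.ofAdd ((!![(s : ZMod p), 0; 0, (s' : ZMod p)]).mulVec
        (Pi.single 1 1)))) : G) = _
      rw [h2, ofAdd_nsmul, map_pow, ← hea, MulEquiv.symm_apply_apply]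
      rfl
  · intro y hy
    exact ⟨_, _, hcoord ⟨y, hy⟩⟩

/-- the parametrisation is injective for independent `z`, `a` -/
theorem parHom_injective {Q : Type*} [Group Q] (z a : Q) (hzp : z ^ p = 1) (hap : a ^ p = 1)
    (hc : Commute z a) (hz : z ≠ 1) (ha : a ∉ Subgroup.zpowers z) :
    Function.Injective (parHom (p := p) z a hzp hap hc) := by
  rw [injective_iff_map_eq_one]
  intro u hu
  obtain ⟨v, hv⟩ : ∃ v : Fin 2 → ZMod p, v = Multiplicative.toAdd u := ⟨_, rfl⟩
  have hu' : z ^ (v 0).val * a ^ (v 1).val = 1 := by rw [hv]; exact hu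
  clear hu
  rename' hu' => hu
  have h1 : v 1 = 0 := by
    by_contra hne
    apply ha
    have h2 : a ^ (v 1).val = (z ^ (v 0).val)⁻¹ := eq_inv_of_mul_eq_one_right hu
    have h3 : a = (a ^ (v 1).val) ^ ((v 1)⁻¹).val := by
      rw [← pow_val_mul hap, mul_inv_cancel₀ hne, ZMod.val_one, pow_one]
    rw [h3, h2]
    exact Subgroup.pow_mem _ (Subgroup.inv_mem _ (Subgroup.pow_mem _ (Subgroup.mem_zpowers z) _)) _
  rw [h1, ZMod.val_zero, pow_zero, mul_one] at hu
  have hoz : orderOf z = p := orderOf_eq_prime hzp hz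
  have h0 : v 0 = 0 := by
    have h4 : p ∣ (v 0).val := by
      have h6 := orderOf_dvd_of_pow_eq_one hu
      generalize (v 0).val = n at h6 ⊢
      rwa [hoz] at h6
    have h5 : (v 0).val = 0 := Nat.eq_zero_of_dvd_of_lt h4 (ZMod.val_lt _)
    exact (ZMod.val_eq_zero _).mp h5
  have : v = 0 := by
    funext i; fin_cases i
    · exact h0
    · exact h1
  rw [this] at hv
  exact (congrArg Multiplicative.ofAdd hv).symm

end Cfsg.Agent.Lib.Helper71.PlaneCoords
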