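import Mathlib
import Cfsg.Agent.Lib.Helper71.PlaneCoordsB
import Cfsg.Agent.Lib.Helper71.ExtraPlane

set_option autoImplicit false
set_option linter.deprecated false

/-!
Data attached to a noncentral element `a` of an extraspecial Sylow `p`-subgroup `P` of order `p³`
and exponent `p`, when all nonidentity elements of `P` are conjugate in `G`.
-/

namespace Cfsg.Agent.Lib.Helper71.ExtraData

open Cfsg.Agent.Lib.Helper71.PlaneCoords Cfsg.Agent.Lib.Helper71.ExtraPlane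
open scoped Pointwise

variable {G : Type*} [Group G] {p : ℕ} [Fact p.Prime]

/-- a `p`-element of the centralizer of `a` lies in a conjugate, under the centralizer, of any
Sylow `p`-subgroup of `G` contained in the centralizer -/
lemma exists_conj_mem_of_le_centralizer [Finite G] (Q : Sylow p G) (a z : G)
    (hQ : (Q : Subgroup G) ≤ Subgroup.centralizer {a}) (hz : z ∈ Subgroup.centralizer {a})
    (hzp : z ^ p = 1) :
    ∃ c ∈ Subgroup.centralizer ({a} : Set G), c⁻¹ * z * c ∈ (Q : Subgroup G) := by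
  have hpp : p.Prime := Fact.out
  set C := Subgroup.centralizer ({a} : Set G) with hC
  have hZ1 : IsPGroup p (Subgroup.zpowers z) := by
    have h1 : orderOf z ∣ p ^ 1 := by rw [pow_one]; exact orderOf_dvd_of_pow_eq_one hzp
    obtain ⟨j, -, hj⟩ := (Nat.dvd_prime_pow hpp).mp h1
    exact IsPGroup.of_card (n := j) (by rw [Nat.card_zpowers, hj])
  have hZ2 : IsPGroup p ((Subgroup.zpowers z).subgroupOf C) := hZ1.comap_subtype
  obtain ⟨Q₀, hQ₀⟩ := hZ2.exists_le_sylow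
  obtain ⟨c, hc⟩ := MulAction.exists_smul_eq C (Q.subtype hQ) Q₀
  have hzQ₀ : (⟨z, hz⟩ : C) ∈ (Q₀ : Subgroup C) :=
    hQ₀ (Subgroup.mem_subgroupOf.mpr (Subgroup.mem_zpowers z))
  rw [← hc, Sylow.smul_subtype, Sylow.coe_subtype, Subgroup.mem_subgroupOf] at hzQ₀
  refine ⟨c, c.2, ?_⟩
  have h2 : z ∈ MulAut.conj (c : G) • (Q : Subgroup G) := hzQ₀
  rw [Subgroup.mem_smul_pointwise_iff_exists] at h2
  obtain ⟨y, hy, hyz⟩ := h2
  have h3 : (c : G) * y * (c : G)⁻¹ = z := hyz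
  rw [← h3]
  have : (c : G)⁻¹ * ((c : G) * y * (c : G)⁻¹) * (c : G) = y := by group
  rw [this]; exact hy

/-- the root group induced by `P` on a noncentral element `b` -/
lemma exists_conj_eq_pow_mul [Finite G] (P : Subgroup G) (z : G) (hzp : z ^ p = 1)
    (hzc : ∀ x ∈ P, x * z * x⁻¹ = z)
    (hcomm : ∀ x ∈ P, ∀ y ∈ P, x * y * x⁻¹ * y⁻¹ ∈ Subgroup.zpowers z)
    {b : G} (hb : b ∈ P) (hbc : ∃ y ∈ P, y * b ≠ b * y) (c : ℕ) :
    ∃ y ∈ P, y * b * y⁻¹ = z ^ c * b := by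
  have hpp : p.Prime := Fact.out
  obtain ⟨y₀, hy₀, hne⟩ := hbc
  set w₀ := y₀ * b * y₀⁻¹ * b⁻¹ with hw₀
  have hw₀z : w₀ ∈ Subgroup.zpowers z := hcomm y₀ hy₀ b hb
  have hw₀1 : w₀ ≠ 1 := by
    intro h
    apply hne
    calc y₀ * b = (y₀ * b * y₀⁻¹ * b⁻¹) * (b * y₀) := by group
      _ = b * y₀ := by rw [← hw₀, h, one_mul]
  have hw₀p : w₀ ^ p = 1 := by
    obtain ⟨k, hk⟩ := Subgroup.mem_zpowers_iff.mp hw₀z
    rw [← hk, ← zpow_natCast, ← zpow_mul, mul_comm, zpow_mul, zpow_natCast, hzp, one_zpow]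
  have hz1 : z ≠ 1 := by
    rintro rfl
    rw [Subgroup.zpowers_one_eq_bot, Subgroup.mem_bot] at hw₀z
    exact hw₀1 hw₀z
  have heq : Subgroup.zpowers w₀ = Subgroup.zpowers z :=
    Subgroup.eq_of_le_of_card_ge (Subgroup.zpowers_le.mpr hw₀z)
      (by rw [Nat.card_zpowers, Nat.card_zpowers, orderOf_eq_prime hw₀p hw₀1,
        orderOf_eq_prime hzp hz1])
  have hzw : z ∈ Subgroup.zpowers w₀ := by rw [heq]; exact Subgroup.mem_zpowers z
  rw [← mem_powers_iff_mem_zpowers, Submonoid.mem_powers_iff] at hzw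
  obtain ⟨m, hm⟩ := hzw
  refine ⟨y₀ ^ (m * c), Subgroup.pow_mem _ hy₀ _, ?_⟩
  have h1 := cm_pow_left P z hzc hcomm hy₀ hb (m * c)
  rw [← hw₀] at h1
  have h2 : w₀ ^ (m * c) = z ^ c := by rw [pow_mul, hm]
  rw [h2] at h1
  calc y₀ ^ (m * c) * b * (y₀ ^ (m * c))⁻¹ = (y₀ ^ (m * c) * b * (y₀ ^ (m * c))⁻¹ * b⁻¹) * b := by
        group
    _ = z ^ c * b := by rw [h1]

theorem plane_data' [Finite G] (P : Sylow p G)
    (hcard : Nat.card (P : Subgroup G) = p ^ 3) (hexp : ∀ x : (P : Subgroup G), x ^ p = 1)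
    (z₀ : (P : Subgroup G)) (hz₀ : z₀ ≠ 1)
    (hZ : Subgroup.zpowers z₀ = Subgroup.center (P : Subgroup G))
    (hcomm : ∀ x y : (P : Subgroup G), x * y * x⁻¹ * y⁻¹ ∈ Subgroup.center (P : Subgroup G))
    (hconj : ∀ x y : (P : Subgroup G), x ≠ 1 → y ≠ 1 → ∃ g : G, g * (x : G) * g⁻¹ = (y : G))
    (a₀ : (P : Subgroup G)) (ha₀ : a₀ ∉ Subgroup.center (P : Subgroup G))
    (s s' : ℕ) (hss : (s : ZMod p) * (s' : ZMod p) = 1) :
    ∃ h : G, h ∈ Subgroup.normalizer ((P : Subgroup G) : Set G) ∧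
      (∃ w ∈ Subgroup.zpowers (z₀ : G), h * a₀ * h⁻¹ = (a₀ : G) ^ s' * w) ∧
      (∀ x : (P : Subgroup G), Commute (a₀ : G) (h * x * h⁻¹ * ((x : G) ^ (s ^ 2))⁻¹)) ∧
      (∀ u : (P : Subgroup G), Commute (a₀ : G) (u : G) →
        ∃ j k : ℕ, (u : G) = (z₀ : G) ^ j * (a₀ : G) ^ k) := by
  have hpp : p.Prime := Fact.out
  set Z := Subgroup.center (P : Subgroup G) with hZdef
  set z : G := (z₀ : G) with hz
  set a : G := (a₀ : G) with ha
  have hz1 : z ≠ 1 := fun h => hz₀ (Subtype.ext h)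
  have hzp : z ^ p = 1 := by simpa using congrArg Subtype.val (hexp z₀)
  have hap : a ^ p = 1 := by simpa using congrArg Subtype.val (hexp a₀)
  have hoz₀ : orderOf z₀ = p := orderOf_eq_prime (hexp z₀) hz₀
  have hoz : orderOf z = p := orderOf_eq_prime hzp hz1
  have hz₀Z : z₀ ∈ Z := by rw [← hZ]; exact Subgroup.mem_zpowers z₀
  have hzP : z ∈ (P : Subgroup G) := z₀.2
  have haP : a ∈ (P : Subgroup G) := a₀.2
  have ha₀1 : a₀ ≠ 1 := by
    rintro rfl; exact ha₀ (Subgroup.one_mem _)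
  have ha1 : a ≠ 1 := fun h => ha₀1 (Subtype.ext h)
  have hzc : ∀ x ∈ (P : Subgroup G), x * z * x⁻¹ = z := by
    intro x hx
    have := (Subgroup.mem_center_iff.mp hz₀Z) ⟨x, hx⟩
    have h1 : x * z = z * x := by simpa using congrArg Subtype.val this
    rw [h1, mul_inv_cancel_right]
  have hcommG : ∀ x ∈ (P : Subgroup G), ∀ y ∈ (P : Subgroup G),
      x * y * x⁻¹ * y⁻¹ ∈ Subgroup.zpowers z := by
    intro x hx y hy
    have := hcomm ⟨x, hx⟩ ⟨y, hy⟩
    rw [← hZ] at this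
    obtain ⟨k, hk⟩ := Subgroup.mem_zpowers_iff.mp this
    rw [Subgroup.mem_zpowers_iff]
    exact ⟨k, by simpa using congrArg Subtype.val hk⟩
  have haz : a ∉ Subgroup.zpowers z := by
    intro h
    obtain ⟨k, hk⟩ := Subgroup.mem_zpowers_iff.mp h
    apply ha₀
    rw [← hZ, Subgroup.mem_zpowers_iff]
    exact ⟨k, Subtype.ext (by simpa using hk)⟩
  have hza : Commute z a := by
    have := hzc a haP
    show z * a = a * z
    calc z * a = (a * z * a⁻¹) * a := by rw [this]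
      _ = a * z := by group
  -- noncentral elements of `P` are moved by some element of `P`
  have hmoved : ∀ b : (P : Subgroup G), b ∉ Z → ∃ y ∈ (P : Subgroup G), y * (b : G) ≠ b * y := by
    intro b hb
    rw [Subgroup.mem_center_iff] at hb
    push Not at hb
    obtain ⟨y, hy⟩ := hb
    exact ⟨y, y.2, fun h => hy (Subtype.ext (by simpa using h))⟩
  -- the plane
  set A' : Subgroup (P : Subgroup G) := Subgroup.centralizer {a₀} with hA'
  set A : Subgroup G := A'.map (P : Subgroup G).subtype with hA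
  have hz₀A' : z₀ ∈ A' := by
    rw [hA', Subgroup.mem_centralizer_singleton_iff]
    exact (Subgroup.mem_center_iff.mp hz₀Z a₀).symm
  have ha₀A' : a₀ ∈ A' := by
    rw [hA', Subgroup.mem_centralizer_singleton_iff]
  have hA'card : Nat.card A' = p ^ 2 := by
    obtain ⟨k, hk3, hk⟩ := (Nat.dvd_prime_pow hpp).mp (hcard ▸ Subgroup.card_subgroup_dvd_card A')
    have hk3' : k ≠ 3 := by
      rintro rfl
      have htop : A' = ⊤ := by rw [← Subgroup.card_eq_iff_eq_top, hk, hcard]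
      apply ha₀
      rw [Subgroup.mem_center_iff]
      intro x
      have : x ∈ A' := by rw [htop]; trivial
      rw [hA', Subgroup.mem_centralizer_singleton_iff] at this
      exact this
    have hk2 : 2 ≤ k := by
      have hinj := parHom_injective (p := p) z₀ a₀ (hexp z₀) (hexp a₀)
        (Subgroup.mem_center_iff.mp hz₀Z a₀).symm hz₀ (by
          intro h; apply ha₀; rw [← hZ]; exact h)
      have hmem : ∀ u, parHom (p := p) z₀ a₀ (hexp z₀) (hexp a₀)
          (Subgroup.mem_center_iff.mp hz₀Z a₀).symm u ∈ A' := by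
        intro u
        exact A'.mul_mem (A'.pow_mem hz₀A' _) (A'.pow_mem ha₀A' _)
      have hle := Nat.card_le_card_of_injective
        (fun u => (⟨_, hmem u⟩ : A')) (fun u v huv => hinj (by simpa using congrArg Subtype.val huv))
      rw [hk, Nat.card_eq_fintype_card] at hle
      have h5 : Fintype.card (Multiplicative (Fin 2 → ZMod p)) = p ^ 2 := by
        simp [ZMod.card]
      rw [h5] at hle
      exact (Nat.pow_le_pow_iff_right hpp.one_lt).mp hle
    have : k = 2 := by omega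
    rw [hk, this]
  have hAcard : Nat.card A = p ^ 2 := by
    rw [hA, Subgroup.card_map_of_injective (Subgroup.subtype_injective _), hA'card]
  have hAP : A ≤ (P : Subgroup G) := Subgroup.map_subtype_le A'
  have hzA : z ∈ A := Subgroup.mem_map.mpr ⟨z₀, hz₀A', rfl⟩
  have haA : a ∈ A := Subgroup.mem_map.mpr ⟨a₀, ha₀A', rfl⟩
  have hAexp : ∀ x ∈ A, x ^ p = 1 := fun x hx => by
    simpa using congrArg Subtype.val (hexp ⟨x, hAP hx⟩)
  have hAcomm : ∀ x ∈ A, ∀ y ∈ A, x * y = y * x := fun x hx y hy => by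
    simpa using congrArg Subtype.val
      (IsPGroup.commutative_of_card_eq_prime_sq hAcard (⟨x, hx⟩ : A) ⟨y, hy⟩)
  -- the upper root group, from `P`
  have hU : ∀ c : ℕ, ∃ g : G, g * z * g⁻¹ = z ∧ g * a * g⁻¹ = z ^ c * a := by
    intro c
    obtain ⟨y, hy, hya⟩ := exists_conj_eq_pow_mul (P : Subgroup G) z hzp hzc hcommG haP
      (hmoved a₀ ha₀) c
    exact ⟨y, hzc y hy, hya⟩
  -- the lower root group, from a second Sylow subgroup
  have hL : ∀ c : ℕ, ∃ g : G, g * z * g⁻¹ = z * a ^ c ∧ g * a * g⁻¹ = a := by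
    obtain ⟨g₀, hg₀'⟩ := hconj z₀ a₀ hz₀ ha₀1
    have hg₀ : g₀ * z * g₀⁻¹ = a := hg₀'
    have hQ : ((g₀ • P : Sylow p G) : Subgroup G) ≤ Subgroup.centralizer {a} := by
      rintro - ⟨y, hy, rfl⟩
      rw [Subgroup.mem_centralizer_singleton_iff]
      show g₀ * y * g₀⁻¹ * a = a * (g₀ * y * g₀⁻¹)
      have h1 : y * z = z * y := by
        have := hzc y hy
        calc y * z = (y * z * y⁻¹) * y := by group
          _ = z * y := by rw [this]
      rw [← hg₀]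
      calc g₀ * y * g₀⁻¹ * (g₀ * z * g₀⁻¹) = g₀ * (y * z) * g₀⁻¹ := by group
        _ = g₀ * (z * y) * g₀⁻¹ := by rw [h1]
        _ = g₀ * z * g₀⁻¹ * (g₀ * y * g₀⁻¹) := by group
    have hzC : z ∈ Subgroup.centralizer ({a} : Set G) := by
      rw [Subgroup.mem_centralizer_singleton_iff]; exact hza.eq
    obtain ⟨c₀, hc₀C, hc₀⟩ := exists_conj_mem_of_le_centralizer (g₀ • P) a z hQ hzC hzp
    obtain ⟨z', hz'P, hz'⟩ : ∃ y ∈ (P : Subgroup G), g₀ * y * g₀⁻¹ = c₀⁻¹ * z * c₀ := by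
      obtain ⟨y, hy, hyz⟩ := hc₀
      exact ⟨y, hy, hyz⟩
    set g₁ := c₀ * g₀ with hg₁
    have hg₁z' : g₁ * z' * g₁⁻¹ = z := by
      calc g₁ * z' * g₁⁻¹ = c₀ * (g₀ * z' * g₀⁻¹) * c₀⁻¹ := by rw [hg₁]; group
        _ = z := by rw [hz']; group
    have hg₁z : g₁ * z * g₁⁻¹ = a := by
      rw [Subgroup.mem_centralizer_singleton_iff] at hc₀C
      calc g₁ * z * g₁⁻¹ = c₀ * (g₀ * z * g₀⁻¹) * c₀⁻¹ := by rw [hg₁]; group
        _ = (c₀ * a) * c₀⁻¹ := by rw [hg₀, mul_assoc]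
        _ = a := by rw [hc₀C]; group
    have hz'Z : (⟨z', hz'P⟩ : (P : Subgroup G)) ∉ Z := by
      intro h
      rw [← hZ] at h
      obtain ⟨k, hk⟩ := Subgroup.mem_zpowers_iff.mp h
      have hk' : z ^ k = z' := by simpa using congrArg Subtype.val hk
      -- then `z = a ^ k`
      have h2 : z = a ^ k := by
        rw [← hg₁z', ← hk', ← hg₁z, conj_zpow]
      have h3 : Subgroup.zpowers z = Subgroup.zpowers a :=
        Subgroup.eq_of_le_of_card_ge
          (Subgroup.zpowers_le.mpr (h2 ▸ Subgroup.zpow_mem_zpowers a k))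
          (by rw [Nat.card_zpowers, Nat.card_zpowers, hoz, orderOf_eq_prime hap ha1])
      exact haz (h3 ▸ Subgroup.mem_zpowers a)
    intro c
    obtain ⟨y, hy, hyz⟩ := exists_conj_eq_pow_mul (P : Subgroup G) z hzp hzc hcommG hz'P
      (hmoved ⟨z', hz'P⟩ hz'Z) c
    refine ⟨g₁ * y * g₁⁻¹, ?_, ?_⟩
    · calc g₁ * y * g₁⁻¹ * z * (g₁ * y * g₁⁻¹)⁻¹
          = g₁ * (y * (g₁⁻¹ * (g₁ * z' * g₁⁻¹) * g₁) * y⁻¹) * g₁⁻¹ := by rw [hg₁z']; group
        _ = g₁ * (y * z' * y⁻¹) * g₁⁻¹ := by group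
        _ = (g₁ * z * g₁⁻¹) ^ c * (g₁ * z' * g₁⁻¹) := by rw [hyz, conj_pow]; group
        _ = z * a ^ c := by rw [hg₁z, hg₁z', (hza.pow_right c).eq]
    · calc g₁ * y * g₁⁻¹ * a * (g₁ * y * g₁⁻¹)⁻¹
          = g₁ * (y * (g₁⁻¹ * (g₁ * z * g₁⁻¹) * g₁) * y⁻¹) * g₁⁻¹ := by rw [hg₁z]; group
        _ = g₁ * (y * z * y⁻¹) * g₁⁻¹ := by group
        _ = a := by rw [hzc y hy, hg₁z]
  have : Finite A := inferInstance
  obtain ⟨⟨g, hgz, hga⟩, hAgen⟩ := exists_conj_diag' (p := p) A hAcard hAexp hAcomm z a hzA haA hz1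
    haz hU hL s s' hss
  obtain ⟨h, hhN, hhz, hha⟩ := exists_normalizer_elt P z a g s s' hss hzp hap hzc hcommG haP hgz hga
  refine ⟨h, hhN, hha, ?_, ?_⟩
  · intro x
    exact commute_conj_mul_pow_inv (P : Subgroup G) z a h s s' hss hzp hzc hcommG haP hhN hhz hha x x.2
  · intro u hu
    apply hAgen
    refine Subgroup.mem_map.mpr ⟨u, ?_, rfl⟩
    rw [hA', Subgroup.mem_centralizer_singleton_iff]
    apply Subtype.ext
    simpa using hu.eq.symm

end Cfsg.Agent.Lib.Helper71.ExtraData
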