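import Mathlib

set_option autoImplicit false

/-!
Elementary linear algebra in the plane `k²`: a matrix acting as `α` on a line `⟨v⟩` and as `β`
on the quotient.
-/

namespace Cfsg.Agent.Lib.Helper71.GL2Lin

open Matrix

variable {k : Type*} [Field k]

/-- the determinant of two plane vectors -/
def dt (u w : Fin 2 → k) : k := u 0 * w 1 - u 1 * w 0

lemma dt_self (u : Fin 2 → k) : dt u u = 0 := by unfold dt; ring

lemma dt_add_smul (v u w : Fin 2 → k) (a b : k) :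
    dt v (a • u + b • w) = a * dt v u + b * dt v w := by
  unfold dt; simp only [Pi.add_apply, Pi.smul_apply, smul_eq_mul]; ring

lemma dt_smul (v u : Fin 2 → k) (a : k) : dt v (a • u) = a * dt v u := by
  unfold dt; simp only [Pi.smul_apply, smul_eq_mul]; ring

lemma ne_zero_of_dt_left {u w : Fin 2 → k} (h : dt u w ≠ 0) : u ≠ 0 := by
  rintro rfl; apply h; unfold dt; simp

lemma ne_zero_of_dt_right {u w : Fin 2 → k} (h : dt u w ≠ 0) : w ≠ 0 := by
  rintro rfl; apply h; unfold dt; simp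

lemma dt_swap (u w : Fin 2 → k) : dt w u = - dt u w := by unfold dt; ring

/-- Cramer's relation among three plane vectors -/
lemma cramer (v₁ v₂ v₃ : Fin 2 → k) :
    dt v₂ v₃ • v₁ - dt v₁ v₃ • v₂ + dt v₁ v₂ • v₃ = 0 := by
  funext i; fin_cases i <;> simp [dt] <;> ring

/-- the structure `M v = α v`, `M w ≡ β w` modulo `v` -/
def Flag (M : Matrix (Fin 2) (Fin 2) k) (v : Fin 2 → k) (α β : k) : Prop :=
  M *ᵥ v = α • v ∧ ∀ w : Fin 2 → k, ∃ c : k, M *ᵥ w = β • w + c • v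

lemma Flag.pow {M : Matrix (Fin 2) (Fin 2) k} {v : Fin 2 → k} {α β : k} (h : Flag M v α β)
    (n : ℕ) : Flag (M ^ n) v (α ^ n) (β ^ n) := by
  induction n with
  | zero =>
    refine ⟨by simp, fun w => ⟨0, by simp⟩⟩
  | succ n ih =>
    refine ⟨?_, fun w => ?_⟩
    · rw [pow_succ, ← mulVec_mulVec, h.1, mulVec_smul, ih.1, smul_smul, pow_succ, mul_comm]
    · obtain ⟨c, hc⟩ := h.2 w
      obtain ⟨d, hd⟩ := ih.2 w
      refine ⟨β ^ n * c + d * α, ?_⟩
      rw [pow_succ', ← mulVec_mulVec, hd, mulVec_add, mulVec_smul, mulVec_smul, hc, h.1]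
      rw [smul_add, smul_smul, smul_smul, smul_smul, pow_succ, add_smul, add_assoc]

/-- a scalar matrix with a flag structure has `α = β` -/
lemma Flag.eq_of_scalar {M : Matrix (Fin 2) (Fin 2) k} {v u : Fin 2 → k} {α β μ : k}
    (h : Flag M v α β) (hM : ∀ w, M *ᵥ w = μ • w) (hvu : dt v u ≠ 0) : α = β := by
  have hv : v ≠ 0 := ne_zero_of_dt_left hvu
  have h1 : μ = α := by
    have := h.1
    rw [hM] at this
    by_contra hne
    apply hv
    have h2 : (μ - α) • v = 0 := by rw [sub_smul, this, sub_self]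
    rcases smul_eq_zero.mp h2 with h3 | h3
    · exact absurd (sub_eq_zero.mp h3) hne
    · exact h3
  obtain ⟨c, hc⟩ := h.2 u
  rw [hM] at hc
  have h2 := congrArg (dt v) hc
  rw [dt_smul, dt_add_smul, dt_self, mul_zero, add_zero] at h2
  rw [← h1]
  exact mul_right_cancel₀ hvu h2

/-- eigenvectors for `α` lie on the line `⟨v⟩` -/
lemma Flag.dt_eq_zero_of_eigen {M : Matrix (Fin 2) (Fin 2) k} {v u : Fin 2 → k} {α β γ : k}
    (h : Flag M v α β) (hγ : γ ≠ β) (hu : M *ᵥ u = γ • u) : dt v u = 0 := by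
  obtain ⟨c, hc⟩ := h.2 u
  rw [hu] at hc
  have h2 := congrArg (dt v) hc
  rw [dt_smul, dt_add_smul, dt_self, mul_zero, add_zero] at h2
  have h3 : (γ - β) * dt v u = 0 := by rw [sub_mul, h2, sub_self]
  rcases mul_eq_zero.mp h3 with h4 | h4
  · exact absurd (sub_eq_zero.mp h4) hγ
  · exact h4

/-- if `M₁ v₂` lies on the line `⟨v₂⟩` then `M₁ v₂ = β v₂` -/
lemma Flag.eigen_of_dt {M : Matrix (Fin 2) (Fin 2) k} {v u : Fin 2 → k} {α β : k}
    (h : Flag M v α β) (hvu : dt v u ≠ 0) (hu : dt u (M *ᵥ u) = 0) : M *ᵥ u = β • u := by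
  obtain ⟨c, hc⟩ := h.2 u
  rw [hc, dt_add_smul, dt_self, mul_zero, zero_add] at hu
  have h1 : dt u v ≠ 0 := by rw [dt_swap]; exact neg_ne_zero.mpr hvu
  have hc0 : c = 0 := by
    rcases mul_eq_zero.mp hu with h2 | h2
    · exact h2
    · exact absurd h2 h1
  rw [hc, hc0, zero_smul, add_zero]

/-- **commuting case**: three flags with pairwise independent lines cannot have the first
commuting with the two others. -/
theorem no_commuting {M₁ M₂ M₃ : Matrix (Fin 2) (Fin 2) k} {v₁ v₂ v₃ : Fin 2 → k} {α β : k}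
    (hαβ : α ≠ β)
    (h₁ : Flag M₁ v₁ α β) (h₂ : Flag M₂ v₂ α β) (h₃ : Flag M₃ v₃ α β)
    (h12 : dt v₁ v₂ ≠ 0) (h13 : dt v₁ v₃ ≠ 0) (h23 : dt v₂ v₃ ≠ 0)
    (c12 : M₁ * M₂ = M₂ * M₁) (c13 : M₁ * M₃ = M₃ * M₁) : False := by
  have e2 : M₁ *ᵥ v₂ = β • v₂ := by
    apply h₁.eigen_of_dt h12
    apply h₂.dt_eq_zero_of_eigen hαβ
    rw [mulVec_mulVec, ← c12, ← mulVec_mulVec, h₂.1, mulVec_smul]
  have e3 : M₁ *ᵥ v₃ = β • v₃ := by
    apply h₁.eigen_of_dt h13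
    apply h₃.dt_eq_zero_of_eigen hαβ
    rw [mulVec_mulVec, ← c13, ← mulVec_mulVec, h₃.1, mulVec_smul]
  have hc := cramer v₁ v₂ v₃
  have h4 := congrArg (fun w => M₁ *ᵥ w) hc
  simp only [mulVec_add, mulVec_sub, mulVec_smul, mulVec_zero, h₁.1, e2, e3] at h4
  have h5 : ((α - β) * dt v₂ v₃) • v₁ = 0 := by
    have h6 : ((α - β) * dt v₂ v₃) • v₁ =
        (dt v₂ v₃ • α • v₁ - dt v₁ v₃ • β • v₂ + dt v₁ v₂ • β • v₃) -
          β • (dt v₂ v₃ • v₁ - dt v₁ v₃ • v₂ + dt v₁ v₂ • v₃) := by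
      simp only [smul_sub, smul_add, smul_smul, sub_smul, sub_mul]
      rw [mul_comm α, mul_comm β (dt v₂ v₃), mul_comm β (dt v₁ v₃), mul_comm β (dt v₁ v₂)]
      abel
    rw [h6, h4, hc, smul_zero, sub_zero]
  rcases smul_eq_zero.mp h5 with h7 | h7
  · rcases mul_eq_zero.mp h7 with h8 | h8
    · exact hαβ (sub_eq_zero.mp h8)
    · exact h23 h8
  · exact ne_zero_of_dt_left h12 h7

/-- **anticommuting case** -/
theorem no_anticommuting {M₁ M₂ : Matrix (Fin 2) (Fin 2) k} {v₁ v₂ : Fin 2 → k} {α β : k}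
    (h2 : (2 : k) ≠ 0) (hα : α ≠ 0) (hβ : β ≠ 0) (hαβ : -α ≠ β)
    (h₁ : Flag M₁ v₁ α β) (h₂ : Flag M₂ v₂ α β)
    (h12 : dt v₁ v₂ ≠ 0)
    (c12 : M₁ * M₂ = -(M₂ * M₁)) : False := by
  have hv2 : v₂ ≠ 0 := ne_zero_of_dt_right h12
  have c21 : M₂ * M₁ = -(M₁ * M₂) := by rw [c12, neg_neg]
  have e1 : M₂ *ᵥ (M₁ *ᵥ v₂) = (-α) • (M₁ *ᵥ v₂) := by
    rw [mulVec_mulVec, c21, neg_mulVec, ← mulVec_mulVec, h₂.1, mulVec_smul, neg_smul]
  have e2 : M₁ *ᵥ v₂ = β • v₂ := by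
    apply h₁.eigen_of_dt h12
    exact h₂.dt_eq_zero_of_eigen hαβ e1
  rw [e2, mulVec_smul, h₂.1, smul_smul, smul_smul] at e1
  have h3 : (2 * (α * β)) • v₂ = 0 := by
    have : (2 * (α * β)) • v₂ = (β * α) • v₂ - (-α * β) • v₂ := by
      rw [← sub_smul]; congr 1; ring
    rw [this, e1, sub_self]
  rcases smul_eq_zero.mp h3 with h4 | h4
  · rcases mul_eq_zero.mp h4 with h5 | h5
    · exact h2 h5
    · rcases mul_eq_zero.mp h5 with h6 | h6
      · exact hα h6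
      · exact hβ h6
  · exact hv2 h4

end Cfsg.Agent.Lib.Helper71.GL2Lin
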