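import Mathlib
import Cfsg.Agent.Lib.Helper71.GL2Lin

set_option autoImplicit false

/-!
The action of the normalizer of a Sylow `p`-subgroup `P` on a coordinatised central quotient
`P / Z(P) ≃ 𝔽_p²`, as a `p'`-subgroup of `GL₂(p)`.
-/

namespace Cfsg.Agent.Lib.Helper71.ExtraOut

open Matrix Cfsg.Agent.Lib.Helper71.GL2Lin

variable {G : Type*} [Group G] {p : ℕ} [Fact p.Prime]

/-- conjugation by a normalizing element as an endomorphism -/
def cj (P : Subgroup G) (n : G) (hn : n ∈ Subgroup.normalizer (P : Set G)) : P →* P where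
  toFun x := ⟨n * x * n⁻¹, (Subgroup.mem_normalizer_iff.mp hn x).mp x.2⟩
  map_one' := Subtype.ext (by simp)
  map_mul' x y := Subtype.ext (by simp only [Subgroup.coe_mul]; group)

@[simp] lemma cj_coe (P : Subgroup G) (n : G) (hn : n ∈ Subgroup.normalizer (P : Set G)) (x : P) :
    ((cj P n hn x : P) : G) = n * x * n⁻¹ := rfl

lemma cj_mem_center (P : Subgroup G) (n : G) (hn : n ∈ Subgroup.normalizer (P : Set G)) (x : P)
    (hx : x ∈ Subgroup.center P) : cj P n hn x ∈ Subgroup.center P := by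
  rw [Subgroup.mem_center_iff] at hx ⊢
  intro y
  have hn' : n⁻¹ ∈ Subgroup.normalizer (P : Set G) := Subgroup.inv_mem _ hn
  have h1 := hx (cj P n⁻¹ hn' y)
  apply Subtype.ext
  have h2 := congrArg (fun u : P => n * (u : G) * n⁻¹) h1
  simp only [Subgroup.coe_mul, cj_coe, inv_inv] at h2 ⊢
  calc (y : G) * (n * x * n⁻¹) = n * (n⁻¹ * y * n * x) * n⁻¹ := by group
    _ = n * (x * (n⁻¹ * y * n)) * n⁻¹ := h2
    _ = n * x * n⁻¹ * y := by group

variable (P : Subgroup G) (π : P →* Multiplicative (Fin 2 → ZMod p))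

/-- `n` normalizes `P` and acts on the coordinatised quotient as the matrix `M` -/
def ActsAs (n : G) (M : Matrix (Fin 2) (Fin 2) (ZMod p)) : Prop :=
  ∃ hn : n ∈ Subgroup.normalizer (P : Set G),
    ∀ x : P, M *ᵥ Multiplicative.toAdd (π x) = Multiplicative.toAdd (π (cj P n hn x))

lemma actsAs_one : ActsAs P π 1 1 := by
  refine ⟨Subgroup.one_mem _, fun x => ?_⟩
  rw [one_mulVec]
  congr 2
  apply Subtype.ext; simp

lemma ActsAs.mul {n n' : G} {M M' : Matrix (Fin 2) (Fin 2) (ZMod p)} (h : ActsAs P π n M)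
    (h' : ActsAs P π n' M') : ActsAs P π (n * n') (M * M') := by
  obtain ⟨hn, h⟩ := h
  obtain ⟨hn', h'⟩ := h'
  refine ⟨Subgroup.mul_mem _ hn hn', fun x => ?_⟩
  rw [← mulVec_mulVec, h', h]
  congr 2
  apply Subtype.ext
  simp only [cj_coe]; group

lemma ActsAs.pow {n : G} {M : Matrix (Fin 2) (Fin 2) (ZMod p)} (h : ActsAs P π n M) (k : ℕ) :
    ActsAs P π (n ^ k) (M ^ k) := by
  induction k with
  | zero => rw [pow_zero, pow_zero]; exact actsAs_one P π
  | succ k ih => rw [pow_succ, pow_succ]; exact ih.mul P π h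

variable {P π}

lemma ActsAs.eq_one_of_mem (hπ : Function.Surjective π) {n : G}
    {M : Matrix (Fin 2) (Fin 2) (ZMod p)} (h : ActsAs P π n M) (hn : n ∈ P) : M = 1 := by
  obtain ⟨hn', h⟩ := h
  apply Matrix.mulVec_injective
  funext v
  obtain ⟨x, hx⟩ := hπ (Multiplicative.ofAdd v)
  have hv : v = Multiplicative.toAdd (π x) := by rw [hx]; rfl
  rw [one_mulVec, hv, h x]
  have h2 : cj P n hn' x = ⟨n, hn⟩ * x * ⟨n, hn⟩⁻¹ := by
    apply Subtype.ext; simp
  have h3 : π (⟨n, hn⟩ * x * ⟨n, hn⟩⁻¹) = π x := by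
    rw [map_mul, map_mul, map_inv, mul_comm, inv_mul_cancel_left]
  rw [h2, h3]

/-- every normalizing element acts as some matrix -/
lemma exists_actsAs (hπ : Function.Surjective π) (hker : π.ker = Subgroup.center P) (n : G)
    (hn : n ∈ Subgroup.normalizer (P : Set G)) :
    ∃ M : Matrix (Fin 2) (Fin 2) (ZMod p), ActsAs P π n M := by
  have hle : π.ker ≤ (π.comp (cj P n hn)).ker := by
    intro x hx
    rw [hker] at hx
    have := cj_mem_center P n hn x hx
    rw [← hker] at this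
    exact this
  set L := π.liftOfRightInverse (Function.surjInv hπ) (Function.rightInverse_surjInv hπ)
    ⟨π.comp (cj P n hn), hle⟩ with hL
  have hLπ : ∀ x, L (π x) = π (cj P n hn x) := fun x =>
    π.liftOfRightInverse_comp_apply (Function.surjInv hπ) (Function.rightInverse_surjInv hπ)
      ⟨π.comp (cj P n hn), hle⟩ x
  refine ⟨LinearMap.toMatrix' ((AddMonoidHom.toMultiplicative.symm L).toZModLinearMap p), hn,
    fun x => ?_⟩
  rw [← Matrix.toLin'_apply, Matrix.toLin'_toMatrix', AddMonoidHom.coe_toZModLinearMap]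
  show Multiplicative.toAdd (L (Multiplicative.ofAdd (Multiplicative.toAdd (π x)))) = _
  rw [ofAdd_toAdd, hLπ]

/-- the group induced by the normalizer on the coordinatised quotient -/
def outGroup (hπ : Function.Surjective π) (hker : π.ker = Subgroup.center P) :
    Subgroup (GL (Fin 2) (ZMod p)) where
  carrier := {g | ∃ n : G, ActsAs P π n (g : Matrix (Fin 2) (Fin 2) (ZMod p))}
  one_mem' := ⟨1, actsAs_one P π⟩
  mul_mem' := by
    rintro g g' ⟨n, h⟩ ⟨n', h'⟩
    exact ⟨n * n', by rw [Units.val_mul]; exact h.mul P π h'⟩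
  inv_mem' := by
    rintro g ⟨n, h⟩
    obtain ⟨hn, hh⟩ := h
    obtain ⟨M', h'⟩ := exists_actsAs hπ hker n⁻¹ (Subgroup.inv_mem _ hn)
    refine ⟨n⁻¹, ?_⟩
    have h1 := (ActsAs.mul P π ⟨hn, hh⟩ h').eq_one_of_mem hπ
      (by rw [mul_inv_cancel]; exact P.one_mem)
    rw [Units.inv_eq_of_mul_eq_one_right h1]
    exact h'

lemma mem_outGroup (hπ : Function.Surjective π) (hker : π.ker = Subgroup.center P)
    (g : GL (Fin 2) (ZMod p)) :
    g ∈ outGroup hπ hker ↔ ∃ n : G, ActsAs P π n (g : Matrix (Fin 2) (Fin 2) (ZMod p)) := Iff.rfl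

/-- every normalizing element acts as an element of `outGroup` -/
lemma exists_mem_outGroup (hπ : Function.Surjective π) (hker : π.ker = Subgroup.center P) (n : G)
    (hn : n ∈ Subgroup.normalizer (P : Set G)) :
    ∃ g ∈ outGroup hπ hker, ActsAs P π n (g : Matrix (Fin 2) (Fin 2) (ZMod p)) := by
  obtain ⟨M, h⟩ := exists_actsAs hπ hker n hn
  obtain ⟨M', h'⟩ := exists_actsAs hπ hker n⁻¹ (Subgroup.inv_mem _ hn)
  have h1 := (h.mul P π h').eq_one_of_mem hπ (by rw [mul_inv_cancel]; exact P.one_mem)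
  have h2 := (h'.mul P π h).eq_one_of_mem hπ (by rw [inv_mul_cancel]; exact P.one_mem)
  exact ⟨⟨M, M', h1, h2⟩, ⟨n, h⟩, h⟩

/-- `p`-elements of the normalizer of a Sylow `p`-subgroup lie in it -/
lemma mem_sylow_of_pow_eq_one (Q : Sylow p G) {n : G}
    (hn : n ∈ Subgroup.normalizer ((Q : Subgroup G) : Set G)) {e : ℕ} (h : n ^ (p ^ e) = 1) :
    n ∈ (Q : Subgroup G) := by
  have hpz : IsPGroup p (Subgroup.zpowers n) := by
    have h1 : orderOf n ∣ p ^ e := orderOf_dvd_of_pow_eq_one h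
    obtain ⟨j, -, hj⟩ := (Nat.dvd_prime_pow Fact.out).mp h1
    exact IsPGroup.of_card (n := j) (by rw [Nat.card_zpowers, hj])
  have hle : Subgroup.zpowers n ≤ Subgroup.normalizer ((Q : Subgroup G) : Set G) :=
    Subgroup.zpowers_le.mpr hn
  have hsup := IsPGroup.to_sup_of_normal_right' hpz Q.isPGroup' hle
  have := Q.is_maximal' hsup le_sup_right
  rw [← this]
  exact le_sup_left (α := Subgroup G) (Subgroup.mem_zpowers n)

/-- the induced group is a `p'`-group -/
theorem outGroup_pprime [Finite G] (Q : Sylow p G)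
    {π : (Q : Subgroup G) →* Multiplicative (Fin 2 → ZMod p)}
    (hπ : Function.Surjective π) (hker : π.ker = Subgroup.center (Q : Subgroup G))
    (g : GL (Fin 2) (ZMod p)) (hg : g ∈ outGroup hπ hker) :
    ∃ m : ℕ, ¬ p ∣ m ∧ g ^ m = 1 := by
  obtain ⟨n, h⟩ := hg
  obtain ⟨e, m, hm, ho⟩ := Nat.exists_eq_pow_mul_and_not_dvd (orderOf_pos n).ne' p
    (Fact.out : p.Prime).ne_one
  refine ⟨m, hm, ?_⟩
  have h1 : (n ^ m) ^ (p ^ e) = 1 := by
    rw [← pow_mul, mul_comm, ← ho, pow_orderOf_eq_one]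
  have h2 : n ^ m ∈ (Q : Subgroup G) :=
    mem_sylow_of_pow_eq_one Q (Subgroup.pow_mem _ h.1 m) h1
  have h3 := (h.pow (Q : Subgroup G) π m).eq_one_of_mem hπ h2
  apply Units.ext
  rw [Units.val_pow_eq_pow_val, h3, Units.val_one]

/-- the flag structure of the matrix of an element acting as computed in steps 2 and 3 -/
theorem flag_of_actsAs (hker : π.ker = Subgroup.center P) (hπ : Function.Surjective π) {h : G}
    {M : Matrix (Fin 2) (Fin 2) (ZMod p)} (hM : ActsAs P π h M) (z a : P)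
    (hz : z ∈ Subgroup.center P) (s s' : ℕ)
    (hha : ∃ w ∈ Subgroup.zpowers (z : G), h * a * h⁻¹ = (a : G) ^ s' * w)
    (hcent : ∀ x : P, Commute (a : G) (h * x * h⁻¹ * ((x : G) ^ (s ^ 2))⁻¹))
    (hCA : ∀ u : P, Commute (a : G) (u : G) → ∃ j k : ℕ, (u : G) = (z : G) ^ j * (a : G) ^ k) :
    Flag M (Multiplicative.toAdd (π a)) (s' : ZMod p) ((s : ZMod p) ^ 2) := by
  obtain ⟨hn, hM⟩ := hM
  have hπz : π z = 1 := by
    rw [← MonoidHom.mem_ker, hker]; exact hz
  refine ⟨?_, fun w => ?_⟩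
  · obtain ⟨w, hw, hhw⟩ := hha
    obtain ⟨k, rfl⟩ := Subgroup.mem_zpowers_iff.mp hw
    have h1 : cj P h hn a = a ^ s' * z ^ k := by
      apply Subtype.ext
      simp only [cj_coe, Subgroup.coe_mul, Subgroup.coe_pow, Subgroup.coe_zpow]
      exact hhw
    have h5 : π (cj P h hn a) = (π a) ^ s' := by
      rw [h1, map_mul, map_pow, map_zpow, hπz, _root_.one_zpow, mul_one]
    rw [hM, h5, toAdd_pow, Nat.cast_smul_eq_nsmul]
  · obtain ⟨x, hx⟩ := hπ (Multiplicative.ofAdd w)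
    have hw : w = Multiplicative.toAdd (π x) := by rw [hx]; rfl
    obtain ⟨j, k, hjk⟩ := hCA (cj P h hn x * (x ^ (s ^ 2))⁻¹) (by
      simpa only [Subgroup.coe_mul, cj_coe, Subgroup.coe_inv, Subgroup.coe_pow] using hcent x)
    have h1 : cj P h hn x = (z ^ j * a ^ k) * x ^ (s ^ 2) := by
      have h2 : cj P h hn x * (x ^ (s ^ 2))⁻¹ = z ^ j * a ^ k := by
        apply Subtype.ext
        rw [hjk]; simp
      rw [← h2, inv_mul_cancel_right]
    refine ⟨(k : ZMod p), ?_⟩
    have h5 : π (cj P h hn x) = (π a) ^ k * (π x) ^ (s ^ 2) := by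
      rw [h1, map_mul, map_mul, map_pow, map_pow, map_pow, hπz, one_pow, one_mul]
    rw [hw, hM, h5, toAdd_mul, toAdd_pow, toAdd_pow, Nat.cast_smul_eq_nsmul, ← Nat.cast_pow,
      Nat.cast_smul_eq_nsmul, add_comm]

end Cfsg.Agent.Lib.Helper71.ExtraOut
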