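import Mathlib

set_option autoImplicit false

/-!
A group with an automorphism `σ` of order three such that `q * σ q * σ (σ q) = 1`, every `q`
commutes with all conjugates of `σ q`, and `σ` has no nontrivial fixed point is nilpotent of
class at most two (all double commutators vanish).
-/

namespace Cfsg.Agent.Lib.Helper71

open scoped commutatorElement

section RingLemma

/-- in a ring, `f² = 2f - 1`, `g² = 2g - 1`, `(fg)² = 2fg - 1` imply
`gf + fg = 2f + 2g - 2` -/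
theorem ring_anticomm {R : Type*} [Ring R] (f g : R) (hf : f * f = f + f - 1)
    (hg : g * g = g + g - 1) (hfg : (f * g) * (f * g) = f * g + f * g - 1) :
    g * f + f * g = f + f + g + g - 1 - 1 := by
  have h1 : (1 + 1 - f) * f = 1 := by
    have : (1 + 1 - f) * f = f + f - f * f := by noncomm_ring
    rw [this, hf]; noncomm_ring
  have h2 : g * (1 + 1 - g) = 1 := by
    have : g * (1 + 1 - g) = g + g - g * g := by noncomm_ring
    rw [this, hg]; noncomm_ring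
  have h3 : g * f = (1 + 1 - f) * ((f * g) * (f * g)) * (1 + 1 - g) := by
    calc g * f = ((1 + 1 - f) * f) * (g * f) * (g * (1 + 1 - g)) := by rw [h1, h2]; noncomm_ring
      _ = (1 + 1 - f) * ((f * g) * (f * g)) * (1 + 1 - g) := by noncomm_ring
  have h4 : (1 + 1 - f) * (f * g + f * g - 1) * (1 + 1 - g) =
      ((1 + 1 - f) * f) * (g * (1 + 1 - g)) + ((1 + 1 - f) * f) * (g * (1 + 1 - g))
        - (1 + 1 - f) * (1 + 1 - g) := by
    noncomm_ring
  rw [h3, hfg, h4, h1, h2]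
  noncomm_ring

/-- additive endomorphisms version -/
theorem addHom_anticomm {M : Type*} [AddCommGroup M] (f g : M →+ M)
    (hf : ∀ b, f (f b) = f b + f b - b) (hg : ∀ b, g (g b) = g b + g b - b)
    (hfg : ∀ b, f (g (f (g b))) = f (g b) + f (g b) - b) (b : M) :
    g (f b) + f (g b) = f b + f b + g b + g b - b - b := by
  have key := ring_anticomm (R := AddMonoid.End M) f g
    (AddMonoidHom.ext fun b => hf b) (AddMonoidHom.ext fun b => hg b)
    (AddMonoidHom.ext fun b => hfg b)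
  exact DFunLike.congr_fun key b

/-- multiplicative endomorphisms version -/
theorem monoidHom_anticomm {B : Type*} [CommGroup B] (f g : B →* B)
    (hf : ∀ b, f (f b) = f b * f b / b) (hg : ∀ b, g (g b) = g b * g b / b)
    (hfg : ∀ b, f (g (f (g b))) = f (g b) * f (g b) / b) (b : B) :
    g (f b) * f (g b) = f b * f b * g b * g b / b / b :=
  addHom_anticomm (M := Additive B) (MonoidHom.toAdditive f) (MonoidHom.toAdditive g)
    (fun b => hf b) (fun b => hg b) (fun b => hfg b) b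

end RingLemma

section TwoEngel

variable {Q : Type*} [Group Q]

/-- the 2-Engel condition: every element commutes with all of its conjugates -/
def IsTwoEngel (Q : Type*) [Group Q] : Prop := ∀ a g : Q, Commute a (g * a * g⁻¹)

namespace IsTwoEngel

theorem comm_right (h : IsTwoEngel Q) (x y : Q) : Commute ⁅x, y⁆ y := by
  have h1 := (h y x).eq
  show ⁅x, y⁆ * y = y * ⁅x, y⁆
  rw [commutatorElement_def]
  calc x * y * x⁻¹ * y⁻¹ * y = (x * y * x⁻¹ * y) * y⁻¹ := by group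
    _ = (y * (x * y * x⁻¹)) * y⁻¹ := by rw [h1]
    _ = y * (x * y * x⁻¹ * y⁻¹) := by group

theorem comm_left (h : IsTwoEngel Q) (x y : Q) : Commute ⁅x, y⁆ x := by
  have h1 := comm_right h y x
  have h2 : ⁅x, y⁆ = ⁅y, x⁆⁻¹ := (commutatorElement_inv y x).symm
  rw [h2]; exact h1.inv_left

theorem comm_inv_right (h : IsTwoEngel Q) (x y : Q) : ⁅x, y⁻¹⁆ = ⁅x, y⁆⁻¹ := by
  have h1 := (comm_left h y x).eq
  have h2 : ⁅x, y⁻¹⁆ = y⁻¹ * (⁅y, x⁆ * y) := by
    simp only [commutatorElement_def]; group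
  rw [h2, h1, ← commutatorElement_inv y x]
  group

theorem comm_inv_left (h : IsTwoEngel Q) (x y : Q) : ⁅x⁻¹, y⁆ = ⁅x, y⁆⁻¹ := by
  have h1 := (comm_right h y x).eq
  have h2 : ⁅x⁻¹, y⁆ = x⁻¹ * (⁅y, x⁆ * x) := by
    simp only [commutatorElement_def]; group
  rw [h2, h1, ← commutatorElement_inv y x]
  group

theorem conj_conj (h : IsTwoEngel Q) (b y : Q) :
    y * (y * b * y⁻¹) * y⁻¹ = (y * b * y⁻¹) * (y * b * y⁻¹) * b⁻¹ := by
  have h1 := (comm_left h y b).eq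
  have h2 : y * ⁅y, b⁆ * y⁻¹ = ⁅y, b⁆ := by rw [← h1]; group
  have h3 : y * (y * b * y⁻¹) * y⁻¹ = (y * ⁅y, b⁆ * y⁻¹) * (y * b * y⁻¹) := by
    simp only [commutatorElement_def]; group
  have h4 : ⁅y, b⁆ * (y * b * y⁻¹) = (y * b * y⁻¹) * b⁻¹ * (y * b * y⁻¹) := by
    simp only [commutatorElement_def]
  have h5 : Commute b⁻¹ (y * b * y⁻¹) := (h b y).inv_left
  rw [h3, h2, h4, mul_assoc, h5.eq, ← mul_assoc]

theorem comm_aux_add {A : Type*} [AddCommGroup A] (m u v w : A) :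
    m + -u + -(v + -(u + u + v + v - m - m - w)) + (m + -v + -(u + -w)) = 0 := by abel

theorem comm_aux_mul {A : Type*} [CommGroup A] (m u v w : A) :
    m * u⁻¹ * (v * (u * u * v * v / m / m / w)⁻¹)⁻¹ * (m * v⁻¹ * (u * w⁻¹)⁻¹) = 1 :=
  comm_aux_add (A := Additive A) m u v w

open scoped IsMulCommutative in
/-- core: in a commutative normal subgroup -/
theorem comm_comm_mul_aux (h : IsTwoEngel Q) (B : Subgroup Q) [IsMulCommutative B] [B.Normal]
    (m y z : Q) (hmB : m ∈ B) : ⁅⁅m, y⁆, z⁆ * ⁅⁅m, z⁆, y⁆ = 1 := by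
  let f : B →* B := (MulAut.conjNormal y : MulAut B).toMonoidHom
  let g : B →* B := (MulAut.conjNormal z : MulAut B).toMonoidHom
  have hfa : ∀ b : B, ((f b : B) : Q) = y * b * y⁻¹ := fun b => MulAut.conjNormal_apply y b
  have hga : ∀ b : B, ((g b : B) : Q) = z * b * z⁻¹ := fun b => MulAut.conjNormal_apply z b
  have hf : ∀ b, f (f b) = f b * f b / b := by
    intro b
    apply Subtype.ext
    rw [div_eq_mul_inv]
    simp only [Subgroup.coe_mul, Subgroup.coe_inv, hfa]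
    exact h.conj_conj b y
  have hg : ∀ b, g (g b) = g b * g b / b := by
    intro b
    apply Subtype.ext
    rw [div_eq_mul_inv]
    simp only [Subgroup.coe_mul, Subgroup.coe_inv, hga]
    exact h.conj_conj b z
  have hfg : ∀ b, f (g (f (g b))) = f (g b) * f (g b) / b := by
    intro b
    apply Subtype.ext
    rw [div_eq_mul_inv]
    simp only [Subgroup.coe_mul, Subgroup.coe_inv, hfa, hga]
    have := h.conj_conj (b : Q) (y * z)
    have e1 : y * z * (y * z * ↑b * (y * z)⁻¹) * (y * z)⁻¹ =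
        y * (z * (y * (z * ↑b * z⁻¹) * y⁻¹) * z⁻¹) * y⁻¹ := by group
    have e2 : y * z * ↑b * (y * z)⁻¹ = y * (z * ↑b * z⁻¹) * y⁻¹ := by group
    rw [e1, e2] at this
    exact this
  let mB : B := ⟨m, hmB⟩
  have key : g (f mB) * f (g mB) = f mB * f mB * g mB * g mB / mB / mB :=
    monoidHom_anticomm f g hf hg hfg mB
  have c1 : ⁅⁅m, y⁆, z⁆ = ((mB * (f mB)⁻¹ * (g mB * (g (f mB))⁻¹)⁻¹ : B) : Q) := by
    simp only [Subgroup.coe_mul, Subgroup.coe_inv, hfa, hga, commutatorElement_def, mB]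
    group
  have c2 : ⁅⁅m, z⁆, y⁆ = ((mB * (g mB)⁻¹ * (f mB * (f (g mB))⁻¹)⁻¹ : B) : Q) := by
    simp only [Subgroup.coe_mul, Subgroup.coe_inv, hfa, hga, commutatorElement_def, mB]
    group
  rw [c1, c2, ← Subgroup.coe_mul, ← Subgroup.coe_one B]
  congr 1
  have : g (f mB) = f mB * f mB * g mB * g mB / mB / mB / f (g mB) := by
    rw [← key]; simp
  rw [this]
  exact comm_aux_mul mB (f mB) (g mB) (f (g mB))

/-- in a 2-Engel group `⁅⁅m, y⁆, z⁆ * ⁅⁅m, z⁆, y⁆ = 1` -/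
theorem comm_comm_mul (h : IsTwoEngel Q) (m y z : Q) : ⁅⁅m, y⁆, z⁆ * ⁅⁅m, z⁆, y⁆ = 1 := by
  let S : Set Q := Group.conjugatesOfSet {m}
  have hS : ∀ c ∈ S, ∀ d ∈ S, c * d = d * c := by
    intro c hc d hd
    obtain ⟨a, ha, hca⟩ := Group.mem_conjugatesOfSet_iff.mp hc
    obtain ⟨a', ha', hda⟩ := Group.mem_conjugatesOfSet_iff.mp hd
    rw [Set.mem_singleton_iff] at ha ha'
    subst ha ha'
    obtain ⟨g, rfl⟩ := isConj_iff.mp hca
    obtain ⟨k, rfl⟩ := isConj_iff.mp hda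
    have h1 := (h (g * a' * g⁻¹) (k * g⁻¹)).eq
    have h2 : k * g⁻¹ * (g * a' * g⁻¹) * (k * g⁻¹)⁻¹ = k * a' * k⁻¹ := by group
    rw [h2] at h1
    exact h1
  have i1 : IsMulCommutative (Subgroup.closure S) := Subgroup.isMulCommutative_closure hS
  have i2 : (Subgroup.closure S).Normal :=
    (Subgroup.normalClosure_normal : (Subgroup.normalClosure {m}).Normal)
  have hmB : m ∈ Subgroup.closure S :=
    Subgroup.subset_closure (Group.subset_conjugatesOfSet (Set.mem_singleton m))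
  exact comm_comm_mul_aux h (Subgroup.closure S) m y z hmB

end IsTwoEngel

end TwoEngel

section FpfThree

variable {Q : Type*} [Group Q] (σ : Q →* Q)

/-- the three hypotheses give the 2-Engel condition -/
theorem isTwoEngel_of_fpfThree
    (h1 : ∀ q, q * σ q * σ (σ q) = 1)
    (h2 : ∀ g q : Q, Commute q (g * σ q * g⁻¹))
    (h3 : ∀ q, σ (σ (σ q)) = q) : IsTwoEngel Q := by
  intro a g
  have e1 : a⁻¹ = σ a * σ (σ a) := by
    have := h1 a
    rw [mul_assoc] at this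
    exact (eq_inv_of_mul_eq_one_right this).symm ▸ rfl
  have c1 : Commute a (g * σ a * g⁻¹) := h2 g a
  have c2 : Commute a (g * σ (σ a) * g⁻¹) := by
    have := h2 g⁻¹ (σ (σ a))
    rw [h3] at this
    -- this : Commute (σ (σ a)) (g⁻¹ * a * g⁻¹⁻¹)
    have h4 : g * (g⁻¹ * a * g⁻¹⁻¹) * g⁻¹ = a := by group
    have h5 := this.eq
    show a * (g * σ (σ a) * g⁻¹) = g * σ (σ a) * g⁻¹ * a
    calc a * (g * σ (σ a) * g⁻¹) = g * ((g⁻¹ * a * g⁻¹⁻¹) * σ (σ a)) * g⁻¹ := by group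
      _ = g * (σ (σ a) * (g⁻¹ * a * g⁻¹⁻¹)) * g⁻¹ := by rw [h5]
      _ = g * σ (σ a) * g⁻¹ * a := by group
  have c3 : Commute a (g * a⁻¹ * g⁻¹) := by
    have : g * a⁻¹ * g⁻¹ = (g * σ a * g⁻¹) * (g * σ (σ a) * g⁻¹) := by rw [e1]; group
    rw [this]
    exact c1.mul_right c2
  have : g * a * g⁻¹ = (g * a⁻¹ * g⁻¹)⁻¹ := by group
  rw [this]
  exact c3.inv_right

/-- the key commutator formula `⁅σ b, a⁆ = σ (σ ⁅b, a⁆)` -/
theorem comm_map_left_of_fpfThree
    (h1 : ∀ q, q * σ q * σ (σ q) = 1)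
    (h2 : ∀ g q : Q, Commute q (g * σ q * g⁻¹))
    (h3 : ∀ q, σ (σ (σ q)) = q) (a b : Q) : ⁅σ b, a⁆ = σ (σ ⁅b, a⁆) := by
  have hE := isTwoEngel_of_fpfThree σ h1 h2 h3
  have ss : ∀ q, σ (σ q) = (q * σ q)⁻¹ := fun q => eq_inv_of_mul_eq_one_right (h1 q)
  -- R1
  have r1 : a * b * σ a * σ b = b * σ b * (a * σ a) := by
    have := h1 (a * b)
    simp only [map_mul] at this
    rw [ss a, ss b] at this
    have e : a * b * (σ a * σ b) * ((a * σ a)⁻¹ * (b * σ b)⁻¹) =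
        (a * b * σ a * σ b) * (b * σ b * (a * σ a))⁻¹ := by group
    rw [e] at this
    exact mul_inv_eq_one.mp this
  have r2 : ⁅b⁻¹, a⁆ = ⁅σ b, a * σ a⁆ := by
    have e1 : ⁅b⁻¹, a⁆ = b⁻¹ * (a * b * σ a * σ b) * (σ b)⁻¹ * (σ a)⁻¹ * a⁻¹ := by
      simp only [commutatorElement_def]; group
    rw [e1, r1]
    simp only [commutatorElement_def]; group
  have r3 : ⁅σ b, a * σ a⁆ = ⁅σ b, a⁆ * (a * ⁅σ b, σ a⁆ * a⁻¹) := by
    simp only [commutatorElement_def]; group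
  have r4 : a * ⁅σ b, σ a⁆ * a⁻¹ = ⁅σ b, σ a⁆ := by
    have c1 : Commute a (σ b * σ a * (σ b)⁻¹) := h2 (σ b) a
    have c2 : Commute a (σ a)⁻¹ := by
      have := h2 1 a
      simp only [one_mul, inv_one, mul_one] at this
      exact this.inv_right
    have c3 : Commute a ⁅σ b, σ a⁆ := by
      rw [commutatorElement_def]
      exact c1.mul_right c2
    rw [c3.eq]; group
  have r5 : ⁅σ b, σ a⁆ = σ ⁅b, a⁆ := (map_commutatorElement σ b a).symm
  have r6 : ⁅b⁻¹, a⁆ = ⁅b, a⁆⁻¹ := hE.comm_inv_left b a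
  set c := ⁅b, a⁆ with hc
  have r7 : c⁻¹ = ⁅σ b, a⁆ * σ c := by
    rw [← r6, r2, r3, r4, r5]
  have r8 : ⁅σ b, a⁆ = c⁻¹ * (σ c)⁻¹ := by
    rw [r7]; group
  have c4 : Commute c (σ c) := by
    have := h2 1 c
    simp only [one_mul, inv_one, mul_one] at this
    exact this
  rw [r8, ss c, mul_inv_rev, (c4.inv_inv).eq]

theorem comm_map_right_of_fpfThree
    (h1 : ∀ q, q * σ q * σ (σ q) = 1)
    (h2 : ∀ g q : Q, Commute q (g * σ q * g⁻¹))
    (h3 : ∀ q, σ (σ (σ q)) = q) (a b : Q) : ⁅a, σ b⁆ = σ (σ ⁅a, b⁆) := by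
  have := comm_map_left_of_fpfThree σ h1 h2 h3 a b
  rw [← commutatorElement_inv (σ b) a, this, ← commutatorElement_inv b a, map_inv, map_inv]

/-- a group with such an automorphism of order three has class at most two -/
theorem comm_comm_eq_one_of_fpfThree
    (h1 : ∀ q, q * σ q * σ (σ q) = 1)
    (h2 : ∀ g q : Q, Commute q (g * σ q * g⁻¹))
    (h3 : ∀ q, σ (σ (σ q)) = q) (hfix : ∀ q, σ q = q → q = 1) (a b c : Q) :
    ⁅⁅a, b⁆, c⁆ = 1 := by
  have hE := isTwoEngel_of_fpfThree σ h1 h2 h3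
  have FL := comm_map_left_of_fpfThree σ h1 h2 h3
  have FR := comm_map_right_of_fpfThree σ h1 h2 h3
  set w := ⁅⁅a, b⁆, c⁆ with hw
  have e1 : ⁅⁅a, b⁆, σ c⁆ = σ (σ w) := FR ⁅a, b⁆ c
  have k1 := hE.comm_comm_mul a b (σ c)
  have k2 := hE.comm_comm_mul a c b
  have e2 : ⁅⁅a, c⁆, b⁆ = w⁻¹ := eq_inv_of_mul_eq_one_left k2
  have e3 : ⁅⁅a, σ c⁆, b⁆ = (σ w)⁻¹ := by
    rw [FR a c, FL, FL, h3, e2, map_inv]
  rw [e1, e3] at k1
  have e4 : σ (σ w) = σ w := by
    have := mul_inv_eq_one.mp k1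
    exact this
  have e5 : σ w = w := by
    have := congrArg (fun q => σ (σ q)) e4
    simp only [h3] at this
    exact this
  exact hfix w e5

end FpfThree

end Cfsg.Agent.Lib.Helper71
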