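import Mathlib
import Cfsg.Agent.Lib.Helper71.FpfThree

set_option autoImplicit false

/-!
A group `Q` with an action of the symmetric group of degree three (generated by `σ` of order
three and `τ` of order two) such that `σ` satisfies the hypotheses of `FpfThree` and
`(q * τ q) ^ 2 = 1`, `(q * τ' q) ^ 2 = 1` for the involutions `τ`, `τ' = σ τ σ⁻¹` has exponent
two.
-/

namespace Cfsg.Agent.Lib.Helper71

open scoped commutatorElement

section

variable {Q : Type*} [Group Q] (σ τ : Q →* Q)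

/-- in a group of class two, central elements are killed by squaring in the S3-situation -/
theorem sq_eq_one_of_central_S3
    (h3 : ∀ q, σ (σ (σ q)) = q) (hfix : ∀ q, σ q = q → q = 1)
    (hτ2 : ∀ q, τ (τ q) = q) (hτσ : ∀ q, τ (σ (τ q)) = σ (σ q))
    (t1 : ∀ q, (q * τ q) ^ 2 = 1) (t1' : ∀ q, (q * σ (τ (σ (σ q)))) ^ 2 = 1)
    (c : Q) (hc : ∀ r, c * r = r * c) : c ^ 2 = 1 := by
  -- relations
  have rel0 : ∀ q, τ (σ q) = σ (σ (τ q)) := by
    intro q
    have := hτσ (τ q)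
    rw [hτ2] at this
    exact this
  have rel2 : ∀ q, τ (σ (σ q)) = σ (τ q) := by
    intro q
    rw [rel0, rel0, h3]
  have rel : ∀ q, σ (τ (σ (σ (τ q)))) = σ (σ q) := by
    intro q
    rw [rel2, hτ2]
  set u := c ^ 2 with hu
  have e1 : τ u = u⁻¹ := by
    have := t1 c
    rw [(show Commute c (τ c) from hc (τ c)).mul_pow 2] at this
    rw [hu, map_pow]
    exact eq_inv_of_mul_eq_one_right this
  have e2 : σ (τ (σ (σ u))) = u⁻¹ := by
    have := t1' c
    rw [(show Commute c _ from hc _).mul_pow 2] at this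
    rw [hu, map_pow, map_pow, map_pow, map_pow]
    exact eq_inv_of_mul_eq_one_right this
  have e3 : σ (σ u) = u := by
    have := rel u
    rw [e1] at this
    rw [← this, map_inv, map_inv, map_inv, map_inv, e2, inv_inv]
  have e4 : σ u = u := by
    have := congrArg σ e3
    rw [h3] at this
    exact this.symm
  exact hfix u e4

/-- three involutions with product of order two commute -/
theorem commute_of_sq_eq_one {a b : Q} (ha : a ^ 2 = 1) (hb : b ^ 2 = 1) (hab : (a * b) ^ 2 = 1) :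
    a * b = b * a := by
  have ha' : a⁻¹ = a := by rw [inv_eq_iff_mul_eq_one, ← pow_two]; exact ha
  have hb' : b⁻¹ = b := by rw [inv_eq_iff_mul_eq_one, ← pow_two]; exact hb
  have h : (a * b)⁻¹ = a * b := by rw [inv_eq_iff_mul_eq_one, ← pow_two]; exact hab
  rw [mul_inv_rev, ha', hb'] at h
  exact h.symm

/-- the square of a product when the commutator is central -/
theorem mul_sq_of_central {a b : Q} (hc : ∀ r, ⁅b, a⁆ * r = r * ⁅b, a⁆) :
    (a * b) ^ 2 = a ^ 2 * b ^ 2 * ⁅b, a⁆ := by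
  have e1 : b * a = ⁅b, a⁆ * (a * b) := by rw [commutatorElement_def]; group
  calc (a * b) ^ 2 = a * (b * a) * b := by rw [pow_two]; group
    _ = a * (⁅b, a⁆ * (a * b)) * b := by rw [e1]
    _ = a * ((a * b) * ⁅b, a⁆) * b := by rw [hc]
    _ = a * a * b * (⁅b, a⁆ * b) := by group
    _ = a * a * b * (b * ⁅b, a⁆) := by rw [hc]
    _ = a ^ 2 * b ^ 2 * ⁅b, a⁆ := by rw [pow_two, pow_two]; group

theorem sq_eq_one_of_S3
    (h1 : ∀ q, q * σ q * σ (σ q) = 1)
    (h2 : ∀ g q : Q, Commute q (g * σ q * g⁻¹))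
    (h3 : ∀ q, σ (σ (σ q)) = q) (hfix : ∀ q, σ q = q → q = 1)
    (hτ2 : ∀ q, τ (τ q) = q) (hτσ : ∀ q, τ (σ (τ q)) = σ (σ q))
    (t1 : ∀ q, (q * τ q) ^ 2 = 1) (t1' : ∀ q, (q * σ (τ (σ (σ q)))) ^ 2 = 1)
    (q : Q) : q ^ 2 = 1 := by
  have c2 := comm_comm_eq_one_of_fpfThree σ h1 h2 h3 hfix
  have FL := comm_map_left_of_fpfThree σ h1 h2 h3
  have hcen : ∀ a b r : Q, ⁅a, b⁆ * r = r * ⁅a, b⁆ := by
    intro a b r
    exact (commutatorElement_eq_one_iff_commute.mp (c2 a b r)).eq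
  have Z1 : ∀ c : Q, (∀ r, c * r = r * c) → c ^ 2 = 1 :=
    sq_eq_one_of_central_S3 σ τ h3 hfix hτ2 hτσ t1 t1'
  have rel0 : ∀ q, τ (σ q) = σ (σ (τ q)) := by
    intro q
    have := hτσ (τ q)
    rw [hτ2] at this
    exact this
  have rel2 : ∀ q, τ (σ (σ q)) = σ (τ q) := by
    intro q
    rw [rel0, rel0, h3]
  -- squares are central
  have sqc : ∀ a r : Q, a ^ 2 * r = r * a ^ 2 := by
    intro a r
    have e1 : ⁅a ^ 2, r⁆ = a * ⁅a, r⁆ * a⁻¹ * ⁅a, r⁆ := by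
      rw [pow_two]; simp only [commutatorElement_def]; group
    have e2 : a * ⁅a, r⁆ * a⁻¹ = ⁅a, r⁆ := by
      rw [mul_assoc, hcen, ← mul_assoc, mul_inv_cancel, one_mul]
    have e3 : ⁅a ^ 2, r⁆ = 1 := by
      rw [e1, e2, ← pow_two]
      exact Z1 _ (hcen a r)
    exact (commutatorElement_eq_one_iff_commute.mp e3).eq
  -- the elements `a * τ a` commute pairwise
  have acomm : ∀ a b : Q, (a * τ a) * (b * τ b) = (b * τ b) * (a * τ a) := by
    intro a b
    apply commute_of_sq_eq_one (t1 a) (t1 b)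
    have e1 : (a * τ a) * (b * τ b) = ((a * b) * τ (a * b)) * ⁅(τ a)⁻¹, b⁻¹⁆ := by
      have e0 : τ a * b = b * τ a * ⁅(τ a)⁻¹, b⁻¹⁆ := by
        rw [commutatorElement_def]; group
      calc (a * τ a) * (b * τ b) = a * (τ a * b) * τ b := by group
        _ = a * (b * τ a * ⁅(τ a)⁻¹, b⁻¹⁆) * τ b := by rw [e0]
        _ = a * b * τ a * (⁅(τ a)⁻¹, b⁻¹⁆ * τ b) := by group
        _ = a * b * τ a * (τ b * ⁅(τ a)⁻¹, b⁻¹⁆) := by rw [hcen]
        _ = ((a * b) * τ (a * b)) * ⁅(τ a)⁻¹, b⁻¹⁆ := by rw [map_mul]; group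
    rw [e1, (show Commute ((a * b) * τ (a * b)) ⁅(τ a)⁻¹, b⁻¹⁆ from (hcen _ _ _).symm).mul_pow,
      t1, Z1 _ (hcen _ _), one_mul]
  -- decomposition of `q`
  set u := σ (σ q) with hu
  set v := σ (τ q) with hv
  set w := σ q with hw
  have hA : σ (σ q) * τ (σ (σ q)) = u * v := by rw [rel2]
  have hB : σ (q * τ q) = w * v := by rw [map_mul]
  have huw : u * w = q⁻¹ := by
    have e1 : u = (q * w)⁻¹ := eq_inv_of_mul_eq_one_right (h1 q)
    have e2 : Commute q w := by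
      have := h2 1 q
      simpa using this
    rw [e1, mul_inv_rev, mul_assoc, e2.inv_left.eq, inv_mul_cancel_left]
  have e3 : (u * v) * (w * v) = q⁻¹ * (v ^ 2 * ⁅v⁻¹, w⁻¹⁆) := by
    have e0 : v * w = w * v * ⁅v⁻¹, w⁻¹⁆ := by rw [commutatorElement_def]; group
    calc (u * v) * (w * v) = u * (v * w) * v := by group
      _ = u * (w * v * ⁅v⁻¹, w⁻¹⁆) * v := by rw [e0]
      _ = (u * w) * v * (⁅v⁻¹, w⁻¹⁆ * v) := by group
      _ = (u * w) * v * (v * ⁅v⁻¹, w⁻¹⁆) := by rw [hcen]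
      _ = q⁻¹ * (v ^ 2 * ⁅v⁻¹, w⁻¹⁆) := by rw [huw, pow_two]; group
  have hz0 : ∀ r, (v ^ 2 * ⁅v⁻¹, w⁻¹⁆) * r = r * (v ^ 2 * ⁅v⁻¹, w⁻¹⁆) := by
    intro r
    rw [mul_assoc, hcen, ← mul_assoc, sqc, mul_assoc]
  -- the square of `A * σ B`
  have e4 : ((u * v) * (w * v)) ^ 2 = 1 := by
    have hcomm : ⁅w * v, u * v⁆ = 1 := by
      rw [← hA, ← hB, FL, commutatorElement_eq_one_iff_commute.mpr (acomm _ _), map_one, map_one]
    have hc' : ∀ r, ⁅w * v, u * v⁆ * r = r * ⁅w * v, u * v⁆ := hcen _ _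
    rw [mul_sq_of_central hc', hcomm, mul_one, ← hA, t1, one_mul, ← hB, ← map_pow, t1, map_one]
  rw [e3, (show Commute q⁻¹ (v ^ 2 * ⁅v⁻¹, w⁻¹⁆) from (hz0 _).symm).mul_pow, Z1 _ hz0, mul_one,
    inv_pow, inv_eq_one] at e4
  exact e4

end

end Cfsg.Agent.Lib.Helper71
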