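import Cfsg.Agent.Lib.Helper71.G2InvColl

/-! # K-G2I leaf B2a (S2177): involutions `x7(t) x8(t8) z`, `t ≠ 0`, are conjugate to `x9(1)` -/

set_option autoImplicit false
set_option linter.unusedSectionVars false
set_option linter.unusedVariables false
set_option linter.unusedSimpArgs false

namespace Cfsg.Agent.Lib.Helper71.G2Inv

open Cfsg.Agent.Lib.Helper37.G2Inv

variable {F : Type*} [Field F] [CharP F 2] {G : Type*} [Group G] (D : UData F G)

/-- an ordered product equal to `1` has all coefficients zero -/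
theorem coeffs_of_eq_one {a6 a7 a8 a9 a10 a11 : F}
    (h : D.x 6 a6 * (D.x 7 a7 * (D.x 8 a8 * (D.x 9 a9 * (D.x 10 a10 * D.x 11 a11)))) = 1) :
    a6 = 0 ∧ a7 = 0 ∧ a8 = 0 ∧ a9 = 0 ∧ a10 = 0 ∧ a11 = 0 := by
  have h1 : (1 : G) = D.x 6 0 * (D.x 7 0 * (D.x 8 0 * (D.x 9 0 * (D.x 10 0 * D.x 11 0)))) := by
    simp only [D.x_zero, mul_one]
  rw [h1] at h
  exact D.inj _ _ _ _ _ _ _ _ _ _ _ _ h

theorem good_x7 (t : F) (ht : t ≠ 0) : D.Good (D.x 7 t) := by
  obtain ⟨g, hg⟩ := D.w7_9 t
  obtain ⟨g', hg'⟩ := D.torus9 t ht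
  refine ⟨g' * g, Or.inr ?_⟩
  have e : g' * g * D.x 7 t * (g' * g)⁻¹ = g' * (g * D.x 7 t * g⁻¹) * g'⁻¹ := by group
  rw [e, hg, hg']

theorem good_78z (t t8 α β γ : F) (ht : t ≠ 0)
    (h : D.x 7 t * (D.x 8 t8 * D.z α β γ) * (D.x 7 t * (D.x 8 t8 * D.z α β γ)) = 1) :
    D.Good (D.x 7 t * (D.x 8 t8 * D.z α β γ)) := by
  -- the involution condition gives `α = t * t8`
  have hα : α = t * t8 := by
    have h' := h
    unfold UData.z at h'
    simp only [mul_assoc, D.add, D.x_inv, kadd, k76, k76', k86, k86', k96, k96', k106, k106', k116, k116',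
      k87, k87', k97, k97', k107, k107', k117, k117', k98, k98', k108, k108', k118, k118',
      k109, k109', k119, k119', k1110, k1110'] at h'
    have h'' : D.x 6 0 * (D.x 7 (t + t) * (D.x 8 (t8 + t8) * (D.x 9 (α + α) *
        (D.x 10 (t ^ 2 * t8 + (t * α + (β + β))) * D.x 11 (t * t8 ^ 2 + (t8 * α + (γ + γ))))))) = 1 := by
      rw [D.x_zero, one_mul]; exact h'
    have h10 := (coeffs_of_eq_one D h'').2.2.2.2.1
    rw [CharTwo.add_self_eq_zero, add_zero] at h10
    have h10' : t * (t * t8 + α) = 0 := by rw [← h10]; ring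
    have := (mul_eq_zero.mp h10').resolve_left ht
    exact (CharTwo.add_eq_zero.mp this).symm
  -- the four conjugators
  set c : F := t8 / t with hc
  have hct : c * t = t8 := div_mul_cancel₀ t8 ht
  set β' : F := c * t ^ 3 + β with hβ'
  set γ' : F := t8 * (c * t ^ 2) + (c * β + γ) with hγ'
  set d : F := β' / t with hd
  have hdt : d * t = β' := div_mul_cancel₀ β' ht
  obtain ⟨e, he⟩ := D.sqrt (γ' / t)
  have het : t * e ^ 2 = γ' := by
    rw [pow_two, he]; exact mul_div_cancel₀ γ' ht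
  -- step 1
  have s1 : D.x 6 c * (D.x 7 t * (D.x 8 t8 * D.z α β γ)) * (D.x 6 c)⁻¹ =
      D.x 7 t * (D.x 10 β' * D.x 11 γ') := by
    unfold UData.z
    simp only [mul_assoc, D.add, D.x_inv, kadd, k76, k76', k86, k86', k96, k96', k106, k106', k116, k116',
      k87, k87', k97, k97', k107, k107', k117, k117', k98, k98', k108, k108', k118, k118',
      k109, k109', k119, k119', k1110, k1110']
    have e1 : c + c = 0 := CharTwo.add_self_eq_zero c
    have e2 : c * t + t8 = 0 := by rw [hct]; exact CharTwo.add_self_eq_zero t8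
    have e3 : c * t ^ 2 + α = 0 := by
      have : c * t ^ 2 = α := by rw [hα, ← hct]; ring
      rw [this]; exact CharTwo.add_self_eq_zero α
    rw [e1, e2, e3]
    simp only [D.x_zero, one_mul]
    rfl
  -- step 2
  have s2 : D.x 9 d * (D.x 7 t * (D.x 10 β' * D.x 11 γ')) * (D.x 9 d)⁻¹ = D.x 7 t * D.x 11 γ' := by
    simp only [mul_assoc, D.add, D.x_inv, kadd, k76, k76', k86, k86', k96, k96', k106, k106', k116, k116',
      k87, k87', k97, k97', k107, k107', k117, k117', k98, k98', k108, k108', k118, k118',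
      k109, k109', k119, k119', k1110, k1110']
    have e1 : d + d = 0 := CharTwo.add_self_eq_zero d
    have e2 : t * d + β' = 0 := by rw [mul_comm, hdt]; exact CharTwo.add_self_eq_zero β'
    rw [e1, e2]
    simp only [D.x_zero, one_mul]
  -- step 3
  have s3 : D.x 8 e * (D.x 7 t * D.x 11 γ') * (D.x 8 e)⁻¹ = D.x 7 t * D.x 10 (t ^ 2 * e) := by
    simp only [mul_assoc, D.add, D.x_inv, kadd, k76, k76', k86, k86', k96, k96', k106, k106', k116, k116',
      k87, k87', k97, k97', k107, k107', k117, k117', k98, k98', k108, k108', k118, k118',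
      k109, k109', k119, k119', k1110, k1110']
    have e1 : e + e = 0 := CharTwo.add_self_eq_zero e
    have e2 : t * e ^ 2 + γ' = 0 := by rw [het]; exact CharTwo.add_self_eq_zero γ'
    rw [e1, e2]
    simp only [D.x_zero, one_mul, mul_one]
  -- step 4
  have s4 : D.x 9 (t * e) * (D.x 7 t * D.x 10 (t ^ 2 * e)) * (D.x 9 (t * e))⁻¹ = D.x 7 t := by
    simp only [mul_assoc, D.add, D.x_inv, kadd, k76, k76', k86, k86', k96, k96', k106, k106', k116, k116',
      k87, k87', k97, k97', k107, k107', k117, k117', k98, k98', k108, k108', k118, k118',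
      k109, k109', k119, k119', k1110, k1110']
    have e1 : t * e + t * e = 0 := CharTwo.add_self_eq_zero _
    have e2 : t * (t * e) + t ^ 2 * e = 0 := by
      have : t * (t * e) = t ^ 2 * e := by ring
      rw [this]; exact CharTwo.add_self_eq_zero _
    rw [e1, e2]
    simp only [D.x_zero, one_mul, mul_one]
  apply D.good_of_conj (D.x 6 c)
  rw [s1]
  apply D.good_of_conj (D.x 9 d)
  rw [s2]
  apply D.good_of_conj (D.x 8 e)
  rw [s3]
  apply D.good_of_conj (D.x 9 (t * e))
  rw [s4]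
  exact good_x7 D t ht

end Cfsg.Agent.Lib.Helper71.G2Inv
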