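import Cfsg.Agent.Lib.Helper37.G2InvDefs

/-!
# K-G2I (S2177): a terminating collection rewriting system for words in the root elements of `U ≤ G₂(q)`

`coll` lemmas: for `j > i`, `x j u * x i t = x i t * (x j u * [higher terms])` in binary and tail form,
plus merging of equal roots.  `simp only [mul_assoc, <all of these>]` brings every word to the ordered form.
-/

set_option autoImplicit false
set_option linter.unusedSectionVars false

namespace Cfsg.Agent.Lib.Helper71.G2Inv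

open Cfsg.Agent.Lib.Helper37.G2Inv

variable {F : Type*} [Field F] [CharP F 2] {G : Type*} [Group G] (D : UData F G)

theorem kadd (r : ℕ) (t u : F) (R : G) : D.x r t * (D.x r u * R) = D.x r (t + u) * R := by
  rw [← mul_assoc, D.add]

theorem k76 (u t : F) : D.x 7 u * D.x 6 t =
    D.x 6 t * (D.x 7 u * (D.x 8 (t * u) * (D.x 9 (t * u ^ 2) * D.x 10 (t * u ^ 3)))) := by
  rw [D.r67]; simp only [mul_assoc]
theorem k76' (u t : F) (R : G) : D.x 7 u * (D.x 6 t * R) =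
    D.x 6 t * (D.x 7 u * (D.x 8 (t * u) * (D.x 9 (t * u ^ 2) * (D.x 10 (t * u ^ 3) * R)))) := by
  rw [← mul_assoc, k76]; simp only [mul_assoc]

theorem k86 (u t : F) : D.x 8 u * D.x 6 t = D.x 6 t * D.x 8 u := (D.c68 t u).symm
theorem k86' (u t : F) (R : G) : D.x 8 u * (D.x 6 t * R) = D.x 6 t * (D.x 8 u * R) := by
  rw [← mul_assoc, k86, mul_assoc]
theorem k96 (u t : F) : D.x 9 u * D.x 6 t = D.x 6 t * D.x 9 u := (D.c69 t u).symm
theorem k96' (u t : F) (R : G) : D.x 9 u * (D.x 6 t * R) = D.x 6 t * (D.x 9 u * R) := by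
  rw [← mul_assoc, k96, mul_assoc]
theorem k106 (u t : F) : D.x 10 u * D.x 6 t = D.x 6 t * (D.x 10 u * D.x 11 (t * u)) := by
  rw [D.r610]; simp only [mul_assoc]
theorem k106' (u t : F) (R : G) : D.x 10 u * (D.x 6 t * R) =
    D.x 6 t * (D.x 10 u * (D.x 11 (t * u) * R)) := by
  rw [← mul_assoc, k106]; simp only [mul_assoc]
theorem k116 (u t : F) : D.x 11 u * D.x 6 t = D.x 6 t * D.x 11 u := (D.c611 t u).symm
theorem k116' (u t : F) (R : G) : D.x 11 u * (D.x 6 t * R) = D.x 6 t * (D.x 11 u * R) := by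
  rw [← mul_assoc, k116, mul_assoc]

theorem k87 (u t : F) : D.x 8 u * D.x 7 t =
    D.x 7 t * (D.x 8 u * (D.x 10 (t ^ 2 * u) * D.x 11 (t * u ^ 2))) := by
  rw [D.r78]; simp only [mul_assoc]
theorem k87' (u t : F) (R : G) : D.x 8 u * (D.x 7 t * R) =
    D.x 7 t * (D.x 8 u * (D.x 10 (t ^ 2 * u) * (D.x 11 (t * u ^ 2) * R))) := by
  rw [← mul_assoc, k87]; simp only [mul_assoc]
theorem k97 (u t : F) : D.x 9 u * D.x 7 t = D.x 7 t * (D.x 9 u * D.x 10 (t * u)) := by
  rw [D.r79]; simp only [mul_assoc]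
theorem k97' (u t : F) (R : G) : D.x 9 u * (D.x 7 t * R) =
    D.x 7 t * (D.x 9 u * (D.x 10 (t * u) * R)) := by
  rw [← mul_assoc, k97]; simp only [mul_assoc]
theorem k107 (u t : F) : D.x 10 u * D.x 7 t = D.x 7 t * D.x 10 u := (D.c710 t u).symm
theorem k107' (u t : F) (R : G) : D.x 10 u * (D.x 7 t * R) = D.x 7 t * (D.x 10 u * R) := by
  rw [← mul_assoc, k107, mul_assoc]
theorem k117 (u t : F) : D.x 11 u * D.x 7 t = D.x 7 t * D.x 11 u := (D.c711 t u).symm
theorem k117' (u t : F) (R : G) : D.x 11 u * (D.x 7 t * R) = D.x 7 t * (D.x 11 u * R) := by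
  rw [← mul_assoc, k117, mul_assoc]

theorem k98 (u t : F) : D.x 9 u * D.x 8 t = D.x 8 t * (D.x 9 u * D.x 11 (t * u)) := by
  rw [D.r89]; simp only [mul_assoc]
theorem k98' (u t : F) (R : G) : D.x 9 u * (D.x 8 t * R) =
    D.x 8 t * (D.x 9 u * (D.x 11 (t * u) * R)) := by
  rw [← mul_assoc, k98]; simp only [mul_assoc]
theorem k108 (u t : F) : D.x 10 u * D.x 8 t = D.x 8 t * D.x 10 u := (D.c810 t u).symm
theorem k108' (u t : F) (R : G) : D.x 10 u * (D.x 8 t * R) = D.x 8 t * (D.x 10 u * R) := by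
  rw [← mul_assoc, k108, mul_assoc]
theorem k118 (u t : F) : D.x 11 u * D.x 8 t = D.x 8 t * D.x 11 u := (D.c811 t u).symm
theorem k118' (u t : F) (R : G) : D.x 11 u * (D.x 8 t * R) = D.x 8 t * (D.x 11 u * R) := by
  rw [← mul_assoc, k118, mul_assoc]

theorem k109 (u t : F) : D.x 10 u * D.x 9 t = D.x 9 t * D.x 10 u := (D.c910 t u).symm
theorem k109' (u t : F) (R : G) : D.x 10 u * (D.x 9 t * R) = D.x 9 t * (D.x 10 u * R) := by
  rw [← mul_assoc, k109, mul_assoc]
theorem k119 (u t : F) : D.x 11 u * D.x 9 t = D.x 9 t * D.x 11 u := (D.c911 t u).symm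
theorem k119' (u t : F) (R : G) : D.x 11 u * (D.x 9 t * R) = D.x 9 t * (D.x 11 u * R) := by
  rw [← mul_assoc, k119, mul_assoc]
theorem k1110 (u t : F) : D.x 11 u * D.x 10 t = D.x 10 t * D.x 11 u := (D.c1011 t u).symm
theorem k1110' (u t : F) (R : G) : D.x 11 u * (D.x 10 t * R) = D.x 10 t * (D.x 11 u * R) := by
  rw [← mul_assoc, k1110, mul_assoc]

/-- Ordered form of any six-letter product is determined by its coefficients (`inj` against another). -/
theorem prod_congr {a6 a7 a8 a9 a10 a11 b6 b7 b8 b9 b10 b11 : F}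
    (h6 : a6 = b6) (h7 : a7 = b7) (h8 : a8 = b8) (h9 : a9 = b9) (h10 : a10 = b10) (h11 : a11 = b11) :
    D.x 6 a6 * (D.x 7 a7 * (D.x 8 a8 * (D.x 9 a9 * (D.x 10 a10 * D.x 11 a11)))) =
      D.x 6 b6 * (D.x 7 b7 * (D.x 8 b8 * (D.x 9 b9 * (D.x 10 b10 * D.x 11 b11)))) := by
  subst h6 h7 h8 h9 h10 h11; rfl

end Cfsg.Agent.Lib.Helper71.G2Inv
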