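import Cfsg.Agent.Lib.Helper71.G2InvColl

set_option autoImplicit false
set_option linter.unusedSectionVars false
set_option linter.unusedVariables false
set_option linter.unusedSimpArgs false

namespace Cfsg.Agent.Lib.Helper71.G2Inv

open Cfsg.Agent.Lib.Helper37.G2Inv

variable {F : Type*} [Field F] [CharP F 2] {G : Type*} [Group G] (D : UData F G)

theorem inv67 (a6 a7 a8 a9 a10 a11 : F)
    (h : D.prod a6 a7 a8 a9 a10 a11 * D.prod a6 a7 a8 a9 a10 a11 = 1) : a6 * a7 = 0 := by
  unfold UData.prod at h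
  simp only [mul_assoc, D.add, kadd, k76, k76', k86, k86', k96, k96', k106, k106', k116, k116',
    k87, k87', k97, k97', k107, k107', k117, k117', k98, k98', k108, k108', k118, k118',
    k109, k109', k119, k119', k1110, k1110'] at h
  have h1 : (1 : G) = D.x 6 0 * (D.x 7 0 * (D.x 8 0 * (D.x 9 0 * (D.x 10 0 * D.x 11 0)))) := by
    simp only [D.x_zero, mul_one]
  rw [h1] at h
  have h8 := (D.inj _ _ _ _ _ _ _ _ _ _ _ _ h).2.2.1
  rw [CharTwo.add_self_eq_zero, add_zero] at h8
  exact h8

end Cfsg.Agent.Lib.Helper71.G2Inv
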