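import Mathlib
import Cfsg.Agent.Lib.Helper06.SimpleAux

set_option autoImplicit false

/-! # K-G42 leaf L8b (S2553): a primitive subgroup of `A_8` of order divisible by 5 is `A_8` -/

namespace Cfsg.Agent.Lib.Helper71.G42

open Equiv MulAction

/-- an element of order 5 of `S_8` is a 5-cycle -/
theorem l8b_five_cycle (g : Perm (Fin 8)) (h : orderOf g = 5) :
    g.IsCycle ∧ g.support.card = 5 := by
  have hp : (orderOf g).Prime := by rw [h]; norm_num
  obtain ⟨n, hn⟩ := Perm.cycleType_prime_order hp
  rw [h] at hn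
  have hsum := Perm.sum_cycleType g
  have hle := Perm.sum_cycleType_le g
  rw [hn, Multiset.sum_replicate, smul_eq_mul, Fintype.card_fin] at hle
  have hn0 : n = 0 := by omega
  subst hn0
  constructor
  · rw [← Perm.card_cycleType_eq_one, hn]; simp
  · rw [← hsum, hn]; simp

/-- an even involution of `S_8` fixing two points moves exactly four points -/
theorem l8b_involution (t : Perm (Fin 8)) (ht2 : t ^ 2 = 1) (ht1 : t ≠ 1)
    (hsign : Perm.sign t = 1) (a b : Fin 8) (hab : a ≠ b) (ha : t a = a) (hb : t b = b) :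
    t.support.card = 4 := by
  have ho : orderOf t = 2 := orderOf_eq_prime ht2 ht1
  have hp : (orderOf t).Prime := by rw [ho]; norm_num
  obtain ⟨n, hn⟩ := Perm.cycleType_prime_order hp
  rw [ho] at hn
  have hsum := Perm.sum_cycleType t
  have hsub : t.support ⊆ Finset.univ \ {a, b} := by
    intro x hx
    rw [Perm.mem_support] at hx
    simp only [Finset.mem_sdiff, Finset.mem_univ, Finset.mem_insert, Finset.mem_singleton,
      true_and]
    rintro (rfl | rfl)
    · exact hx ha
    · exact hx hb
  have hcard : (Finset.univ \ ({a, b} : Finset (Fin 8))).card = 6 := by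
    rw [Finset.card_sdiff_of_subset (Finset.subset_univ _), Finset.card_univ, Fintype.card_fin,
      Finset.card_pair hab]
  have hle := Finset.card_le_card hsub
  rw [hcard, ← hsum, hn, Multiset.sum_replicate, smul_eq_mul] at hle
  have hs := Perm.sign_of_cycleType t
  rw [hn, Multiset.sum_replicate, Multiset.card_replicate, smul_eq_mul, hsign] at hs
  have hn1 : n = 1 := by
    have : n = 0 ∨ n = 1 ∨ n = 2 := by omega
    rcases this with rfl | rfl | rfl
    · exfalso; revert hs; decide
    · rfl
    · exfalso; revert hs; decide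
  subst hn1
  rw [← hsum, hn]; simp

/-- in a 4-fold transitive subgroup of `S_8` the fixing subgroup of a 4-set has index 1680 -/
theorem l8b_index (G : Subgroup (Perm (Fin 8))) (h4t : IsMultiplyPretransitive G (Fin 8) 4)
    (s : Set (Fin 8)) (hs : s.ncard = 4) : (fixingSubgroup G s).index = 1680 := by
  have hidx := h4t.index_of_fixingSubgroup_mul hs
  rw [Nat.card_eq_fintype_card, Fintype.card_fin] at hidx
  have h1 : (8 - 4).factorial = 24 := by decide
  have h2 : (8).factorial = 40320 := by decide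
  rw [h1, h2] at hidx
  omega

/-- 255310 L8b (Jordan for a 5-cycle, degree 8). -/
theorem jordan5 (G : Subgroup (Equiv.Perm (Fin 8))) (hGA : G ≤ alternatingGroup (Fin 8))
    (hprim : MulAction.IsPreprimitive ↥G (Fin 8)) (h5 : 5 ∣ Nat.card ↥G) :
    G = alternatingGroup (Fin 8) := by
  classical
  haveI : Fact (Nat.Prime 5) := ⟨by norm_num⟩
  obtain ⟨g0, hg0⟩ := exists_prime_orderOf_dvd_card' (G := ↥G) 5 h5
  obtain ⟨g, hgdef⟩ : ∃ g : Perm (Fin 8), g = (g0 : Perm (Fin 8)) := ⟨_, rfl⟩
  have hg : g ∈ G := by rw [hgdef]; exact g0.2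
  have hord : orderOf g = 5 := by rw [hgdef, Subgroup.orderOf_coe]; exact hg0
  obtain ⟨hcyc, hcard⟩ := l8b_five_cycle g hord
  -- Jordan: `G` is 4-fold primitive
  have h4 : IsMultiplyPreprimitive G (Fin 8) 4 := by
    apply hprim.isMultiplyPreprimitive (s := ((g.support : Set (Fin 8))ᶜ)) (n := 2)
    · have h1 := Set.ncard_add_ncard_compl (g.support : Set (Fin 8))
      rw [Set.ncard_coe_finset, hcard, Nat.card_eq_fintype_card, Fintype.card_fin] at h1
      omega
    · simp
    have := Equiv.Perm.isPretransitive_of_isCycle_mem hcyc hg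
    apply IsPreprimitive.of_prime_card
    convert Nat.prime_five
    rw [Nat.card_eq_fintype_card, Fintype.card_subtype, ← hcard]
    apply congr_arg
    ext x
    simp [SubMulAction.mem_ofFixingSubgroup_iff]
  have h4t : IsMultiplyPretransitive G (Fin 8) 4 := h4.isMultiplyPretransitive
  -- the 4-point stabilizer
  obtain ⟨s, hsdef⟩ : ∃ s : Set (Fin 8), s = (({0, 1, 2, 3} : Finset (Fin 8)) : Set (Fin 8)) :=
    ⟨_, rfl⟩
  have hs : s.ncard = 4 := by rw [hsdef, Set.ncard_coe_finset]; decide
  have hidx := l8b_index G h4t s hs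
  have hcardG : Nat.card G = 1680 * Nat.card (fixingSubgroup G s) := by
    rw [← hidx, Subgroup.index_mul_card]
  have hA : Nat.card (alternatingGroup (Fin 8)) = 20160 := by
    rw [nat_card_alternatingGroup, Nat.card_eq_fintype_card, Fintype.card_fin]; decide
  have hcardG' : Nat.card (G.subgroupOf (alternatingGroup (Fin 8))) = Nat.card G :=
    Nat.card_congr (Subgroup.subgroupOfEquivOfLe hGA).toEquiv
  have hmul : (G.subgroupOf (alternatingGroup (Fin 8))).index *
      Nat.card (G.subgroupOf (alternatingGroup (Fin 8))) = 20160 := by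
    rw [Subgroup.index_mul_card, hA]
  by_cases htop : G.subgroupOf (alternatingGroup (Fin 8)) = ⊤
  · exact le_antisymm hGA (Subgroup.subgroupOf_eq_top.mp htop)
  exfalso
  haveI : IsSimpleGroup (alternatingGroup (Fin 8)) := alternatingGroup.isSimpleGroup (by simp)
  have hfac := Cfsg.Agent.Lib.Helper06.card_le_factorial_index _ htop
  rw [hA] at hfac
  obtain ⟨i, hi⟩ : ∃ i : ℕ, i = (G.subgroupOf (alternatingGroup (Fin 8))).index := ⟨_, rfl⟩
  obtain ⟨k, hk⟩ : ∃ k : ℕ, k = Nat.card (fixingSubgroup G s) := ⟨_, rfl⟩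
  rw [← hi] at hfac hmul
  rw [hcardG', hcardG, ← hk] at hmul
  have h12 : i * k = 12 := by nlinarith
  have h8 : 8 ≤ i := by
    by_contra hlt
    push Not at hlt
    have h1 : i.factorial ≤ (7).factorial := Nat.factorial_le (by omega)
    have h2 : (7).factorial = 5040 := by decide
    omega
  have hile : i ≤ 12 := Nat.le_of_dvd (by norm_num) ⟨k, h12.symm⟩
  have hk1 : k = 1 := by
    interval_cases i <;> omega
  -- `G` is sharply 4-transitive: every fixing subgroup of a 4-set is trivial
  have hG1680 : Nat.card G = 1680 := by rw [hcardG, ← hk, hk1]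
  have hsharp : ∀ s' : Set (Fin 8), s'.ncard = 4 → ∀ x : G, x ∈ fixingSubgroup G s' → x = 1 := by
    intro s' hs' x hx
    have h1 := l8b_index G h4t s' hs'
    have h2 : Nat.card (fixingSubgroup G s') = 1 := by
      have h3 := Subgroup.index_mul_card (fixingSubgroup G s')
      rw [h1, hG1680] at h3
      omega
    have h4 : fixingSubgroup G s' = ⊥ := Subgroup.card_eq_one.mp h2
    rw [h4] at hx
    exact Subgroup.mem_bot.mp hx
  -- the element `t` with `(0,1,2,3) ↦ (1,0,2,3)`
  obtain ⟨x, hx⟩ : ∃ x : Fin 4 ↪ Fin 8, x = Fin.castLEEmb (by norm_num) := ⟨_, rfl⟩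
  obtain ⟨y, hy⟩ : ∃ y : Fin 4 ↪ Fin 8, y = (Equiv.swap (0 : Fin 4) 1).toEmbedding.trans x :=
    ⟨_, rfl⟩
  obtain ⟨t0, ht0⟩ := exists_smul_eq G x y
  obtain ⟨t, htdef⟩ : ∃ t : Perm (Fin 8), t = (t0 : Perm (Fin 8)) := ⟨_, rfl⟩
  have hval : ∀ j : Fin 4, t (x j) = y j := by
    intro j
    have := DFunLike.congr_fun ht0 j
    rw [htdef]
    exact this
  have e0 : t 0 = 1 := by
    have := hval 0
    rw [hy, hx] at this
    simpa using this
  have e1 : t 1 = 0 := by
    have := hval 1
    rw [hy, hx] at this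
    simpa using this
  have e2 : t 2 = 2 := by
    have := hval 2
    rw [hy, hx] at this
    have h2 : (Equiv.swap (0 : Fin 4) 1) 2 = 2 := by decide
    simpa [h2] using this
  have e3 : t 3 = 3 := by
    have := hval 3
    rw [hy, hx] at this
    have h2 : (Equiv.swap (0 : Fin 4) 1) 3 = 3 := by decide
    simpa [h2] using this
  have ht2 : t0 ^ 2 = 1 := by
    apply hsharp s hs
    rw [mem_fixingSubgroup_iff]
    intro z hz
    rw [hsdef] at hz
    simp only [Finset.coe_insert, Finset.coe_singleton, Set.mem_insert_iff,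
      Set.mem_singleton_iff] at hz
    show ((t0 ^ 2 : G) : Perm (Fin 8)) z = z
    rw [Subgroup.coe_pow, ← htdef, pow_two, Perm.mul_apply]
    rcases hz with rfl | rfl | rfl | rfl
    · rw [e0, e1]
    · rw [e1, e0]
    · rw [e2, e2]
    · rw [e3, e3]
  have ht2' : t ^ 2 = 1 := by
    rw [htdef, ← Subgroup.coe_pow, ht2, Subgroup.coe_one]
  have ht1 : t ≠ 1 := by
    intro h
    rw [h] at e0
    exact absurd e0 (by decide)
  have hsign : Perm.sign t = 1 := by
    have : t ∈ alternatingGroup (Fin 8) := by rw [htdef]; exact hGA t0.2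
    exact Perm.mem_alternatingGroup.mp this
  have hsupp := l8b_involution t ht2' ht1 hsign 2 3 (by decide) e2 e3
  have hs' : ((t.support : Set (Fin 8))ᶜ).ncard = 4 := by
    have h1 := Set.ncard_add_ncard_compl (t.support : Set (Fin 8))
    rw [Set.ncard_coe_finset, hsupp, Nat.card_eq_fintype_card, Fintype.card_fin] at h1
    omega
  have ht01 : t0 = 1 := by
    apply hsharp _ hs'
    rw [mem_fixingSubgroup_iff]
    intro z hz
    show (t0 : Perm (Fin 8)) z = z
    rw [← htdef]
    simpa using hz
  apply ht1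
  rw [htdef, ht01, Subgroup.coe_one]

end Cfsg.Agent.Lib.Helper71.G42
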