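import Mathlib
import Cfsg.Agent.S0799
import Cfsg.Agent.Lib.Helper98.DicksonMax
import Cfsg.Agent.Lib.Helper48.Hall.Main
import Cfsg.Agent.Lib.Helper71.GL2Lin

set_option autoImplicit false

/-!
A `p'`-subgroup of `GL₂(p)` cannot contain three elements with eigenvalues `t⁻¹`, `t²`
(`t` a primitive root) whose `t⁻¹`-eigenlines are pairwise distinct, when `p ≥ 17`:
embed projectively into `PSL₂(p²)` and apply Dickson's theorem.
-/

namespace Cfsg.Agent.Lib.Helper71.GL2Dickson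

open Matrix Cfsg.Agent.Lib.Helper71.GL2Lin
open scoped commutatorElement

variable {p : ℕ} [Fact p.Prime] {F : Type*} [Field F] [Algebra (ZMod p) F]

local notation "SL2" => Matrix.SpecialLinearGroup (Fin 2) F
local notation "PSL2" => Matrix.ProjectiveSpecialLinearGroup (Fin 2) F

/-- base change of matrices -/
noncomputable def bc : Matrix (Fin 2) (Fin 2) (ZMod p) →+* Matrix (Fin 2) (Fin 2) F :=
  (algebraMap (ZMod p) F).mapMatrix

lemma bc_apply (A : Matrix (Fin 2) (Fin 2) (ZMod p)) (i j : Fin 2) :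
    (bc A : Matrix (Fin 2) (Fin 2) F) i j = algebraMap (ZMod p) F (A i j) := rfl

lemma bc_injective : Function.Injective (bc (p := p) (F := F)) := by
  intro A B h
  ext i j
  have := congrFun (congrFun h i) j
  rw [bc_apply, bc_apply] at this
  exact (algebraMap (ZMod p) F).injective this

lemma scalar_ne_zero {y : SL2} {c : F} {X : Matrix (Fin 2) (Fin 2) (ZMod p)}
    (h : y.1 = c • bc X) : c ≠ 0 := by
  rintro rfl
  have := y.2
  rw [h, zero_smul, det_zero] at this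
  exact zero_ne_one this

/-- scalar multiples of base-changed elements of `K` lying in `SL₂(F)` -/
def liftSL (K : Subgroup (GL (Fin 2) (ZMod p))) : Subgroup SL2 where
  carrier := {y | ∃ x ∈ K, ∃ c : F, y.1 = c • bc (x : Matrix (Fin 2) (Fin 2) (ZMod p))}
  one_mem' := ⟨1, K.one_mem, 1, by simp⟩
  mul_mem' := by
    rintro y₁ y₂ ⟨x₁, hx₁, c₁, h₁⟩ ⟨x₂, hx₂, c₂, h₂⟩
    refine ⟨x₁ * x₂, K.mul_mem hx₁ hx₂, c₁ * c₂, ?_⟩
    rw [Matrix.SpecialLinearGroup.coe_mul, h₁, h₂, Units.val_mul, map_mul, smul_mul_smul_comm]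
  inv_mem' := by
    rintro y ⟨x, hx, c, h⟩
    refine ⟨x⁻¹, K.inv_mem hx, c⁻¹, ?_⟩
    have hc : c ≠ 0 := scalar_ne_zero h
    have h1 : y.1 * (c⁻¹ • bc ((x⁻¹ : GL (Fin 2) (ZMod p)) : Matrix (Fin 2) (Fin 2) (ZMod p))) = 1 := by
      rw [h, smul_mul_smul_comm, ← map_mul, ← Units.val_mul, mul_inv_cancel, Units.val_one, map_one,
        mul_inv_cancel₀ hc, one_smul]
    have h2 : (y⁻¹).1 * y.1 = 1 := by
      rw [← Matrix.SpecialLinearGroup.coe_mul, inv_mul_cancel, Matrix.SpecialLinearGroup.coe_one]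
    calc (y⁻¹).1 = (y⁻¹).1 * (y.1 * (c⁻¹ • bc ((x⁻¹ : GL (Fin 2) (ZMod p)) :
          Matrix (Fin 2) (Fin 2) (ZMod p)))) := by rw [h1, mul_one]
      _ = c⁻¹ • bc ((x⁻¹ : GL (Fin 2) (ZMod p)) : Matrix (Fin 2) (Fin 2) (ZMod p)) := by
          rw [← mul_assoc, h2, one_mul]

lemma lift_pow {y : SL2} {c : F} {X : Matrix (Fin 2) (Fin 2) (ZMod p)}
    (h : y.1 = c • bc X) (k : ℕ) : (y ^ k).1 = c ^ k • bc (X ^ k) := by
  rw [Matrix.SpecialLinearGroup.coe_pow, h, smul_pow, map_pow]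

/-- if `mk y ^ k = 1` then `X ^ k` is scalar -/
lemma scalar_of_pow {y : SL2} {c : F} {X : Matrix (Fin 2) (Fin 2) (ZMod p)}
    (h : y.1 = c • bc X) (k : ℕ) (hk : (QuotientGroup.mk y : PSL2) ^ k = 1) :
    ∃ μ : ZMod p, ∀ w : Fin 2 → ZMod p, (X ^ k) *ᵥ w = μ • w := by
  have hc : c ^ k ≠ 0 := pow_ne_zero _ (scalar_ne_zero h)
  rw [← QuotientGroup.mk_pow, QuotientGroup.eq_one_iff] at hk
  obtain ⟨h01, h10, h00⟩ := (Cfsg.Agent.Lib.Helper98.SL2Borel.mem_center_iff' _).mp hk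
  rw [lift_pow h] at h01 h10 h00
  simp only [Matrix.smul_apply, bc_apply, smul_eq_mul] at h01 h10 h00
  have e01 : (X ^ k) 0 1 = 0 := by
    have := (mul_eq_zero.mp h01).resolve_left hc
    exact (map_eq_zero _).mp this
  have e10 : (X ^ k) 1 0 = 0 := by
    have := (mul_eq_zero.mp h10).resolve_left hc
    exact (map_eq_zero _).mp this
  have e00 : (X ^ k) 0 0 = (X ^ k) 1 1 :=
    (algebraMap (ZMod p) F).injective (mul_left_cancel₀ hc h00)
  refine ⟨(X ^ k) 0 0, fun w => ?_⟩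
  funext i
  fin_cases i
  · simp [Matrix.mulVec, dotProduct, Fin.sum_univ_two, e01]
  · simp [Matrix.mulVec, dotProduct, Fin.sum_univ_two, e10, e00]

/-- commuting in `PSL₂` means commuting up to sign -/
lemma comm_of_mk_comm {y₁ y₂ : SL2} {c₁ c₂ : F} {X₁ X₂ : Matrix (Fin 2) (Fin 2) (ZMod p)}
    (h₁ : y₁.1 = c₁ • bc X₁) (h₂ : y₂.1 = c₂ • bc X₂)
    (hc : (QuotientGroup.mk y₁ : PSL2) * QuotientGroup.mk y₂ =
      QuotientGroup.mk y₂ * QuotientGroup.mk y₁) :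
    X₁ * X₂ = X₂ * X₁ ∨ X₁ * X₂ = -(X₂ * X₁) := by
  have hne : c₁ * c₂ ≠ 0 := mul_ne_zero (scalar_ne_zero h₁) (scalar_ne_zero h₂)
  rw [← QuotientGroup.mk_mul, ← QuotientGroup.mk_mul,
    Cfsg.Agent.Lib.Helper98.DicksonMax.mk_eq_iff] at hc
  have e12 : (y₁ * y₂).1 = (c₁ * c₂) • bc (X₁ * X₂) := by
    rw [Matrix.SpecialLinearGroup.coe_mul, h₁, h₂, smul_mul_smul_comm, map_mul]
  have e21 : (y₂ * y₁).1 = (c₁ * c₂) • bc (X₂ * X₁) := by
    rw [Matrix.SpecialLinearGroup.coe_mul, h₁, h₂, smul_mul_smul_comm, map_mul, mul_comm c₂]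
  rcases hc with hc | hc
  · left
    have := congrArg Subtype.val hc
    rw [e12, e21] at this
    exact bc_injective (smul_right_injective _ hne this)
  · right
    have := congrArg Subtype.val hc
    rw [Matrix.SpecialLinearGroup.coe_neg, e12, e21, ← smul_neg, ← map_neg] at this
    exact bc_injective (smul_right_injective _ hne this)

theorem pprime_of_mem (K : Subgroup (GL (Fin 2) (ZMod p)))
    (hK : ∀ M ∈ K, ∃ m : ℕ, ¬ p ∣ m ∧ M ^ m = 1) (g : PSL2)
    (hg : g ∈ (liftSL (F := F) K).map (QuotientGroup.mk' (Subgroup.center SL2))) :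
    ∃ m : ℕ, ¬ p ∣ m ∧ g ^ m = 1 := by
  obtain ⟨y, ⟨x, hx, c, h⟩, rfl⟩ := hg
  obtain ⟨m, hm, hxm⟩ := hK x hx
  refine ⟨m, hm, ?_⟩
  rw [← map_pow]
  show (QuotientGroup.mk (y ^ m) : PSL2) = 1
  rw [QuotientGroup.eq_one_iff, Cfsg.Agent.Lib.Helper98.SL2Borel.mem_center_iff', lift_pow h]
  have : ((x : GL (Fin 2) (ZMod p)) : Matrix (Fin 2) (Fin 2) (ZMod p)) ^ m = 1 := by
    rw [← Units.val_pow_eq_pow_val, hxm, Units.val_one]
  rw [this, map_one]
  simp

set_option maxRecDepth 100000 in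
lemma perm4_pow : ∀ g : Equiv.Perm (Fin 4), g ^ 3 = 1 ∨ g ^ 4 = 1 := by decide

section main

variable [Fintype F] [CharP F p]

set_option maxRecDepth 100000 in
lemma alt5_pow : ∀ g : Equiv.Perm (Fin 5), Equiv.Perm.sign g = 1 →
    g ^ 2 = 1 ∨ g ^ 3 = 1 ∨ g ^ 5 = 1 := by decide

omit [Fintype F] [CharP F p] in
lemma exists_lift (hsq : ∀ d : ZMod p, d ≠ 0 → IsSquare (algebraMap (ZMod p) F d))
    (x : GL (Fin 2) (ZMod p)) :
    ∃ y : SL2, ∃ c : F, y.1 = c • bc (x : Matrix (Fin 2) (Fin 2) (ZMod p)) := by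
  have hd : (x : Matrix (Fin 2) (Fin 2) (ZMod p)).det ≠ 0 :=
    ((Matrix.isUnit_iff_isUnit_det _).mp x.isUnit).ne_zero
  obtain ⟨r, hr⟩ := hsq _ hd
  have hr0 : r ≠ 0 := by
    rintro rfl
    rw [mul_zero] at hr
    exact hd ((map_eq_zero _).mp hr)
  refine ⟨⟨r⁻¹ • bc (x : Matrix (Fin 2) (Fin 2) (ZMod p)), ?_⟩, r⁻¹, rfl⟩
  rw [Matrix.det_smul, Fintype.card_fin]
  have : (bc (x : Matrix (Fin 2) (Fin 2) (ZMod p)) : Matrix (Fin 2) (Fin 2) F).det =
      algebraMap (ZMod p) F (x : Matrix (Fin 2) (Fin 2) (ZMod p)).det :=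
    (RingHom.map_det _ _).symm
  rw [this, hr]
  field_simp

theorem no_three_flags (hF : Fintype.card F = p ^ 2)
    (hsq : ∀ d : ZMod p, d ≠ 0 → IsSquare (algebraMap (ZMod p) F d))
    (hp : 15 < p - 1)
    (K : Subgroup (GL (Fin 2) (ZMod p))) (hK : ∀ M ∈ K, ∃ m : ℕ, ¬ p ∣ m ∧ M ^ m = 1)
    (s s' : ℕ) (hss : (s : ZMod p) * (s' : ZMod p) = 1)
    (hprim : ∀ k : ℕ, (s : ZMod p) ^ k = 1 → (p - 1) ∣ k)
    (x : Fin 3 → GL (Fin 2) (ZMod p)) (hx : ∀ i, x i ∈ K)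
    (v : Fin 3 → Fin 2 → ZMod p) (hv : ∀ i j, i ≠ j → dt (v i) (v j) ≠ 0)
    (hflag : ∀ i, Flag ((x i : GL (Fin 2) (ZMod p)) : Matrix (Fin 2) (Fin 2) (ZMod p)) (v i)
      (s' : ZMod p) ((s : ZMod p) ^ 2)) :
    False := by
  have hpp : p.Prime := Fact.out
  have hs0 : (s : ZMod p) ≠ 0 := left_ne_zero_of_mul_eq_one hss
  have hs'0 : (s' : ZMod p) ≠ 0 := right_ne_zero_of_mul_eq_one hss
  have hno_small : ∀ k, 1 ≤ k → k ≤ 15 → (s : ZMod p) ^ k ≠ 1 := by
    intro k h1 h15 h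
    have := Nat.le_of_dvd (by omega) (hprim k h)
    omega
  have hαβ : (s' : ZMod p) ≠ (s : ZMod p) ^ 2 := by
    intro h
    apply hno_small 3 (by norm_num) (by norm_num)
    calc (s : ZMod p) ^ 3 = s * (s : ZMod p) ^ 2 := by ring
      _ = 1 := by rw [← h, hss]
  have hαβ' : -(s' : ZMod p) ≠ (s : ZMod p) ^ 2 := by
    intro h
    apply hno_small 6 (by norm_num) (by norm_num)
    calc (s : ZMod p) ^ 6 = (s * (s : ZMod p) ^ 2) ^ 2 := by ring
      _ = 1 := by rw [← h, mul_neg, hss]; norm_num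
  have h2 : (2 : ZMod p) ≠ 0 := by
    intro h
    have h3 : ((2 : ℕ) : ZMod p) = 0 := by exact_mod_cast h
    rw [ZMod.natCast_eq_zero_iff] at h3
    have := Nat.le_of_dvd (by norm_num) h3
    omega
  have hlift := fun i => exists_lift (F := F) hsq (x i)
  choose y c hy using hlift
  have hno : ∀ i k, 1 ≤ k → k ≤ 5 → (QuotientGroup.mk (y i) : PSL2) ^ k ≠ 1 := by
    intro i k hk1 hk5 hk
    obtain ⟨μ, hμ⟩ := scalar_of_pow (hy i) k hk
    have hf := (hflag i).pow k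
    have hne : i ≠ i + 1 := by fin_cases i <;> decide
    have h3 := hf.eq_of_scalar hμ (hv i (i + 1) hne)
    apply hno_small (3 * k) (by omega) (by omega)
    calc (s : ZMod p) ^ (3 * k) = (s : ZMod p) ^ k * ((s : ZMod p) ^ 2) ^ k := by ring
      _ = ((s : ZMod p) * (s' : ZMod p)) ^ k := by rw [← h3, mul_pow]
      _ = 1 := by rw [hss, one_pow]
  have hcontra : (∀ i j, (QuotientGroup.mk (y i) : PSL2) * QuotientGroup.mk (y j) =
      QuotientGroup.mk (y j) * QuotientGroup.mk (y i)) → False := by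
    intro hc
    rcases comm_of_mk_comm (hy 0) (hy 1) (hc 0 1) with c01 | c01
    · rcases comm_of_mk_comm (hy 0) (hy 2) (hc 0 2) with c02 | c02
      · exact no_commuting hαβ (hflag 0) (hflag 1) (hflag 2) (hv 0 1 (by decide))
          (hv 0 2 (by decide)) (hv 1 2 (by decide)) c01 c02
      · exact no_anticommuting h2 hs'0 (pow_ne_zero _ hs0) hαβ' (hflag 0) (hflag 2)
          (hv 0 2 (by decide)) c02
    · exact no_anticommuting h2 hs'0 (pow_ne_zero _ hs0) hαβ' (hflag 0) (hflag 1)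
        (hv 0 1 (by decide)) c01
  set H : Subgroup PSL2 := (liftSL (F := F) K).map (QuotientGroup.mk' (Subgroup.center SL2))
    with hH
  have hmem : ∀ i, (QuotientGroup.mk (y i) : PSL2) ∈ H :=
    fun i => ⟨y i, ⟨x i, hx i, c i, hy i⟩, rfl⟩
  have hpH : ∀ g : PSL2, g ∈ H → ∃ m : ℕ, ¬ p ∣ m ∧ g ^ m = 1 := pprime_of_mem K hK
  -- a small power of the first element being trivial is impossible
  have hsmall : ∀ {X : Type} [Group X] (e : H ≃* X),
      (∀ g : X, ∃ k, 1 ≤ k ∧ k ≤ 5 ∧ g ^ k = 1) → False := by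
    intro X _ e hX
    obtain ⟨k, hk1, hk5, hk⟩ := hX (e ⟨_, hmem 0⟩)
    rw [← map_pow, MulEquiv.map_eq_one_iff] at hk
    exact hno 0 k hk1 hk5 (by simpa using congrArg Subtype.val hk)
  rcases Cfsg.Agent.S0799.result hF p H with
    ⟨k, -, ⟨hcyc, -⟩ | ⟨⟨e⟩⟩⟩ | ⟨P', K', hK', ⟨e⟩⟩ | ⟨⟨e⟩⟩ | ⟨⟨e⟩⟩ | ⟨⟨e⟩⟩ |
      ⟨K', _, _, m, hcard, hiso⟩
  · -- cyclic
    apply hcontra
    intro i j
    obtain ⟨g, hg⟩ := IsCyclic.exists_generator (α := H)
    obtain ⟨a, ha⟩ := Subgroup.mem_zpowers_iff.mp (hg ⟨_, hmem i⟩)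
    obtain ⟨b, hb⟩ := Subgroup.mem_zpowers_iff.mp (hg ⟨_, hmem j⟩)
    have : (⟨_, hmem i⟩ : H) * ⟨_, hmem j⟩ = ⟨_, hmem j⟩ * ⟨_, hmem i⟩ := by
      rw [← ha, ← hb, ← _root_.zpow_add, ← _root_.zpow_add, add_comm]
    simpa using congrArg Subtype.val this
  · -- dihedral
    apply hcontra
    have hr : ∀ i, ∃ a, e ⟨_, hmem i⟩ = DihedralGroup.r a := by
      intro i
      rcases hcase : e ⟨_, hmem i⟩ with a | a
      · exact ⟨a, rfl⟩
      · exfalso
        have h3 : (e ⟨_, hmem i⟩) ^ 2 = 1 := by rw [hcase, pow_two, DihedralGroup.sr_mul_self]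
        rw [← map_pow, MulEquiv.map_eq_one_iff] at h3
        exact hno i 2 (by norm_num) (by norm_num) (by simpa using congrArg Subtype.val h3)
    intro i j
    obtain ⟨a, ha⟩ := hr i
    obtain ⟨b, hb⟩ := hr j
    have : (⟨_, hmem i⟩ : H) * ⟨_, hmem j⟩ = ⟨_, hmem j⟩ * ⟨_, hmem i⟩ := by
      apply e.injective
      rw [map_mul, map_mul, ha, hb, DihedralGroup.r_mul_r, DihedralGroup.r_mul_r, add_comm]
    simpa using congrArg Subtype.val this
  · -- Borel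
    apply hcontra
    have hCP : Cfsg.Agent.Lib.Helper98.DicksonMax.CommPow (Fintype.card F) H :=
      Cfsg.Agent.Lib.Helper98.DicksonMax.CommPow.of_injective
        ((Subgroup.inclusion hK').comp e.toMonoidHom)
        ((Subgroup.inclusion_injective hK').comp e.injective)
        (Cfsg.Agent.Lib.Helper98.DicksonMax.commPow_normalizer_sylow p P')
    intro i j
    have h3 := hCP ⟨_, hmem i⟩ ⟨_, hmem j⟩
    obtain ⟨m, hm, hgm⟩ := hpH _ (⁅(⟨_, hmem i⟩ : H), (⟨_, hmem j⟩ : H)⁆).2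
    have h4 : (⁅(⟨_, hmem i⟩ : H), (⟨_, hmem j⟩ : H)⁆) ^ m = 1 := by
      apply Subtype.ext; simpa using hgm
    have h5 := pow_gcd_eq_one.mpr ⟨h3, h4⟩
    have hcop : Nat.Coprime (Fintype.card F) m := by
      rw [hF]
      exact Nat.Coprime.pow_left 2 ((Nat.Prime.coprime_iff_not_dvd hpp).mpr hm)
    rw [hcop, pow_one, commutatorElement_eq_one_iff_mul_comm] at h5
    simpa using congrArg Subtype.val h5
  · -- A4
    apply hsmall e
    intro g
    rcases perm4_pow (g : Equiv.Perm (Fin 4)) with h | h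
    · exact ⟨3, by norm_num, by norm_num, Subtype.ext (by simpa using h)⟩
    · exact ⟨4, by norm_num, by norm_num, Subtype.ext (by simpa using h)⟩
  · -- S4
    apply hsmall e
    intro g
    rcases perm4_pow g with h | h
    · exact ⟨3, by norm_num, by norm_num, h⟩
    · exact ⟨4, by norm_num, by norm_num, h⟩
  · -- A5
    apply hsmall e
    intro g
    rcases alt5_pow (g : Equiv.Perm (Fin 5)) (Equiv.Perm.mem_alternatingGroup.mp g.2) with
      h | h | h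
    · exact ⟨2, by norm_num, by norm_num, Subtype.ext (by simpa using h)⟩
    · exact ⟨3, by norm_num, by norm_num, Subtype.ext (by simpa using h)⟩
    · exact ⟨5, by norm_num, by norm_num, Subtype.ext (by simpa using h)⟩
  · -- subfield type
    have hdvd := Cfsg.Agent.Lib.Helper48.HallPSL2.dvd_card_subfield (F := F) p K' m
      (hcard.trans hF.symm)
    have hpH' : p ∣ Nat.card H := by
      rcases hiso with ⟨⟨e⟩⟩ | ⟨⟨e⟩⟩
      · rw [Nat.card_congr e.toEquiv]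
        rcases (Nat.Prime.dvd_mul hpp).mp hdvd.1 with h | h
        · exact h
        · exfalso
          have := Nat.le_of_dvd (by norm_num) h
          omega
      · rw [Nat.card_congr e.toEquiv]
        exact hdvd.2
    obtain ⟨g, hg⟩ := exists_prime_orderOf_dvd_card' p hpH'
    obtain ⟨m', hm', hgm⟩ := hpH _ g.2
    have h4 : g ^ m' = 1 := by
      apply Subtype.ext; simpa using hgm
    apply hm'
    rw [← hg]
    exact orderOf_dvd_of_pow_eq_one h4

end main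

end Cfsg.Agent.Lib.Helper71.GL2Dickson
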