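import Mathlib
import Cfsg.Agent.Lib.Helper71.GL2Dickson

set_option autoImplicit false

/-!
A sharper form of `GL2Dickson.no_three_flags`: a `p'`-subgroup of `GL₂(p)` containing, for a family
of pairwise distinct lines, elements with eigenvalue `t⁻¹` on the line and `t²` on the quotient
(`t` a primitive root), forces `p - 1 ∣ 12` and at most six lines (unless `p - 1` divides one of
`3, 6, 9, 15`).
-/

namespace Cfsg.Agent.Lib.Helper71.GL2Dickson

open Matrix Cfsg.Agent.Lib.Helper71.GL2Lin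
open scoped commutatorElement

variable {p : ℕ} [Fact p.Prime] {F : Type*} [Field F] [Algebra (ZMod p) F]

local notation "SL2" => Matrix.SpecialLinearGroup (Fin 2) F
local notation "PSL2" => Matrix.ProjectiveSpecialLinearGroup (Fin 2) F

lemma bc_smul (c : ZMod p) (X : Matrix (Fin 2) (Fin 2) (ZMod p)) :
    (bc (c • X) : Matrix (Fin 2) (Fin 2) F) = algebraMap (ZMod p) F c • bc X := by
  ext i j
  simp [bc_apply]

/-- equal images in `PSL₂` means proportional over the prime field -/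
lemma smul_of_mk_eq {y₁ y₂ : SL2} {c₁ c₂ : F} {X₁ X₂ : Matrix (Fin 2) (Fin 2) (ZMod p)}
    (h₁ : y₁.1 = c₁ • bc X₁) (h₂ : y₂.1 = c₂ • bc X₂)
    (h : (QuotientGroup.mk y₁ : PSL2) = QuotientGroup.mk y₂) :
    ∃ c : ZMod p, X₁ = c • X₂ := by
  have hc₁ : c₁ ≠ 0 := scalar_ne_zero h₁
  have hc₂ : c₂ ≠ 0 := scalar_ne_zero h₂
  rw [Cfsg.Agent.Lib.Helper98.DicksonMax.mk_eq_iff] at h
  obtain ⟨μ, hμ⟩ : ∃ μ : F, (bc X₁ : Matrix (Fin 2) (Fin 2) F) = μ • bc X₂ := by
    rcases h with h | h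
    · refine ⟨c₁⁻¹ * c₂, ?_⟩
      have := congrArg Subtype.val h
      rw [h₁, h₂] at this
      rw [← smul_smul, ← this, smul_smul, inv_mul_cancel₀ hc₁, one_smul]
    · refine ⟨-(c₁⁻¹ * c₂), ?_⟩
      have := congrArg Subtype.val h
      rw [Matrix.SpecialLinearGroup.coe_neg, h₁, h₂] at this
      rw [neg_smul, ← smul_smul, ← smul_neg, ← this, smul_smul, inv_mul_cancel₀ hc₁, one_smul]
  have hX₂ : X₂ ≠ 0 := by
    rintro rfl
    have := y₂.2
    rw [h₂, map_zero, smul_zero, det_zero] at this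
    exact zero_ne_one this
  obtain ⟨a, b, hab⟩ : ∃ a b, X₂ a b ≠ 0 := by
    by_contra hall
    push Not at hall
    apply hX₂
    ext a b
    exact hall a b
  refine ⟨X₁ a b / X₂ a b, ?_⟩
  apply bc_injective (p := p) (F := F)
  rw [bc_smul, hμ]
  congr 1
  have h3 := congrFun (congrFun hμ a) b
  rw [Matrix.smul_apply, bc_apply, bc_apply, smul_eq_mul] at h3
  have hne : algebraMap (ZMod p) F (X₂ a b) ≠ 0 := by
    rw [Ne, map_eq_zero]; exact hab
  rw [map_div₀, h3, mul_div_assoc, div_self hne, mul_one]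

set_option maxRecDepth 100000 in
lemma alt4_pow : ∀ g : Equiv.Perm (Fin 4), Equiv.Perm.sign g = 1 → g ^ 2 = 1 ∨ g ^ 3 = 1 := by
  decide

set_option maxRecDepth 100000 in
lemma perm4_count :
    (Finset.univ.filter (fun g : Equiv.Perm (Fin 4) => g ^ 2 ≠ 1 ∧ g ^ 3 ≠ 1)).card = 6 := by
  decide

section main

variable [Fintype F] [CharP F p]

theorem flags_bound (hF : Fintype.card F = p ^ 2)
    (hsq : ∀ d : ZMod p, d ≠ 0 → IsSquare (algebraMap (ZMod p) F d))
    (hp2 : p ≠ 2)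
    (hp3 : ¬ (p - 1) ∣ 3) (hp6 : ¬ (p - 1) ∣ 6) (hp9 : ¬ (p - 1) ∣ 9) (hp15 : ¬ (p - 1) ∣ 15)
    (K : Subgroup (GL (Fin 2) (ZMod p))) (hK : ∀ M ∈ K, ∃ m : ℕ, ¬ p ∣ m ∧ M ^ m = 1)
    (s s' : ℕ) (hss : (s : ZMod p) * (s' : ZMod p) = 1)
    (hprim : ∀ k : ℕ, (s : ZMod p) ^ k = 1 → (p - 1) ∣ k)
    {ι : Type} [Fintype ι] (i₀ i₁ i₂ : ι) (h01 : i₀ ≠ i₁) (h02 : i₀ ≠ i₂) (h12 : i₁ ≠ i₂)
    (x : ι → GL (Fin 2) (ZMod p)) (hx : ∀ i, x i ∈ K)
    (v : ι → Fin 2 → ZMod p) (hv : ∀ i j, i ≠ j → dt (v i) (v j) ≠ 0)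
    (hflag : ∀ i, Flag ((x i : GL (Fin 2) (ZMod p)) : Matrix (Fin 2) (Fin 2) (ZMod p)) (v i)
      (s' : ZMod p) ((s : ZMod p) ^ 2)) :
    (p - 1) ∣ 12 ∧ Fintype.card ι ≤ 6 := by
  classical
  have hpp : p.Prime := Fact.out
  have hs0 : (s : ZMod p) ≠ 0 := left_ne_zero_of_mul_eq_one hss
  have hs'0 : (s' : ZMod p) ≠ 0 := right_ne_zero_of_mul_eq_one hss
  have hαβ : (s' : ZMod p) ≠ (s : ZMod p) ^ 2 := by
    intro h
    apply hp3
    apply hprim
    calc (s : ZMod p) ^ 3 = s * (s : ZMod p) ^ 2 := by ring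
      _ = 1 := by rw [← h, hss]
  have hαβ' : -(s' : ZMod p) ≠ (s : ZMod p) ^ 2 := by
    intro h
    apply hp6
    apply hprim
    calc (s : ZMod p) ^ 6 = (s * (s : ZMod p) ^ 2) ^ 2 := by ring
      _ = 1 := by rw [← h, mul_neg, hss]; norm_num
  have h2 : (2 : ZMod p) ≠ 0 := by
    intro h
    have h3 : ((2 : ℕ) : ZMod p) = 0 := by exact_mod_cast h
    rw [ZMod.natCast_eq_zero_iff] at h3
    exact hp2 ((Nat.prime_dvd_prime_iff_eq hpp Nat.prime_two).mp h3)
  have hlift := fun i => exists_lift (F := F) hsq (x i)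
  choose y c hy using hlift
  -- another index
  have hother : ∀ i : ι, ∃ j : ι, i ≠ j := by
    intro i
    by_cases h : i = i₀
    · exact ⟨i₁, h ▸ h01⟩
    · exact ⟨i₀, h⟩
  have hno : ∀ i k, (QuotientGroup.mk (y i) : PSL2) ^ k = 1 → (p - 1) ∣ 3 * k := by
    intro i k hk
    obtain ⟨μ, hμ⟩ := scalar_of_pow (hy i) k hk
    have hf := (hflag i).pow k
    obtain ⟨j, hne⟩ := hother i
    have h3 := hf.eq_of_scalar hμ (hv i j hne)
    apply hprim
    calc (s : ZMod p) ^ (3 * k) = (s : ZMod p) ^ k * ((s : ZMod p) ^ 2) ^ k := by ring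
      _ = ((s : ZMod p) * (s' : ZMod p)) ^ k := by rw [← h3, mul_pow]
      _ = 1 := by rw [hss, one_pow]
  have hcontra : (∀ i j, (QuotientGroup.mk (y i) : PSL2) * QuotientGroup.mk (y j) =
      QuotientGroup.mk (y j) * QuotientGroup.mk (y i)) → False := by
    intro hc
    rcases comm_of_mk_comm (hy i₀) (hy i₁) (hc i₀ i₁) with c01 | c01
    · rcases comm_of_mk_comm (hy i₀) (hy i₂) (hc i₀ i₂) with c02 | c02
      · exact no_commuting hαβ (hflag i₀) (hflag i₁) (hflag i₂) (hv _ _ h01)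
          (hv _ _ h02) (hv _ _ h12) c01 c02
      · exact no_anticommuting h2 hs'0 (pow_ne_zero _ hs0) hαβ' (hflag i₀) (hflag i₂)
          (hv _ _ h02) c02
    · exact no_anticommuting h2 hs'0 (pow_ne_zero _ hs0) hαβ' (hflag i₀) (hflag i₁)
        (hv _ _ h01) c01
  -- injectivity of the projective images
  have hinj : ∀ i j, (QuotientGroup.mk (y i) : PSL2) = QuotientGroup.mk (y j) → i = j := by
    intro i j hij
    by_contra hne
    obtain ⟨l, hl⟩ := smul_of_mk_eq (hy i) (hy j) hij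
    obtain ⟨l', hl'⟩ := smul_of_mk_eq (hy j) (hy i) hij.symm
    have e1 : ((x i : GL (Fin 2) (ZMod p)) : Matrix (Fin 2) (Fin 2) (ZMod p)) *ᵥ v j =
        (l * (s' : ZMod p)) • v j := by
      rw [hl, smul_mulVec, (hflag j).1, smul_smul]
    have e2 : ((x j : GL (Fin 2) (ZMod p)) : Matrix (Fin 2) (Fin 2) (ZMod p)) *ᵥ v i =
        (l' * (s' : ZMod p)) • v i := by
      rw [hl', smul_mulVec, (hflag i).1, smul_smul]
    have e3 := (hflag i).eigen_of_dt (hv i j hne) (by rw [e1, dt_smul, dt_self, mul_zero])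
    have e4 := (hflag j).eigen_of_dt (hv j i (Ne.symm hne)) (by rw [e2, dt_smul, dt_self, mul_zero])
    rw [e1] at e3
    rw [e2] at e4
    have hvj : v j ≠ 0 := ne_zero_of_dt_right (hv i j hne)
    have hvi : v i ≠ 0 := ne_zero_of_dt_left (hv i j hne)
    have e5 : l * (s' : ZMod p) = (s : ZMod p) ^ 2 := by
      by_contra hcon
      have : (l * (s' : ZMod p) - (s : ZMod p) ^ 2) • v j = 0 := by rw [sub_smul, e3, sub_self]
      rcases smul_eq_zero.mp this with h5 | h5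
      · exact hcon (sub_eq_zero.mp h5)
      · exact hvj h5
    have e6 : l' * (s' : ZMod p) = (s : ZMod p) ^ 2 := by
      by_contra hcon
      have : (l' * (s' : ZMod p) - (s : ZMod p) ^ 2) • v i = 0 := by rw [sub_smul, e4, sub_self]
      rcases smul_eq_zero.mp this with h5 | h5
      · exact hcon (sub_eq_zero.mp h5)
      · exact hvi h5
    -- `l * l' = 1`
    have e7 : l * l' = 1 := by
      have hXi : ((x i : GL (Fin 2) (ZMod p)) : Matrix (Fin 2) (Fin 2) (ZMod p)) ≠ 0 := by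
        intro h0
        have := (x i).isUnit
        rw [h0] at this
        exact not_isUnit_zero this
      have h7 : ((x i : GL (Fin 2) (ZMod p)) : Matrix (Fin 2) (Fin 2) (ZMod p)) =
          (l * l') • ((x i : GL (Fin 2) (ZMod p)) : Matrix (Fin 2) (Fin 2) (ZMod p)) := by
        conv_lhs => rw [hl, hl', smul_smul]
      by_contra hcon
      apply hXi
      have h8 : (1 - l * l') • ((x i : GL (Fin 2) (ZMod p)) : Matrix (Fin 2) (Fin 2) (ZMod p)) = 0 := by
        rw [sub_smul, one_smul, ← h7, sub_self]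
      rcases smul_eq_zero.mp h8 with h9 | h9
      · exact absurd (sub_eq_zero.mp h9).symm hcon
      · exact h9
    -- hence `(s^2)^2 = s'^2`
    have e8 : ((s : ZMod p) ^ 2) ^ 2 = (s' : ZMod p) ^ 2 := by
      calc ((s : ZMod p) ^ 2) ^ 2 = (l * (s' : ZMod p)) * (l' * (s' : ZMod p)) := by
            rw [e5, e6]; ring
        _ = (l * l') * (s' : ZMod p) ^ 2 := by ring
        _ = (s' : ZMod p) ^ 2 := by rw [e7, one_mul]
    apply hp6
    apply hprim
    calc (s : ZMod p) ^ 6 = ((s : ZMod p) ^ 2) ^ 2 * (s : ZMod p) ^ 2 := by ring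
      _ = ((s : ZMod p) * (s' : ZMod p)) ^ 2 := by rw [e8]; ring
      _ = 1 := by rw [hss, one_pow]
  set H : Subgroup PSL2 := (liftSL (F := F) K).map (QuotientGroup.mk' (Subgroup.center SL2))
    with hH
  have hmem : ∀ i, (QuotientGroup.mk (y i) : PSL2) ∈ H :=
    fun i => ⟨y i, ⟨x i, hx i, c i, hy i⟩, rfl⟩
  have hpH : ∀ g : PSL2, g ∈ H → ∃ m : ℕ, ¬ p ∣ m ∧ g ^ m = 1 := pprime_of_mem K hK
  -- transport of small powers
  have hpow : ∀ {X : Type} [Group X] (e : H ≃* X) (i : ι) (k : ℕ), (e ⟨_, hmem i⟩) ^ k = 1 →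
      (p - 1) ∣ 3 * k := by
    intro X _ e i k hk
    rw [← map_pow, MulEquiv.map_eq_one_iff] at hk
    exact hno i k (by simpa using congrArg Subtype.val hk)
  rcases Cfsg.Agent.S0799.result hF p H with
    ⟨k, -, ⟨hcyc, -⟩ | ⟨⟨e⟩⟩⟩ | ⟨P', K', hK', ⟨e⟩⟩ | ⟨⟨e⟩⟩ | ⟨⟨e⟩⟩ | ⟨⟨e⟩⟩ |
      ⟨K', _, _, m, hcard, hiso⟩
  · -- cyclic
    exfalso
    apply hcontra
    intro i j
    obtain ⟨g, hg⟩ := IsCyclic.exists_generator (α := H)
    obtain ⟨a, ha⟩ := Subgroup.mem_zpowers_iff.mp (hg ⟨_, hmem i⟩)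
    obtain ⟨b, hb⟩ := Subgroup.mem_zpowers_iff.mp (hg ⟨_, hmem j⟩)
    have : (⟨_, hmem i⟩ : H) * ⟨_, hmem j⟩ = ⟨_, hmem j⟩ * ⟨_, hmem i⟩ := by
      rw [← ha, ← hb, ← _root_.zpow_add, ← _root_.zpow_add, add_comm]
    simpa using congrArg Subtype.val this
  · -- dihedral
    exfalso
    apply hcontra
    have hr : ∀ i, ∃ a, e ⟨_, hmem i⟩ = DihedralGroup.r a := by
      intro i
      rcases hcase : e ⟨_, hmem i⟩ with a | a
      · exact ⟨a, rfl⟩
      · exfalso
        have h3 : (e ⟨_, hmem i⟩) ^ 2 = 1 := by rw [hcase, pow_two, DihedralGroup.sr_mul_self]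
        exact hp6 (hpow e i 2 h3)
    intro i j
    obtain ⟨a, ha⟩ := hr i
    obtain ⟨b, hb⟩ := hr j
    have : (⟨_, hmem i⟩ : H) * ⟨_, hmem j⟩ = ⟨_, hmem j⟩ * ⟨_, hmem i⟩ := by
      apply e.injective
      rw [map_mul, map_mul, ha, hb, DihedralGroup.r_mul_r, DihedralGroup.r_mul_r, add_comm]
    simpa using congrArg Subtype.val this
  · -- Borel
    exfalso
    apply hcontra
    have hCP : Cfsg.Agent.Lib.Helper98.DicksonMax.CommPow (Fintype.card F) H :=
      Cfsg.Agent.Lib.Helper98.DicksonMax.CommPow.of_injective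
        ((Subgroup.inclusion hK').comp e.toMonoidHom)
        ((Subgroup.inclusion_injective hK').comp e.injective)
        (Cfsg.Agent.Lib.Helper98.DicksonMax.commPow_normalizer_sylow p P')
    intro i j
    have h3 := hCP ⟨_, hmem i⟩ ⟨_, hmem j⟩
    obtain ⟨m, hm, hgm⟩ := hpH _ (⁅(⟨_, hmem i⟩ : H), (⟨_, hmem j⟩ : H)⁆).2
    have h4 : (⁅(⟨_, hmem i⟩ : H), (⟨_, hmem j⟩ : H)⁆) ^ m = 1 := by
      apply Subtype.ext; simpa using hgm
    have h5 := pow_gcd_eq_one.mpr ⟨h3, h4⟩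
    have hcop : Nat.Coprime (Fintype.card F) m := by
      rw [hF]
      exact Nat.Coprime.pow_left 2 ((Nat.Prime.coprime_iff_not_dvd hpp).mpr hm)
    rw [hcop, pow_one, commutatorElement_eq_one_iff_mul_comm] at h5
    simpa using congrArg Subtype.val h5
  · -- A4
    exfalso
    rcases alt4_pow ((e ⟨_, hmem i₀⟩ : alternatingGroup (Fin 4)) : Equiv.Perm (Fin 4))
      (Equiv.Perm.mem_alternatingGroup.mp (e ⟨_, hmem i₀⟩).2) with h | h
    · exact hp6 (hpow e i₀ 2 (Subtype.ext (by simpa using h)))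
    · exact hp9 (hpow e i₀ 3 (Subtype.ext (by simpa using h)))
  · -- S4
    have h4 : ∀ i, (e ⟨_, hmem i⟩) ^ 2 ≠ 1 ∧ (e ⟨_, hmem i⟩) ^ 3 ≠ 1 :=
      fun i => ⟨fun h => hp6 (hpow e i 2 h), fun h => hp9 (hpow e i 3 h)⟩
    refine ⟨?_, ?_⟩
    · rcases perm4_pow (e ⟨_, hmem i₀⟩) with h | h
      · exact absurd h (h4 i₀).2
      · exact hpow e i₀ 4 h
    · rw [← perm4_count, ← Finset.card_univ]
      apply Finset.card_le_card_of_injOn (fun i => e ⟨_, hmem i⟩)
      · intro i _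
        rw [Finset.mem_coe, Finset.mem_filter]
        exact ⟨Finset.mem_univ _, h4 i⟩
      · intro i _ j _ hij
        have h5 := e.injective hij
        exact hinj i j (by simpa using congrArg Subtype.val h5)
  · -- A5
    exfalso
    rcases alt5_pow ((e ⟨_, hmem i₀⟩ : alternatingGroup (Fin 5)) : Equiv.Perm (Fin 5))
      (Equiv.Perm.mem_alternatingGroup.mp (e ⟨_, hmem i₀⟩).2) with h | h | h
    · exact hp6 (hpow e i₀ 2 (Subtype.ext (by simpa using h)))
    · exact hp9 (hpow e i₀ 3 (Subtype.ext (by simpa using h)))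
    · exact hp15 (hpow e i₀ 5 (Subtype.ext (by simpa using h)))
  · -- subfield type
    exfalso
    have hdvd := Cfsg.Agent.Lib.Helper48.HallPSL2.dvd_card_subfield (F := F) p K' m
      (hcard.trans hF.symm)
    have hpH' : p ∣ Nat.card H := by
      rcases hiso with ⟨⟨e⟩⟩ | ⟨⟨e⟩⟩
      · rw [Nat.card_congr e.toEquiv]
        rcases (Nat.Prime.dvd_mul hpp).mp hdvd.1 with h | h
        · exact h
        · exact absurd ((Nat.prime_dvd_prime_iff_eq hpp Nat.prime_two).mp h) hp2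
      · rw [Nat.card_congr e.toEquiv]
        exact hdvd.2
    obtain ⟨g, hg⟩ := exists_prime_orderOf_dvd_card' p hpH'
    obtain ⟨m', hm', hgm⟩ := hpH _ g.2
    have h4 : g ^ m' = 1 := by
      apply Subtype.ext; simpa using hgm
    apply hm'
    rw [← hg]
    exact orderOf_dvd_of_pow_eq_one h4

end main

end Cfsg.Agent.Lib.Helper71.GL2Dickson
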