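import Mathlib
import Cfsg.Prelude.Def_Solvable

set_option autoImplicit false

/-! # K-GAG leaf G07c (S4839): Frattini argument for an involution inverting `N` -/

namespace Cfsg.Agent.Lib.Helper71.Gag

variable {G : Type*} [Group G] [Finite G]

/-- G07c (MEDIUM-HARD): Frattini for the central involution of `G/N`: `G = N C_G(t)`, `C_N(t) = 1`. -/
theorem frattini_involution {p : ℕ} [Fact p.Prime] (hp2 : p ≠ 2) (N : Subgroup G) [N.Normal]
    (hNp : IsPGroup p N) (hcent : Subgroup.centralizer (N : Set G) ≤ N)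
    (t : G) (ht : t * t = 1) (ht1 : t ≠ 1)
    (hall : ∀ s : G, s * s = 1 → s ≠ 1 → ∀ n ∈ N, s * n * s⁻¹ = n⁻¹) :
    Subgroup.centralizer ({t} : Set G) ⊓ N = ⊥ ∧
      ∀ g : G, ∃ n ∈ N, ∃ l ∈ Subgroup.centralizer ({t} : Set G), g = n * l := by
  have hp : p.Prime := Fact.out
  have hpodd : Odd p := hp.odd_of_ne_two hp2
  have htinv : t⁻¹ = t := inv_eq_of_mul_eq_one_right ht
  -- odd order of elements of N
  have hodd : ∀ m ∈ N, Odd (orderOf m) := by
    intro m hm
    obtain ⟨k, hk⟩ := (IsPGroup.iff_orderOf.mp hNp) ⟨m, hm⟩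
    rw [Subgroup.orderOf_mk] at hk
    rw [hk]
    exact hpodd.pow
  have hsq1 : ∀ m ∈ N, m * m = 1 → m = 1 := by
    intro m hm hmm
    have h2 : orderOf m ∣ 2 := orderOf_dvd_of_pow_eq_one (by rw [pow_two, hmm])
    have ho := hodd m hm
    rcases (Nat.dvd_prime Nat.prime_two).mp h2 with h | h
    · exact orderOf_eq_one_iff.mp h
    · rw [h] at ho
      exact absurd ho (by decide)
  constructor
  · rw [Subgroup.eq_bot_iff_forall]
    intro n hn
    obtain ⟨hnc, hnN⟩ := Subgroup.mem_inf.mp hn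
    have hcomm : t * n = n * t := Subgroup.mem_centralizer_iff.mp hnc t (Set.mem_singleton t)
    have h1 : t * n * t⁻¹ = n⁻¹ := hall t ht ht1 n hnN
    have h2 : t * n * t⁻¹ = n := by rw [hcomm, mul_assoc, mul_inv_cancel, mul_one]
    apply hsq1 n hnN
    have h3 : n = n⁻¹ := h2.symm.trans h1
    calc n * n = n * n⁻¹ := by rw [← h3]
      _ = 1 := mul_inv_cancel n
  · intro g
    set s : G := g * t * g⁻¹ with hs
    have hss : s * s = 1 := by
      rw [hs]
      calc g * t * g⁻¹ * (g * t * g⁻¹) = g * (t * t) * g⁻¹ := by group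
        _ = 1 := by rw [ht, mul_one, mul_inv_cancel]
    have hs1 : s ≠ 1 := by
      intro h
      apply ht1
      have : t = g⁻¹ * s * g := by rw [hs]; group
      rw [this, h, mul_one, inv_mul_cancel]
    -- m = s * t centralizes N
    set m : G := s * t with hm
    have hmc : m ∈ Subgroup.centralizer (N : Set G) := by
      rw [Subgroup.mem_centralizer_iff]
      intro n hn
      have h1 : t * n * t⁻¹ = n⁻¹ := hall t ht ht1 n hn
      have h2 : s * n⁻¹ * s⁻¹ = n := by
        have := hall s hss hs1 n⁻¹ (inv_mem hn)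
        rwa [inv_inv] at this
      have h3 : m * n * m⁻¹ = n := by
        calc m * n * m⁻¹ = s * (t * n * t⁻¹) * s⁻¹ := by rw [hm]; group
          _ = n := by rw [h1, h2]
      calc n * m = m * n * m⁻¹ * m := by rw [h3]
        _ = m * n := by group
    have hmN : m ∈ N := hcent hmc
    -- square root of m in N
    obtain ⟨j, hj⟩ := hodd m hmN
    set n : G := m ^ (j + 1) with hn
    have hnN : n ∈ N := pow_mem hmN _
    have hnn : n * n = m := by
      rw [hn, ← pow_add]
      have : j + 1 + (j + 1) = orderOf m + 1 := by omega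
      rw [this, pow_succ, pow_orderOf_eq_one, one_mul]
    have htn : t * n⁻¹ * t⁻¹ = n := by
      have := hall t ht ht1 n⁻¹ (inv_mem hnN)
      rwa [inv_inv] at this
    have hconj : n * t * n⁻¹ = s := by
      calc n * t * n⁻¹ = n * (t * n⁻¹ * t⁻¹) * t := by group
        _ = n * n * t := by rw [htn]
        _ = m * t := by rw [hnn]
        _ = s := by rw [hm, mul_assoc, ht, mul_one]
    refine ⟨n, hnN, n⁻¹ * g, ?_, by group⟩
    rw [Subgroup.mem_centralizer_iff]
    intro x hx
    rw [Set.mem_singleton_iff] at hx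
    subst hx
    -- x * (n⁻¹ g) = (n⁻¹ g) * x  where  g x g⁻¹ = n x n⁻¹
    have h4 : g * x * g⁻¹ = n * x * n⁻¹ := by rw [hconj]
    calc x * (n⁻¹ * g) = n⁻¹ * (n * x * n⁻¹) * g := by group
      _ = n⁻¹ * (g * x * g⁻¹) * g := by rw [h4]
      _ = n⁻¹ * g * x := by group

end Cfsg.Agent.Lib.Helper71.Gag
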