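import Mathlib

set_option autoImplicit false

namespace Cfsg.Agent.Lib.Helper71.GaloisSq

/-- every nonzero element of the prime field is a square in the field of order `p²` -/
theorem isSquare_galois {p : ℕ} [Fact p.Prime] (hp : p ≠ 2) (d : ZMod p) (hd : d ≠ 0) :
    IsSquare (algebraMap (ZMod p) (GaloisField p 2) d) := by
  classical
  have hpp : p.Prime := Fact.out
  let _ : Fintype (GaloisField p 2) := Fintype.ofFinite _
  have hF : Fintype.card (GaloisField p 2) = p ^ 2 := by
    rw [← Nat.card_eq_fintype_card, GaloisField.card p 2 (by norm_num)]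
  have hchar : ringChar (GaloisField p 2) ≠ 2 := by
    rw [ringChar.eq (GaloisField p 2) p]; exact hp
  have hne : algebraMap (ZMod p) (GaloisField p 2) d ≠ 0 := by
    rw [Ne, map_eq_zero]; exact hd
  rw [FiniteField.isSquare_iff hchar hne, hF]
  obtain ⟨k, hk⟩ := hpp.eq_two_or_odd'.resolve_left hp
  have h1 : p ^ 2 / 2 = (p - 1) * (k + 1) := by
    rw [hk]
    have : (2 * k + 1) ^ 2 = 2 * (2 * k * (k + 1)) + 1 := by ring
    rw [this]
    have h2 : 2 * k + 1 - 1 = 2 * k := by omega
    rw [h2]
    omega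
  rw [h1, pow_mul, ← map_pow, ZMod.pow_card_sub_one_eq_one hd, map_one, one_pow]

end Cfsg.Agent.Lib.Helper71.GaloisSq
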