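import Mathlib

set_option autoImplicit false

/-! # A graph in which among any three vertices two are joined by a walk has at most two
connected components (shell for S4811-type statements) -/

namespace Cfsg.Agent.Lib.Helper71.GraphTwo

/-- If among any three vertices two are reachable from one another, the graph has at most two
connected components (`Nat.card`, so an infinite quotient counts as `0`). -/
theorem card_connectedComponent_le_two {V : Type*} (Γ : SimpleGraph V)
    (h : ∀ a b c : V, Γ.Reachable a b ∨ Γ.Reachable a c ∨ Γ.Reachable b c) :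
    Nat.card Γ.ConnectedComponent ≤ 2 := by
  by_contra hcon
  push Not at hcon
  have hfin : Finite Γ.ConnectedComponent := by
    apply Nat.finite_of_card_ne_zero
    omega
  have : Fintype Γ.ConnectedComponent := Fintype.ofFinite _
  rw [Nat.card_eq_fintype_card] at hcon
  obtain ⟨c1, c2, c3, h12, h13, h23⟩ := Fintype.two_lt_card_iff.mp hcon
  obtain ⟨a, rfl⟩ := c1.exists_rep
  obtain ⟨b, rfl⟩ := c2.exists_rep
  obtain ⟨c, rfl⟩ := c3.exists_rep
  rcases h a b c with hr | hr | hr
  · exact h12 (SimpleGraph.ConnectedComponent.sound hr)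
  · exact h13 (SimpleGraph.ConnectedComponent.sound hr)
  · exact h23 (SimpleGraph.ConnectedComponent.sound hr)

/-- Two-class version: every vertex lies in `A` or in `B`, any two vertices of `A` are reachable from
one another, and likewise for `B`. -/
theorem card_connectedComponent_le_two_of_cover {V : Type*} (Γ : SimpleGraph V) (A B : Set V)
    (hcov : ∀ v : V, v ∈ A ∨ v ∈ B)
    (hA : ∀ a ∈ A, ∀ b ∈ A, Γ.Reachable a b) (hB : ∀ a ∈ B, ∀ b ∈ B, Γ.Reachable a b) :
    Nat.card Γ.ConnectedComponent ≤ 2 := by
  apply card_connectedComponent_le_two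
  intro a b c
  rcases hcov a with ha | ha <;> rcases hcov b with hb | hb <;> rcases hcov c with hc | hc
  · exact Or.inl (hA a ha b hb)
  · exact Or.inl (hA a ha b hb)
  · exact Or.inr (Or.inl (hA a ha c hc))
  · exact Or.inr (Or.inr (hB b hb c hc))
  · exact Or.inr (Or.inr (hA b hb c hc))
  · exact Or.inr (Or.inl (hB a ha c hc))
  · exact Or.inl (hB a ha b hb)
  · exact Or.inl (hB a ha b hb)

end Cfsg.Agent.Lib.Helper71.GraphTwo
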