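import Mathlib
import Cfsg.Prelude.Def_Blocks
import Cfsg.Agent.Lib.Helper70.IPDefs

set_option autoImplicit false

/-! # K-IP case A leaf BETW (S4463): a subgroup of index `r` between `K` and `N` -/

namespace Cfsg.Agent.Lib.Helper71.IPA

open Cfsg Cfsg.Agent.Lib.Helper70.IP

universe u

theorem exists_between_index {G : Type u} [Group G] [Finite G] (K N : Subgroup G) [K.Normal] (hKN : K ≤ N)
    {r : ℕ} (hr : r.Prime) (hidx : ∃ a : ℕ, 0 < a ∧ K.relIndex N = r ^ a) :
    ∃ H : Subgroup G, K ≤ H ∧ H ≤ N ∧ H.relIndex N = r := by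
  obtain ⟨a, ha, hidx⟩ := hidx
  haveI : Fact r.Prime := ⟨hr⟩
  haveI : (K.subgroupOf N).Normal := Subgroup.normal_subgroupOf
  have hQ : Nat.card (↥N ⧸ K.subgroupOf N) = r ^ a := by
    rw [← Subgroup.index_eq_card]; exact hidx
  obtain ⟨M, hM⟩ := Sylow.exists_subgroup_card_pow_prime (G := ↥N ⧸ K.subgroupOf N) r
    (n := a - 1) (by rw [hQ]; exact pow_dvd_pow r (Nat.sub_le a 1))
  have hMidx : M.index = r := by
    have h1 := M.index_mul_card
    rw [hM, hQ] at h1
    have h2 : r ^ a = r * r ^ (a - 1) := by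
      conv_lhs => rw [show a = (a - 1) + 1 by omega]
      rw [pow_succ, mul_comm]
    rw [h2] at h1
    exact Nat.eq_of_mul_eq_mul_right (pow_pos hr.pos _) h1
  set H' : Subgroup ↥N := M.comap (QuotientGroup.mk' (K.subgroupOf N)) with hH'
  have hH'idx : H'.index = r := by
    rw [hH', Subgroup.index_comap_of_surjective _ (QuotientGroup.mk'_surjective _)]
    exact hMidx
  have hKH' : K.subgroupOf N ≤ H' := by
    intro x hx
    rw [hH', Subgroup.mem_comap]
    have : (QuotientGroup.mk' (K.subgroupOf N)) x = 1 := by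
      rw [QuotientGroup.mk'_apply, QuotientGroup.eq_one_iff]; exact hx
    rw [this]; exact M.one_mem
  refine ⟨H'.map N.subtype, ?_, Subgroup.map_subtype_le _, ?_⟩
  · intro k hk
    exact ⟨⟨k, hKN hk⟩, hKH' (Subgroup.mem_subgroupOf.mpr hk), rfl⟩
  · have h1 : (H'.map N.subtype).subgroupOf N = H' :=
      Subgroup.comap_map_eq_self_of_injective (Subgroup.subtype_injective N) H'
    unfold Subgroup.relIndex
    rw [h1]
    exact hH'idx

end Cfsg.Agent.Lib.Helper71.IPA
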