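import Mathlib

set_option autoImplicit false

namespace Cfsg.Agent.Lib.Helper71

/-- An element `t` with `t * t = 1` normalizing a nontrivial `p`-subgroup `S` of a finite group
centralizes or inverts some element of order `p` of `S`. -/
theorem exists_fixed_or_inverted {T : Type*} [Group T] [Finite T] (p : ℕ) [Fact p.Prime]
    (S : Subgroup T) (hS : IsPGroup p S) (hne : S ≠ ⊥) (t : T) (ht : t * t = 1)
    (hnorm : ∀ s ∈ S, t * s * t⁻¹ ∈ S) :
    ∃ z ∈ S, z ≠ 1 ∧ z ^ p = 1 ∧ (t * z * t⁻¹ = z ∨ t * z * t⁻¹ = z⁻¹) := by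
  have hnt : Nontrivial S := (Subgroup.nontrivial_iff_ne_bot S).mpr hne
  have hc : Nontrivial (Subgroup.center S) := hS.center_nontrivial
  have hcp : IsPGroup p (Subgroup.center S) := hS.to_subgroup _
  obtain ⟨n, hn, hcard⟩ := hcp.nontrivial_iff_card.mp hc
  have hdvd : p ∣ Nat.card (Subgroup.center S) := by
    rw [hcard]; exact dvd_pow_self p hn.ne'
  obtain ⟨c', hc'⟩ := exists_prime_orderOf_dvd_card' p hdvd
  set c : T := ((c' : S) : T) with hcdef
  have hcS : c ∈ S := (c' : S).2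
  have hcord : orderOf c = p := by
    rw [hcdef, Subgroup.orderOf_coe, Subgroup.orderOf_coe, hc']
  have hp : p.Prime := Fact.out
  have hc1 : c ≠ 1 := by
    intro h
    rw [h, orderOf_one] at hcord
    exact hp.one_lt.ne hcord
  have hcp' : c ^ p = 1 := by rw [← hcord]; exact pow_orderOf_eq_one c
  have hcomm : ∀ s ∈ S, c * s = s * c := by
    intro s hs
    have := Subgroup.mem_center_iff.mp c'.2 ⟨s, hs⟩
    have h2 := congrArg (Subtype.val : S → T) this
    simpa using h2.symm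
  have htinv : t⁻¹ = t := inv_eq_of_mul_eq_one_left ht
  set c2 : T := t * c * t⁻¹ with hc2def
  have hc2S : c2 ∈ S := hnorm c hcS
  have hcc2 : Commute c c2 := hcomm c2 hc2S
  have htc2 : t * c2 * t⁻¹ = c := by
    rw [hc2def, htinv]
    calc t * (t * c * t) * t = (t * t) * c * (t * t) := by group
      _ = c := by rw [ht, one_mul, mul_one]
  have hw : t * (c * c2) * t⁻¹ = c * c2 := by
    calc t * (c * c2) * t⁻¹ = (t * c * t⁻¹) * (t * c2 * t⁻¹) := by group
      _ = c2 * c := by rw [htc2]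
      _ = c * c2 := hcc2.eq.symm
  by_cases hw1 : c * c2 = 1
  · refine ⟨c, hcS, hc1, hcp', Or.inr ?_⟩
    exact (eq_inv_of_mul_eq_one_right hw1)
  · refine ⟨c * c2, S.mul_mem hcS hc2S, hw1, ?_, Or.inl hw⟩
    rw [hcc2.mul_pow, hcp', one_mul, hc2def, conj_pow, hcp']
    group

end Cfsg.Agent.Lib.Helper71
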