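import Mathlib

set_option autoImplicit false

namespace Cfsg.Agent.Lib.Helper71

/-- A fixed-point-free involutory conjugation on a finite subgroup inverts every element. -/
theorem fpf_inverts {G : Type*} [Group G] (R : Subgroup G) [Finite R] (y : G) (hy : y * y = 1)
    (hnorm : ∀ r ∈ R, y * r * y⁻¹ ∈ R) (hfpf : ∀ r ∈ R, y * r * y⁻¹ = r → r = 1) :
    ∀ r ∈ R, y * r * y⁻¹ = r⁻¹ := by
  have hyinv : y⁻¹ = y := inv_eq_of_mul_eq_one_left hy
  let f : R → R := fun r => ⟨(r : G)⁻¹ * (y * r * y⁻¹), R.mul_mem (R.inv_mem r.2) (hnorm r r.2)⟩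
  have hinj : Function.Injective f := by
    intro r s hrs
    have h1 : (r : G)⁻¹ * (y * r * y⁻¹) = (s : G)⁻¹ * (y * s * y⁻¹) := congrArg Subtype.val hrs
    have h2 : y * ((s : G) * (r : G)⁻¹) * y⁻¹ = (s : G) * (r : G)⁻¹ := by
      have : y * ((s : G) * (r : G)⁻¹) * y⁻¹ = (y * s * y⁻¹) * (y * r * y⁻¹)⁻¹ := by group
      rw [this]
      have h3 : y * r * y⁻¹ = (r : G) * ((s : G)⁻¹ * (y * s * y⁻¹)) := by
        rw [← h1]; group
      rw [h3]; group
    have h4 := hfpf _ (R.mul_mem s.2 (R.inv_mem r.2)) h2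
    apply Subtype.ext
    exact (mul_inv_eq_one.mp h4).symm
  have hsurj : Function.Surjective f := Finite.surjective_of_injective hinj
  intro r hr
  obtain ⟨s, hs⟩ := hsurj ⟨r, hr⟩
  have hs' : (s : G)⁻¹ * (y * s * y⁻¹) = r := congrArg Subtype.val hs
  rw [← hs']
  calc y * ((s : G)⁻¹ * (y * s * y⁻¹)) * y⁻¹ = y * (s : G)⁻¹ * y * s * (y * y)⁻¹ := by group
    _ = y * (s : G)⁻¹ * y * s := by rw [hy, inv_one, mul_one]
    _ = y * (s : G)⁻¹ * y⁻¹ * s := by rw [hyinv]
    _ = ((s : G)⁻¹ * (y * s * y⁻¹))⁻¹ := by group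

/-- If `y` inverts `R` and `n` normalizes `R` then the commutator of `y` and `n` centralizes
`R`. -/
theorem comm_mem_centralizer_of_inverts {G : Type*} [Group G] (R : Subgroup G) (y : G)
    (hy : y * y = 1) (hinv : ∀ r ∈ R, y * r * y⁻¹ = r⁻¹) (n : G)
    (hn : n ∈ Subgroup.normalizer (R : Set G)) :
    y * n * y⁻¹ * n⁻¹ ∈ Subgroup.centralizer (R : Set G) := by
  have hyinv : y⁻¹ = y := inv_eq_of_mul_eq_one_left hy
  rw [Subgroup.mem_centralizer_iff]
  intro r hr
  have hr1 : n⁻¹ * r * n ∈ R := (Subgroup.mem_normalizer_iff''.mp hn r).mp hr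
  have h1 : y * (n⁻¹ * r * n) * y⁻¹ = (n⁻¹ * r * n)⁻¹ := hinv _ hr1
  have h2 : y * r⁻¹ * y⁻¹ = r := by
    have := hinv r⁻¹ (R.inv_mem hr)
    rw [inv_inv] at this
    exact this
  -- c r c⁻¹ = r
  have h3 : (y * n * y⁻¹ * n⁻¹) * r * (y * n * y⁻¹ * n⁻¹)⁻¹ = r := by
    calc (y * n * y⁻¹ * n⁻¹) * r * (y * n * y⁻¹ * n⁻¹)⁻¹
        = y * n * (y⁻¹ * (n⁻¹ * r * n) * y) * n⁻¹ * y⁻¹ := by group
      _ = y * n * (y * (n⁻¹ * r * n) * y⁻¹) * n⁻¹ * y⁻¹ := by rw [hyinv]
      _ = y * n * (n⁻¹ * r * n)⁻¹ * n⁻¹ * y⁻¹ := by rw [h1]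
      _ = y * r⁻¹ * y⁻¹ := by group
      _ = r := h2
  exact (mul_inv_eq_iff_eq_mul.mp h3).symm

/-- If `H` normalizes `N` then `|H ⊔ N|` divides `|H| * |N|`. -/
theorem card_sup_dvd_of_le_normalizer {G : Type*} [Group G] (H N : Subgroup G)
    (hLE : H ≤ Subgroup.normalizer (N : Set G)) :
    Nat.card (H ⊔ N : Subgroup G) ∣ Nat.card H * Nat.card N := by
  have h1 : N.relIndex H = N.relIndex (H ⊔ N) := by
    letI := Subgroup.normal_subgroupOf_of_le_normalizer hLE
    letI := Subgroup.normal_subgroupOf_sup_of_le_normalizer hLE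
    unfold Subgroup.relIndex Subgroup.index
    exact Nat.card_congr (QuotientGroup.quotientInfEquivProdNormalizerQuotient H N hLE).toEquiv
  have h2 : Nat.card N * N.relIndex (H ⊔ N) = Nat.card (H ⊔ N : Subgroup G) := by
    have := Subgroup.relIndex_mul_relIndex ⊥ N (H ⊔ N) bot_le le_sup_right
    rwa [Subgroup.relIndex_bot_left, Subgroup.relIndex_bot_left] at this
  rw [← h2, ← h1, mul_comm]
  exact Nat.mul_dvd_mul (Subgroup.relIndex_dvd_card N H) dvd_rfl

/-- An element outside `L` whose square lies in `L` has even order. -/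
theorem even_orderOf_of_sq_mem {G : Type*} [Group G] [Finite G] (L : Subgroup G) (a : G)
    (ha : a ∉ L) (ha2 : a * a ∈ L) : Even (orderOf a) := by
  by_contra hodd
  rw [Nat.not_even_iff_odd] at hodd
  obtain ⟨j, hj⟩ := hodd
  apply ha
  have h1 : a ^ (2 * j + 1) = 1 := by rw [← hj]; exact pow_orderOf_eq_one a
  have h2 : a = (a * a) ^ (j + 1) := by
    calc a = a * 1 := (mul_one a).symm
      _ = a * a ^ (2 * j + 1) := by rw [h1]
      _ = (a * a) ^ (j + 1) := by
        have h3 : 2 * j + 1 + 1 = 2 * (j + 1) := by ring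
        rw [← pow_two, ← pow_mul, ← pow_succ', h3]
  rw [h2]
  exact L.pow_mem ha2 _

end Cfsg.Agent.Lib.Helper71

namespace Cfsg.Agent.Lib.Helper71

open scoped Pointwise in
/-- Frattini-type lemma: if `y` normalizes `L`, `y ∉ L` and `y * y ∈ L`, then some Sylow
`p`-subgroup of `L` has a normalizer (in `G`) of even order. -/
theorem exists_sylow_even_normalizer {G : Type*} [Group G] [Finite G] (p : ℕ) [Fact p.Prime]
    (L : Subgroup G) (y : G) (hyN : y ∈ Subgroup.normalizer (L : Set G)) (hyL : y ∉ L)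
    (hy2 : y * y ∈ L) :
    ∃ P2 : Subgroup G, P2 ≤ L ∧ IsPGroup p P2 ∧
      Nat.card P2 = p ^ (Nat.card L).factorization p ∧
      Even (Nat.card (Subgroup.normalizer (P2 : Set G))) := by
  set NL : Subgroup G := Subgroup.normalizer (L : Set G) with hNL
  set N' : Subgroup NL := L.subgroupOf NL with hN'
  have hN'n : N'.Normal := Subgroup.normal_in_normalizer
  obtain ⟨S⟩ : Nonempty (Sylow p N') := inferInstance
  set Pt : Subgroup NL := (S : Subgroup N').map N'.subtype with hPt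
  have hF : Subgroup.normalizer (Pt : Set NL) ⊔ N' = ⊤ := Sylow.normalizer_sup_eq_top S
  set P2 : Subgroup G := Pt.map NL.subtype with hP2
  have hmem : (⟨y, hyN⟩ : NL) ∈ ((Subgroup.normalizer (Pt : Set NL) ⊔ N' : Subgroup NL) : Set NL) := by
    rw [hF]; trivial
  rw [Subgroup.mul_normal] at hmem
  obtain ⟨a, ha, n, hn, han⟩ := Set.mem_mul.mp hmem
  have hnL : (n : G) ∈ L := Subgroup.mem_subgroupOf.mp hn
  have hay : (a : G) = y * (n : G)⁻¹ := by
    have h1 : ((a * n : NL) : G) = y := congrArg Subtype.val han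
    rw [← h1]; simp
  refine ⟨P2, ?_, ?_, ?_, ?_⟩
  · rintro _ ⟨x, hx, rfl⟩
    obtain ⟨s, _, rfl⟩ := hx
    exact Subgroup.mem_subgroupOf.mp s.2
  · exact (S.isPGroup'.map N'.subtype).map NL.subtype
  · have h1 : Nat.card P2 = Nat.card (S : Subgroup N') := by
      rw [hP2, hPt]
      have e1 := ((S : Subgroup N').equivMapOfInjective N'.subtype N'.subtype_injective)
      have e2 := (((S : Subgroup N').map N'.subtype).equivMapOfInjective NL.subtype
        NL.subtype_injective)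
      exact (Nat.card_congr (e1.trans e2).toEquiv).symm
    have h2 : Nat.card N' = Nat.card L :=
      Nat.card_congr (Subgroup.subgroupOfEquivOfLe (Subgroup.le_normalizer)).toEquiv
    rw [h1, S.card_eq_multiplicity, h2]
  · have haN : (a : G) ∈ Subgroup.normalizer (P2 : Set G) :=
      Subgroup.le_normalizer_map NL.subtype (Subgroup.mem_map_of_mem NL.subtype ha)
    have haL : (a : G) ∉ L := by
      intro h
      apply hyL
      have : y = (a : G) * (n : G) := by rw [hay]; group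
      rw [this]
      exact L.mul_mem h hnL
    have haa : (a : G) * (a : G) ∈ L := by
      rw [hay]
      have h1 : y * (n : G)⁻¹ * y⁻¹ ∈ L :=
        (Subgroup.mem_normalizer_iff.mp hyN _).mp (L.inv_mem hnL)
      have : y * (n : G)⁻¹ * (y * (n : G)⁻¹) = (y * (n : G)⁻¹ * y⁻¹) * (y * y) * (n : G)⁻¹ := by
        group
      rw [this]
      exact L.mul_mem (L.mul_mem h1 hy2) (L.inv_mem hnL)
    have heven := even_orderOf_of_sq_mem L (a : G) haL haa
    exact heven.trans_dvd (Subgroup.orderOf_dvd_natCard _ haN)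

end Cfsg.Agent.Lib.Helper71
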