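import Mathlib

/-! Arithmetic check used for the order 175560 statement: no admissible Sylow data for a simple
group of order `19 * d` with `d` a proper divisor of `9240`. -/

namespace Cfsg.Agent.Lib.Helper71.J1Arith

/-- the divisors of 175560 -/
def D : List ℕ := [1, 2, 3, 4, 5, 6, 7, 8, 10, 11, 12, 14, 15, 19, 20, 21, 22, 24, 28, 30, 33, 35, 38, 40, 42, 44, 55, 56, 57, 60, 66, 70, 76, 77, 84, 88, 95, 105, 110, 114, 120, 132, 133, 140, 152, 154, 165, 168, 190, 209, 210, 220, 228, 231, 264, 266, 280, 285, 308, 330, 380, 385, 399, 418, 420, 440, 456, 462, 532, 570, 616, 627, 660, 665, 760, 770, 798, 836, 840, 924, 1045, 1064, 1140, 1155, 1254, 1320, 1330, 1463, 1540, 1596, 1672, 1848, 1995, 2090, 2280, 2310, 2508, 2660, 2926, 3080, 3135, 3192, 3990, 4180, 4389, 4620, 5016, 5320, 5852, 6270, 7315, 7980, 8360, 8778, 9240, 11704, 12540, 14630, 15960, 17556, 21945, 25080, 29260, 35112, 43890, 58520,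 87780, 175560]

theorem mem_D {x : ℕ} (h : x ∣ 175560) : x ∈ D := by
  have e : (175560 : ℕ) = 2 ^ 3 * (3 * (5 * (7 * (11 * 19)))) := by norm_num
  rw [e] at h
  obtain ⟨x1, y1, h1, hy1, rfl⟩ := (Nat.dvd_mul).mp h
  obtain ⟨x2, y2, h2, hy2, rfl⟩ := (Nat.dvd_mul).mp hy1
  obtain ⟨x3, y3, h3, hy3, rfl⟩ := (Nat.dvd_mul).mp hy2
  obtain ⟨x4, y4, h4, hy4, rfl⟩ := (Nat.dvd_mul).mp hy3
  obtain ⟨x5, x6, h5, h6, rfl⟩ := (Nat.dvd_mul).mp hy4
  obtain ⟨m, hm, rfl⟩ := (Nat.dvd_prime_pow Nat.prime_two).mp h1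
  have p3 : Nat.Prime 3 := by norm_num
  have p5 : Nat.Prime 5 := by norm_num
  have p7 : Nat.Prime 7 := by norm_num
  have p11 : Nat.Prime 11 := by norm_num
  have p19 : Nat.Prime 19 := by norm_num
  rcases (Nat.dvd_prime p3).mp h2 with rfl | rfl <;>
  rcases (Nat.dvd_prime p5).mp h3 with rfl | rfl <;>
  rcases (Nat.dvd_prime p7).mp h4 with rfl | rfl <;>
  rcases (Nat.dvd_prime p11).mp h5 with rfl | rfl <;>
  rcases (Nat.dvd_prime p19).mp h6 with rfl | rfl <;>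
  interval_cases m <;> decide

/-- admissible values of `|N(R)/C(R)|` for a Sylow subgroup of prime order `r` -/
def eList (r : ℕ) : List ℕ := (List.range r).filter (fun e => e ∣ r - 1 ∧ e ≠ 1)

/-- admissible triples `(n_r, e_r, c_r)` -/
def opts (K r : ℕ) : List (ℕ × ℕ × ℕ) :=
  ((D.product (eList r)).map fun p => (p.1, p.2, K / (p.1 * p.2))).filter
    fun t => t.1 * t.2.1 * t.2.2 = K ∧ t.1 % r = 1 ∧ 19 ≤ t.1 ∧ r ∣ t.2.2

theorem mem_opts {K r n e c : ℕ} (hr : 2 ≤ r) (hK : K = n * e * c) (hKD : K ∣ 175560) (hn1 : n % r = 1)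
    (hn19 : 19 ≤ n) (he : e ∣ r - 1) (he1 : e ≠ 1) (hc : r ∣ c) : (n, e, c) ∈ opts K r := by
  have hK0 : K ≠ 0 := by rintro rfl; simp at hKD
  have hn0 : 0 < n := by omega
  have he0 : 0 < e := by
    rcases Nat.eq_zero_or_pos e with h | h
    · subst h; simp at hK; exact absurd hK hK0
    · exact h
  have hnD : n ∈ D := mem_D (Dvd.dvd.trans ⟨e * c, by rw [hK]; ring⟩ hKD)
  have heL : e ∈ eList r := by
    simp only [eList, List.mem_filter, List.mem_range, decide_eq_true_eq]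
    refine ⟨?_, he, he1⟩
    have := Nat.le_of_dvd (by omega) he
    omega
  have hc' : K / (n * e) = c := by
    rw [hK]; exact Nat.mul_div_cancel_left c (Nat.mul_pos hn0 he0)
  simp only [opts, List.mem_filter, List.mem_map, decide_eq_true_eq]
  refine ⟨⟨(n, e), List.pair_mem_product.mpr ⟨hnD, heL⟩, ?_⟩, hK.symm, hn1, hn19, hc⟩
  simp [hc']

/-- admissible triples, or a dummy when `r` does not divide `K` -/
def optsN (K r : ℕ) : List (ℕ × ℕ × ℕ) := if r ∣ K then opts K r else [(0, 0, 0)]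

/-- candidates for the number of Sylow `s`-subgroups of a group of order `c` -/
def cands (c s : ℕ) : List ℕ := if s ∣ c then D.filter (fun a => a % s = 1 ∧ a ∣ c) else [0]

/-- the double count of commuting pairs of Sylow subgroups is solvable -/
def PairOK (r : ℕ) (tr : ℕ × ℕ × ℕ) (s : ℕ) (ts : ℕ × ℕ × ℕ) : Prop :=
  ∃ a ∈ cands tr.2.2 s, ∃ b ∈ cands ts.2.2 r, tr.1 * a = ts.1 * b

instance (r : ℕ) (tr : ℕ × ℕ × ℕ) (s : ℕ) (ts : ℕ × ℕ × ℕ) : Decidable (PairOK r tr s ts) := by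
  unfold PairOK; infer_instance

/-- number of elements of order divisible by `r` -/
def ecount (r : ℕ) (t : ℕ × ℕ × ℕ) : ℕ := t.1 * (t.2.2 - t.2.2 / r)

/-- counting constraint for three pairwise non-commuting primes -/
def Count (K r : ℕ) (tr : ℕ × ℕ × ℕ) (s : ℕ) (ts : ℕ × ℕ × ℕ) (u : ℕ) (tu : ℕ × ℕ × ℕ) : Prop :=
  r ∣ K → s ∣ K → u ∣ K → ¬ s ∣ tr.2.2 → ¬ u ∣ tr.2.2 → ¬ u ∣ ts.2.2 →
    ecount r tr + ecount s ts + ecount u tu + 1 ≤ K

instance (K r : ℕ) (tr : ℕ × ℕ × ℕ) (s : ℕ) (ts : ℕ × ℕ × ℕ) (u : ℕ) (tu : ℕ × ℕ × ℕ) :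
    Decidable (Count K r tr s ts u tu) := by
  unfold Count; infer_instance

/-- last level of the check -/
def Check3 (K : ℕ) (t19 t11 t7 t5 : ℕ × ℕ × ℕ) : Prop :=
  ∀ t3 ∈ optsN K 3, (3 ∣ K → PairOK 19 t19 3 t3) → (11 ∣ K → 3 ∣ K → PairOK 11 t11 3 t3) →
    (7 ∣ K → 3 ∣ K → PairOK 7 t7 3 t3) → (5 ∣ K → 3 ∣ K → PairOK 5 t5 3 t3) →
  ¬ (Count K 19 t19 7 t7 5 t5 ∧ Count K 19 t19 11 t11 7 t7)

instance (K : ℕ) (t19 t11 t7 t5 : ℕ × ℕ × ℕ) : Decidable (Check3 K t19 t11 t7 t5) := by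
  unfold Check3; infer_instance

/-- fourth level of the check -/
def Check5 (K : ℕ) (t19 t11 t7 : ℕ × ℕ × ℕ) : Prop :=
  ∀ t5 ∈ optsN K 5, (5 ∣ K → PairOK 19 t19 5 t5) → (11 ∣ K → 5 ∣ K → PairOK 11 t11 5 t5) →
    (7 ∣ K → 5 ∣ K → PairOK 7 t7 5 t5) → Check3 K t19 t11 t7 t5

instance (K : ℕ) (t19 t11 t7 : ℕ × ℕ × ℕ) : Decidable (Check5 K t19 t11 t7) := by
  unfold Check5; infer_instance

/-- third level of the check -/
def Check7 (K : ℕ) (t19 t11 : ℕ × ℕ × ℕ) : Prop :=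
  ∀ t7 ∈ optsN K 7, (7 ∣ K → PairOK 19 t19 7 t7) → (11 ∣ K → 7 ∣ K → PairOK 11 t11 7 t7) →
    Check5 K t19 t11 t7

instance (K : ℕ) (t19 t11 : ℕ × ℕ × ℕ) : Decidable (Check7 K t19 t11) := by
  unfold Check7; infer_instance

/-- second level of the check -/
def Check11 (K : ℕ) (t19 : ℕ × ℕ × ℕ) : Prop :=
  ∀ t11 ∈ optsN K 11, (11 ∣ K → PairOK 19 t19 11 t11) → Check7 K t19 t11

instance (K : ℕ) (t19 : ℕ × ℕ × ℕ) : Decidable (Check11 K t19) := by
  unfold Check11; infer_instance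

/-- the full check -/
def Check (K : ℕ) : Prop :=
  ∀ t19 ∈ optsN K 19, (t19.1 = 20 → t19.2.2 = 19 ∧ t19.2.1 % 2 = 1) → Check11 K t19

instance (K : ℕ) : Decidable (Check K) := by
  unfold Check; infer_instance

set_option maxRecDepth 100000 in
theorem check_all : ∀ d ∈ D.filter (fun d => d ∣ 9240 ∧ d ≠ 9240), Check (19 * d) := by
  decide +kernel

theorem check_of_dvd {d : ℕ} (hd : d ∣ 9240) (hd' : d ≠ 9240) : Check (19 * d) := by
  apply check_all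
  simp only [List.mem_filter, decide_eq_true_eq]
  exact ⟨mem_D (hd.trans (by norm_num)), hd, hd'⟩

end Cfsg.Agent.Lib.Helper71.J1Arith
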