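import Mathlib
import Cfsg.Agent.Lib.Helper23.SylowPerm
import Cfsg.Agent.Lib.Helper23.SylowCount
import Cfsg.Agent.Lib.Helper23.SylowPrime
import Cfsg.Agent.Lib.Helper23.Burnside
import Cfsg.Agent.Lib.Helper23.SylowEmbed
import Cfsg.Agent.Lib.Helper23.SylowCoset

/-! Counting lemmas for Sylow subgroups of prime order. -/

namespace Cfsg.Agent.Lib.Helper71.J1Sylow

open Subgroup MulAction
open scoped Pointwise

variable {K : Type*} [Group K] [Finite K]

/-- the centralizers of two Sylow subgroups have the same order -/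
theorem card_centralizer_eq (r : ℕ) [Fact r.Prime] (P Q : Sylow r K) :
    Nat.card (centralizer ((P : Subgroup K) : Set K)) =
      Nat.card (centralizer ((Q : Subgroup K) : Set K)) := by
  obtain ⟨g, rfl⟩ := MulAction.exists_smul_eq K P Q
  refine Nat.card_congr
    { toFun := fun x => ⟨g * x * g⁻¹, ?_⟩
      invFun := fun y => ⟨g⁻¹ * y * g, ?_⟩
      left_inv := fun x => ?_
      right_inv := fun y => ?_ }
  · rw [Cfsg.Agent.Lib.Helper23.SylowPerm.mem_centralizer_smul_iff]
    have : g⁻¹ * (g * (x : K) * g⁻¹) * g = x := by group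
    rw [this]; exact x.2
  · exact (Cfsg.Agent.Lib.Helper23.SylowPerm.mem_centralizer_smul_iff r g y P).mp y.2
  · apply Subtype.ext; simp only; group
  · apply Subtype.ext; simp only; group

/-- a Sylow subgroup of prime order lies in its own centralizer -/
theorem le_centralizer_self (r : ℕ) [Fact r.Prime] (P : Sylow r K)
    (hP : Nat.card (P : Subgroup K) = r) :
    (P : Subgroup K) ≤ centralizer ((P : Subgroup K) : Set K) := by
  have : IsCyclic (P : Subgroup K) := isCyclic_of_prime_card hP
  exact Subgroup.le_centralizer _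

/-- the elements of the centralizer of a Sylow subgroup `P` of prime order `r` whose order is
divisible by `r` -/
theorem card_centralizer_dvd_orderOf (r : ℕ) [Fact r.Prime] (P : Sylow r K)
    (hP : Nat.card (P : Subgroup K) = r) :
    Nat.card {x : K // x ∈ centralizer ((P : Subgroup K) : Set K) ∧ r ∣ orderOf x} =
      Nat.card (centralizer ((P : Subgroup K) : Set K)) -
        Nat.card (centralizer ((P : Subgroup K) : Set K)) / r := by
  classical
  have hr : r.Prime := Fact.out
  set C := centralizer ((P : Subgroup K) : Set K) with hC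
  have hPC : (P : Subgroup K) ≤ C := le_centralizer_self r P hP
  let P' : Sylow r C := P.subtype hPC
  have hP'coe : (P' : Subgroup C) = (P : Subgroup K).subgroupOf C := Sylow.coe_subtype P hPC
  have hP'card : Nat.card (P' : Subgroup C) = r := by
    rw [hP'coe, Nat.card_congr (Subgroup.subgroupOfEquivOfLe hPC).toEquiv, hP]
  have hcent : normalizer ((P' : Subgroup C) : Set C) ≤ centralizer ((P' : Subgroup C) : Set C) := by
    intro x _
    rw [mem_centralizer_iff]
    intro y hy
    have hy' : y ∈ (P : Subgroup K).subgroupOf C := by rw [← hP'coe]; exact hy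
    replace hy := mem_subgroupOf.mp hy'
    have hx : (x : K) ∈ centralizer ((P : Subgroup K) : Set K) := x.2
    rw [mem_centralizer_iff] at hx
    apply Subtype.ext
    simpa using hx _ hy
  set T := MonoidHom.transferSylow P' hcent with hT
  have hcompl := MonoidHom.ker_transferSylow_isComplement' P' hcent
  have hcard : Nat.card T.ker * r = Nat.card C := by
    have := hcompl.card_mul_card
    rwa [hP'card] at this
  have hker : Nat.card T.ker = Nat.card C / r := by
    rw [← hcard, Nat.mul_div_cancel _ hr.pos]
  have hnd : ¬ r ∣ Nat.card T.ker := by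
    have h1 := P'.not_dvd_index
    have h2 : (P' : Subgroup C).index = Nat.card T.ker := by
      have := hcompl.index_eq_card
      exact this
    rwa [h2] at h1
  -- the equivalence with the complement of the kernel
  have hiff : ∀ x : C, r ∣ orderOf (x : K) ↔ x ∉ T.ker := by
    intro x
    constructor
    · intro h hx
      apply hnd
      have h1 : orderOf (⟨x, hx⟩ : T.ker) ∣ Nat.card T.ker := orderOf_dvd_natCard _
      have h2 : orderOf (⟨x, hx⟩ : T.ker) = orderOf (x : K) := by
        rw [← Subgroup.orderOf_coe, ← Subgroup.orderOf_coe]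
      rw [h2] at h1
      exact h.trans h1
    · intro hx
      rw [MonoidHom.mem_ker] at hx
      have h1 : orderOf (T x) ∣ orderOf x := orderOf_map_dvd T x
      have h2 : orderOf (T x) ∣ r := by
        have := orderOf_dvd_natCard (T x)
        rwa [hP'card] at this
      have h3 : orderOf (T x) = r := by
        rcases (Nat.dvd_prime hr).mp h2 with h | h
        · exact absurd (orderOf_eq_one_iff.mp h) hx
        · exact h
      rw [h3] at h1
      rw [Subgroup.orderOf_coe]
      exact h1
  have e : {x : K // x ∈ C ∧ r ∣ orderOf x} ≃ {x : C // x ∉ T.ker} :=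
    { toFun := fun x => ⟨⟨x.1, x.2.1⟩, (hiff ⟨x.1, x.2.1⟩).mp x.2.2⟩
      invFun := fun x => ⟨x.1.1, x.1.2, (hiff x.1).mpr x.2⟩
      left_inv := fun x => rfl
      right_inv := fun x => rfl }
  rw [Nat.card_congr e]
  have := Fintype.ofFinite C
  rw [Nat.card_eq_fintype_card, Fintype.card_subtype_compl, ← Nat.card_eq_fintype_card,
    ← Nat.card_eq_fintype_card, ← hker]

/-- an element whose order is divisible by `r` centralizes exactly one Sylow `r`-subgroup -/
theorem existsUnique_sylow_centralizer (r : ℕ) [Fact r.Prime]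
    (hP : ∀ P : Sylow r K, Nat.card (P : Subgroup K) = r) (x : K) (hx : r ∣ orderOf x) :
    ∃! P : Sylow r K, x ∈ centralizer ((P : Subgroup K) : Set K) := by
  have hr : r.Prime := Fact.out
  have hox : 0 < orderOf x := orderOf_pos x
  obtain ⟨m, hm⟩ := hx
  have hm0 : m ≠ 0 := by rintro rfl; rw [Nat.mul_zero] at hm; omega
  set y := x ^ m with hy
  have hyo : orderOf y = r := by
    rw [hy, orderOf_pow_of_dvd hm0 ⟨r, by rw [hm]; ring⟩, hm, Nat.mul_div_cancel _ (Nat.pos_of_ne_zero hm0)]
  have hy1 : y ≠ 1 := by
    intro h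
    rw [h, orderOf_one] at hyo
    exact hr.one_lt.ne hyo
  have hZp : IsPGroup r (zpowers y) := by
    apply IsPGroup.of_card (n := 1)
    rw [Nat.card_zpowers, hyo, pow_one]
  obtain ⟨P, hZP⟩ := hZp.exists_le_sylow
  have hyP : y ∈ (P : Subgroup K) := hZP (mem_zpowers y)
  have hZeq : ∀ Q : Sylow r K, y ∈ (Q : Subgroup K) → zpowers y = (Q : Subgroup K) := fun Q hQ =>
    Cfsg.Agent.Lib.Helper23.zpowers_eq_of_mem_of_card_eq_prime r (Q : Subgroup K) (hP Q) hQ hy1
  refine ⟨P, ?_, ?_⟩
  · show x ∈ centralizer ((P : Subgroup K) : Set K)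
    rw [mem_centralizer_iff]
    intro z hz
    have hz' : z ∈ zpowers y := by rw [hZeq P hyP]; exact hz
    obtain ⟨k, rfl⟩ := mem_zpowers_iff.mp hz'
    exact (((Commute.refl x).pow_right m).zpow_right k).eq.symm
  · intro Q hQ
    have hyQc : y ∈ centralizer ((Q : Subgroup K) : Set K) := pow_mem hQ m
    have hyQ : y ∈ (Q : Subgroup K) :=
      Cfsg.Agent.Lib.Helper23.mem_sylow_of_mem_normalizer Q y hZp
        (Subgroup.centralizer_le_normalizer _ hyQc)
    apply Sylow.ext
    rw [← hZeq Q hyQ, ← hZeq P hyP]

/-- the number of elements whose order is divisible by `r` -/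
theorem card_dvd_orderOf (r : ℕ) [Fact r.Prime]
    (hP : ∀ P : Sylow r K, Nat.card (P : Subgroup K) = r) (P₀ : Sylow r K) :
    Nat.card {x : K // r ∣ orderOf x} = Nat.card (Sylow r K) *
      (Nat.card (centralizer ((P₀ : Subgroup K) : Set K)) -
        Nat.card (centralizer ((P₀ : Subgroup K) : Set K)) / r) := by
  classical
  have := Fintype.ofFinite (Sylow r K)
  let F : Sylow r K → Type _ :=
    fun P => {x : K // x ∈ centralizer ((P : Subgroup K) : Set K) ∧ r ∣ orderOf x}
  let f : (Σ P, F P) → {x : K // r ∣ orderOf x} := fun p => ⟨p.2.1, p.2.2.2⟩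
  have hf : Function.Bijective f := by
    constructor
    · rintro ⟨P, x⟩ ⟨Q, y⟩ h
      have hxy : x.1 = y.1 := congrArg Subtype.val h
      obtain ⟨R, -, hR⟩ := existsUnique_sylow_centralizer r hP x.1 x.2.2
      have h1 : P = R := hR P x.2.1
      have h2 : Q = R := hR Q (by rw [hxy]; exact y.2.1)
      subst h1
      subst h2
      exact Sigma.ext rfl (heq_of_eq (Subtype.ext hxy))
    · rintro ⟨x, hx⟩
      obtain ⟨R, hxR, -⟩ := existsUnique_sylow_centralizer r hP x hx
      exact ⟨⟨R, ⟨x, hxR, hx⟩⟩, rfl⟩
  rw [← Nat.card_congr (Equiv.ofBijective f hf), Nat.card_sigma]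
  have hF : ∀ P : Sylow r K, Nat.card (F P) =
      Nat.card (centralizer ((P₀ : Subgroup K) : Set K)) -
        Nat.card (centralizer ((P₀ : Subgroup K) : Set K)) / r := by
    intro P
    rw [card_centralizer_eq r P₀ P]
    exact card_centralizer_dvd_orderOf r P (hP P)
  rw [Finset.sum_congr rfl (fun P _ => hF P), Finset.sum_const, Finset.card_univ, smul_eq_mul,
    Nat.card_eq_fintype_card (α := Sylow r K)]

/-- double counting for an invariant relation under a transitive action -/
theorem card_rel_eq {A B : Type*} [MulAction K A] [MulAction K B] [Finite A] [Finite B]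
    [MulAction.IsPretransitive K A] (R : A → B → Prop)
    (hR : ∀ (g : K) a b, R a b → R (g • a) (g • b)) (a₀ : A) :
    Nat.card {p : A × B // R p.1 p.2} = Nat.card A * Nat.card {b : B // R a₀ b} := by
  classical
  have := Fintype.ofFinite A
  rw [Nat.card_congr (Equiv.subtypeProdEquivSigmaSubtype R), Nat.card_sigma]
  have hF : ∀ a : A, Nat.card {b : B // R a b} = Nat.card {b : B // R a₀ b} := by
    intro a
    obtain ⟨g, rfl⟩ := MulAction.exists_smul_eq K a₀ a
    refine Nat.card_congr
      { toFun := fun b => ⟨g⁻¹ • b.1, ?_⟩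
        invFun := fun b => ⟨g • b.1, hR g _ _ b.2⟩
        left_inv := fun b => by simp
        right_inv := fun b => by simp }
    have := hR g⁻¹ _ _ b.2
    rwa [inv_smul_smul] at this
  rw [Finset.sum_congr rfl (fun a _ => hF a), Finset.sum_const, Finset.card_univ, smul_eq_mul,
    Nat.card_eq_fintype_card (α := A)]

/-- double counting of commuting pairs of Sylow subgroups -/
theorem pair_count (r s : ℕ) [Fact r.Prime] [Fact s.Prime] (P₀ : Sylow r K) (Q₀ : Sylow s K) :
    Nat.card (Sylow r K) *
        Nat.card {Q : Sylow s K // (Q : Subgroup K) ≤ centralizer ((P₀ : Subgroup K) : Set K)} =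
      Nat.card (Sylow s K) *
        Nat.card {P : Sylow r K // (P : Subgroup K) ≤ centralizer ((Q₀ : Subgroup K) : Set K)} := by
  have hinv : ∀ (r s : ℕ) [Fact r.Prime] [Fact s.Prime] (g : K) (P : Sylow r K) (Q : Sylow s K),
      (Q : Subgroup K) ≤ centralizer ((P : Subgroup K) : Set K) →
      ((g • Q : Sylow s K) : Subgroup K) ≤ centralizer (((g • P : Sylow r K) : Subgroup K) : Set K) := by
    intro r s _ _ g P Q h x hx
    rw [Cfsg.Agent.Lib.Helper23.SylowPerm.mem_centralizer_smul_iff]
    exact h ((Cfsg.Agent.Lib.Helper23.SylowPerm.mem_smul_iff s g x Q).mp hx)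
  rw [← card_rel_eq (A := Sylow r K) (B := Sylow s K)
    (fun P Q => (Q : Subgroup K) ≤ centralizer ((P : Subgroup K) : Set K)) (hinv r s) P₀,
    ← card_rel_eq (A := Sylow s K) (B := Sylow r K)
    (fun Q P => (P : Subgroup K) ≤ centralizer ((Q : Subgroup K) : Set K)) (hinv s r) Q₀]
  refine Nat.card_congr
    { toFun := fun p => ⟨(p.1.2, p.1.1), Subgroup.le_centralizer_iff.mp p.2⟩
      invFun := fun p => ⟨(p.1.2, p.1.1), Subgroup.le_centralizer_iff.mp p.2⟩
      left_inv := fun p => rfl
      right_inv := fun p => rfl }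

/-- the Sylow `s`-subgroups of `K` inside a subgroup `C` whose order is divisible by `s`,
when `s` divides the order of `K` exactly once -/
theorem card_sylow_le (s : ℕ) [Fact s.Prime] (hs : (Nat.card K).factorization s = 1)
    (C : Subgroup K) :
    (s ∣ Nat.card C → Nat.card {Q : Sylow s K // (Q : Subgroup K) ≤ C} % s = 1 ∧
      Nat.card {Q : Sylow s K // (Q : Subgroup K) ≤ C} ∣ Nat.card C) ∧
    (¬ s ∣ Nat.card C → Nat.card {Q : Sylow s K // (Q : Subgroup K) ≤ C} = 0) := by
  have hsp : s.Prime := Fact.out
  constructor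
  · intro hdvd
    have hfac : (Nat.card C).factorization s = (Nat.card K).factorization s := by
      rw [hs]
      apply le_antisymm
      · rw [← hs]
        exact (Nat.factorization_le_iff_dvd Nat.card_pos.ne' Nat.card_pos.ne').mpr
          (Subgroup.card_subgroup_dvd_card C) s
      · exact hsp.factorization_pos_of_dvd Nat.card_pos.ne' hdvd
    have e : {Q : Sylow s K // (Q : Subgroup K) ≤ C} ≃ Sylow s C :=
      { toFun := fun Q => Q.1.subtype Q.2
        invFun := fun Q' => ⟨Sylow.ofCard ((Q' : Subgroup C).map C.subtype) (by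
          rw [Subgroup.card_map_of_injective (Subgroup.subtype_injective C),
            Q'.card_eq_multiplicity, hfac]), by
          rw [Sylow.coe_ofCard]; exact Subgroup.map_subtype_le _⟩
        left_inv := fun Q => by
          apply Subtype.ext
          apply Sylow.ext
          rw [Sylow.coe_ofCard, Sylow.coe_subtype]
          exact Subgroup.map_subgroupOf_eq_of_le Q.2
        right_inv := fun Q' => by
          apply Sylow.ext
          rw [Sylow.coe_subtype, Sylow.coe_ofCard]
          exact Subgroup.comap_map_eq_self_of_injective (Subgroup.subtype_injective C) _ }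
    rw [Nat.card_congr e]
    refine ⟨?_, ?_⟩
    · have := card_sylow_modEq_one s C
      rw [Nat.ModEq, Nat.mod_eq_of_lt hsp.one_lt] at this
      exact this
    · obtain ⟨Q'⟩ : Nonempty (Sylow s C) := inferInstance
      exact (Sylow.card_dvd_index Q').trans (Subgroup.index_dvd_card _)
  · intro hnd
    have : IsEmpty {Q : Sylow s K // (Q : Subgroup K) ≤ C} := by
      constructor
      rintro ⟨Q, hQ⟩
      apply hnd
      have h1 : Nat.card (Q : Subgroup K) = s := by
        rw [Q.card_eq_multiplicity, hs, pow_one]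
      rw [← h1]
      exact Subgroup.card_dvd_of_le hQ
    exact Nat.card_of_isEmpty

end Cfsg.Agent.Lib.Helper71.J1Sylow
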