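import Mathlib
import Cfsg.Agent.Lib.Helper71.J1Arith
import Cfsg.Agent.Lib.Helper71.J1Sylow

/-! No non-abelian simple group has order `19 * d` with `d` a proper divisor of `9240`. -/

namespace Cfsg.Agent.Lib.Helper71.J1Simple

open Subgroup MulAction
open Cfsg.Agent.Lib.Helper71.J1Arith Cfsg.Agent.Lib.Helper71.J1Sylow
open Cfsg.Agent.Lib.Helper23 Cfsg.Agent.Lib.Helper23.SylowPerm

theorem fac_one {n r : ℕ} (hr : r.Prime) (hn : n ≠ 0) (h1 : r ∣ n) (h2 : ¬ r ^ 2 ∣ n) :
    n.factorization r = 1 := by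
  apply le_antisymm
  · by_contra h
    push Not at h
    exact h2 ((hr.pow_dvd_iff_le_factorization hn).mpr h)
  · exact hr.factorization_pos_of_dvd hn h1

variable {K : Type*} [Group K] [Finite K]

/-- a chosen Sylow subgroup -/
noncomputable def syl (K : Type*) [Group K] (r : ℕ) : Sylow r K := Classical.arbitrary _

/-- the Sylow data `(n_r, e_r, c_r)` -/
noncomputable def tr (K : Type*) [Group K] (r : ℕ) : ℕ × ℕ × ℕ :=
  (Nat.card (Sylow r K),
    (centralizer ((syl K r : Subgroup K) : Set K)).relIndex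
      (normalizer ((syl K r : Subgroup K) : Set K)),
    Nat.card (centralizer ((syl K r : Subgroup K) : Set K)))

theorem sylow_card (r : ℕ) [Fact r.Prime] (hfac : (Nat.card K).factorization r = 1)
    (P : Sylow r K) : Nat.card (P : Subgroup K) = r := by
  rw [P.card_eq_multiplicity, hfac, pow_one]

theorem card_eq_mul (r : ℕ) [Fact r.Prime] :
    Nat.card K = (tr K r).1 * (tr K r).2.1 * (tr K r).2.2 := by
  have h1 := card_normalizer_mul_card_sylow r (syl K r)
  have h2 := card_centralizer_mul_relIndex ((syl K r : Subgroup K))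
  simp only [tr]
  rw [← h1, ← h2]
  ring

theorem c_dvd (r : ℕ) [Fact r.Prime] : (tr K r).2.2 ∣ Nat.card K :=
  Subgroup.card_subgroup_dvd_card _

theorem tr_mem_opts [IsSimpleGroup K] (hG : ¬ IsMulCommutative K) (hK : Nat.card K ∣ 175560)
    (h19 : 19 ∣ Nat.card K) (r : ℕ) [Fact r.Prime]
    (hfac : (Nat.card K).factorization r = 1) : tr K r ∈ opts (Nat.card K) r := by
  have hr : r.Prime := Fact.out
  have hP := sylow_card r hfac (syl K r)
  have hrK : r ∣ Nat.card K := by
    rw [← hP]; exact Subgroup.card_subgroup_dvd_card _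
  have hne1 : Nat.card (Sylow r K) ≠ 1 := by
    apply card_sylow_ne_one_of_simple r (syl K r)
    · rw [hP]; exact hr.one_lt.ne'
    · rw [hP]
      intro h
      apply hG
      have : Fact (Nat.card K).Prime := ⟨by rw [← h]; exact hr⟩
      have : IsCyclic K := isCyclic_of_prime_card rfl
      exact IsCyclic.isMulCommutative
  apply mem_opts hr.two_le (card_eq_mul r) hK
  · have := card_sylow_modEq_one r K
    rw [Nat.ModEq, Nat.mod_eq_of_lt hr.one_lt] at this
    exact this
  · show 19 ≤ Nat.card (Sylow r K)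
    rw [card_sylow_eq_index_normalizer' r (syl K r)]
    apply prime_le_index hG 19 (by norm_num) h19
    intro h
    apply hne1
    rw [card_sylow_eq_index_normalizer' r (syl K r), h, Subgroup.index_top]
  · exact relIndex_centralizer_normalizer_dvd_pred r _ hP
  · intro h
    exact false_of_normalizer_le_centralizer hG r hrK (syl K r) (Subgroup.relIndex_eq_one.mp h)
  · show r ∣ Nat.card (centralizer ((syl K r : Subgroup K) : Set K))
    have := Subgroup.card_dvd_of_le (le_centralizer_self r (syl K r) hP)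
    rwa [hP] at this

theorem mem_cands (hK : Nat.card K ∣ 175560) (s : ℕ) [Fact s.Prime]
    (hs : (Nat.card K).factorization s = 1) (C : Subgroup K) :
    Nat.card {Q : Sylow s K // (Q : Subgroup K) ≤ C} ∈ cands (Nat.card C) s := by
  obtain ⟨h1, h2⟩ := card_sylow_le s hs C
  unfold cands
  split_ifs with h
  · obtain ⟨h3, h4⟩ := h1 h
    simp only [List.mem_filter, decide_eq_true_eq]
    exact ⟨mem_D (h4.trans ((Subgroup.card_subgroup_dvd_card C).trans hK)), h3, h4⟩
  · rw [h2 h]; simp

theorem pairOK (hK : Nat.card K ∣ 175560) (r s : ℕ) [Fact r.Prime] [Fact s.Prime]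
    (hr : (Nat.card K).factorization r = 1) (hs : (Nat.card K).factorization s = 1) :
    PairOK r (tr K r) s (tr K s) := by
  refine ⟨_, mem_cands hK s hs (centralizer ((syl K r : Subgroup K) : Set K)),
    _, mem_cands hK r hr (centralizer ((syl K s : Subgroup K) : Set K)), ?_⟩
  exact pair_count r s (syl K r) (syl K s)

theorem dvd_c_of_dvd_orderOf (r s : ℕ) [Fact r.Prime]
    (hr : (Nat.card K).factorization r = 1) (x : K) (hxr : r ∣ orderOf x) (hxs : s ∣ orderOf x) :
    s ∣ (tr K r).2.2 := by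
  obtain ⟨P, hxP, -⟩ := existsUnique_sylow_centralizer r (sylow_card r hr) x hxr
  show s ∣ Nat.card (centralizer ((syl K r : Subgroup K) : Set K))
  rw [card_centralizer_eq r (syl K r) P]
  refine hxs.trans ?_
  have h1 : orderOf (⟨x, hxP⟩ : centralizer ((P : Subgroup K) : Set K)) ∣ _ := orderOf_dvd_natCard _
  rwa [← Subgroup.orderOf_coe] at h1

theorem ecount_eq (r : ℕ) [Fact r.Prime] (hr : (Nat.card K).factorization r = 1) :
    Nat.card {x : K // r ∣ orderOf x} = ecount r (tr K r) :=
  card_dvd_orderOf r (sylow_card r hr) (syl K r)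

theorem count (r s u : ℕ) [Fact r.Prime] [Fact s.Prime] [Fact u.Prime]
    (hr : (Nat.card K).factorization r = 1) (hs : (Nat.card K).factorization s = 1)
    (hu : (Nat.card K).factorization u = 1) :
    Count (Nat.card K) r (tr K r) s (tr K s) u (tr K u) := by
  classical
  intro _ _ _ h1 h2 h3
  have := Fintype.ofFinite K
  have hrp : r.Prime := Fact.out
  have hsp : s.Prime := Fact.out
  have hup : u.Prime := Fact.out
  let A : ℕ → Finset K := fun q => Finset.univ.filter (fun x => q ∣ orderOf x)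
  have hA : ∀ q : ℕ, (A q).card = Nat.card {x : K // q ∣ orderOf x} := by
    intro q
    rw [Nat.card_eq_fintype_card, Fintype.card_subtype]
  have hone : ∀ q : ℕ, q.Prime → (1 : K) ∉ A q := by
    intro q hq h
    simp only [A, Finset.mem_filter, Finset.mem_univ, true_and, orderOf_one] at h
    exact hq.one_lt.ne' (Nat.dvd_one.mp h)
  have d1 : Disjoint (A r) (A s) := by
    rw [Finset.disjoint_left]
    intro x hx hy
    simp only [A, Finset.mem_filter, Finset.mem_univ, true_and] at hx hy
    exact h1 (dvd_c_of_dvd_orderOf r s hr x hx hy)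
  have d2 : Disjoint (A r) (A u) := by
    rw [Finset.disjoint_left]
    intro x hx hy
    simp only [A, Finset.mem_filter, Finset.mem_univ, true_and] at hx hy
    exact h2 (dvd_c_of_dvd_orderOf r u hr x hx hy)
  have d3 : Disjoint (A s) (A u) := by
    rw [Finset.disjoint_left]
    intro x hx hy
    simp only [A, Finset.mem_filter, Finset.mem_univ, true_and] at hx hy
    exact h3 (dvd_c_of_dvd_orderOf s u hs x hx hy)
  have hcard : (insert (1 : K) (A r ∪ A s ∪ A u)).card =
      (A r).card + (A s).card + (A u).card + 1 := by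
    rw [Finset.card_insert_of_notMem, Finset.card_union_of_disjoint, Finset.card_union_of_disjoint d1]
    · rw [Finset.disjoint_union_left]; exact ⟨d2, d3⟩
    · simp only [Finset.mem_union, not_or]
      exact ⟨⟨hone r hrp, hone s hsp⟩, hone u hup⟩
  have hle : (insert (1 : K) (A r ∪ A s ∪ A u)).card ≤ Fintype.card K := Finset.card_le_univ _
  rw [hcard, hA, hA, hA, ecount_eq r hr, ecount_eq s hs, ecount_eq u hu,
    ← Nat.card_eq_fintype_card] at hle
  exact hle

theorem special19 [IsSimpleGroup K] (hG : ¬ IsMulCommutative K) [Fact (Nat.Prime 19)]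
    (hfac : (Nat.card K).factorization 19 = 1) (h20 : (tr K 19).1 = 20) :
    (tr K 19).2.2 = 19 ∧ (tr K 19).2.1 % 2 = 1 := by
  have h19 : Nat.Prime 19 := Fact.out
  set P := syl K 19 with hPdef
  have hP : Nat.card (P : Subgroup K) = 19 := sylow_card 19 hfac P
  have hn : Nat.card (Sylow 19 K) = 20 := h20
  have hne1 : Nat.card (Sylow 19 K) ≠ 1 := by rw [hn]; norm_num
  have hcard2 : 2 < Nat.card K := by
    have : 19 ∣ Nat.card K := by rw [← hP]; exact Subgroup.card_subgroup_dvd_card _
    have := Nat.le_of_dvd Nat.card_pos this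
    omega
  set C := centralizer ((P : Subgroup K) : Set K) with hC
  have hc : (tr K 19).2.2 = Nat.card C := rfl
  have hPC : (P : Subgroup K) ≤ C := le_centralizer_self 19 P hP
  have h19c : 19 ∣ Nat.card C := by
    have := Subgroup.card_dvd_of_le hPC
    rwa [hP] at this
  have hcK : Nat.card C ∣ Nat.card K := Subgroup.card_subgroup_dvd_card _
  have hnsq : ¬ 19 ^ 2 ∣ Nat.card C := by
    intro h
    have := (h19.pow_dvd_iff_le_factorization Nat.card_pos.ne').mp (h.trans hcK)
    omega
  -- the centralizer has order 19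
  have hc19 : Nat.card C = 19 := by
    obtain ⟨m, hm⟩ := h19c
    by_contra hne
    have hm1 : m ≠ 1 := by rintro rfl; exact hne (by rw [hm])
    obtain ⟨q, hq, hqm⟩ := Nat.exists_prime_and_dvd hm1
    have hq19 : q ≠ 19 := by
      rintro rfl
      apply hnsq
      rw [hm]
      obtain ⟨k, rfl⟩ := hqm
      exact ⟨k, by ring⟩
    have : Fact q.Prime := ⟨hq⟩
    have hqC : q ∣ Nat.card C := by rw [hm]; exact hqm.mul_left 19
    obtain ⟨z, hz⟩ := exists_prime_orderOf_dvd_card' q hqC
    have hzK : orderOf (z : K) = q := by rw [Subgroup.orderOf_coe]; exact hz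
    have hz1 : (z : K) ≠ 1 := by
      intro h
      rw [h, orderOf_one] at hzK
      exact hq.one_lt.ne hzK
    have f1 := card_fixedBy_modEq_one 19 P (z : K) z.2
    have f2 := card_fixedBy_modEq_card 19 q (z : K) 1 (by rw [hzK, pow_one])
    have f3 := card_fixedBy_lt 19 hne1 (z : K) hz1
    rw [hn] at f2 f3
    have hfix : Nat.card (fixedBy (Sylow 19 K) (z : K)) = 1 := by
      have := f1
      unfold Nat.ModEq at this
      omega
    rw [hfix] at f2
    have : q ∣ 20 - 1 := (Nat.modEq_iff_dvd' (by norm_num)).mp f2.symm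
    have : q ∣ 19 := by simpa using this
    exact hq19 ((Nat.prime_dvd_prime_iff_eq hq h19).mp this)
  refine ⟨by rw [hc, hc19], ?_⟩
  -- the index of the centralizer in the normalizer is odd
  by_contra hodd
  have he2 : 2 ∣ (tr K 19).2.1 := by omega
  set N := normalizer ((P : Subgroup K) : Set K) with hN
  have h2N : 2 ∣ Nat.card N := by
    have := card_centralizer_mul_relIndex ((P : Subgroup K))
    rw [← this]
    exact Dvd.dvd.mul_left he2 _
  obtain ⟨u, hu⟩ := exists_prime_orderOf_dvd_card' 2 h2N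
  have huK : orderOf (u : K) = 2 := by rw [Subgroup.orderOf_coe]; exact hu
  have hu2 : (u : K) ^ 2 = 1 := by rw [← huK]; exact pow_orderOf_eq_one _
  have huC : (u : K) ∉ C := by
    intro h
    have h1 : orderOf (⟨(u : K), h⟩ : C) ∣ Nat.card C := orderOf_dvd_natCard _
    rw [← Subgroup.orderOf_coe] at h1
    simp only at h1
    rw [huK, hc19] at h1
    norm_num at h1
  have hinv : ∀ x ∈ (P : Subgroup K), (u : K) * x * (u : K)⁻¹ = x⁻¹ := by
    rcases mem_centralizer_or_inverts 19 (P : Subgroup K) hP (u : K) u.2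
      (by rw [hu2]; exact one_mem _) with h | h
    · exact absurd h huC
    · exact h
  have g1 := mul_card_fixedBy_le_of_inverts 19 P hP (by norm_num) (u : K) hinv
  obtain ⟨t, ht⟩ := card_fixedBy_involution 19 hcard2 (u : K) hu2
  have hPfix : P ∈ fixedBy (Sylow 19 K) (u : K) := by
    rw [MulAction.mem_fixedBy, Sylow.smul_eq_iff_mem_normalizer]
    exact u.2
  have hpos : 0 < Nat.card (fixedBy (Sylow 19 K) (u : K)) := by
    have : Nonempty (fixedBy (Sylow 19 K) (u : K)) := ⟨⟨P, hPfix⟩⟩
    exact Nat.card_pos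
  rw [hn] at g1 ht
  omega

/-- no non-abelian simple group has order `19 * d` with `d` a proper divisor of `9240` -/
theorem no_simple [IsSimpleGroup K] (hG : ¬ IsMulCommutative K) (d : ℕ) (hd : d ∣ 9240)
    (hd' : d ≠ 9240) (hcard : Nat.card K = 19 * d) : False := by
  have chk := check_of_dvd hd hd'
  rw [← hcard] at chk
  have hK : Nat.card K ∣ 175560 := by
    rw [hcard]
    exact (Nat.mul_dvd_mul_left 19 hd).trans (by norm_num)
  have h19 : 19 ∣ Nat.card K := ⟨d, hcard⟩
  have hfac : ∀ r : ℕ, r.Prime → r ∣ Nat.card K → ¬ r ^ 2 ∣ 175560 →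
      (Nat.card K).factorization r = 1 :=
    fun r hr h1 h2 => fac_one hr Nat.card_pos.ne' h1 (fun h => h2 (h.trans hK))
  have i3 : Fact (Nat.Prime 3) := ⟨by norm_num⟩
  have i5 : Fact (Nat.Prime 5) := ⟨by norm_num⟩
  have i7 : Fact (Nat.Prime 7) := ⟨by norm_num⟩
  have i11 : Fact (Nat.Prime 11) := ⟨by norm_num⟩
  have i19 : Fact (Nat.Prime 19) := ⟨by norm_num⟩
  have s3 : ¬ 3 ^ 2 ∣ 175560 := by norm_num
  have s5 : ¬ 5 ^ 2 ∣ 175560 := by norm_num
  have s7 : ¬ 7 ^ 2 ∣ 175560 := by norm_num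
  have s11 : ¬ 11 ^ 2 ∣ 175560 := by norm_num
  have s19 : ¬ 19 ^ 2 ∣ 175560 := by norm_num
  let tN : ℕ → ℕ × ℕ × ℕ := fun r => if r ∣ Nat.card K then tr K r else (0, 0, 0)
  have hmem : ∀ (r : ℕ) [Fact r.Prime], ¬ r ^ 2 ∣ 175560 → tN r ∈ optsN (Nat.card K) r := by
    intro r _ h2
    unfold optsN
    simp only [tN]
    split_ifs with h
    · exact tr_mem_opts hG hK h19 r (hfac r Fact.out h h2)
    · simp
  have hpair : ∀ (r s : ℕ) [Fact r.Prime] [Fact s.Prime], ¬ r ^ 2 ∣ 175560 → ¬ s ^ 2 ∣ 175560 →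
      r ∣ Nat.card K → s ∣ Nat.card K → PairOK r (tN r) s (tN s) := by
    intro r s _ _ hr2 hs2 hr hs
    simp only [tN, if_pos hr, if_pos hs]
    exact pairOK hK r s (hfac r Fact.out hr hr2) (hfac s Fact.out hs hs2)
  have hcount : ∀ (r s u : ℕ) [Fact r.Prime] [Fact s.Prime] [Fact u.Prime], ¬ r ^ 2 ∣ 175560 →
      ¬ s ^ 2 ∣ 175560 → ¬ u ^ 2 ∣ 175560 →
      Count (Nat.card K) r (tN r) s (tN s) u (tN u) := by
    intro r s u _ _ _ hr2 hs2 hu2
    unfold Count
    intro hr hs hu
    simp only [tN, if_pos hr, if_pos hs, if_pos hu]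
    exact count r s u (hfac r Fact.out hr hr2) (hfac s Fact.out hs hs2)
      (hfac u Fact.out hu hu2) hr hs hu
  have hspec : (tN 19).1 = 20 → (tN 19).2.2 = 19 ∧ (tN 19).2.1 % 2 = 1 := by
    simp only [tN, if_pos h19]
    exact special19 hG (hfac 19 (by norm_num) h19 s19)
  exact chk (tN 19) (hmem 19 s19) hspec
    (tN 11) (hmem 11 s11) (fun h => hpair 19 11 s19 s11 h19 h)
    (tN 7) (hmem 7 s7) (fun h => hpair 19 7 s19 s7 h19 h) (fun h h' => hpair 11 7 s11 s7 h h')
    (tN 5) (hmem 5 s5) (fun h => hpair 19 5 s19 s5 h19 h) (fun h h' => hpair 11 5 s11 s5 h h')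
      (fun h h' => hpair 7 5 s7 s5 h h')
    (tN 3) (hmem 3 s3) (fun h => hpair 19 3 s19 s3 h19 h) (fun h h' => hpair 11 3 s11 s3 h h')
      (fun h h' => hpair 7 3 s7 s3 h h') (fun h h' => hpair 5 3 s5 s3 h h')
    ⟨hcount 19 7 5 s19 s7 s5, hcount 19 11 7 s19 s11 s7⟩

end Cfsg.Agent.Lib.Helper71.J1Simple
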