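import Mathlib
import Cfsg.Agent.Lib.Helper71.J1Simple
import Cfsg.Agent.Lib.Helper71.DirectFactor
import Cfsg.Agent.Lib.Helper06.CoprimePairs

/-! Reduction of the order 175560 statement to the simple case. -/

namespace Cfsg.Agent.Lib.Helper71.J1Reduce

open Subgroup
open Cfsg.Agent.Lib.Helper71.J1Arith Cfsg.Agent.Lib.Helper71.J1Simple

/-- an element of order dividing 19 centralizes an invariant subgroup with fewer than 19 elements -/
theorem conj_eq_of_card_lt {H : Type*} [Group H] (y : H) (hy : y ^ 19 = 1) (Q : Subgroup H)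
    [Finite Q] (hQ : Nat.card Q < 19) (hinv : ∀ x ∈ Q, y * x * y⁻¹ ∈ Q) (x : H) (hx : x ∈ Q) :
    y * x = x * y := by
  have hinv' : ∀ k : ℕ, y ^ k * x * (y ^ k)⁻¹ ∈ Q := by
    intro k
    induction k with
    | zero => simpa using hx
    | succ k ih =>
      have := hinv _ ih
      have e : y * (y ^ k * x * (y ^ k)⁻¹) * y⁻¹ = y ^ (k + 1) * x * (y ^ (k + 1))⁻¹ := by
        rw [pow_succ']; group
      rwa [e] at this
  let f : Fin 19 → Q := fun k => ⟨y ^ (k : ℕ) * x * (y ^ (k : ℕ))⁻¹, hinv' k⟩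
  have := Fintype.ofFinite Q
  have hcard : Fintype.card Q < Fintype.card (Fin 19) := by
    rw [← Nat.card_eq_fintype_card]; simpa using hQ
  obtain ⟨i, j, hij, hf⟩ := Fintype.exists_ne_map_eq_of_card_lt f hcard
  have hf' : y ^ (i : ℕ) * x * (y ^ (i : ℕ))⁻¹ = y ^ (j : ℕ) * x * (y ^ (j : ℕ))⁻¹ :=
    congrArg Subtype.val hf
  -- key: for a < b < 19 with equal conjugates, y commutes with x
  have key : ∀ a b : ℕ, a < b → b < 19 → y ^ a * x * (y ^ a)⁻¹ = y ^ b * x * (y ^ b)⁻¹ →
      y * x = x * y := by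
    intro a b hab hb h
    set m := b - a with hm
    have hbm : b = a + m := by omega
    have hcomm : Commute (y ^ m) x := by
      rw [hbm, pow_add] at h
      have h2 : x = y ^ m * x * (y ^ m)⁻¹ := by
        have := congrArg (fun z => (y ^ a)⁻¹ * z * y ^ a) h
        have e1 : (y ^ a)⁻¹ * (y ^ a * x * (y ^ a)⁻¹) * y ^ a = x := by group
        have e2 : (y ^ a)⁻¹ * (y ^ a * y ^ m * x * (y ^ a * y ^ m)⁻¹) * y ^ a =
            y ^ m * x * (y ^ m)⁻¹ := by group
        exact e1.symm.trans (this.trans e2)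
      show y ^ m * x = x * y ^ m
      calc y ^ m * x = (y ^ m * x * (y ^ m)⁻¹) * y ^ m := by group
        _ = x * y ^ m := by rw [← h2]
    have hcop : Nat.Coprime m 19 := by
      rw [Nat.coprime_comm, Nat.Prime.coprime_iff_not_dvd (by norm_num)]
      intro hd
      have := Nat.le_of_dvd (by omega) hd
      omega
    obtain ⟨c, -, hc⟩ := Nat.exists_mul_mod_eq_one_of_coprime hcop (by norm_num)
    have hyc : (y ^ m) ^ c = y := by
      rw [← pow_mul, pow_eq_pow_mod _ hy, hc, pow_one]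
    have := hcomm.pow_left c
    rw [hyc] at this
    exact this.eq
  rcases lt_or_gt_of_ne (fun h => hij (Fin.ext h) : (i : ℕ) ≠ (j : ℕ)) with h | h
  · exact key i j h j.2 hf'
  · exact key j i h i.2 hf'.symm

theorem primePow_lt {q k : ℕ} (hq : q.Prime) (h : q ^ k ∣ 9240) : q ^ k < 19 := by
  by_contra hlt
  push Not at hlt
  have hD : q ^ k ∈ D := mem_D (h.trans (by norm_num))
  have hall : ∀ x ∈ D, x ∣ 9240 → 19 ≤ x → ∃ p1 ∈ [2, 3, 5, 7, 11], ∃ p2 ∈ [2, 3, 5, 7, 11],
      p1 ≠ p2 ∧ p1 ∣ x ∧ p2 ∣ x := by decide +kernel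
  obtain ⟨p1, hp1, p2, hp2, hne, hd1, hd2⟩ := hall _ hD h hlt
  have hpr : ∀ p ∈ [2, 3, 5, 7, 11], Nat.Prime p := by
    intro p hp
    simp only [List.mem_cons, List.not_mem_nil, or_false] at hp
    rcases hp with rfl | rfl | rfl | rfl | rfl <;> norm_num
  have e1 : p1 = q := (Nat.prime_dvd_prime_iff_eq (hpr p1 hp1) hq).mp ((hpr p1 hp1).dvd_of_dvd_pow hd1)
  have e2 : p2 = q := (Nat.prime_dvd_prime_iff_eq (hpr p2 hp2) hq).mp ((hpr p2 hp2).dvd_of_dvd_pow hd2)
  exact hne (e1.trans e2.symm)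

/-- a subgroup of order 19 centralizes a normal subgroup whose order divides 9240 -/
theorem centralizes {H : Type*} [Group H] [Finite H] (P : Subgroup H) (hP : Nat.card P = 19)
    (N : Subgroup H) [N.Normal] (hN : Nat.card N ∣ 9240) :
    ∀ y ∈ P, ∀ n ∈ N, y * n = n * y := by
  have i19 : Fact (Nat.Prime 19) := ⟨by norm_num⟩
  have hcop : (Nat.card N).Coprime 19 := Nat.Coprime.coprime_dvd_left hN (by norm_num)
  have hPp : IsPGroup 19 P := IsPGroup.of_card (n := 1) (by rw [hP, pow_one])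
  have hy19 : ∀ y ∈ P, y ^ 19 = 1 := by
    intro y hy
    have h1 : (⟨y, hy⟩ : P) ^ Nat.card P = 1 := pow_card_eq_one'
    rw [hP] at h1
    exact congrArg Subtype.val h1
  set C := N ⊓ centralizer (P : Set H) with hC
  have hCN : C ≤ N := inf_le_left
  have hdvd : Nat.card N ∣ Nat.card C := by
    rw [← Nat.factorization_prime_le_iff_dvd Nat.card_pos.ne' Nat.card_pos.ne']
    intro q hq
    have : Fact q.Prime := ⟨hq⟩
    obtain ⟨Q, hQN, hQinv, hQcard⟩ :=
      Cfsg.Agent.Lib.Helper06.exists_invariant_sylow P hPp N hcop q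
    have hQlt : Nat.card Q < 19 := by
      rw [hQcard]
      apply primePow_lt hq
      exact (Nat.ordProj_dvd _ _).trans hN
    have hQC : Q ≤ C := by
      intro x hx
      refine Subgroup.mem_inf.mpr ⟨hQN hx, ?_⟩
      rw [Subgroup.mem_centralizer_iff]
      intro y hy
      exact conj_eq_of_card_lt y (hy19 y hy) Q hQlt (fun x hx => hQinv y hy x hx) x hx
    have h1 : q ^ (Nat.card N).factorization q ∣ Nat.card C := by
      rw [← hQcard]; exact Subgroup.card_dvd_of_le hQC
    exact (hq.pow_dvd_iff_le_factorization Nat.card_pos.ne').mp h1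
  have hEq : C = N := Subgroup.eq_of_le_of_card_ge hCN (Nat.le_of_dvd Nat.card_pos hdvd)
  intro y hy n hn
  have : n ∈ C := by rw [hEq]; exact hn
  have h2 := (Subgroup.mem_inf.mp this).2
  rw [Subgroup.mem_centralizer_iff] at h2
  exact h2 y hy

end Cfsg.Agent.Lib.Helper71.J1Reduce
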