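import Mathlib

set_option autoImplicit false

/-!
The box function on the unit circle: twelve arcs of angle `π / 6` (sub-task K80-F of S4470).
-/

namespace Cfsg.Agent.Lib.Helper71.Jordan

open Real

theorem norm_one_sub_exp_sq (θ : ℝ) :
    ‖(1 : ℂ) - Complex.exp (θ * Complex.I)‖ ^ 2 = 2 - 2 * Real.cos θ := by
  rw [Complex.sq_norm, Complex.exp_mul_I, Complex.normSq_apply]
  simp only [Complex.sub_re, Complex.one_re, Complex.add_re, Complex.mul_re, Complex.I_re,
    Complex.I_im, Complex.sub_im, Complex.one_im, Complex.add_im, Complex.mul_im,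
    ← Complex.ofReal_cos, ← Complex.ofReal_sin, Complex.ofReal_re, Complex.ofReal_im]
  have := Real.sin_sq_add_cos_sq θ
  nlinarith

theorem exists_box : ∃ box : ℂ → Fin 12, ∀ z w : ℂ, ‖z‖ = 1 → ‖w‖ = 1 → box z = box w →
    ‖1 - w / z‖ ^ 2 < 2 - Real.sqrt 3 := by
  have hpi : 0 < π := Real.pi_pos
  -- the scaled angle lies in (0, 12]
  have hx : ∀ z : ℂ, 0 < (Complex.arg z + π) * 6 / π ∧ (Complex.arg z + π) * 6 / π ≤ 12 := by
    intro z
    have h1 := Complex.neg_pi_lt_arg z
    have h2 := Complex.arg_le_pi z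
    constructor
    · apply div_pos _ hpi
      nlinarith
    · rw [div_le_iff₀ hpi]
      nlinarith
  have hceil : ∀ z : ℂ, ⌈(Complex.arg z + π) * 6 / π⌉₊ - 1 < 12 := by
    intro z
    have h := (hx z).2
    have : ⌈(Complex.arg z + π) * 6 / π⌉₊ ≤ 12 := by
      apply Nat.ceil_le.mpr
      exact_mod_cast h
    omega
  refine ⟨fun z => ⟨⌈(Complex.arg z + π) * 6 / π⌉₊ - 1, hceil z⟩, ?_⟩
  intro z w hz hw hbox
  have hbox' : ⌈(Complex.arg z + π) * 6 / π⌉₊ - 1 = ⌈(Complex.arg w + π) * 6 / π⌉₊ - 1 :=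
    congrArg Fin.val hbox
  have hzpos : 0 < ⌈(Complex.arg z + π) * 6 / π⌉₊ := Nat.ceil_pos.mpr (hx z).1
  have hwpos : 0 < ⌈(Complex.arg w + π) * 6 / π⌉₊ := Nat.ceil_pos.mpr (hx w).1
  have heq : ⌈(Complex.arg z + π) * 6 / π⌉₊ = ⌈(Complex.arg w + π) * 6 / π⌉₊ := by omega
  -- both scaled angles lie in the same unit interval
  have hz1 := Nat.ceil_lt_add_one (hx z).1.le
  have hz2 := Nat.le_ceil ((Complex.arg z + π) * 6 / π)
  have hw1 := Nat.ceil_lt_add_one (hx w).1.le
  have hw2 := Nat.le_ceil ((Complex.arg w + π) * 6 / π)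
  rw [heq] at hz1 hz2
  have hdiff : |(Complex.arg w + π) * 6 / π - (Complex.arg z + π) * 6 / π| < 1 := by
    rw [abs_lt]; constructor <;> linarith
  have hθ : |Complex.arg w - Complex.arg z| < π / 6 := by
    have e : (Complex.arg w + π) * 6 / π - (Complex.arg z + π) * 6 / π =
        (Complex.arg w - Complex.arg z) * (6 / π) := by ring
    rw [e, abs_mul, abs_of_pos (div_pos (by norm_num : (0 : ℝ) < 6) hpi)] at hdiff
    have : |Complex.arg w - Complex.arg z| < 1 / (6 / π) := by
      rw [lt_div_iff₀ (div_pos (by norm_num : (0 : ℝ) < 6) hpi)]; exact hdiff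
    have e2 : (1 : ℝ) / (6 / π) = π / 6 := by field_simp
    rw [e2] at this
    exact this
  -- the quotient is a point of the circle with small angle
  have ez : z = Complex.exp (Complex.arg z * Complex.I) := by
    have := Complex.norm_mul_exp_arg_mul_I z
    rw [hz, Complex.ofReal_one, one_mul] at this
    exact this.symm
  have ew : w = Complex.exp (Complex.arg w * Complex.I) := by
    have := Complex.norm_mul_exp_arg_mul_I w
    rw [hw, Complex.ofReal_one, one_mul] at this
    exact this.symm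
  have equot : w / z = Complex.exp (((Complex.arg w - Complex.arg z : ℝ) : ℂ) * Complex.I) := by
    conv_lhs => rw [ez, ew]
    rw [← Complex.exp_sub]
    congr 1
    push_cast
    ring
  rw [equot, norm_one_sub_exp_sq]
  have hcos : Real.cos (π / 6) < Real.cos (Complex.arg w - Complex.arg z) := by
    rw [← Real.cos_abs (Complex.arg w - Complex.arg z)]
    apply Real.cos_lt_cos_of_nonneg_of_le_pi_div_two (abs_nonneg _) _ hθ
    linarith
  rw [Real.cos_pi_div_six] at hcos
  linarith

end Cfsg.Agent.Lib.Helper71.Jordan
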