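import Mathlib
import Cfsg.Agent.Lib.Helper16.FixedVector

set_option autoImplicit false

/-!
Finite `p`-groups of linear maps in characteristic `p`: invariant flags and the bound
`clog 2 n` on the derived length.
-/

namespace Cfsg.Agent.Lib.Helper71

open Module
open scoped commutatorElement

universe u v w

section CharPLin

variable {F : Type w} [Field F] {p : ℕ} [Fact p.Prime] [CharP F p]

/-- in characteristic `p`, a finite `p`-group of linear maps has invariant subspaces of every
dimension -/
theorem exists_invariant_finrank {P : Type u} [Group P] [Finite P] (hP : IsPGroup p P)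
    {V : Type v} [AddCommGroup V] [Module F V] [FiniteDimensional F V]
    (ρ : Representation F P V) :
    ∀ d ≤ finrank F V, ∃ U : Submodule F V, (∀ g, U ≤ U.comap (ρ g)) ∧ finrank F U = d := by
  intro d
  induction d with
  | zero =>
    intro _
    exact ⟨⊥, fun g => bot_le, finrank_bot F V⟩
  | succ d ih =>
    intro hd
    obtain ⟨U, hU, hUd⟩ := ih (by omega)
    have hquot : finrank F (V ⧸ U) + finrank F U = finrank F V := U.finrank_quotient_add_finrank
    have hpos : 0 < finrank F (V ⧸ U) := by omega
    have : Nontrivial (V ⧸ U) := Module.nontrivial_of_finrank_pos (R := F) hpos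
    have hne : (⊤ : Submodule F (V ⧸ U)) ≠ ⊥ := top_ne_bot
    obtain ⟨vb, -, hvb0, hvbfix⟩ :=
      Cfsg.Agent.Lib.Helper16.exists_fixed_vector hP (ρ.quotient U hU) ⊤
        (fun g w _ => Submodule.mem_top) hne
    obtain ⟨v, rfl⟩ := Submodule.Quotient.mk_surjective U vb
    have hvU : v ∉ U := by
      intro hv
      exact hvb0 ((Submodule.Quotient.mk_eq_zero U).mpr hv)
    have hv0 : v ≠ 0 := by
      rintro rfl
      exact hvU U.zero_mem
    have hfix : ∀ g, ρ g v - v ∈ U := by
      intro g
      have h := hvbfix g
      rw [Representation.quotient_apply, Submodule.mapQ_apply] at h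
      exact (Submodule.Quotient.eq U).mp h
    refine ⟨U ⊔ Submodule.span F {v}, ?_, ?_⟩
    · intro g x hx
      rw [Submodule.mem_comap]
      rw [Submodule.mem_sup] at hx
      obtain ⟨u, hu, y, hy, rfl⟩ := hx
      rw [Submodule.mem_span_singleton] at hy
      obtain ⟨c, rfl⟩ := hy
      rw [map_add, map_smul]
      have h1 : ρ g u ∈ U := hU g hu
      have h2 : ρ g v = (ρ g v - v) + v := by abel
      rw [h2, smul_add]
      refine Submodule.add_mem _ (Submodule.mem_sup_left h1) (Submodule.add_mem _ ?_ ?_)
      · exact Submodule.mem_sup_left (U.smul_mem c (hfix g))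
      · exact Submodule.mem_sup_right (Submodule.smul_mem _ c (Submodule.mem_span_singleton_self v))
    · have hdisj : Disjoint U (Submodule.span F {v}) :=
        (Submodule.disjoint_span_singleton' hv0).mpr hvU
      have h := Submodule.finrank_sup_add_finrank_inf_eq U (Submodule.span F {v})
      rw [hdisj.eq_bot, finrank_bot, finrank_span_singleton hv0, hUd] at h
      omega

/-- the kernel of a representation, as membership: commutators of elements acting trivially on
an invariant subspace and on the quotient act trivially -/
theorem rep_commute_of_trivial_sub_quot {P : Type u} [Group P]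
    {V : Type v} [AddCommGroup V] [Module F V] (ρ : Representation F P V)
    (U : Submodule F V) (g h : P)
    (hg1 : ∀ u ∈ U, ρ g u = u) (hg2 : ∀ v, ρ g v - v ∈ U)
    (hh1 : ∀ u ∈ U, ρ h u = u) (hh2 : ∀ v, ρ h v - v ∈ U) :
    ρ ⁅g, h⁆ = 1 := by
  have hcomm : ρ (g * h) = ρ (h * g) := by
    ext v
    rw [map_mul, map_mul, Module.End.mul_apply, Module.End.mul_apply]
    have e1 : ρ g (ρ h v) = ρ g v + (ρ h v - v) := by
      have : ρ h v = v + (ρ h v - v) := by abel
      rw [this, map_add, hg1 _ (hh2 v)]
      abel
    have e2 : ρ h (ρ g v) = ρ h v + (ρ g v - v) := by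
      have : ρ g v = v + (ρ g v - v) := by abel
      rw [this, map_add, hh1 _ (hg2 v)]
      abel
    rw [e1, e2]
    abel
  have : ⁅g, h⁆ = (g * h) * (h * g)⁻¹ := by
    rw [commutatorElement_def]; group
  rw [this, map_mul, hcomm, ← map_mul, mul_inv_cancel, map_one]

/-- in characteristic `p`, the `clog 2 n`-th derived subgroup of a finite `p`-group acts trivially
in every representation of degree `n` -/
theorem derivedSeries_clog_le_ker_of_charP :
    ∀ (n : ℕ) {P : Type u} [Group P] [Finite P] (_hP : IsPGroup p P)
      {V : Type v} [AddCommGroup V] [Module F V] [FiniteDimensional F V]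
      (ρ : Representation F P V), finrank F V = n →
      ∀ g ∈ derivedSeries P (Nat.clog 2 n), ρ g = 1 := by
  intro n
  induction n using Nat.strong_induction_on with
  | _ n IH =>
    intro P _ _ hP V _ _ _ ρ hV g hg
    rcases Nat.lt_or_ge n 2 with hn | hn
    · interval_cases n
      · have : Subsingleton V := (finrank_zero_iff (R := F)).mp hV
        ext v
        exact Subsingleton.elim _ _
      · have hne : (⊤ : Submodule F V) ≠ ⊥ := by
          have : Nontrivial V := Module.nontrivial_of_finrank_pos (R := F) (by omega)
          exact top_ne_bot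
        obtain ⟨v, -, hv0, hvfix⟩ :=
          Cfsg.Agent.Lib.Helper16.exists_fixed_vector hP ρ ⊤
            (fun g w _ => Submodule.mem_top) hne
        ext w
        obtain ⟨c, rfl⟩ := (finrank_eq_one_iff_of_nonzero' v hv0).mp hV w
        rw [map_smul, hvfix g, Module.End.one_apply]
    · obtain ⟨U, hU, hUd⟩ := exists_invariant_finrank hP ρ (n / 2) (by omega)
      have hquot : finrank F (V ⧸ U) + finrank F U = finrank F V :=
        U.finrank_quotient_add_finrank
      have hq : finrank F (V ⧸ U) = (n + 2 - 1) / 2 := by omega
      have hclog : Nat.clog 2 n = Nat.clog 2 ((n + 2 - 1) / 2) + 1 :=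
        Nat.clog_of_two_le (by norm_num) hn
      have IH1 := IH (n / 2) (by omega) hP (ρ.subrepresentation U hU) hUd
      have IH2 := IH ((n + 2 - 1) / 2) (by omega) hP (ρ.quotient U hU) hq
      have hmono : Nat.clog 2 (n / 2) ≤ Nat.clog 2 ((n + 2 - 1) / 2) :=
        Nat.clog_mono_right 2 (by omega)
      set k := Nat.clog 2 ((n + 2 - 1) / 2) with hk
      have h1 : ∀ a ∈ derivedSeries P k, ∀ u ∈ U, ρ a u = u := by
        intro a ha u hu
        have := IH1 a (derivedSeries_antitone P hmono ha)
        have h' := congrArg (fun f => ((f ⟨u, hu⟩ : U) : V)) this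
        simpa using h'
      have h2 : ∀ a ∈ derivedSeries P k, ∀ v, ρ a v - v ∈ U := by
        intro a ha v
        have := IH2 a ha
        have h' := congrArg (fun f => f (Submodule.Quotient.mk v)) this
        simp only [Representation.quotient_apply, Submodule.mapQ_apply,
          Module.End.one_apply] at h'
        exact (Submodule.Quotient.eq U).mp h'
      rw [hclog, derivedSeries_succ] at hg
      have hle : ⁅derivedSeries P k, derivedSeries P k⁆ ≤ (ρ : P →* Module.End F V).ker := by
        rw [Subgroup.commutator_le]
        intro a ha b hb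
        rw [MonoidHom.mem_ker]
        exact rep_commute_of_trivial_sub_quot ρ U a b (h1 a ha) (h2 a ha) (h1 b hb) (h2 b hb)
      exact MonoidHom.mem_ker.mp (hle hg)

/-- in characteristic `p`, a finite `p`-group acting faithfully in degree `n` has derived
length at most `log 2 n + 1` -/
theorem derivedSeries_log_eq_bot_of_charP {P : Type u} [Group P] [Finite P] (hP : IsPGroup p P)
    {V : Type v} [AddCommGroup V] [Module F V] [FiniteDimensional F V]
    (ρ : Representation F P V) (hρ : Function.Injective ρ) :
    derivedSeries P (Nat.log 2 (finrank F V) + 1) = ⊥ := by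
  rw [eq_bot_iff]
  intro g hg
  have hle : Nat.clog 2 (finrank F V) ≤ Nat.log 2 (finrank F V) + 1 := by
    apply Nat.clog_le_of_le_pow
    exact (Nat.lt_pow_succ_log_self (by norm_num) _).le
  have := derivedSeries_clog_le_ker_of_charP (finrank F V) hP ρ rfl g
    (derivedSeries_antitone P hle hg)
  rw [Subgroup.mem_bot]
  apply hρ
  rw [this, map_one]

end CharPLin

end Cfsg.Agent.Lib.Helper71
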