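import Mathlib

set_option autoImplicit false

/-!
Finite `p`-groups of linear maps over an algebraically closed field in which `p` is invertible:
the bound `log 2 n + 1` on the derived length.
-/

namespace Cfsg.Agent.Lib.Helper71

open Module
open scoped commutatorElement

universe u v w

section GroupLemmas

/-- derived series of a group through a subgroup containing the derived subgroup -/
theorem derivedSeries_succ_le_map_of_commutator_le {G : Type*} [Group G] (K : Subgroup G)
    (hK : commutator G ≤ K) :
    ∀ j, derivedSeries G (j + 1) ≤ (derivedSeries K j).map K.subtype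
  | 0 => by
    rw [derivedSeries_one, derivedSeries_zero, ← MonoidHom.range_eq_map, Subgroup.range_subtype]
    exact hK
  | j + 1 => by
    rw [derivedSeries_succ, derivedSeries_succ (G := K), Subgroup.map_commutator]
    exact Subgroup.commutator_mono (derivedSeries_succ_le_map_of_commutator_le K hK j)
      (derivedSeries_succ_le_map_of_commutator_le K hK j)

/-- a nonabelian finite `p`-group has a noncentral element of the second centre -/
theorem exists_second_center {P : Type*} [Group P] [Finite P] {p : ℕ} [Fact p.Prime]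
    (hP : IsPGroup p P) (hnc : ¬ ∀ a b : P, a * b = b * a) :
    ∃ x : P, x ∉ Subgroup.center P ∧ ∀ g : P, g * x * g⁻¹ * x⁻¹ ∈ Subgroup.center P := by
  have hnt : Nontrivial (P ⧸ Subgroup.center P) := by
    rw [← not_subsingleton_iff_nontrivial]
    intro hsub
    apply hnc
    intro a b
    have : (a : P ⧸ Subgroup.center P) = 1 := Subsingleton.elim _ _
    have ha : a ∈ Subgroup.center P := (QuotientGroup.eq_one_iff a).mp this
    exact (Subgroup.mem_center_iff.mp ha b).symm
  have hQ : IsPGroup p (P ⧸ Subgroup.center P) := hP.to_quotient _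
  have := hQ.center_nontrivial
  obtain ⟨⟨y, hy⟩, hne⟩ := exists_ne (1 : Subgroup.center (P ⧸ Subgroup.center P))
  obtain ⟨x, rfl⟩ := QuotientGroup.mk_surjective y
  refine ⟨x, ?_, ?_⟩
  · intro hx
    apply hne
    ext
    exact (QuotientGroup.eq_one_iff x).mpr hx
  · intro g
    rw [← QuotientGroup.eq_one_iff]
    have h := Subgroup.mem_center_iff.mp hy (g : P ⧸ Subgroup.center P)
    rw [QuotientGroup.mk_mul, QuotientGroup.mk_mul, QuotientGroup.mk_mul, QuotientGroup.mk_inv,
      QuotientGroup.mk_inv, h]
    group

/-- the commutator map with a second-centre element, as a homomorphism to the centre -/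
noncomputable def commHom {P : Type*} [Group P] (x : P)
    (hx : ∀ g : P, g * x * g⁻¹ * x⁻¹ ∈ Subgroup.center P) : P →* Subgroup.center P where
  toFun g := ⟨g * x * g⁻¹ * x⁻¹, hx g⟩
  map_one' := by ext; simp
  map_mul' a b := by
    ext
    simp only [Subgroup.coe_mul]
    have hb := Subgroup.mem_center_iff.mp (hx b)
    calc a * b * x * (a * b)⁻¹ * x⁻¹
        = a * (b * x * b⁻¹ * x⁻¹) * (x * a⁻¹ * x⁻¹) := by group
      _ = (b * x * b⁻¹ * x⁻¹) * a * (x * a⁻¹ * x⁻¹) := by rw [hb a]
      _ = (b * x * b⁻¹ * x⁻¹) * (a * x * a⁻¹ * x⁻¹) := by group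
      _ = (a * x * a⁻¹ * x⁻¹) * (b * x * b⁻¹ * x⁻¹) := (hb _).symm

open scoped IsMulCommutative in
theorem commutator_le_commHom_ker {P : Type*} [Group P] (x : P)
    (hx : ∀ g : P, g * x * g⁻¹ * x⁻¹ ∈ Subgroup.center P) :
    commutator P ≤ (commHom x hx).ker :=
  Abelianization.commutator_subset_ker (commHom x hx)

theorem commHom_ker_commute {P : Type*} [Group P] (x : P)
    (hx : ∀ g : P, g * x * g⁻¹ * x⁻¹ ∈ Subgroup.center P) (k : P)
    (hk : k ∈ (commHom x hx).ker) : k * x = x * k := by
  rw [MonoidHom.mem_ker] at hk
  have h : k * x * k⁻¹ * x⁻¹ = 1 := congrArg Subtype.val hk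
  have h1 : k * x * k⁻¹ = x := mul_inv_eq_one.mp h
  exact mul_inv_eq_iff_eq_mul.mp h1

end GroupLemmas

section LinLemmas

variable {F : Type w} [Field F]

theorem end_eq_one_of_iSup {V : Type v} [AddCommGroup V] [Module F V] {ι : Type*}
    (W : ι → Submodule F V) (hW : ⨆ i, W i = ⊤) (f : End F V)
    (h : ∀ i, ∀ v ∈ W i, f v = v) : f = 1 := by
  have hle : ⨆ i, W i ≤ LinearMap.eqLocus f 1 := iSup_le fun i v hv => by
    rw [LinearMap.mem_eqLocus]
    simpa using h i v hv
  rw [hW] at hle
  ext v
  exact hle (Submodule.mem_top)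

theorem disjoint_eigenspace_of_ne {V : Type v} [AddCommGroup V] [Module F V] (f : End F V)
    {μ μ' : F} (h : μ ≠ μ') : Disjoint (f.eigenspace μ) (f.eigenspace μ') := by
  rw [Submodule.disjoint_def]
  intro v h1 h2
  rw [End.mem_eigenspace_iff] at h1 h2
  have : (μ - μ') • v = 0 := by rw [sub_smul, ← h1, ← h2, sub_self]
  rcases smul_eq_zero.mp this with h0 | h0
  · exact absurd (sub_eq_zero.mp h0) h
  · exact h0

variable [IsAlgClosed F]

theorem iSup_eigenspace_eq_top_of_pow_eq_one {V : Type v} [AddCommGroup V] [Module F V]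
    [FiniteDimensional F V] (f : End F V) (N : ℕ) (hN : (N : F) ≠ 0) (hf : f ^ N = 1) :
    ⨆ μ : F, f.eigenspace μ = ⊤ := by
  have hss : f.IsSemisimple := by
    apply End.isSemisimple_of_squarefree_aeval_eq_zero (p := Polynomial.X ^ N - Polynomial.C 1)
    · exact (Polynomial.separable_X_pow_sub_C 1 hN one_ne_zero).squarefree
    · simp [hf]
  have := End.iSup_maxGenEigenspace_eq_top f
  simpa [hss.isFinitelySemisimple.maxGenEigenspace_eq_eigenspace] using this

theorem rep_iSup_eigenspace {p : ℕ} [Fact p.Prime] (hpF : (p : F) ≠ 0) {P : Type u} [Group P]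
    (hP : IsPGroup p P) {V : Type v} [AddCommGroup V] [Module F V] [FiniteDimensional F V]
    (ρ : Representation F P V) (g : P) : ⨆ μ : F, End.eigenspace (ρ g) μ = ⊤ := by
  obtain ⟨k, hk⟩ := hP g
  apply iSup_eigenspace_eq_top_of_pow_eq_one (ρ g) (p ^ k)
  · push_cast
    exact pow_ne_zero _ hpF
  · rw [← map_pow, hk, map_one]

end LinLemmas

section CrossMain

variable {F : Type w} [Field F]

/-- the statement proved by induction on the degree -/
def CrossClaim (F : Type w) [Field F] (p : ℕ) (n : ℕ) : Prop :=
  ∀ {P : Type u} [Group P] [Finite P] (_ : IsPGroup p P) {V : Type v} [AddCommGroup V]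
    [Module F V] [FiniteDimensional F V] (ρ : Representation F P V), finrank F V = n →
    ∀ g ∈ derivedSeries P (Nat.log 2 n + 1), ρ g = 1

theorem subrep_eq_one_apply {P : Type u} [Group P] {V : Type v} [AddCommGroup V] [Module F V]
    (ρ : Representation F P V) (W : Submodule F V) (hW : ∀ g, W ≤ W.comap (ρ g)) (g : P)
    (h : ρ.subrepresentation W hW g = 1) (v : V) (hv : v ∈ W) : ρ g v = v := by
  have h' := congrArg (fun f => ((f ⟨v, hv⟩ : W) : V)) h
  simpa using h'

variable [IsAlgClosed F] {p : ℕ} [Fact p.Prime]

theorem cross_faithful_step (hpF : (p : F) ≠ 0) (n : ℕ)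
    (IH : ∀ m < n, CrossClaim.{u, v, w} F p m)
    {P : Type u} [Group P] [Finite P] (hP : IsPGroup p P) {V : Type v} [AddCommGroup V]
    [Module F V] [FiniteDimensional F V] (ρ : Representation F P V)
    (hρ : Function.Injective ρ) (hV : finrank F V = n) :
    derivedSeries P (Nat.log 2 n + 1) = ⊥ := by
  rcases Nat.eq_zero_or_pos n with hn0 | hnpos
  · rw [hn0] at hV
    have : Subsingleton V := (finrank_zero_iff (R := F)).mp hV
    have : Subsingleton P := ⟨fun a b => hρ (by ext v; exact Subsingleton.elim _ _)⟩
    exact Subsingleton.elim _ _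
  by_cases hab : ∀ a b : P, a * b = b * a
  · have h1 : derivedSeries P 1 = ⊥ := by
      rw [derivedSeries_one, eq_bot_iff, commutator_def, Subgroup.commutator_le]
      intro a _ b _
      rw [Subgroup.mem_bot, commutatorElement_eq_one_iff_mul_comm]
      exact hab a b
    rw [eq_bot_iff, ← h1]
    exact derivedSeries_antitone P (by omega)
  by_cases hz : ∃ z ∈ Subgroup.center P, ∀ c : F, ρ z ≠ c • 1
  · -- a central element which is not a scalar: its eigenspaces are proper and invariant
    obtain ⟨z, hzc, hzs⟩ := hz
    have hsup : ⨆ μ : F, End.eigenspace (ρ z) μ = ⊤ := rep_iSup_eigenspace hpF hP ρ z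
    have hinv : ∀ (μ : F) (g : P),
        End.eigenspace (ρ z) μ ≤ (End.eigenspace (ρ z) μ).comap (ρ g) := by
      intro μ g v hv
      rw [Submodule.mem_comap, End.mem_eigenspace_iff]
      rw [End.mem_eigenspace_iff] at hv
      have hcomm : ρ z (ρ g v) = ρ g (ρ z v) := by
        rw [← Module.End.mul_apply, ← Module.End.mul_apply, ← map_mul, ← map_mul,
          Subgroup.mem_center_iff.mp hzc g]
      rw [hcomm, hv, map_smul]
    have hlt : ∀ μ : F, finrank F (End.eigenspace (ρ z) μ) < n := by
      intro μ
      rw [← hV]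
      apply Submodule.finrank_lt
      intro htop
      apply hzs μ
      ext v
      have hv : v ∈ End.eigenspace (ρ z) μ := by rw [htop]; exact Submodule.mem_top
      rw [End.mem_eigenspace_iff] at hv
      rw [hv]
      simp
    rw [eq_bot_iff]
    intro g hg
    rw [Subgroup.mem_bot]
    apply hρ
    rw [map_one]
    apply end_eq_one_of_iSup _ hsup
    intro μ v hv
    have hmono : Nat.log 2 (finrank F (End.eigenspace (ρ z) μ)) + 1 ≤ Nat.log 2 n + 1 := by
      have := Nat.log_mono_right (b := 2) (hlt μ).le
      omega
    have := IH _ (hlt μ) hP (ρ.subrepresentation _ (hinv μ)) rfl g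
      (derivedSeries_antitone P hmono hg)
    exact subrep_eq_one_apply ρ _ (hinv μ) g this v hv
  · -- every central element is a scalar
    push Not at hz
    obtain ⟨x, hxc, hx⟩ := exists_second_center hP hab
    set K : Subgroup P := (commHom x hx).ker with hKdef
    have hK : commutator P ≤ K := commutator_le_commHom_ker x hx
    have hKx : ∀ k ∈ K, k * x = x * k := fun k hk => commHom_ker_commute x hx k hk
    have hsup : ⨆ μ : F, End.eigenspace (ρ x) μ = ⊤ := rep_iSup_eigenspace hpF hP ρ x
    have hxinj : Function.Injective (ρ x) := by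
      intro a b hab'
      have := congrArg (ρ x⁻¹) hab'
      rwa [← Module.End.mul_apply, ← Module.End.mul_apply, ← map_mul, inv_mul_cancel, map_one,
        Module.End.one_apply, Module.End.one_apply] at this
    -- the dimension bound
    have hdim : ∀ μ : F, 2 * finrank F (End.eigenspace (ρ x) μ) ≤ n := by
      intro μ
      by_cases hμ : μ = 0
      · have : End.eigenspace (ρ x) μ = ⊥ := by
          rw [hμ, End.eigenspace_zero]
          exact LinearMap.ker_eq_bot.mpr hxinj
        rw [this, finrank_bot]
        omega
      have hxc' : ∃ g : P, g * x ≠ x * g := by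
        by_contra hcon
        push Not at hcon
        exact hxc (Subgroup.mem_center_iff.mpr hcon)
      obtain ⟨g, hg⟩ := hxc'
      obtain ⟨c, hc⟩ := hz _ (hx g)
      have hrel : ρ g * ρ x = c • (ρ x * ρ g) := by
        have e : g * x = (g * x * g⁻¹ * x⁻¹) * x * g := by group
        rw [← map_mul, e, map_mul, map_mul, hc, smul_mul_assoc, smul_mul_assoc, one_mul]
      have hc1 : c ≠ 1 := by
        intro h1
        rw [h1, one_smul, ← map_mul, ← map_mul] at hrel
        exact hg (hρ hrel)
      have hc0 : c ≠ 0 := by
        intro h0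
        rw [h0, zero_smul, ← map_mul] at hrel
        have h10 : (1 : End F V) = 0 := by
          have : ρ ((g * x)⁻¹ * (g * x)) = 0 := by rw [map_mul, hrel, mul_zero]
          rwa [inv_mul_cancel, map_one] at this
        have hsub : Subsingleton V := ⟨fun a b => by
          have ha : a = (1 : End F V) a := rfl
          have hb : b = (1 : End F V) b := rfl
          rw [ha, hb, h10]; rfl⟩
        have : finrank F V = 0 := finrank_zero_of_subsingleton
        omega
      have hginj : Function.Injective (ρ g) := by
        intro a b hab'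
        have := congrArg (ρ g⁻¹) hab'
        rwa [← Module.End.mul_apply, ← Module.End.mul_apply, ← map_mul, inv_mul_cancel, map_one,
          Module.End.one_apply, Module.End.one_apply] at this
      have hmap : (End.eigenspace (ρ x) μ).map (ρ g) ≤ End.eigenspace (ρ x) (c⁻¹ * μ) := by
        rintro _ ⟨v, hv, rfl⟩
        have hv' : ρ x v = μ • v := End.mem_eigenspace_iff.mp hv
        rw [End.mem_eigenspace_iff]
        have h1 : ρ g (ρ x v) = c • ρ x (ρ g v) := by
          have := congrArg (fun f : End F V => f v) hrel
          simpa using this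
        rw [hv', map_smul] at h1
        rw [mul_smul, h1, smul_smul, inv_mul_cancel₀ hc0, one_smul]
      have hne : μ ≠ c⁻¹ * μ := by
        intro h
        apply hc1
        have h2 : c * μ = μ := by
          calc c * μ = c * (c⁻¹ * μ) := by rw [← h]
            _ = μ := by rw [← mul_assoc, mul_inv_cancel₀ hc0, one_mul]
        have h3 : (c - 1) * μ = 0 := by rw [sub_mul, h2, one_mul, sub_self]
        rcases mul_eq_zero.mp h3 with h4 | h4
        · exact sub_eq_zero.mp h4
        · exact absurd h4 hμ
      have hdisj := disjoint_eigenspace_of_ne (ρ x) hne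
      have hsum := Submodule.finrank_add_finrank_le_of_disjoint hdisj
      have heq : finrank F ((End.eigenspace (ρ x) μ).map (ρ g)) =
          finrank F (End.eigenspace (ρ x) μ) :=
        (Submodule.equivMapOfInjective (ρ g) hginj _).finrank_eq.symm
      have hle := Submodule.finrank_mono hmap
      rw [heq] at hle
      omega
    -- invariance under K
    have hKinv : ∀ (μ : F) (k : K), End.eigenspace (ρ x) μ ≤
        (End.eigenspace (ρ x) μ).comap ((ρ.comp K.subtype) k) := by
      intro μ k v hv
      rw [Submodule.mem_comap, End.mem_eigenspace_iff]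
      rw [End.mem_eigenspace_iff] at hv
      have hcomm : ρ x (ρ (k : P) v) = ρ (k : P) (ρ x v) := by
        rw [← Module.End.mul_apply, ← Module.End.mul_apply, ← map_mul, ← map_mul,
          hKx k k.2]
      change ρ x (ρ (k : P) v) = μ • ρ (k : P) v
      rw [hcomm, hv, map_smul]
    have hKbot : derivedSeries K (Nat.log 2 n) = ⊥ := by
      rw [eq_bot_iff]
      intro k hk
      rw [Subgroup.mem_bot]
      apply Subtype.ext
      apply hρ
      rw [Subgroup.coe_one, map_one]
      apply end_eq_one_of_iSup _ hsup
      intro μ v hv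
      rcases Nat.eq_zero_or_pos (finrank F (End.eigenspace (ρ x) μ)) with h0 | hpos
      · have hbot : End.eigenspace (ρ x) μ = ⊥ := Submodule.finrank_eq_zero.mp h0
        rw [hbot, Submodule.mem_bot] at hv
        rw [hv, map_zero]
      · have hd := hdim μ
        have hlog : Nat.log 2 (finrank F (End.eigenspace (ρ x) μ)) + 1 ≤ Nat.log 2 n := by
          rw [← Nat.log_mul_base (by norm_num) hpos.ne']
          exact Nat.log_mono_right (by omega)
        have := IH _ (by omega) (hP.to_subgroup K)
          (Representation.subrepresentation (ρ.comp K.subtype) _ (hKinv μ)) rfl k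
          (derivedSeries_antitone K hlog hk)
        exact subrep_eq_one_apply (ρ.comp K.subtype) _ (hKinv μ) k this v hv
    rw [eq_bot_iff]
    refine (derivedSeries_succ_le_map_of_commutator_le K hK (Nat.log 2 n)).trans ?_
    rw [hKbot, Subgroup.map_bot]

theorem cross_claim (hpF : (p : F) ≠ 0) : ∀ n, CrossClaim.{u, v, w} F p n := by
  intro n
  induction n using Nat.strong_induction_on with
  | _ n IH =>
    intro P _ _ hP V _ _ _ ρ hV g hg
    set N : Subgroup P := ρ.asGroupHom.ker with hN
    let ρ' : Representation F (P ⧸ N) V :=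
      (Units.coeHom (End F V)).comp (QuotientGroup.kerLift ρ.asGroupHom)
    have hρ' : Function.Injective ρ' := by
      intro a b hab
      apply QuotientGroup.kerLift_injective ρ.asGroupHom
      exact Units.ext hab
    have hbot := cross_faithful_step hpF n IH (hP.to_quotient N) ρ' hρ' hV
    have hmem : (QuotientGroup.mk' N) g ∈ derivedSeries (P ⧸ N) (Nat.log 2 n + 1) :=
      map_derivedSeries_le_derivedSeries (QuotientGroup.mk' N) _
        (Subgroup.mem_map_of_mem _ hg)
    rw [hbot, Subgroup.mem_bot, QuotientGroup.mk'_apply, QuotientGroup.eq_one_iff] at hmem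
    have h1 : ρ.asGroupHom g = 1 := MonoidHom.mem_ker.mp hmem
    rw [← Representation.asGroupHom_apply, h1, Units.val_one]

/-- over an algebraically closed field in which `p` is invertible, a finite `p`-group acting
faithfully in degree `n` has derived length at most `log 2 n + 1` -/
theorem derivedSeries_log_eq_bot_of_cross (hpF : (p : F) ≠ 0) {P : Type u} [Group P] [Finite P]
    (hP : IsPGroup p P) {V : Type v} [AddCommGroup V] [Module F V] [FiniteDimensional F V]
    (ρ : Representation F P V) (hρ : Function.Injective ρ) :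
    derivedSeries P (Nat.log 2 (finrank F V) + 1) = ⊥ := by
  rw [eq_bot_iff]
  intro g hg
  rw [Subgroup.mem_bot]
  apply hρ
  rw [map_one]
  exact cross_claim hpF (finrank F V) hP ρ rfl g hg

end CrossMain

end Cfsg.Agent.Lib.Helper71
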