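import Mathlib
import Cfsg.Agent.Lib.Helper71.LinPGroupCross

set_option autoImplicit false

/-!
Finite `p`-groups of linear maps commuting with a Frobenius-semilinear bijection: the bound
`log 2 (n / e) + 1` on the derived length, `e` the order of `Q` modulo `p`.
-/

namespace Cfsg.Agent.Lib.Helper71

open Module

universe u v w

section FrobStr

variable {K : Type w} [Field K]

/-- a `Q`-Frobenius-semilinear bijection commuting with a representation -/
def HasFrob (Q : ℕ) {P : Type u} [Monoid P] {V : Type v} [AddCommGroup V] [Module K V]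
    (ρ : Representation K P V) : Prop :=
  ∃ φ : V ≃+ V, (∀ (c : K) (v : V), φ (c • v) = c ^ Q • φ v) ∧
    ∀ (g : P) (v : V), φ (ρ g v) = ρ g (φ v)

theorem hasFrob_subrepresentation {Q : ℕ} {P : Type u} [Monoid P] {V : Type v} [AddCommGroup V]
    [Module K V] (ρ : Representation K P V) (φ : V ≃+ V)
    (h1 : ∀ (c : K) (v : V), φ (c • v) = c ^ Q • φ v)
    (h2 : ∀ (g : P) (v : V), φ (ρ g v) = ρ g (φ v))
    (U : Submodule K V) (hU : ∀ g, U ≤ U.comap (ρ g)) (hφU : ∀ v, v ∈ U ↔ φ v ∈ U) :
    HasFrob Q (ρ.subrepresentation U hU) := by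
  refine ⟨{ toFun := fun v => ⟨φ v, (hφU v).mp v.2⟩
            invFun := fun v => ⟨φ.symm v, (hφU _).mpr (by simp)⟩
            left_inv := fun v => by ext; simp
            right_inv := fun v => by ext; simp
            map_add' := fun a b => by ext; simp }, ?_, ?_⟩
  · intro c v
    ext
    simp [h1]
  · intro g v
    ext
    simp [h2]

/-- a semilinear bijection commuting with `f` carries eigenspaces to eigenspaces of the same
dimension -/
theorem finrank_eigenspace_frob {Q : ℕ} (hQ : Function.Bijective (fun c : K => c ^ Q))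
    {V : Type v} [AddCommGroup V] [Module K V] (f : End K V) (φ : V ≃+ V)
    (h1 : ∀ (c : K) (v : V), φ (c • v) = c ^ Q • φ v) (hf : ∀ v, φ (f v) = f (φ v)) (ν : K) :
    finrank K (f.eigenspace (ν ^ Q)) = finrank K (f.eigenspace ν) := by
  have hmem : ∀ v, v ∈ f.eigenspace ν ↔ φ v ∈ f.eigenspace (ν ^ Q) := by
    intro v
    rw [End.mem_eigenspace_iff, End.mem_eigenspace_iff, ← hf, ← h1]
    exact ⟨fun h => by rw [h], fun h => φ.injective h⟩
  let j : f.eigenspace ν ≃+ f.eigenspace (ν ^ Q) :=
    { toFun := fun v => ⟨φ v, (hmem v).mp v.2⟩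
      invFun := fun v => ⟨φ.symm v, (hmem _).mpr (by simp)⟩
      left_inv := fun v => by ext; simp
      right_inv := fun v => by ext; simp
      map_add' := fun a b => by ext; simp }
  have hrank := rank_eq_of_equiv_equiv (fun c : K => c ^ Q) j hQ (by
    intro c v
    ext
    simp [j, h1])
  unfold Module.finrank
  rw [hrank]

theorem sum_finrank_le_of_iSupIndep {V : Type v} [AddCommGroup V] [Module K V]
    [FiniteDimensional K V] {ι : Type*} [DecidableEq ι] (W : ι → Submodule K V)
    (h : iSupIndep W) (s : Finset ι) : ∑ i ∈ s, finrank K (W i) ≤ finrank K V := by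
  have key : finrank K (⨆ i ∈ s, W i : Submodule K V) = ∑ i ∈ s, finrank K (W i) := by
    induction s using Finset.induction_on with
    | empty => simp
    | insert a s ha ih =>
      rw [Finset.iSup_insert, Finset.sum_insert ha, ← ih]
      have hdisj : Disjoint (W a) (⨆ i ∈ s, W i) := by
        have := h.disjoint_biSup (x := a) (y := (s : Set ι)) (by simpa using ha)
        simpa using this
      have := Submodule.finrank_sup_add_finrank_inf_eq (W a) (⨆ i ∈ s, W i)
      rw [hdisj.eq_bot, finrank_bot, add_zero] at this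
      exact this
  rw [← key]
  exact Submodule.finrank_le _

end FrobStr

section FrobOrbit

variable {K : Type w} [Field K] {p : ℕ} [Fact p.Prime]

/-- distinctness of the Frobenius conjugates of a primitive `p`-th root of unity -/
theorem frob_conj_injOn {Q : ℕ} {μ : K} (hμp : μ ^ p = 1) (hμ1 : μ ≠ 1) :
    Set.InjOn (fun i : ℕ => μ ^ (Q ^ i)) (Set.Iio (orderOf (Q : ZMod p))) := by
  intro i hi j hj hij
  have hμ0 : μ ≠ 0 := by
    rintro rfl
    rw [zero_pow (Fact.out : p.Prime).ne_zero] at hμp
    exact zero_ne_one hμp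
  obtain ⟨μu, hval⟩ : ∃ u : Kˣ, (u : K) = μ := ⟨Units.mk0 μ hμ0, rfl⟩
  have hord : orderOf μu = p := by
    apply orderOf_eq_prime
    · ext
      rw [Units.val_pow_eq_pow_val, hval, hμp, Units.val_one]
    · intro h
      apply hμ1
      rw [← hval, h, Units.val_one]
  have h1 : μu ^ (Q ^ i) = μu ^ (Q ^ j) := by
    ext
    rw [Units.val_pow_eq_pow_val, Units.val_pow_eq_pow_val, hval]
    exact hij
  rw [pow_eq_pow_iff_modEq, hord] at h1
  have h2 : ((Q ^ i : ℕ) : ZMod p) = ((Q ^ j : ℕ) : ZMod p) :=
    (ZMod.natCast_eq_natCast_iff _ _ _).mpr h1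
  push_cast at h2
  exact pow_injOn_Iio_orderOf hi hj h2

/-- when `f` has order `p`, no fixed vectors and commutes with a `Q`-Frobenius-semilinear
bijection, every eigenspace has dimension at most `n / e` -/
theorem finrank_eigenspace_mul_order_le {Q : ℕ}
    (hQ : Function.Bijective (fun c : K => c ^ Q))
    {V : Type v} [AddCommGroup V] [Module K V] [FiniteDimensional K V] (f : End K V)
    (hfp : f ^ p = 1) (hf1 : f.eigenspace 1 = ⊥) (φ : V ≃+ V)
    (h1 : ∀ (c : K) (v : V), φ (c • v) = c ^ Q • φ v) (hf : ∀ v, φ (f v) = f (φ v)) (μ : K) :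
    finrank K (f.eigenspace μ) * orderOf (Q : ZMod p) ≤ finrank K V := by
  classical
  by_cases hbot : f.eigenspace μ = ⊥
  · rw [hbot, finrank_bot, zero_mul]
    exact Nat.zero_le _
  obtain ⟨v, hv, hv0⟩ := Submodule.exists_mem_ne_zero_of_ne_bot hbot
  have hev : f.HasEigenvector μ v := ⟨hv, hv0⟩
  have hμp : μ ^ p = 1 := by
    have h := hev.pow_apply p
    rw [hfp, Module.End.one_apply] at h
    have h' : (μ ^ p - 1) • v = 0 := by rw [sub_smul, one_smul, ← h, sub_self]
    rcases smul_eq_zero.mp h' with h0 | h0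
    · exact sub_eq_zero.mp h0
    · exact absurd h0 hv0
  have hμ1 : μ ≠ 1 := by
    rintro rfl
    exact hbot hf1
  set e := orderOf (Q : ZMod p) with he
  have hdim : ∀ i : ℕ, finrank K (f.eigenspace (μ ^ (Q ^ i))) = finrank K (f.eigenspace μ) := by
    intro i
    induction i with
    | zero => rw [pow_zero, pow_one]
    | succ i ih =>
      rw [pow_succ, pow_mul, finrank_eigenspace_frob hQ f φ h1 hf, ih]
  have hinj := frob_conj_injOn (K := K) (p := p) (Q := Q) hμp hμ1
  have hsum := sum_finrank_le_of_iSupIndep (fun ν : K => f.eigenspace ν)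
    f.eigenspaces_iSupIndep ((Finset.range e).image (fun i : ℕ => μ ^ (Q ^ i)))
  rw [Finset.sum_image] at hsum
  · rw [Finset.sum_congr rfl (fun i _ => hdim i), Finset.sum_const, Finset.card_range,
      smul_eq_mul, mul_comm] at hsum
    exact hsum
  · intro i hi j hj hij
    exact hinj (by simpa using hi) (by simpa using hj) hij

end FrobOrbit

section FrobMain

variable {K : Type w} [Field K] [IsAlgClosed K] {p : ℕ} [Fact p.Prime]

/-- the statement proved by induction on the degree -/
def FrobClaim (K : Type w) [Field K] (p Q n : ℕ) : Prop :=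
  ∀ {P : Type u} [Group P] [Finite P] (_ : IsPGroup p P) {V : Type v} [AddCommGroup V]
    [Module K V] [FiniteDimensional K V] (ρ : Representation K P V), HasFrob Q ρ →
    finrank K V = n →
    ∀ g ∈ derivedSeries P (Nat.log 2 (n / orderOf (Q : ZMod p)) + 1), ρ g = 1

theorem orderOf_natCast_zmod_pos {Q : ℕ} (hpQ : Q.Coprime p) : 0 < orderOf (Q : ZMod p) := by
  have h : orderOf (ZMod.unitOfCoprime Q hpQ) = orderOf (Q : ZMod p) := by
    rw [← orderOf_units, ZMod.coe_unitOfCoprime]
  rw [← h]
  exact orderOf_pos _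

theorem frob_faithful_step (hpK : (p : K) ≠ 0) {Q : ℕ}
    (hQ : Function.Bijective (fun c : K => c ^ Q)) (hpQ : Q.Coprime p) (n : ℕ)
    (IH : ∀ m < n, FrobClaim.{u, v, w} K p Q m)
    {P : Type u} [Group P] [Finite P] (hP : IsPGroup p P) {V : Type v} [AddCommGroup V]
    [Module K V] [FiniteDimensional K V] (ρ : Representation K P V)
    (hρ : Function.Injective ρ) (hfrob : HasFrob Q ρ) (hV : finrank K V = n) :
    derivedSeries P (Nat.log 2 (n / orderOf (Q : ZMod p)) + 1) = ⊥ := by
  obtain ⟨φ, h1, h2⟩ := hfrob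
  have hepos := orderOf_natCast_zmod_pos (p := p) hpQ
  set e := orderOf (Q : ZMod p) with he
  rcases subsingleton_or_nontrivial P with hsub | hnt
  · exact Subsingleton.elim _ _
  -- a central element of order `p`
  have hZ : Nontrivial (Subgroup.center P) := hP.center_nontrivial
  have hpc : p ∣ Nat.card (Subgroup.center P) := by
    rcases (hP.to_subgroup (Subgroup.center P)).card_eq_or_dvd with h | h
    · exfalso
      have := Finite.one_lt_card_iff_nontrivial.mpr hZ
      omega
    · exact h
  obtain ⟨⟨z, hzc⟩, hzord⟩ := exists_prime_orderOf_dvd_card' p hpc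
  have hzord' : orderOf z = p := by rw [← hzord, Subgroup.orderOf_mk]
  have hzp : z ^ p = 1 := by rw [← hzord']; exact pow_orderOf_eq_one z
  have hz1 : z ≠ 1 := by
    intro h
    rw [h, orderOf_one] at hzord'
    exact (Fact.out : p.Prime).one_lt.ne hzord'
  have hZp : ρ z ^ p = 1 := by rw [← map_pow, hzp, map_one]
  have hsup : ⨆ μ : K, End.eigenspace (ρ z) μ = ⊤ := rep_iSup_eigenspace hpK hP ρ z
  have hcomm : ∀ (g : P) (v : V), ρ z (ρ g v) = ρ g (ρ z v) := by
    intro g v
    rw [← Module.End.mul_apply, ← Module.End.mul_apply, ← map_mul, ← map_mul,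
      Subgroup.mem_center_iff.mp hzc g]
  have hinv : ∀ (μ : K) (g : P),
      End.eigenspace (ρ z) μ ≤ (End.eigenspace (ρ z) μ).comap (ρ g) := by
    intro μ g v hv
    rw [Submodule.mem_comap, End.mem_eigenspace_iff]
    rw [End.mem_eigenspace_iff] at hv
    rw [hcomm, hv, map_smul]
  by_cases hfix : End.eigenspace (ρ z) 1 = ⊥
  · -- no fixed vectors: every eigenspace has dimension at most `n / e`
    rw [eq_bot_iff]
    intro g hg
    rw [Subgroup.mem_bot]
    apply hρ
    rw [map_one]
    apply end_eq_one_of_iSup _ hsup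
    intro μ v hv
    have hle := finrank_eigenspace_mul_order_le (p := p) hQ (ρ z) hZp hfix φ h1 (h2 z) μ
    rw [hV] at hle
    have hmono : Nat.log 2 (finrank K (End.eigenspace (ρ z) μ)) + 1 ≤ Nat.log 2 (n / e) + 1 := by
      have h3 : finrank K (End.eigenspace (ρ z) μ) ≤ n / e := (Nat.le_div_iff_mul_le hepos).mpr hle
      have := Nat.log_mono_right (b := 2) h3
      omega
    have := cross_claim hpK _ hP (ρ.subrepresentation _ (hinv μ)) rfl g
      (derivedSeries_antitone P hmono hg)
    exact subrep_eq_one_apply ρ _ (hinv μ) g this v hv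
  · -- split `V` as the fixed space plus the range of `z - 1`
    set U1 : Submodule K V := End.eigenspace (ρ z) 1 with hU1
    set U2 : Submodule K V := LinearMap.range (ρ z - 1) with hU2
    have hU1inv : ∀ g, U1 ≤ U1.comap (ρ g) := hinv 1
    have hU2inv : ∀ g, U2 ≤ U2.comap (ρ g) := by
      rintro g _ ⟨u, rfl⟩
      rw [Submodule.mem_comap]
      refine ⟨ρ g u, ?_⟩
      simp only [LinearMap.sub_apply, Module.End.one_apply, map_sub]
      rw [hcomm]
    have hφU1 : ∀ v, v ∈ U1 ↔ φ v ∈ U1 := by
      intro v
      rw [hU1, End.mem_eigenspace_iff, End.mem_eigenspace_iff, one_smul, one_smul, ← h2]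
      exact ⟨fun h => by rw [h], fun h => φ.injective h⟩
    have hφU2 : ∀ v, v ∈ U2 ↔ φ v ∈ U2 := by
      intro v
      constructor
      · rintro ⟨u, rfl⟩
        refine ⟨φ u, ?_⟩
        simp only [LinearMap.sub_apply, Module.End.one_apply, map_sub]
        rw [h2]
      · rintro ⟨w, hw⟩
        refine ⟨φ.symm w, ?_⟩
        apply φ.injective
        rw [← hw]
        simp only [LinearMap.sub_apply, Module.End.one_apply, map_sub]
        rw [h2]
        simp
    have hsup2 : U1 ⊔ U2 = ⊤ := by
      rw [eq_top_iff, ← hsup]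
      apply iSup_le
      intro μ
      by_cases hμ : μ = 1
      · rw [hμ]
        exact le_sup_left
      · refine le_trans ?_ le_sup_right
        intro v hv
        rw [End.mem_eigenspace_iff] at hv
        have hμ' : μ - 1 ≠ 0 := sub_ne_zero.mpr hμ
        refine ⟨(μ - 1)⁻¹ • v, ?_⟩
        simp only [LinearMap.sub_apply, Module.End.one_apply, map_smul]
        have e1 : μ • v - v = (μ - 1) • v := by rw [sub_smul, one_smul]
        rw [hv, e1, smul_smul, inv_mul_cancel₀ hμ', one_smul]
    have hU1lt : finrank K U1 < n := by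
      rw [← hV]
      apply Submodule.finrank_lt
      intro htop
      apply hz1
      apply hρ
      rw [map_one]
      ext v
      have hv : v ∈ U1 := by rw [htop]; exact Submodule.mem_top
      rw [hU1, End.mem_eigenspace_iff, one_smul] at hv
      rw [hv, Module.End.one_apply]
    have hU2lt : finrank K U2 < n := by
      rw [← hV]
      apply Submodule.finrank_lt
      intro htop
      apply hfix
      have hsurj : Function.Surjective (ρ z - 1 : End K V) := LinearMap.range_eq_top.mp htop
      have hinj : Function.Injective (ρ z - 1 : End K V) :=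
        LinearMap.injective_iff_surjective.mpr hsurj
      rw [eq_bot_iff]
      intro v hv
      rw [End.mem_eigenspace_iff, one_smul] at hv
      rw [Submodule.mem_bot]
      apply hinj
      simp only [LinearMap.sub_apply, Module.End.one_apply, map_zero]
      rw [hv, sub_self]
    have hmono : ∀ m, m ≤ n → Nat.log 2 (m / e) + 1 ≤ Nat.log 2 (n / e) + 1 := by
      intro m hm
      have := Nat.log_mono_right (b := 2) (Nat.div_le_div_right (c := e) hm)
      omega
    rw [eq_bot_iff]
    intro g hg
    rw [Subgroup.mem_bot]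
    apply hρ
    rw [map_one]
    have hg1 : ∀ v ∈ U1, ρ g v = v := by
      intro v hv
      have := IH _ hU1lt hP (ρ.subrepresentation U1 hU1inv)
        (hasFrob_subrepresentation ρ φ h1 h2 U1 hU1inv hφU1) rfl g
        (derivedSeries_antitone P (hmono _ hU1lt.le) hg)
      exact subrep_eq_one_apply ρ _ hU1inv g this v hv
    have hg2 : ∀ v ∈ U2, ρ g v = v := by
      intro v hv
      have := IH _ hU2lt hP (ρ.subrepresentation U2 hU2inv)
        (hasFrob_subrepresentation ρ φ h1 h2 U2 hU2inv hφU2) rfl g
        (derivedSeries_antitone P (hmono _ hU2lt.le) hg)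
      exact subrep_eq_one_apply ρ _ hU2inv g this v hv
    apply end_eq_one_of_iSup (fun b : Bool => if b then U1 else U2)
    · rw [iSup_bool_eq]
      simpa using hsup2
    · intro b v hv
      cases b
      · exact hg2 v (by simpa using hv)
      · exact hg1 v (by simpa using hv)

theorem frob_claim (hpK : (p : K) ≠ 0) {Q : ℕ}
    (hQ : Function.Bijective (fun c : K => c ^ Q)) (hpQ : Q.Coprime p) :
    ∀ n, FrobClaim.{u, v, w} K p Q n := by
  intro n
  induction n using Nat.strong_induction_on with
  | _ n IH =>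
    intro P _ _ hP V _ _ _ ρ hfrob hV g hg
    set N : Subgroup P := ρ.asGroupHom.ker with hN
    let ρ' : Representation K (P ⧸ N) V :=
      (Units.coeHom (End K V)).comp (QuotientGroup.kerLift ρ.asGroupHom)
    have hρ' : Function.Injective ρ' := by
      intro a b hab
      apply QuotientGroup.kerLift_injective ρ.asGroupHom
      exact Units.ext hab
    have hfrob' : HasFrob Q ρ' := by
      obtain ⟨φ, h1, h2⟩ := hfrob
      refine ⟨φ, h1, ?_⟩
      intro a v
      obtain ⟨a, rfl⟩ := QuotientGroup.mk_surjective a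
      exact h2 a v
    have hbot := frob_faithful_step hpK hQ hpQ n IH (hP.to_quotient N) ρ' hρ' hfrob' hV
    have hmem : (QuotientGroup.mk' N) g ∈
        derivedSeries (P ⧸ N) (Nat.log 2 (n / orderOf (Q : ZMod p)) + 1) :=
      map_derivedSeries_le_derivedSeries (QuotientGroup.mk' N) _
        (Subgroup.mem_map_of_mem _ hg)
    rw [hbot, Subgroup.mem_bot, QuotientGroup.mk'_apply, QuotientGroup.eq_one_iff] at hmem
    have h1 : ρ.asGroupHom g = 1 := MonoidHom.mem_ker.mp hmem
    rw [← Representation.asGroupHom_apply, h1, Units.val_one]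

/-- a finite `p`-group acting faithfully in degree `n` over an algebraically closed field in which
`p` is invertible, commuting with a `Q`-Frobenius-semilinear bijection, has derived length at most
`log 2 (n / e) + 1`, `e` the order of `Q` modulo `p` -/
theorem derivedSeries_log_div_eq_bot_of_frob (hpK : (p : K) ≠ 0) {Q : ℕ}
    (hQ : Function.Bijective (fun c : K => c ^ Q)) (hpQ : Q.Coprime p)
    {P : Type u} [Group P] [Finite P]
    (hP : IsPGroup p P) {V : Type v} [AddCommGroup V] [Module K V] [FiniteDimensional K V]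
    (ρ : Representation K P V) (hρ : Function.Injective ρ) (hfrob : HasFrob Q ρ) :
    derivedSeries P (Nat.log 2 (finrank K V / orderOf (Q : ZMod p)) + 1) = ⊥ := by
  rw [eq_bot_iff]
  intro g hg
  rw [Subgroup.mem_bot]
  apply hρ
  rw [map_one]
  exact frob_claim hpK hQ hpQ (finrank K V) hP ρ hfrob rfl g hg

end FrobMain

end Cfsg.Agent.Lib.Helper71
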