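import Mathlib
import Cfsg.Prelude.Def_Transfer
import Cfsg.Agent.Lib.Helper55.Basic

set_option autoImplicit false
set_option linter.unusedSectionVars false
set_option linter.unusedVariables false

/-! The "lines lemma" for an elementary abelian group `A` of order `p ^ 2` inside a group `L` of odd
order acting on it with abelian image: a `p'`-subgroup `H ≤ L` each element of which normalizes some
line of `A` either normalizes every line, or there is a line normalized by the whole of `L`. -/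

namespace Cfsg.Agent.Lib.Helper71.Lines

open Cfsg Cfsg.Agent.Lib.Helper55
open scoped commutatorElement

variable {G : Type*} [Group G]

/-- the elements of the abelian subgroup `A` on which `h` acts as the `k`-th power map -/
def powSub (A : Subgroup G) (hc : ∀ a ∈ A, ∀ b ∈ A, a * b = b * a) (h : G) (k : ℕ) : Subgroup G where
  carrier := {z | z ∈ A ∧ h * z * h⁻¹ = z ^ k}
  one_mem' := ⟨A.one_mem, by simp⟩
  mul_mem' := by
    rintro a b ⟨ha, ha'⟩ ⟨hb, hb'⟩
    refine ⟨A.mul_mem ha hb, ?_⟩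
    have hcomm : Commute a b := hc a ha b hb
    rw [hcomm.mul_pow, ← ha', ← hb']
    group
  inv_mem' := by
    rintro a ⟨ha, ha'⟩
    refine ⟨A.inv_mem ha, ?_⟩
    rw [inv_pow, ← ha']
    group

theorem mem_powSub {A : Subgroup G} {hc : ∀ a ∈ A, ∀ b ∈ A, a * b = b * a} {h : G} {k : ℕ} {z : G} :
    z ∈ powSub A hc h k ↔ z ∈ A ∧ h * z * h⁻¹ = z ^ k := Iff.rfl

variable [Finite G]

/-- in a subgroup of prime order every element is a power of a given non-identity element -/
theorem exists_pow_eq_of_card_prime {p : ℕ} [Fact p.Prime] {X : Subgroup G} (hX : Nat.card X = p)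
    {u : G} (hu : u ∈ X) (hu1 : u ≠ 1) {z : G} (hz : z ∈ X) : ∃ i : ℕ, z = u ^ i := by
  have hz' : (⟨z, hz⟩ : X) ∈ Subgroup.zpowers (⟨u, hu⟩ : X) := by
    have hne : (⟨u, hu⟩ : X) ≠ 1 := fun e => hu1 (congrArg Subtype.val e)
    rw [zpowers_eq_top_of_prime_card hX hne]
    trivial
  rw [← mem_powers_iff_mem_zpowers] at hz'
  obtain ⟨i, hi⟩ := hz'
  exact ⟨i, by simpa using (congrArg Subtype.val hi).symm⟩

/-- a subgroup of prime order has a non-identity element -/
theorem exists_ne_one_of_card_prime {p : ℕ} [Fact p.Prime] {X : Subgroup G} (hX : Nat.card X = p) :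
    ∃ u ∈ X, u ≠ 1 := by
  have hp : p.Prime := Fact.out
  by_contra hcon
  push Not at hcon
  have : X = ⊥ := (Subgroup.eq_bot_iff_forall X).mpr hcon
  rw [this, Subgroup.card_bot] at hX
  exact hp.one_lt.ne hX

/-- an element normalizing a subgroup of prime order acts on it as a power map -/
theorem exists_pow_action {p : ℕ} [Fact p.Prime] {X : Subgroup G} (hX : Nat.card X = p) {h : G}
    (hn : h ∈ Subgroup.normalizer (X : Set G)) : ∃ a : ℕ, ∀ z ∈ X, h * z * h⁻¹ = z ^ a := by
  obtain ⟨u, hu, hu1⟩ := exists_ne_one_of_card_prime hX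
  have hcu : h * u * h⁻¹ ∈ X := (Subgroup.mem_normalizer_iff.mp hn u).mp hu
  obtain ⟨a, ha⟩ := exists_pow_eq_of_card_prime hX hu hu1 hcu
  refine ⟨a, fun z hz => ?_⟩
  obtain ⟨i, rfl⟩ := exists_pow_eq_of_card_prime hX hu hu1 hz
  have e : h * u ^ i * h⁻¹ = (h * u * h⁻¹) ^ i := by
    rw [conj_pow]
  rw [e, ha, ← pow_mul, ← pow_mul, mul_comm]

/-- if `h` acts as the `k`-th power map on an abelian group `A` it normalizes every subgroup of `A` -/
theorem mem_normalizer_of_pow_action {A X : Subgroup G} {h : G} {k : ℕ}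
    (hk : ∀ z ∈ A, h * z * h⁻¹ = z ^ k) (hXA : X ≤ A) : h ∈ Subgroup.normalizer (X : Set G) := by
  rw [← cj_eq_self_iff]
  have hle : cj h X ≤ X := by
    rintro _ ⟨z, hz, rfl⟩
    show h * z * h⁻¹ ∈ X
    rw [hk z (hXA hz)]
    exact X.pow_mem hz k
  exact Subgroup.eq_of_le_of_card_ge hle (card_cj h X).ge

/-- **three lines**: an element normalizing three distinct lines of an abelian group of order
`p ^ 2` acts on it as a power map. -/
theorem exists_pow_action_of_three {p : ℕ} [Fact p.Prime] {A X1 X2 X3 : Subgroup G} {h : G}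
    (hAc : ∀ a ∈ A, ∀ b ∈ A, a * b = b * a) (hA2 : Nat.card A = p ^ 2)
    (h1 : X1 ≤ A) (h2 : X2 ≤ A) (h3 : X3 ≤ A)
    (c1 : Nat.card X1 = p) (c2 : Nat.card X2 = p) (c3 : Nat.card X3 = p)
    (n12 : X1 ≠ X2) (n13 : X1 ≠ X3) (n23 : X2 ≠ X3)
    (hn1 : h ∈ Subgroup.normalizer (X1 : Set G)) (hn2 : h ∈ Subgroup.normalizer (X2 : Set G))
    (hn3 : h ∈ Subgroup.normalizer (X3 : Set G)) :
    ∃ k : ℕ, ∀ z ∈ A, h * z * h⁻¹ = z ^ k := by
  have hp : p.Prime := Fact.out
  -- distinct lines meet trivially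
  have hinf : ∀ {X Y : Subgroup G}, Nat.card X = p → Nat.card Y = p → X ≠ Y → X ⊓ Y = ⊥ := by
    intro X Y cX cY hne
    have hd : Nat.card ↥(X ⊓ Y) ∣ p := cX ▸ Subgroup.card_dvd_of_le inf_le_left
    rcases (Nat.dvd_prime hp).mp hd with h1 | hpp
    · exact Subgroup.card_eq_one.mp h1
    · exfalso
      have e1 : X ⊓ Y = X := Subgroup.eq_of_le_of_card_ge inf_le_left (by rw [hpp, cX])
      have e2 : X ⊓ Y = Y := Subgroup.eq_of_le_of_card_ge inf_le_right (by rw [hpp, cY])
      exact hne (e1.symm.trans e2)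
  -- `A = X1 X2`
  have hsup : X1 ⊔ X2 = A := by
    have hle : X1 ⊔ X2 ≤ A := sup_le h1 h2
    refine Subgroup.eq_of_le_of_card_ge hle ?_
    have hd : Nat.card ↥(X1 ⊔ X2) ∣ p ^ 2 := hA2 ▸ Subgroup.card_dvd_of_le hle
    obtain ⟨j, hj, hjc⟩ := (Nat.dvd_prime_pow hp).mp hd
    have hlt : p < Nat.card ↥(X1 ⊔ X2) := by
      have hle1 : X1 ≤ X1 ⊔ X2 := le_sup_left
      have hd1 : p ∣ Nat.card ↥(X1 ⊔ X2) := c1 ▸ Subgroup.card_dvd_of_le hle1
      rcases Nat.lt_or_ge p (Nat.card ↥(X1 ⊔ X2)) with hlt | hge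
      · exact hlt
      · exfalso
        have hpos : 0 < Nat.card ↥(X1 ⊔ X2) := Nat.card_pos
        have heq : Nat.card ↥(X1 ⊔ X2) = p := le_antisymm hge (Nat.le_of_dvd hpos hd1)
        have e1 : X1 = X1 ⊔ X2 := Subgroup.eq_of_le_of_card_ge le_sup_left (by rw [heq, c1])
        have e2 : X2 = X1 ⊔ X2 := Subgroup.eq_of_le_of_card_ge le_sup_right (by rw [heq, c2])
        exact n12 (e1.trans e2.symm)
    rw [hA2, hjc]
    rw [hjc] at hlt
    have : 1 < j := by
      by_contra hcon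
      push Not at hcon
      have : p ^ j ≤ p ^ 1 := Nat.pow_le_pow_right hp.pos hcon
      rw [pow_one] at this
      omega
    exact Nat.pow_le_pow_right hp.pos this
  obtain ⟨a1, ha1⟩ := exists_pow_action c1 hn1
  obtain ⟨a2, ha2⟩ := exists_pow_action c2 hn2
  obtain ⟨k, hk⟩ := exists_pow_action c3 hn3
  -- a non-identity element of the third line, decomposed along the first two
  obtain ⟨y, hy, hy1⟩ := exists_ne_one_of_card_prime c3
  have hX12 : X1 ≤ Subgroup.normalizer (X2 : Set G) := by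
    intro x hx
    rw [Subgroup.mem_normalizer_iff]
    intro g
    constructor
    · intro hg
      have : x * g * x⁻¹ = g := by
        rw [hAc x (h1 hx) g (h2 hg)]; group
      rwa [this]
    · intro hg
      have hgA : x * g * x⁻¹ ∈ A := h2 hg
      have hgA' : g ∈ A := by
        have := A.mul_mem (A.mul_mem (A.inv_mem (h1 hx)) hgA) (h1 hx)
        simpa [mul_assoc] using this
      have : x * g * x⁻¹ = g := by
        rw [hAc x (h1 hx) g hgA']; group
      rwa [this] at hg
  have hyA : y ∈ (↑(X1 ⊔ X2) : Set G) := by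
    rw [hsup]; exact h3 hy
  rw [Subgroup.coe_mul_of_left_le_normalizer_right X1 X2 hX12] at hyA
  obtain ⟨u, hu, v, hv, hyeq⟩ := hyA
  change u * v = y at hyeq
  subst hyeq
  have hu' : u ∈ X1 := hu
  have hv' : v ∈ X2 := hv
  have huv : Commute u v := hAc u (h1 hu') v (h2 hv')
  have hu1 : u ≠ 1 := by
    rintro rfl
    rw [one_mul] at hy hy1
    have : v ∈ X2 ⊓ X3 := ⟨hv', hy⟩
    rw [hinf c2 c3 n23] at this
    exact hy1 (Subgroup.mem_bot.mp this)
  have hv1 : v ≠ 1 := by
    rintro rfl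
    rw [mul_one] at hy hy1
    have : u ∈ X1 ⊓ X3 := ⟨hu', hy⟩
    rw [hinf c1 c3 n13] at this
    exact hy1 (Subgroup.mem_bot.mp this)
  -- compare the two computations of `h (u v) h⁻¹`
  have e1 : h * (u * v) * h⁻¹ = u ^ k * v ^ k := by
    rw [hk _ hy, huv.mul_pow]
  have e2 : h * (u * v) * h⁻¹ = u ^ a1 * v ^ a2 := by
    rw [← ha1 u hu', ← ha2 v hv']; group
  have e3 : (u ^ k)⁻¹ * u ^ a1 = v ^ k * (v ^ a2)⁻¹ := by
    have := e1.symm.trans e2
    calc (u ^ k)⁻¹ * u ^ a1 = (u ^ k)⁻¹ * (u ^ a1 * v ^ a2) * (v ^ a2)⁻¹ := by group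
      _ = (u ^ k)⁻¹ * (u ^ k * v ^ k) * (v ^ a2)⁻¹ := by rw [this]
      _ = v ^ k * (v ^ a2)⁻¹ := by group
  have hmem : (u ^ k)⁻¹ * u ^ a1 ∈ X1 ⊓ X2 := by
    refine ⟨X1.mul_mem (X1.inv_mem (X1.pow_mem hu' k)) (X1.pow_mem hu' a1), ?_⟩
    rw [e3]
    exact X2.mul_mem (X2.pow_mem hv' k) (X2.inv_mem (X2.pow_mem hv' a2))
  rw [hinf c1 c2 n12, Subgroup.mem_bot] at hmem
  have hua : u ^ a1 = u ^ k := by
    have := congrArg (fun t => u ^ k * t) hmem
    simpa using this
  have hva : v ^ a2 = v ^ k := by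
    have h0 : v ^ k * (v ^ a2)⁻¹ = 1 := by rw [← e3, hmem]
    have := congrArg (fun t => t * v ^ a2) h0
    simpa using this.symm
  -- so `h` acts as the `k`-th power on both lines, hence on `A`
  refine ⟨k, ?_⟩
  have hle : A ≤ powSub A hAc h k := by
    refine hsup.symm.le.trans (sup_le ?_ ?_)
    · intro z hz
      obtain ⟨i, rfl⟩ := exists_pow_eq_of_card_prime c1 hu' hu1 hz
      refine ⟨h1 hz, ?_⟩
      rw [ha1 _ hz, ← pow_mul, mul_comm, pow_mul, hua, ← pow_mul, ← pow_mul, mul_comm]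
    · intro z hz
      obtain ⟨i, rfl⟩ := exists_pow_eq_of_card_prime c2 hv' hv1 hz
      refine ⟨h2 hz, ?_⟩
      rw [ha2 _ hz, ← pow_mul, mul_comm, pow_mul, hva, ← pow_mul, ← pow_mul, mul_comm]
  exact fun z hz => (hle hz).2

/-- an element of odd order lies in every subgroup containing its square -/
theorem mem_of_sq_mem_of_odd_orderOf {K : Subgroup G} {g : G} (ho : Odd (orderOf g))
    (h : g * g ∈ K) : g ∈ K := by
  obtain ⟨k, hk⟩ := ho
  have e : g = (g * g) ^ (k + 1) := by
    rw [← pow_two, ← pow_mul]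
    have : 2 * (k + 1) = orderOf g + 1 := by omega
    rw [this, pow_succ, pow_orderOf_eq_one, one_mul]
  rw [e]
  exact K.pow_mem h _

/-- core of the lines lemma: `A` elementary abelian of order `p ^ 2`, normalized by a group `L` of odd
order with `L' ≤ C(A)`; if `h ∈ L` normalizes the line `X` of `A` but not the line `X0`, then `L`
normalizes `X`. -/
theorem le_normalizer_of_line {p : ℕ} [Fact p.Prime] {A L : Subgroup G}
    (hAe : IsElementaryAbelian p A) (hA2 : Nat.card A = p ^ 2)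
    (hLA : L ≤ Subgroup.normalizer (A : Set G)) (hodd : Odd (Nat.card L))
    (hab : ⁅L, L⁆ ≤ Subgroup.centralizer (A : Set G)) {h : G} (hh : h ∈ L)
    {X0 : Subgroup G} (hX0A : X0 ≤ A) (hX0c : Nat.card X0 = p)
    (hhX0 : h ∉ Subgroup.normalizer (X0 : Set G))
    {X : Subgroup G} (hXA : X ≤ A) (hXc : Nat.card X = p)
    (hhX : h ∈ Subgroup.normalizer (X : Set G)) :
    L ≤ Subgroup.normalizer (X : Set G) := by
  have hAc : ∀ a ∈ A, ∀ b ∈ A, a * b = b * a := by
    intro a ha b hb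
    exact congrArg Subtype.val (hAe.1.is_comm.comm (⟨a, ha⟩ : A) ⟨b, hb⟩)
  -- `L` permutes the lines normalized by `h`
  have hperm : ∀ l ∈ L, ∀ Y : Subgroup G, Y ≤ A → Nat.card Y = p →
      h ∈ Subgroup.normalizer (Y : Set G) →
      cj l Y ≤ A ∧ Nat.card (cj l Y) = p ∧ h ∈ Subgroup.normalizer ((cj l Y : Subgroup G) : Set G) := by
    intro l hl Y hYA hYc hhY
    refine ⟨?_, (card_cj l Y).trans hYc, ?_⟩
    · have := cj_mono (g := l) hYA
      rwa [cj_eq_self_iff.mpr (hLA hl)] at this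
    · have hCY : Subgroup.centralizer (A : Set G) ≤ Subgroup.normalizer (Y : Set G) :=
        (Subgroup.centralizer_le (show (Y : Set G) ⊆ A from hYA)).trans
          (Subgroup.centralizer_le_normalizer _)
      have hc : l⁻¹ * h * l ∈ Subgroup.normalizer (Y : Set G) := by
        have e : l⁻¹ * h * l = h * ⁅h⁻¹, l⁻¹⁆ := by
          simp only [commutatorElement_def]; group
        rw [e]
        exact Subgroup.mul_mem _ hhY (hCY (hab (Subgroup.commutator_mem_commutator
          (L.inv_mem hh) (L.inv_mem hl))))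
      rw [← cj_eq_self_iff, ← cj_mul]
      have e : h * l = l * (l⁻¹ * h * l) := by group
      rw [e, cj_mul, cj_eq_self_iff.mpr hc]
  intro l hl
  rw [← cj_eq_self_iff]
  by_contra hne
  obtain ⟨h1A, h1c, h1n⟩ := hperm l hl X hXA hXc hhX
  obtain ⟨h2A, h2c, h2n⟩ := hperm l hl (cj l X) h1A h1c h1n
  have hne' : cj l (cj l X) ≠ cj l X := by
    intro e
    apply hne
    have := congrArg (cj l⁻¹) e
    rwa [cj_inv_cj, cj_inv_cj] at this
  by_cases hsq : cj l (cj l X) = X
  · rw [← cj_mul, cj_eq_self_iff] at hsq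
    have ho : Odd (orderOf l) := by
      have h1 : orderOf (⟨l, hl⟩ : L) ∣ Nat.card L := orderOf_dvd_natCard _
      have h2 : orderOf (⟨l, hl⟩ : L) = orderOf l := Subgroup.orderOf_mk l hl
      rw [h2] at h1
      exact Odd.of_dvd_nat hodd h1
    exact hne (cj_eq_self_iff.mpr (mem_of_sq_mem_of_odd_orderOf ho hsq))
  · -- three distinct lines normalized by `h`
    obtain ⟨k, hk⟩ := exists_pow_action_of_three hAc hA2 hXA h1A h2A hXc h1c h2c
      (fun e => hne e.symm) (fun e => hsq e.symm) (fun e => hne' e.symm) hhX h1n h2n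
    exact hhX0 (mem_normalizer_of_pow_action hk hX0A)

/-- **the lines lemma.**  `A` elementary abelian of order `p ^ 2`, normalized by a group `L` of odd
order with `L' ≤ C(A)`; `H ≤ L` such that every element of `H` normalizes some line of `A`.  Then
either `H` normalizes every line of `A`, or some line of `A` is normalized by the whole of `L`. -/
theorem exists_invariant_line {p : ℕ} [Fact p.Prime] {A L H : Subgroup G}
    (hAe : IsElementaryAbelian p A) (hA2 : Nat.card A = p ^ 2)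
    (hLA : L ≤ Subgroup.normalizer (A : Set G)) (hodd : Odd (Nat.card L))
    (hab : ⁅L, L⁆ ≤ Subgroup.centralizer (A : Set G)) (hHL : H ≤ L)
    (hline : ∀ h ∈ H, ∃ X : Subgroup G, X ≤ A ∧ Nat.card X = p ∧
      h ∈ Subgroup.normalizer (X : Set G)) :
    (∀ X : Subgroup G, X ≤ A → Nat.card X = p → H ≤ Subgroup.normalizer (X : Set G)) ∨
      ∃ X : Subgroup G, X ≤ A ∧ Nat.card X = p ∧ L ≤ Subgroup.normalizer (X : Set G) := by
  by_cases hall : ∀ X : Subgroup G, X ≤ A → Nat.card X = p → H ≤ Subgroup.normalizer (X : Set G)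
  · exact Or.inl hall
  right
  push Not at hall
  obtain ⟨X0, hX0A, hX0c, hX0⟩ := hall
  obtain ⟨h, hh, hhX0⟩ := SetLike.not_le_iff_exists.mp hX0
  obtain ⟨X, hXA, hXc, hhX⟩ := hline h hh
  exact ⟨X, hXA, hXc, le_normalizer_of_line hAe hA2 hLA hodd hab (hHL hh) hX0A hX0c hhX0 hXA hXc hhX⟩

/-- Bezout for membership: if two coprime powers of `c` lie in `K`, so does `c`. -/
theorem mem_of_coprime_pow_mem {K : Subgroup G} {c : G} {n m : ℕ} (hcop : n.Coprime m)
    (hn : c ^ n ∈ K) (hm : c ^ m ∈ K) : c ∈ K := by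
  have h1 : (n : ℤ) * Nat.gcdA n m + (m : ℤ) * Nat.gcdB n m = 1 := by
    have := Nat.gcd_eq_gcd_ab n m
    rw [hcop] at this
    exact_mod_cast this.symm
  have h2 : c = (c ^ n) ^ (Nat.gcdA n m) * (c ^ m) ^ (Nat.gcdB n m) := by
    rw [← zpow_natCast c n, ← zpow_natCast c m, ← zpow_mul, ← zpow_mul, ← zpow_add, h1, zpow_one]
  rw [h2]
  exact K.mul_mem (K.zpow_mem hn _) (K.zpow_mem hm _)

/-- an element all of whose powers of prime-power order lie in `K` lies in `K` -/
theorem mem_of_prime_power_parts {K : Subgroup G} :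
    ∀ (n : ℕ) (g : G), orderOf g = n →
      (∀ m r k : ℕ, r.Prime → orderOf (g ^ m) = r ^ k → g ^ m ∈ K) → g ∈ K := by
  intro n
  induction n using Nat.strong_induction_on with
  | _ n ih =>
    intro g hn hg
    by_cases h1 : n = 1
    · have : g = 1 := orderOf_eq_one_iff.mp (hn.trans h1)
      rw [this]; exact K.one_mem
    have hn0 : n ≠ 0 := hn ▸ (orderOf_pos g).ne'
    obtain ⟨r, hr, hrn⟩ := Nat.exists_prime_and_dvd h1
    have hmul : r ^ n.factorization r * (n / r ^ n.factorization r) = n :=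
      Nat.ordProj_mul_ordCompl_eq_self n r
    have hcop : (r ^ n.factorization r).Coprime (n / r ^ n.factorization r) :=
      (Nat.coprime_ordCompl hr hn0).pow_left _
    have ha : n.factorization r ≠ 0 := by
      have := (hr.factorization_pos_of_dvd hn0 hrn)
      omega
    have hm0 : n / r ^ n.factorization r ≠ 0 := by
      intro e; rw [e, mul_zero] at hmul; exact hn0 hmul.symm
    have hra0 : r ^ n.factorization r ≠ 0 := pow_ne_zero _ hr.ne_zero
    have hmdvd : n / r ^ n.factorization r ∣ orderOf g := by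
      rw [hn]; exact Dvd.intro_left _ hmul
    have hradvd : r ^ n.factorization r ∣ orderOf g := by
      rw [hn]; exact Dvd.intro _ hmul
    have ho1 : orderOf (g ^ (n / r ^ n.factorization r)) = r ^ n.factorization r := by
      rw [orderOf_pow_of_dvd hm0 hmdvd, hn]
      exact Nat.div_eq_of_eq_mul_left (Nat.pos_of_ne_zero hm0) hmul.symm
    have ho2 : orderOf (g ^ (r ^ n.factorization r)) = n / r ^ n.factorization r := by
      rw [orderOf_pow_of_dvd hra0 hradvd, hn]
    have hK1 : g ^ (n / r ^ n.factorization r) ∈ K := hg _ r _ hr ho1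
    have hlt : n / r ^ n.factorization r < n := by
      apply Nat.div_lt_self (Nat.pos_of_ne_zero hn0)
      exact Nat.one_lt_pow ha hr.one_lt
    have hK2 : g ^ (r ^ n.factorization r) ∈ K := by
      refine ih _ hlt _ ho2 ?_
      intro m r' k hr' ho
      rw [← pow_mul] at ho ⊢
      exact hg _ r' k hr' ho
    exact mem_of_coprime_pow_mem hcop hK2 hK1

/-- **(L)** in the shape of the S1421 keystone pack: only the elements of prime-power order of `H`
are assumed to normalize a line. -/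
theorem lines_dichotomy {p : ℕ} [Fact p.Prime] (L A H : Subgroup G) (hodd : Odd (Nat.card L))
    (hLA : L ≤ Subgroup.normalizer (A : Set G))
    (hA : IsElementaryAbelian p A) (hAc : Nat.card A = p ^ 2)
    (hLc : ⁅L, L⁆ ≤ Subgroup.centralizer (A : Set G))
    (hHL : H ≤ L) (hHp : ¬ p ∣ Nat.card H)
    (hline : ∀ h ∈ H, ∀ (r k : ℕ), r.Prime → orderOf h = r ^ k →
      ∃ X : Subgroup G, X ≤ A ∧ Nat.card X = p ∧ h ∈ Subgroup.normalizer (X : Set G)) :
    (∀ X : Subgroup G, X ≤ A → Nat.card X = p → H ≤ Subgroup.normalizer (X : Set G)) ∨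
      ∃ X : Subgroup G, X ≤ A ∧ Nat.card X = p ∧ L ≤ Subgroup.normalizer (X : Set G) := by
  by_cases hall : ∀ X : Subgroup G, X ≤ A → Nat.card X = p → H ≤ Subgroup.normalizer (X : Set G)
  · exact Or.inl hall
  right
  push Not at hall
  obtain ⟨X0, hX0A, hX0c, hX0⟩ := hall
  obtain ⟨g, hgH, hgX0⟩ := SetLike.not_le_iff_exists.mp hX0
  -- some prime-power part of `g` moves `X0`
  have hex : ∃ m r k : ℕ, r.Prime ∧ orderOf (g ^ m) = r ^ k ∧
      g ^ m ∉ Subgroup.normalizer (X0 : Set G) := by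
    by_contra hcon
    push Not at hcon
    exact hgX0 (mem_of_prime_power_parts (orderOf g) g rfl hcon)
  obtain ⟨m, r, k, hr, ho, hmX0⟩ := hex
  have hhH : g ^ m ∈ H := H.pow_mem hgH m
  obtain ⟨X, hXA, hXc, hhX⟩ := hline _ hhH r k hr ho
  exact ⟨X, hXA, hXc,
    le_normalizer_of_line hA hAc hLA hodd hLc (hHL hhH) hX0A hX0c hmX0 hXA hXc hhX⟩

end Cfsg.Agent.Lib.Helper71.Lines
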