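import Mathlib
import Cfsg.Agent.Lib.Helper71.ClassTwoPow

set_option autoImplicit false

namespace Cfsg.Agent.Lib.Helper71

/-- Facts about a subgroup of index `p` in a group of order `p ^ k`. -/
theorem index_p_facts {G : Type*} [Group G] [Finite G] (p k : ℕ) [hp : Fact p.Prime] (hk : 1 ≤ k)
    (hG : Nat.card G = p ^ k) (M : Subgroup G) (hM : Nat.card M = p ^ (k - 1)) :
    (∀ x : G, x ^ p ∈ M) ∧ (∀ x y : G, y * x * y⁻¹ * x⁻¹ ∈ M) := by
  have hidx : M.index = p := by
    have h1 := M.card_mul_index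
    rw [hG, hM] at h1
    have h2 : p ^ k = p ^ (k - 1) * p := by rw [← pow_succ]; congr 1; omega
    rw [h2] at h1
    exact Nat.eq_of_mul_eq_mul_left (pow_pos hp.out.pos _) h1
  have hn : M.Normal := by
    apply Subgroup.normal_of_index_eq_minFac_card
    rw [hidx, hG, Nat.pow_minFac (by omega), hp.out.minFac_eq]
  have hcard : Nat.card (G ⧸ M) = p := by rw [← Subgroup.index_eq_card, hidx]
  have hcyc : IsCyclic (G ⧸ M) := isCyclic_of_prime_card hcard
  constructor
  · intro x
    rw [← QuotientGroup.eq_one_iff, QuotientGroup.mk_pow, ← hcard]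
    exact pow_card_eq_one'
  · intro x y
    rw [← QuotientGroup.eq_one_iff]
    have hc := (IsCyclic.isMulCommutative (α := G ⧸ M)).is_comm.comm (y : G ⧸ M) (x : G ⧸ M)
    simp only [QuotientGroup.mk_mul, QuotientGroup.mk_inv]
    rw [hc]; group

/-- In a noncyclic group of order `p ^ k` (`k ≥ 3`) all of whose subgroups of order `p ^ (k - 1)`
are cyclic there is a central subgroup `D` of order at most `p ^ (k - 2)` containing all `p`-th
powers and all commutators. -/
theorem exists_central_of_max_cyclic {G : Type*} [Group G] [Finite G] (p k : ℕ) [hp : Fact p.Prime]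
    (hk : 2 ≤ k) (hG : Nat.card G = p ^ k)
    (hmax : ∀ M : Subgroup G, Nat.card M = p ^ (k - 1) → IsCyclic M) (hnc : ¬ IsCyclic G) :
    ∃ D : Subgroup G, (∃ d : ℕ, d ≤ k - 2 ∧ Nat.card D = p ^ d) ∧ (∀ x : G, x ^ p ∈ D) ∧
      (∀ x y : G, y * x * y⁻¹ * x⁻¹ ∈ D) ∧ (∀ z ∈ D, ∀ g : G, Commute z g) := by
  have hpp : p.Prime := hp.out
  have hGp : IsPGroup p G := IsPGroup.of_card hG
  have hdvd : p ^ (k - 1) ∣ Nat.card G := by rw [hG]; exact pow_dvd_pow p (by omega)
  obtain ⟨M1, hM1⟩ := Sylow.exists_subgroup_card_pow_prime p hdvd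
  have hM1lt : Nat.card M1 < Nat.card G := by
    rw [hM1, hG]; exact Nat.pow_lt_pow_right hpp.one_lt (by omega)
  have hM1top : M1 ≠ ⊤ := by
    intro h
    rw [h, Subgroup.card_top] at hM1lt
    exact lt_irrefl _ hM1lt
  obtain ⟨g, hg⟩ : ∃ g : G, g ∉ M1 := by
    by_contra h
    rw [not_exists] at h
    apply hM1top
    rw [eq_top_iff]
    intro x _
    by_contra hx
    exact h x hx
  obtain ⟨j, hj⟩ := IsPGroup.iff_card.mp (hGp.to_subgroup (Subgroup.zpowers g))
  have hjk : j ≤ k - 1 := by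
    have hle : p ^ j ≤ p ^ k := by
      rw [← hj, ← hG]; exact Subgroup.card_le_card_group _
    have hjk' : j ≤ k := (Nat.pow_le_pow_iff_right hpp.one_lt).mp hle
    rcases Nat.lt_or_ge j k with h | h
    · omega
    · exfalso
      have hjeq : j = k := le_antisymm hjk' h
      apply hnc
      rw [isCyclic_iff_exists_zpowers_eq_top]
      refine ⟨g, ?_⟩
      apply Subgroup.eq_top_of_card_eq
      rw [hj, hjeq, hG]
  obtain ⟨M2, hM2, hZM2⟩ := Sylow.exists_subgroup_card_pow_prime_le p hdvd _ hj hjk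
  have hgM2 : g ∈ M2 := hZM2 (Subgroup.mem_zpowers g)
  have hne : M1 ≠ M2 := fun h => hg (h ▸ hgM2)
  obtain ⟨hpow1, hcomm1⟩ := index_p_facts p k (by omega) hG M1 hM1
  obtain ⟨hpow2, hcomm2⟩ := index_p_facts p k (by omega) hG M2 hM2
  have hc1 : IsCyclic M1 := hmax M1 hM1
  have hc2 : IsCyclic M2 := hmax M2 hM2
  refine ⟨M1 ⊓ M2, ?_, fun x => Subgroup.mem_inf.mpr ⟨hpow1 x, hpow2 x⟩,
    fun x y => Subgroup.mem_inf.mpr ⟨hcomm1 x y, hcomm2 x y⟩, ?_⟩
  · -- order bound
    obtain ⟨d, hd⟩ := IsPGroup.iff_card.mp (hGp.to_subgroup (M1 ⊓ M2))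
    refine ⟨d, ?_, hd⟩
    have hle : p ^ d ≤ p ^ (k - 1) := by
      rw [← hd, ← hM1]; exact Subgroup.card_le_of_le inf_le_left
    have hd1 : d ≤ k - 1 := (Nat.pow_le_pow_iff_right hpp.one_lt).mp hle
    rcases Nat.lt_or_ge d (k - 1) with h | h
    · omega
    · exfalso
      have hdeq : d = k - 1 := le_antisymm hd1 h
      have h1 : M1 ⊓ M2 = M1 :=
        Subgroup.eq_of_le_of_card_ge inf_le_left (by rw [hd, hdeq, hM1])
      have h2 : M1 ⊓ M2 = M2 :=
        Subgroup.eq_of_le_of_card_ge inf_le_right (by rw [hd, hdeq, hM2])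
      exact hne (h1.symm.trans h2)
  · -- centrality
    intro z hz
    have hz1 : z ∈ M1 := (Subgroup.mem_inf.mp hz).1
    have hz2 : z ∈ M2 := (Subgroup.mem_inf.mp hz).2
    have hsup : M1 ⊔ M2 = ⊤ := by
      obtain ⟨e, he⟩ := IsPGroup.iff_card.mp (hGp.to_subgroup (M1 ⊔ M2))
      apply Subgroup.eq_top_of_card_eq
      have h1 : p ^ (k - 1) < p ^ e := by
        rw [← he, ← hM1]
        by_contra hge
        rw [not_lt] at hge
        have := Subgroup.eq_of_le_of_card_ge (le_sup_left : M1 ≤ M1 ⊔ M2) hge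
        apply hgM2 |> fun hgm => hg (this ▸ (le_sup_right : M2 ≤ M1 ⊔ M2) hgm)
      have h2 : k - 1 < e := (Nat.pow_lt_pow_iff_right hpp.one_lt).mp h1
      have h3 : p ^ e ≤ p ^ k := by
        rw [← he, ← hG]; exact Subgroup.card_le_card_group _
      have h4 : e ≤ k := (Nat.pow_le_pow_iff_right hpp.one_lt).mp h3
      have h5 : e = k := by omega
      rw [he, h5, hG]
    have hcent : M1 ⊔ M2 ≤ Subgroup.centralizer ({z} : Set G) := by
      apply sup_le
      · intro m hm
        rw [Subgroup.mem_centralizer_singleton_iff]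
        have := (IsCyclic.isMulCommutative (α := M1)).is_comm.comm ⟨m, hm⟩ ⟨z, hz1⟩
        exact congrArg Subtype.val this
      · intro m hm
        rw [Subgroup.mem_centralizer_singleton_iff]
        have := (IsCyclic.isMulCommutative (α := M2)).is_comm.comm ⟨m, hm⟩ ⟨z, hz2⟩
        exact congrArg Subtype.val this
    intro g'
    have : g' ∈ Subgroup.centralizer ({z} : Set G) := hcent (hsup ▸ Subgroup.mem_top g')
    rw [Subgroup.mem_centralizer_singleton_iff] at this
    exact this.symm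

end Cfsg.Agent.Lib.Helper71
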