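import Mathlib
import Cfsg.Agent.Lib.Helper71.MaxCyclic

set_option autoImplicit false

namespace Cfsg.Agent.Lib.Helper71

/-- Lower bound for the kernel of an endomorphism with small range in a `p`-group. -/
theorem card_ker_ge_of_range_le {G : Type*} [Group G] [Finite G] (p k i0 : ℕ) [hp : Fact p.Prime]
    (hG : Nat.card G = p ^ k) (f : G →* G) (R : Subgroup G) (hR : f.range ≤ R)
    (hRcard : ∃ e : ℕ, e ≤ i0 ∧ Nat.card R = p ^ e) (hi0 : i0 ≤ k) :
    p ^ (k - i0) ≤ Nat.card f.ker := by
  have hpp : p.Prime := hp.out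
  obtain ⟨e, he, hRe⟩ := hRcard
  have h1 := f.ker.card_mul_index
  rw [Subgroup.index_ker, hG] at h1
  have hdvd : Nat.card f.range ∣ p ^ e := hRe ▸ Subgroup.card_dvd_of_le hR
  obtain ⟨i, hie, hi⟩ := (Nat.dvd_prime_pow hpp).mp hdvd
  rw [hi] at h1
  have hik : i ≤ k := by omega
  have h2 : Nat.card f.ker = p ^ (k - i) := by
    have h3 : p ^ k = p ^ (k - i) * p ^ i := by rw [← pow_add]; congr 1; omega
    rw [h3] at h1
    exact Nat.eq_of_mul_eq_mul_right (pow_pos hpp.pos i) h1
  rw [h2]
  exact Nat.pow_le_pow_right hpp.pos (by omega)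

/-- Odd case: many elements of order dividing `p`. -/
theorem exists_exponent_p_subgroup {G : Type*} [Group G] [Finite G] (p k : ℕ) [hp : Fact p.Prime]
    (hp2 : p ≠ 2) (hk : 2 ≤ k) (hG : Nat.card G = p ^ k)
    (hmax : ∀ M : Subgroup G, Nat.card M = p ^ (k - 1) → IsCyclic M) (hnc : ¬ IsCyclic G) :
    ∃ E : Subgroup G, p ^ 2 ≤ Nat.card E ∧ ∀ x ∈ E, x ^ p = 1 := by
  have hpp : p.Prime := hp.out
  obtain ⟨D, ⟨d, hd, hDcard⟩, hpow, hcomm, hcent⟩ :=
    exists_central_of_max_cyclic p k hk hG hmax hnc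
  obtain ⟨t, ht⟩ := (hpp.odd_of_ne_two hp2)
  have hmul : ∀ x y : G, (x * y) ^ p = x ^ p * y ^ p := by
    intro x y
    set c := y * x * y⁻¹ * x⁻¹ with hc
    have hcD : c ∈ D := hcomm x y
    have h : y * x = c * x * y := by rw [hc]; group
    have hcx : Commute c x := hcent c hcD x
    have hcy : Commute c y := hcent c hcD y
    have hcp : c ^ p = 1 := by
      have h1 := mul_pow_of_comm_rel h hcx p
      have h2 : Commute (x ^ p) y := hcent _ (hpow x) y
      rw [← h2.eq] at h1
      have h3 : 1 * (x ^ p * y) = c ^ p * (x ^ p * y) := by rw [one_mul, ← mul_assoc]; exact h1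
      exact (mul_right_cancel h3).symm
    rw [mul_pow_of_comm_rel' h hcx hcy p]
    have h4 : p * (p - 1) / 2 = p * t := by
      have : p - 1 = 2 * t := by omega
      rw [this, ← mul_assoc, mul_comm p 2, mul_assoc, Nat.mul_div_cancel_left _ (by norm_num)]
    rw [h4, pow_mul, hcp, one_pow, mul_one]
  let f : G →* G :=
    { toFun := fun x => x ^ p
      map_one' := one_pow p
      map_mul' := hmul }
  have hrange : f.range ≤ D := by
    rintro _ ⟨x, rfl⟩
    exact hpow x
  have hker := card_ker_ge_of_range_le p k (k - 2) hG f D hrange ⟨d, hd, hDcard⟩ (by omega)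
  refine ⟨f.ker, ?_, fun x hx => hx⟩
  have : k - (k - 2) = 2 := by omega
  rwa [this] at hker

/-- Even case: many elements of order dividing `4`. -/
theorem exists_exponent_four_subgroup {G : Type*} [Group G] [Finite G] (k : ℕ)
    (hk : 3 ≤ k) (hG : Nat.card G = 2 ^ k)
    (hmax : ∀ M : Subgroup G, Nat.card M = 2 ^ (k - 1) → IsCyclic M) (hnc : ¬ IsCyclic G) :
    ∃ E : Subgroup G, 8 ≤ Nat.card E ∧ ∀ x ∈ E, x ^ 4 = 1 := by
  have hp : Fact (Nat.Prime 2) := ⟨Nat.prime_two⟩
  obtain ⟨D, ⟨d, hd, hDcard⟩, hpow, hcomm, hcent⟩ :=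
    exists_central_of_max_cyclic 2 k (by omega) hG hmax hnc
  have hmul : ∀ x y : G, (x * y) ^ 4 = x ^ 4 * y ^ 4 := by
    intro x y
    set c := y * x * y⁻¹ * x⁻¹ with hc
    have hcD : c ∈ D := hcomm x y
    have h : y * x = c * x * y := by rw [hc]; group
    have hcx : Commute c x := hcent c hcD x
    have hcy : Commute c y := hcent c hcD y
    have hcp : c ^ 2 = 1 := by
      have h1 := mul_pow_of_comm_rel h hcx 2
      have h2 : Commute (x ^ 2) y := hcent _ (hpow x) y
      rw [← h2.eq] at h1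
      have h3 : 1 * (x ^ 2 * y) = c ^ 2 * (x ^ 2 * y) := by rw [one_mul, ← mul_assoc]; exact h1
      exact (mul_right_cancel h3).symm
    rw [mul_pow_of_comm_rel' h hcx hcy 4]
    have h4 : 4 * (4 - 1) / 2 = 2 * 3 := by norm_num
    rw [h4, pow_mul, hcp, one_pow, mul_one]
  let f : G →* G :=
    { toFun := fun x => x ^ 4
      map_one' := one_pow 4
      map_mul' := hmul }
  -- squaring on D
  let sq : D →* G :=
    { toFun := fun z => (z : G) ^ 2
      map_one' := by simp
      map_mul' := fun a b => by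
        have : Commute (a : G) (b : G) := hcent a a.2 b
        simp only [Subgroup.coe_mul]
        exact this.mul_pow 2 }
  have hrange : f.range ≤ sq.range := by
    rintro _ ⟨x, rfl⟩
    refine ⟨⟨x ^ 2, hpow x⟩, ?_⟩
    change (x ^ 2) ^ 2 = x ^ 4
    rw [← pow_mul]
  have hsqcard : ∃ e : ℕ, e ≤ k - 3 ∧ Nat.card sq.range = 2 ^ e := by
    have h1 := sq.ker.card_mul_index
    rw [Subgroup.index_ker, hDcard] at h1
    have hDp : IsPGroup 2 D := IsPGroup.of_card hDcard
    obtain ⟨a, ha⟩ := IsPGroup.iff_card.mp (hDp.to_subgroup sq.ker)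
    have hdvd : Nat.card sq.range ∣ 2 ^ d := Dvd.intro_left _ h1
    obtain ⟨e, hed, he⟩ := (Nat.dvd_prime_pow Nat.prime_two).mp hdvd
    refine ⟨e, ?_, he⟩
    rw [ha, he, ← pow_add] at h1
    have hae : a + e = d := Nat.pow_right_injective (le_refl 2) h1
    rcases Nat.eq_zero_or_pos d with hd0 | hdpos
    · omega
    · -- the kernel is nontrivial
      have hdvd2 : 2 ∣ Nat.card D := by rw [hDcard]; exact dvd_pow_self 2 hdpos.ne'
      obtain ⟨z, hz⟩ := exists_prime_orderOf_dvd_card' 2 hdvd2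
      have hzker : z ∈ sq.ker := by
        rw [MonoidHom.mem_ker]
        change (z : G) ^ 2 = 1
        have : z ^ 2 = 1 := by rw [← hz]; exact pow_orderOf_eq_one z
        have h2 := congrArg Subtype.val this
        simpa using h2
      have hz1 : z ≠ 1 := by
        intro h
        rw [h, orderOf_one] at hz
        omega
      have ha0 : a ≠ 0 := by
        rintro rfl
        rw [pow_zero] at ha
        have := Subgroup.card_eq_one.mp ha
        rw [this, Subgroup.mem_bot] at hzker
        exact hz1 hzker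
      omega
  have hker := card_ker_ge_of_range_le 2 k (k - 3) hG f sq.range hrange hsqcard (by omega)
  refine ⟨f.ker, ?_, fun x hx => hx⟩
  have : k - (k - 3) = 3 := by omega
  rw [this] at hker
  exact hker

end Cfsg.Agent.Lib.Helper71
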