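import Mathlib

set_option autoImplicit false
set_option linter.unusedVariables false
set_option linter.unusedSectionVars false

/-! # K-NQ leaf P2 (S2787): `O_p(PSL₂(F)) = 1` for `|F| = p^n` odd -/

namespace Cfsg.Agent.Lib.Helper71.NQ

open Matrix

variable {F : Type*} [Field F]

/-- `[[1,1],[0,1]]` -/
def nqU : SpecialLinearGroup (Fin 2) F := ⟨!![1, 1; 0, 1], by simp [Matrix.det_fin_two]⟩
/-- `[[1,-1],[0,1]]` -/
def nqU' : SpecialLinearGroup (Fin 2) F := ⟨!![1, -1; 0, 1], by simp [Matrix.det_fin_two]⟩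
/-- `[[1,0],[1,1]]` -/
def nqL : SpecialLinearGroup (Fin 2) F := ⟨!![1, 0; 1, 1], by simp [Matrix.det_fin_two]⟩
/-- `[[1,0],[-1,1]]` -/
def nqL' : SpecialLinearGroup (Fin 2) F := ⟨!![1, 0; -1, 1], by simp [Matrix.det_fin_two]⟩

theorem nqU_inv : (nqU : SpecialLinearGroup (Fin 2) F)⁻¹ = nqU' := by
  symm
  apply eq_inv_of_mul_eq_one_right
  apply Subtype.ext
  show (!![1, 1; 0, 1] : Matrix (Fin 2) (Fin 2) F) * !![1, -1; 0, 1] = 1
  ext i j
  fin_cases i <;> fin_cases j <;> simp [Matrix.mul_apply, Fin.sum_univ_two]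

theorem nqL_inv : (nqL : SpecialLinearGroup (Fin 2) F)⁻¹ = nqL' := by
  symm
  apply eq_inv_of_mul_eq_one_right
  apply Subtype.ext
  show (!![1, 0; 1, 1] : Matrix (Fin 2) (Fin 2) F) * !![1, 0; -1, 1] = 1
  ext i j
  fin_cases i <;> fin_cases j <;> simp [Matrix.mul_apply, Fin.sum_univ_two]

theorem nq_det (g : SpecialLinearGroup (Fin 2) F) : g.1 0 0 * g.1 1 1 - g.1 0 1 * g.1 1 0 = 1 := by
  have := g.2
  rwa [Matrix.det_fin_two] at this

theorem nq_tU1 (g : SpecialLinearGroup (Fin 2) F) :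
    (g * (nqU * g * nqU')).1 0 0 + (g * (nqU * g * nqU')).1 1 1 =
      (g.1 0 0 + g.1 1 1) ^ 2 - 2 - (g.1 1 0) ^ 2 := by
  have hdet := nq_det g
  show (g.1 * ((!![1, 1; 0, 1] : Matrix (Fin 2) (Fin 2) F) * g.1 * !![1, -1; 0, 1]) : Matrix (Fin 2) (Fin 2) F) 0 0 +
    (g.1 * ((!![1, 1; 0, 1] : Matrix (Fin 2) (Fin 2) F) * g.1 * !![1, -1; 0, 1]) : Matrix (Fin 2) (Fin 2) F) 1 1 = _
  simp only [Matrix.mul_apply, Fin.sum_univ_two]
  simp
  linear_combination (-2) * hdet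

theorem nq_tU2 (g : SpecialLinearGroup (Fin 2) F) :
    (g * (g * (nqU * g * nqU'))).1 0 0 + (g * (g * (nqU * g * nqU'))).1 1 1 =
      (g.1 0 0 + g.1 1 1) * ((g.1 0 0 + g.1 1 1) ^ 2 - 3 - (g.1 1 0) ^ 2) := by
  have hdet := nq_det g
  show (g.1 * (g.1 * ((!![1, 1; 0, 1] : Matrix (Fin 2) (Fin 2) F) * g.1 * !![1, -1; 0, 1])) : Matrix (Fin 2) (Fin 2) F) 0 0 +
    (g.1 * (g.1 * ((!![1, 1; 0, 1] : Matrix (Fin 2) (Fin 2) F) * g.1 * !![1, -1; 0, 1])) : Matrix (Fin 2) (Fin 2) F) 1 1 = _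
  simp only [Matrix.mul_apply, Fin.sum_univ_two]
  simp
  linear_combination (-3 * (g.1 0 0 + g.1 1 1)) * hdet

theorem nq_tL1 (g : SpecialLinearGroup (Fin 2) F) :
    (g * (nqL * g * nqL')).1 0 0 + (g * (nqL * g * nqL')).1 1 1 =
      (g.1 0 0 + g.1 1 1) ^ 2 - 2 - (g.1 0 1) ^ 2 := by
  have hdet := nq_det g
  show (g.1 * ((!![1, 0; 1, 1] : Matrix (Fin 2) (Fin 2) F) * g.1 * !![1, 0; -1, 1]) : Matrix (Fin 2) (Fin 2) F) 0 0 +
    (g.1 * ((!![1, 0; 1, 1] : Matrix (Fin 2) (Fin 2) F) * g.1 * !![1, 0; -1, 1]) : Matrix (Fin 2) (Fin 2) F) 1 1 = _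
  simp only [Matrix.mul_apply, Fin.sum_univ_two]
  simp
  linear_combination (-2) * hdet

theorem nq_tL2 (g : SpecialLinearGroup (Fin 2) F) :
    (g * (g * (nqL * g * nqL'))).1 0 0 + (g * (g * (nqL * g * nqL'))).1 1 1 =
      (g.1 0 0 + g.1 1 1) * ((g.1 0 0 + g.1 1 1) ^ 2 - 3 - (g.1 0 1) ^ 2) := by
  have hdet := nq_det g
  show (g.1 * (g.1 * ((!![1, 0; 1, 1] : Matrix (Fin 2) (Fin 2) F) * g.1 * !![1, 0; -1, 1])) : Matrix (Fin 2) (Fin 2) F) 0 0 +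
    (g.1 * (g.1 * ((!![1, 0; 1, 1] : Matrix (Fin 2) (Fin 2) F) * g.1 * !![1, 0; -1, 1])) : Matrix (Fin 2) (Fin 2) F) 1 1 = _
  simp only [Matrix.mul_apply, Fin.sum_univ_two]
  simp
  linear_combination (-3 * (g.1 0 0 + g.1 1 1)) * hdet


/-- a `p`-element modulo the centre has trace `± 2` -/
theorem nq_trace {p : ℕ} [Fact p.Prime] [CharP F p] (hp2 : p ≠ 2) (g : SpecialLinearGroup (Fin 2) F) (k : ℕ)
    (hk : g ^ (p ^ k) ∈ Subgroup.center (SpecialLinearGroup (Fin 2) F)) :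
    ∃ ε : F, ε ^ 2 = 1 ∧ g.1 0 0 + g.1 1 1 = 2 * ε := by
  obtain ⟨r, hr, hrg⟩ := Matrix.SpecialLinearGroup.mem_center_iff.mp hk
  have hr2 : r ^ 2 = 1 := by simpa using hr
  refine ⟨r, hr2, ?_⟩
  have hMpow : g.1 ^ (p ^ k) = r • (1 : Matrix (Fin 2) (Fin 2) F) := by
    have h1 : ((g ^ (p ^ k) : SpecialLinearGroup (Fin 2) F) : Matrix (Fin 2) (Fin 2) F) = g.1 ^ (p ^ k) :=
      Matrix.SpecialLinearGroup.coe_pow g _
    rw [← h1, ← hrg, Matrix.scalar_apply, ← Matrix.smul_one_eq_diagonal]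
  have hodd : Odd (p ^ k) := (Nat.Prime.odd_of_ne_two Fact.out hp2).pow
  have hrpow : r ^ (p ^ k) * r = 1 := by
    obtain ⟨j, hj⟩ := hodd
    rw [← pow_succ, hj, show 2 * j + 1 + 1 = 2 * (j + 1) by ring, pow_mul, hr2, one_pow]
  have hM' : (r • g.1) ^ (p ^ k) = 1 := by
    rw [smul_pow, hMpow, smul_smul, hrpow, one_smul]
  have hnil : IsNilpotent (r • g.1 - 1) := by
    refine ⟨p ^ k, ?_⟩
    rw [sub_pow_char_pow_of_commute p k (Commute.one_right _), hM', one_pow, sub_self]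
  have htr := (Matrix.isNilpotent_trace_of_isNilpotent hnil).eq_zero
  rw [Matrix.trace_sub, Matrix.trace_smul, Matrix.trace_fin_two, Matrix.trace_one] at htr
  simp only [Fintype.card_fin, Nat.cast_ofNat, smul_eq_mul] at htr
  linear_combination r * htr - (g.1 0 0 + g.1 1 1) * hr2


/-- the algebra: two trace conditions force the off-diagonal entry to vanish -/
theorem nq_offdiag_zero (h2 : (2 : F) ≠ 0) {τ ε ε₁ ε₂ c : F} (hε : ε ^ 2 = 1) (hε₁ : ε₁ ^ 2 = 1)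
    (hε₂ : ε₂ ^ 2 = 1) (hτ : τ = 2 * ε) (h1 : τ ^ 2 - 2 - c ^ 2 = 2 * ε₁)
    (h2' : τ * (τ ^ 2 - 3 - c ^ 2) = 2 * ε₂) : c = 0 := by
  subst hτ
  have h1' : 2 - c ^ 2 = 2 * ε₁ := by linear_combination h1 - 4 * hε
  have e1 : c ^ 2 * (c ^ 2 - 4) = 0 := by
    linear_combination (2 + 2 * ε₁ - c ^ 2) * h1' + 4 * hε₁
  have h2'' : 2 * (ε * (1 - c ^ 2)) = 2 * ε₂ := by linear_combination h2' - 8 * ε * hε
  have h3 : ε * (1 - c ^ 2) = ε₂ := mul_left_cancel₀ h2 h2''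
  have e2 : c ^ 2 * (c ^ 2 - 2) = 0 := by
    linear_combination (-(1 - c ^ 2) ^ 2) * hε + (ε * (1 - c ^ 2) + ε₂) * h3 + hε₂
  have e3 : 2 * c ^ 2 = 0 := by linear_combination e2 - e1
  have e4 : c ^ 2 = 0 := (mul_eq_zero.mp e3).resolve_left h2
  exact pow_eq_zero_iff (two_ne_zero) |>.mp e4


theorem psl2_normal_pgroup_eq_bot {F : Type*} [Field F] [Fintype F] {p : ℕ} [Fact p.Prime] (n : ℕ)
    (hF : Fintype.card F = p ^ n) (hodd : Odd (Fintype.card F))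
    (N : Subgroup (Matrix.ProjectiveSpecialLinearGroup (Fin 2) F)) (hN : N.Normal) (hNp : IsPGroup p N) :
    N = ⊥ := by
  have : CharP F p := charP_of_card_eq_prime_pow hF
  have hp2 : p ≠ 2 := by
    rintro rfl
    rw [hF] at hodd
    rcases Nat.eq_zero_or_pos n with hn | hn
    · subst hn
      have := Fintype.one_lt_card (α := F)
      rw [hF] at this
      simp at this
    · have : Even (2 ^ n) := (Nat.even_pow.mpr ⟨even_two, hn.ne'⟩)
      exact (Nat.not_even_iff_odd.mpr hodd) this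
  have h2 : (2 : F) ≠ 0 := by
    intro h
    have h' : ((2 : ℕ) : F) = 0 := by exact_mod_cast h
    have hd := (CharP.cast_eq_zero_iff F p 2).mp h'
    exact hp2 ((Nat.prime_dvd_prime_iff_eq Fact.out Nat.prime_two).mp hd)
  let π := QuotientGroup.mk' (Subgroup.center (SpecialLinearGroup (Fin 2) F))
  -- the trace property
  have htr : ∀ g : SpecialLinearGroup (Fin 2) F, π g ∈ N →
      ∃ ε : F, ε ^ 2 = 1 ∧ g.1 0 0 + g.1 1 1 = 2 * ε := by
    intro g hg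
    obtain ⟨k, hk⟩ := hNp ⟨π g, hg⟩
    have hk' : (π g) ^ (p ^ k) = 1 := by
      have := congrArg Subtype.val hk
      simpa using this
    apply nq_trace hp2 g k
    rw [← map_pow] at hk'
    exact (QuotientGroup.eq_one_iff _).mp hk'
  have hmul : ∀ g₁ g₂ : SpecialLinearGroup (Fin 2) F, π g₁ ∈ N → π g₂ ∈ N → π (g₁ * g₂) ∈ N :=
    fun g₁ g₂ h₁ h₂ => by rw [map_mul]; exact N.mul_mem h₁ h₂
  have hconj : ∀ h g' : SpecialLinearGroup (Fin 2) F, π g' ∈ N → π (h * g' * h⁻¹) ∈ N :=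
    fun h g' hg' => by rw [map_mul, map_mul, map_inv]; exact hN.conj_mem _ hg' _
  rw [eq_bot_iff]
  intro x hx
  obtain ⟨g, rfl⟩ := QuotientGroup.mk'_surjective _ x
  rw [Subgroup.mem_bot]
  have hx' : π g ∈ N := hx
  obtain ⟨ε, hε, hτ⟩ := htr g hx'
  -- `c = 0`
  have hc : g.1 1 0 = 0 := by
    have hcj : π (nqU * g * nqU') ∈ N := by
      have := hconj nqU g hx'
      rwa [nqU_inv] at this
    have hP1 := hmul _ _ hx' hcj
    have hP2 := hmul _ _ hx' hP1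
    obtain ⟨ε₁, hε₁, h1⟩ := htr _ hP1
    obtain ⟨ε₂, hε₂, h2'⟩ := htr _ hP2
    rw [nq_tU1] at h1
    rw [nq_tU2] at h2'
    exact nq_offdiag_zero h2 hε hε₁ hε₂ hτ h1 h2'
  have hb : g.1 0 1 = 0 := by
    have hcj : π (nqL * g * nqL') ∈ N := by
      have := hconj nqL g hx'
      rwa [nqL_inv] at this
    have hP1 := hmul _ _ hx' hcj
    have hP2 := hmul _ _ hx' hP1
    obtain ⟨ε₁, hε₁, h1⟩ := htr _ hP1
    obtain ⟨ε₂, hε₂, h2'⟩ := htr _ hP2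
    rw [nq_tL1] at h1
    rw [nq_tL2] at h2'
    exact nq_offdiag_zero h2 hε hε₁ hε₂ hτ h1 h2'
  have hdet := nq_det g
  rw [hb, hc] at hdet
  have ha : g.1 0 0 = ε := by
    have : (g.1 0 0 - ε) ^ 2 = 0 := by
      linear_combination (g.1 0 0) * hτ + hε - hdet
    have := pow_eq_zero_iff (two_ne_zero) |>.mp this
    exact sub_eq_zero.mp this
  have hd : g.1 1 1 = ε := by linear_combination hτ - ha
  -- `g` is scalar
  show (QuotientGroup.mk g : Matrix.ProjectiveSpecialLinearGroup (Fin 2) F) = 1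
  rw [QuotientGroup.eq_one_iff, Matrix.SpecialLinearGroup.mem_center_iff]
  refine ⟨ε, by simpa using hε, ?_⟩
  ext i j
  fin_cases i <;> fin_cases j <;> simp [ha, hb, hc, hd]

end Cfsg.Agent.Lib.Helper71.NQ
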