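import Mathlib
import Cfsg.Agent.Lib.Helper56.NSE3Defs

set_option autoImplicit false

/-! # K-NSE3 leaf L05b (S3996): the abstract double pairing sum -/

namespace Cfsg.Agent.Lib.Helper71.NSE3

open Cfsg.Agent.S3995 (s)
open Cfsg.Agent.Lib.Helper56.NSE3 (Hyp)

theorem sum_pair (N p q : ℕ) (hp : p.Prime) (hq : q.Prime) (hpq : p ≠ q) (hpN : p ∣ N)
    (hqN : q ∣ N) (hN : N ≠ 0) (f : ℕ → ℕ) (c : ℕ)
    (hsqp : ∀ k, p * p ∣ k → f k = 0) (hsqq : ∀ k, q * q ∣ k → f k = 0)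
    (hpair : ∀ k, k ∣ N → ¬ p ∣ k → ¬ q ∣ k →
      f (p * k) + f (p * q * k) = if f k = 0 then 0 else c) :
    ∑ k ∈ N.divisors.filter (fun k => p ∣ k), f k =
      c * ((N.divisors.filter (fun k => ¬ p ∣ k ∧ ¬ q ∣ k ∧ f k ≠ 0)).card) := by
  classical
  set T : Finset ℕ := N.divisors.filter (fun k => ¬ p ∣ k ∧ ¬ q ∣ k) with hT
  set A : Finset ℕ := N.divisors.filter (fun k => p ∣ k) with hA
  have hcop : Nat.Coprime p q := (Nat.coprime_primes hp hq).mpr hpq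
  have hpqN : p * q ∣ N := Nat.Coprime.mul_dvd_of_dvd_of_dvd hcop hpN hqN
  have memT : ∀ k, k ∈ T ↔ k ∣ N ∧ ¬ p ∣ k ∧ ¬ q ∣ k := by
    intro k
    simp [hT, Nat.mem_divisors, hN]
  have memA : ∀ k, k ∈ A ↔ k ∣ N ∧ p ∣ k := by
    intro k
    simp [hA, Nat.mem_divisors, hN]
  have hpk : ∀ k, k ∈ T → p * k ∣ N := by
    intro k hk
    obtain ⟨h1, h2, -⟩ := (memT k).mp hk
    exact Nat.Coprime.mul_dvd_of_dvd_of_dvd ((Nat.Prime.coprime_iff_not_dvd hp).mpr h2) hpN h1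
  have hpqk : ∀ k, k ∈ T → p * q * k ∣ N := by
    intro k hk
    obtain ⟨h1, h2, h3⟩ := (memT k).mp hk
    have hc1 : Nat.Coprime p k := (Nat.Prime.coprime_iff_not_dvd hp).mpr h2
    have hc2 : Nat.Coprime q k := (Nat.Prime.coprime_iff_not_dvd hq).mpr h3
    exact Nat.Coprime.mul_dvd_of_dvd_of_dvd (Nat.Coprime.mul_left hc1 hc2) hpqN h1
  set A1 : Finset ℕ := T.image (fun k => p * k) with hA1
  set A2 : Finset ℕ := T.image (fun k => p * q * k) with hA2
  have hdisj : Disjoint A1 A2 := by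
    rw [Finset.disjoint_left]
    intro x hx1 hx2
    obtain ⟨k1, hk1, rfl⟩ := Finset.mem_image.mp hx1
    obtain ⟨k2, hk2, h⟩ := Finset.mem_image.mp hx2
    obtain ⟨-, -, h3⟩ := (memT k1).mp hk1
    have hq1 : q ∣ p * k1 := ⟨p * k2, by rw [← h]; ring⟩
    rcases (Nat.Prime.dvd_mul hq).mp hq1 with h4 | h4
    · exact hpq ((Nat.prime_dvd_prime_iff_eq hq hp).mp h4).symm
    · exact h3 h4
  have hsub : A1 ∪ A2 ⊆ A := by
    intro x hx
    rcases Finset.mem_union.mp hx with hx | hx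
    · obtain ⟨k, hk, rfl⟩ := Finset.mem_image.mp hx
      exact (memA _).mpr ⟨hpk k hk, Dvd.intro _ rfl⟩
    · obtain ⟨k, hk, rfl⟩ := Finset.mem_image.mp hx
      exact (memA _).mpr ⟨hpqk k hk, ⟨q * k, by ring⟩⟩
  have hzero : ∀ x ∈ A, x ∉ A1 ∪ A2 → f x = 0 := by
    intro x hx hnot
    obtain ⟨hxN, hpx⟩ := (memA x).mp hx
    obtain ⟨j, rfl⟩ := hpx
    by_cases hpj : p ∣ j
    · exact hsqp _ (Nat.mul_dvd_mul_left p hpj)
    have hjN : j ∣ N := (Dvd.intro_left p rfl).trans hxN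
    by_cases hqj : q ∣ j
    · obtain ⟨i, rfl⟩ := hqj
      by_cases hqi : q ∣ i
      · apply hsqq
        obtain ⟨l, rfl⟩ := hqi
        exact ⟨p * l, by ring⟩
      · exfalso
        apply hnot
        apply Finset.mem_union_right
        apply Finset.mem_image.mpr
        refine ⟨i, (memT i).mpr ⟨(Dvd.intro_left q rfl).trans hjN, ?_, hqi⟩, by ring⟩
        intro hpi
        exact hpj (hpi.trans (Dvd.intro_left q rfl))
    · exfalso
      apply hnot
      apply Finset.mem_union_left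
      exact Finset.mem_image.mpr ⟨j, (memT j).mpr ⟨hjN, hpj, hqj⟩, rfl⟩
  have hp0 : p ≠ 0 := hp.ne_zero
  have hq0 : q ≠ 0 := hq.ne_zero
  have hinj1 : Set.InjOn (fun k => p * k) (T : Set ℕ) := by
    intro a _ b _ h
    exact Nat.eq_of_mul_eq_mul_left hp.pos h
  have hinj2 : Set.InjOn (fun k => p * q * k) (T : Set ℕ) := by
    intro a _ b _ h
    exact Nat.eq_of_mul_eq_mul_left (Nat.mul_pos hp.pos hq.pos) h
  calc ∑ k ∈ A, f k = ∑ k ∈ A1 ∪ A2, f k := (Finset.sum_subset hsub hzero).symm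
    _ = ∑ k ∈ A1, f k + ∑ k ∈ A2, f k := Finset.sum_union hdisj
    _ = ∑ k ∈ T, f (p * k) + ∑ k ∈ T, f (p * q * k) := by
        rw [hA1, hA2, Finset.sum_image hinj1, Finset.sum_image hinj2]
    _ = ∑ k ∈ T, (f (p * k) + f (p * q * k)) := Finset.sum_add_distrib.symm
    _ = ∑ k ∈ T, (if f k = 0 then 0 else c) := by
        apply Finset.sum_congr rfl
        intro k hk
        obtain ⟨h1, h2, h3⟩ := (memT k).mp hk
        exact hpair k h1 h2 h3
    _ = c * ((N.divisors.filter (fun k => ¬ p ∣ k ∧ ¬ q ∣ k ∧ f k ≠ 0)).card) := by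
        rw [Finset.sum_ite, Finset.sum_const_zero, zero_add, Finset.sum_const, smul_eq_mul, mul_comm]
        congr 2
        ext k
        simp only [hT, Finset.mem_filter]
        tauto

end Cfsg.Agent.Lib.Helper71.NSE3
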