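import Mathlib
import Cfsg.Agent.Lib.Helper22.NseDefs

set_option autoImplicit false

/-! # K-NSE leaf C5a (S3431): first consequences of `nse = {1, 15, 20, 24}` -/

namespace Cfsg.Agent.Lib.Helper71.Nse

open Cfsg.Agent.Lib.Helper22.Nse

theorem a5_basic {N : ℕ} {S : ℕ → ℕ} (H : NseHyp N S {1, 15, 20, 24}) : A5Basic N S := by
  have hval : ∀ m, 3 ≤ m → S m = 0 ∨ S m = 20 ∨ S m = 24 := by
    intro m hm
    by_cases h0 : S m = 0
    · exact Or.inl h0
    right
    have hmem := H.mem m h0
    have heven : Even (Nat.totient m) := Nat.totient_even (by omega)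
    have h2 : 2 ∣ S m := (even_iff_two_dvd.mp heven).trans (H.phi m)
    simp only [Finset.mem_insert, Finset.mem_singleton] at hmem
    rcases hmem with h | h | h | h
    · omega
    · omega
    · exact Or.inl h
    · exact Or.inr h
  have htwo : S 2 = 15 := by
    obtain ⟨m, hm⟩ := H.attained 15 (by simp)
    rcases Nat.lt_or_ge m 3 with h3 | h3
    · interval_cases m
      · have := H.phi 0
        rw [Nat.totient_zero, zero_dvd_iff] at this
        omega
      · have := H.one
        omega
      · exact hm
    · rcases hval m h3 with h | h | h <;> omega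
  have hprime : ∀ p, p.Prime → p ∣ N → 3 ≤ p → (p = 3 ∧ S p = 20) ∨ (p = 5 ∧ S p = 24) := by
    intro p hp hpN h3
    have h0 : S p ≠ 0 := H.cauchy p hp hpN
    have hf := H.frob p hpN
    rw [Nat.Prime.sum_divisors hp, H.one] at hf
    have hphi := H.phi p
    rw [Nat.totient_prime hp] at hphi
    rcases hval p h3 with h | h | h
    · exact absurd h h0
    · rw [h] at hf hphi
      have hle : p ≤ 21 := Nat.le_of_dvd (by norm_num) hf
      left
      refine ⟨?_, h⟩
      interval_cases p <;> first | rfl | omega | (exfalso; revert hp; decide)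
    · rw [h] at hf hphi
      have hle : p ≤ 25 := Nat.le_of_dvd (by norm_num) hf
      right
      refine ⟨?_, h⟩
      interval_cases p <;> first | rfl | omega | (exfalso; revert hp; decide)
  refine ⟨htwo, hval, ?_, ?_, ?_⟩
  · intro h3
    rcases hprime 3 Nat.prime_three h3 le_rfl with ⟨-, h⟩ | ⟨h, -⟩
    · exact h
    · omega
  · intro h5
    rcases hprime 5 Nat.prime_five h5 (by norm_num) with ⟨h, -⟩ | ⟨-, h⟩
    · omega
    · exact h
  · intro p hp hpN
    rcases Nat.lt_or_ge p 3 with h3 | h3
    · left
      have := hp.two_le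
      omega
    · rcases hprime p hp hpN h3 with ⟨h, -⟩ | ⟨h, -⟩
      · exact Or.inr (Or.inl h)
      · exact Or.inr (Or.inr h)

end Cfsg.Agent.Lib.Helper71.Nse
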