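import Mathlib
import Cfsg.Prelude.Def_Solvable
import Cfsg.Agent.S3997

set_option autoImplicit false

/-! # K-OTF leaf G1 (S3999): a normal Hall subgroup from the counts of `p`-elements -/

namespace Cfsg.Agent.Lib.Helper71.OTF

open Cfsg

theorem exists_normal_hall {G : Type*} [Group G] [Finite G] (k c : ℕ)
    (hcard : Nat.card G = k * c) (hco : Nat.Coprime k c)
    (hp : ∀ p : ℕ, p.Prime → p ∣ k →
      Nat.card {x : G // ∃ j : ℕ, orderOf x = p ^ j} = p ^ (k.factorization p)) :
    ∃ N : Subgroup G, N.Normal ∧ Nat.card N = k := by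
  classical
  have hG0 : Nat.card G ≠ 0 := (Nat.card_pos (α := G)).ne'
  have hk0 : k ≠ 0 := by
    rintro rfl
    rw [zero_mul] at hcard
    exact hG0 hcard
  have hc0 : c ≠ 0 := by
    rintro rfl
    rw [mul_zero] at hcard
    exact hG0 hcard
  -- Step 1: for `p ∣ k` the Sylow `p`-subgroup is normal
  have hsyl : ∀ p : ℕ, p.Prime → p ∣ k →
      ∃ P : Subgroup G, P.Normal ∧ Nat.card P = p ^ (k.factorization p) := by
    intro p hpp hpk
    haveI : Fact p.Prime := ⟨hpp⟩
    have hpc : ¬ p ∣ c := by
      intro h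
      have h1 : p ∣ Nat.gcd k c := Nat.dvd_gcd hpk h
      rw [hco] at h1
      exact hpp.one_lt.ne' (Nat.dvd_one.mp h1)
    have hfac : (Nat.card G).factorization p = k.factorization p := by
      rw [hcard, Nat.factorization_mul hk0 hc0, Finsupp.add_apply,
        Nat.factorization_eq_zero_of_not_dvd hpc, add_zero]
    have h1 : (Cfsg.Agent.S3997.pElts p G).ncard = p ^ (k.factorization p) := by
      rw [← hp p hpp hpk]
      rfl
    have hQeq : ∀ Q : Sylow p G, ((Q : Subgroup G) : Set G) = Cfsg.Agent.S3997.pElts p G := by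
      intro Q
      apply Set.eq_of_subset_of_ncard_le (Cfsg.Agent.S3997.sylow_subset_pElts p Q) _
        (Set.toFinite _)
      have h2 : ((Q : Subgroup G) : Set G).ncard = p ^ (k.factorization p) := by
        change Nat.card (Q : Subgroup G) = _
        rw [Sylow.card_eq_multiplicity, hfac]
      rw [h1, h2]
    obtain ⟨Q⟩ : Nonempty (Sylow p G) := inferInstance
    haveI : Subsingleton (Sylow p G) :=
      ⟨fun Q1 Q2 => Sylow.ext (SetLike.coe_injective (by rw [hQeq Q1, hQeq Q2]))⟩
    refine ⟨Q, Sylow.normal_of_subsingleton Q, ?_⟩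
    rw [Sylow.card_eq_multiplicity, hfac]
  -- Step 2: join over the prime factors of `k`
  have key : ∀ s : Finset ℕ, s ⊆ k.primeFactors →
      ∃ N : Subgroup G, N.Normal ∧ Nat.card N = ∏ p ∈ s, p ^ (k.factorization p) := by
    intro s
    induction s using Finset.induction_on with
    | empty =>
      intro _
      exact ⟨⊥, inferInstance, by simp⟩
    | insert p s hps ih =>
      intro hsub
      obtain ⟨N, hNn, hN⟩ := ih (fun x hx => hsub (Finset.mem_insert_of_mem hx))
      have hpmem := hsub (Finset.mem_insert_self p s)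
      have hpp : p.Prime := Nat.prime_of_mem_primeFactors hpmem
      have hpk : p ∣ k := Nat.dvd_of_mem_primeFactors hpmem
      obtain ⟨P, hPn, hP⟩ := hsyl p hpp hpk
      have := hNn
      have := hPn
      have hcop : Nat.Coprime (Nat.card N) (Nat.card P) := by
        rw [hN, hP]
        apply Nat.Coprime.pow_right
        apply Nat.Coprime.prod_left
        intro q hq
        apply Nat.Coprime.pow_left
        have hqp : q.Prime := Nat.prime_of_mem_primeFactors (hsub (Finset.mem_insert_of_mem hq))
        exact (Nat.coprime_primes hqp hpp).mpr (fun h => hps (h ▸ hq))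
      have hinf : N ⊓ P = ⊥ := (Subgroup.disjoint_of_coprime_natCard hcop).eq_bot
      refine ⟨P ⊔ N, inferInstance, ?_⟩
      have h1 : Nat.card N * N.relIndex (P ⊔ N) = Nat.card (P ⊔ N : Subgroup G) := by
        have := Subgroup.relIndex_mul_relIndex (⊥ : Subgroup G) N (P ⊔ N) bot_le le_sup_right
        rwa [Subgroup.relIndex_bot_left, Subgroup.relIndex_bot_left] at this
      rw [Subgroup.relIndex_sup_right, ← Subgroup.inf_relIndex_right, hinf,
        Subgroup.relIndex_bot_left] at h1
      rw [← h1, Finset.prod_insert hps, hN, hP, mul_comm]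
  obtain ⟨N, hNn, hN⟩ := key k.primeFactors subset_rfl
  refine ⟨N, hNn, ?_⟩
  rw [hN]
  exact Nat.prod_factorization_pow_eq_self hk0

end Cfsg.Agent.Lib.Helper71.OTF
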