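import Mathlib
import Cfsg.Agent.Lib.Helper74.EqualOrder

set_option autoImplicit false

/-!
Finite groups all of whose elements have order at most four: basic facts and the case of a
nontrivial normal 3-subgroup.
-/

namespace Cfsg.Agent.Lib.Helper71.OrdFour

variable {G : Type*} [Group G]

/-- no element of order six -/
theorem no_six (H4 : ∀ g : G, g ^ 3 = 1 ∨ g ^ 4 = 1) {a b : G} (hab : Commute a b)
    (ha : a ^ 3 = 1) (hb : b ^ 2 = 1) : a = 1 ∨ b = 1 := by
  rcases H4 (a * b) with h | h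
  · right
    rw [hab.mul_pow, ha, one_mul] at h
    have : b ^ 3 = b ^ 2 * b := pow_succ b 2
    rw [this, hb, one_mul] at h
    exact h
  · left
    rw [hab.mul_pow] at h
    have h1 : a ^ 4 = a ^ 3 * a := pow_succ a 3
    have h2 : b ^ 4 = (b ^ 2) ^ 2 := by rw [← pow_mul]
    rw [h1, h2, ha, hb, one_mul, one_pow, mul_one] at h
    exact h

/-- no element of order twelve either -/
theorem no_six' (H4 : ∀ g : G, g ^ 3 = 1 ∨ g ^ 4 = 1) {a b : G} (hab : Commute a b)
    (ha : a ^ 3 = 1) (hb : b ^ 4 = 1) : a = 1 ∨ b = 1 := by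
  have hb2 : (b ^ 2) ^ 2 = 1 := by rw [← pow_mul]; exact hb
  rcases no_six H4 (hab.pow_right 2) ha hb2 with h | h
  · exact Or.inl h
  · exact no_six H4 hab ha h

theorem eq_one_of_pow_three_of_pow_four {g : G} (h3 : g ^ 3 = 1) (h4 : g ^ 4 = 1) : g = 1 := by
  have : g ^ 4 = g ^ 3 * g := pow_succ g 3
  rw [this, h3, one_mul] at h4
  exact h4

theorem eq_one_of_pow_three_of_pow_two {g : G} (h3 : g ^ 3 = 1) (h2 : g ^ 2 = 1) : g = 1 := by
  have : g ^ 3 = g ^ 2 * g := pow_succ g 2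
  rw [this, h2, one_mul] at h3
  exact h3

/-- an involution inverts every normal subgroup of exponent three -/
theorem inv_of_normal_three (H4 : ∀ g : G, g ^ 3 = 1 ∨ g ^ 4 = 1) (M : Subgroup G) [hM : M.Normal]
    (hM3 : ∀ m ∈ M, m ^ 3 = 1) {s : G} (hs : s ^ 2 = 1) (hs1 : s ≠ 1) {m : G} (hm : m ∈ M) :
    s * m * s⁻¹ = m⁻¹ := by
  have hsinv : s⁻¹ = s := by
    rw [inv_eq_iff_mul_eq_one, ← pow_two]; exact hs
  have hg2 : (s * m) ^ 2 = (s * m * s⁻¹) * m := by
    rw [pow_two, hsinv]; group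
  have hg2M : (s * m) ^ 2 ∈ M := by
    rw [hg2]; exact M.mul_mem (hM.conj_mem m hm s) hm
  rcases H4 (s * m) with h | h
  · exfalso
    have e : s * m = ((s * m) ^ 2)⁻¹ := by
      have : (s * m) ^ 3 = (s * m) ^ 2 * (s * m) := pow_succ _ 2
      rw [this] at h
      exact eq_inv_of_mul_eq_one_right h
    have hsm : s * m ∈ M := by rw [e]; exact M.inv_mem hg2M
    have hsM : s ∈ M := by
      have : s = (s * m) * m⁻¹ := by group
      rw [this]; exact M.mul_mem hsm (M.inv_mem hm)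
    exact hs1 (eq_one_of_pow_three_of_pow_two (hM3 s hsM) hs)
  · have h22 : ((s * m) ^ 2) ^ 2 = 1 := by rw [← pow_mul]; exact h
    have h1 : (s * m) ^ 2 = 1 := eq_one_of_pow_three_of_pow_two (hM3 _ hg2M) h22
    rw [hg2] at h1
    exact eq_inv_of_mul_eq_one_left h1

/-- a subgroup inverted by an element is commutative -/
theorem comm_of_inverted (M : Subgroup G) {s : G} (hinv : ∀ m ∈ M, s * m * s⁻¹ = m⁻¹) {a b : G}
    (ha : a ∈ M) (hb : b ∈ M) : a * b = b * a := by
  have h1 := hinv (a * b) (M.mul_mem ha hb)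
  have h2 : s * (a * b) * s⁻¹ = (s * a * s⁻¹) * (s * b * s⁻¹) := by group
  rw [h2, hinv a ha, hinv b hb, mul_inv_rev] at h1
  have := congrArg Inv.inv h1
  simpa using this.symm

section CaseA

variable [Finite G]

omit [Finite G] in
/-- a 2-group of exponent dividing four with an element of order four that is cyclic has order
four -/
theorem card_eq_four_of_cyclic (T : Subgroup G) (hT4 : ∀ t ∈ T, t ^ 4 = 1) (hc : IsCyclic T)
    {t : G} (ht : t ∈ T) (hto : orderOf t = 4) : Nat.card T = 4 := by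
  obtain ⟨g, hg⟩ := hc.exists_generator
  have h1 : orderOf g = Nat.card T := orderOf_eq_card_of_forall_mem_zpowers hg
  have h2 : orderOf g ∣ 4 := by
    apply orderOf_dvd_of_pow_eq_one
    apply Subtype.ext
    rw [Subgroup.coe_pow, Subgroup.coe_one]
    exact hT4 g g.2
  have h3 : 4 ∣ Nat.card T := by
    have : orderOf (⟨t, ht⟩ : T) = 4 := by rw [← hto]; exact Subgroup.orderOf_mk t ht
    rw [← this]
    exact orderOf_dvd_natCard _
  rw [h1] at h2
  exact Nat.dvd_antisymm h2 h3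

theorem caseA (H4 : ∀ g : G, g ^ 3 = 1 ∨ g ^ 4 = 1) (K : Subgroup G) [hKn : K.Normal]
    (hK3 : ∀ k ∈ K, k ^ 3 = 1) (hKne : K ≠ ⊥) (y : G) (hy : orderOf y = 4) :
    ∃ (N : Subgroup G) (_ : N.Normal), (IsMulCommutative N ∧ ∀ a ∈ N, a ^ 3 = 1) ∧
      ((IsCyclic (G ⧸ N) ∧ N.index = 4) ∨ Nonempty (G ⧸ N ≃* QuaternionGroup 2)) := by
  classical
  -- the involution
  have hy4 : y ^ 4 = 1 := by rw [← hy]; exact pow_orderOf_eq_one y
  have hy2 : y ^ 2 ≠ 1 := by
    intro h
    have := orderOf_dvd_of_pow_eq_one h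
    rw [hy] at this
    omega
  set z := y ^ 2 with hzdef
  have hz2 : z ^ 2 = 1 := by rw [hzdef, ← pow_mul]; exact hy4
  have hz1 : z ≠ 1 := hy2
  have hzinv : z⁻¹ = z := by rw [inv_eq_iff_mul_eq_one, ← pow_two]; exact hz2
  -- the subgroup `N`
  let N : Subgroup G := Subgroup.centralizer (K : Set G)
  have hNn : N.Normal := Subgroup.normal_centralizer
  obtain ⟨k0, hk0, hk01⟩ : ∃ k ∈ K, k ≠ 1 := by
    by_contra hcon
    push Not at hcon
    exact hKne ((Subgroup.eq_bot_iff_forall K).mpr hcon)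
  have hN3 : ∀ n ∈ N, n ^ 3 = 1 := by
    intro n hn
    rcases H4 n with h | h
    · exact h
    · have hc : Commute k0 n := (Subgroup.mem_centralizer_iff.mp hn k0 hk0)
      rcases no_six' H4 hc (hK3 k0 hk0) h with h' | h'
      · exact absurd h' hk01
      · rw [h', one_pow]
  have hinvK : ∀ {s : G}, s ^ 2 = 1 → s ≠ 1 → ∀ m ∈ K, s * m * s⁻¹ = m⁻¹ :=
    fun hs hs1 m hm => inv_of_normal_three H4 K hK3 hs hs1 hm
  have hinvN : ∀ {s : G}, s ^ 2 = 1 → s ≠ 1 → ∀ m ∈ N, s * m * s⁻¹ = m⁻¹ :=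
    fun hs hs1 m hm => inv_of_normal_three H4 N hN3 hs hs1 hm
  have hKN : K ≤ N := by
    intro a ha
    rw [Subgroup.mem_centralizer_iff]
    intro b hb
    exact comm_of_inverted K (hinvK hz2 hz1) hb ha
  have hNcomm : IsMulCommutative N :=
    ⟨⟨fun a b => Subtype.ext (comm_of_inverted N (hinvN hz2 hz1) a.2 b.2)⟩⟩
  have hNne : N ≠ ⊥ := by
    intro h
    apply hk01
    have := hKN hk0
    rw [h, Subgroup.mem_bot] at this
    exact this
  -- conjugates of `z`
  have hconj : ∀ g : G, ∃ c ∈ N, c * z * c⁻¹ = g * z * g⁻¹ := by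
    intro g
    set z' := g * z * g⁻¹ with hz'
    have hz'2 : z' ^ 2 = 1 := by
      rw [hz', conj_pow, hz2]; group
    have hz'1 : z' ≠ 1 := by
      intro h
      apply hz1
      have : z = g⁻¹ * z' * g := by rw [hz']; group
      rw [this, h]; group
    have hz'inv : z'⁻¹ = z' := by rw [inv_eq_iff_mul_eq_one, ← pow_two]; exact hz'2
    have hcN : z * z' ∈ N := by
      rw [Subgroup.mem_centralizer_iff]
      intro k hk
      have e1 := hinvK hz'2 hz'1 k hk
      have e2 := hinvK hz2 hz1 k⁻¹ (K.inv_mem hk)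
      rw [inv_inv] at e2
      have : z * z' * k * (z * z')⁻¹ = k := by
        have : z * z' * k * (z * z')⁻¹ = z * (z' * k * z'⁻¹) * z⁻¹ := by group
        rw [this, e1, e2]
      calc k * (z * z') = (z * z' * k * (z * z')⁻¹) * (z * z') := by rw [this]
        _ = z * z' * k := by group
    refine ⟨z * z', hcN, ?_⟩
    have e3 := hinvN hz2 hz1 (z * z') hcN
    have e4 := hN3 _ hcN
    have e5 : (z * z') * z * (z * z')⁻¹ = (z * z') * (z * (z * z') * z⁻¹)⁻¹ * z := by group
    rw [e5, e3, inv_inv]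
    have e6 : (z * z') * (z * z') = (z * z')⁻¹ := by
      have : (z * z') ^ 3 = (z * z') * (z * z') * (z * z') := by
        rw [pow_succ, pow_two]
      rw [this] at e4
      exact eq_inv_of_mul_eq_one_left e4
    rw [e6, mul_inv_rev, hzinv, hz'inv, mul_assoc, ← pow_two, hz2, mul_one]
  -- the complement
  let T : Subgroup G := Subgroup.centralizer {z}
  have hT4 : ∀ t ∈ T, t ^ 4 = 1 := by
    intro t ht
    rcases H4 t with h | h
    · have hc : Commute t z := (Subgroup.mem_centralizer_iff.mp ht z rfl).symm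
      rcases no_six H4 hc h hz2 with h' | h'
      · rw [h', one_pow]
      · exact absurd h' hz1
    · exact h
  have hTN : ∀ t ∈ T, t ∈ N → t = 1 := fun t ht htN =>
    eq_one_of_pow_three_of_pow_four (hN3 t htN) (hT4 t ht)
  let f : T →* G ⧸ N := (QuotientGroup.mk' N).comp T.subtype
  have hfinj : Function.Injective f := by
    rw [injective_iff_map_eq_one]
    intro t ht
    have : (t : G) ∈ N := by
      have h1 : (QuotientGroup.mk' N) (t : G) = 1 := ht
      rwa [QuotientGroup.mk'_apply, QuotientGroup.eq_one_iff] at h1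
    exact Subtype.ext (hTN t t.2 this)
  have hfsurj : Function.Surjective f := by
    intro q
    obtain ⟨g, rfl⟩ := QuotientGroup.mk_surjective q
    obtain ⟨c, hc, hcz⟩ := hconj g
    have hT : c⁻¹ * g ∈ T := by
      rw [Subgroup.mem_centralizer_iff]
      intro w hw
      rw [Set.mem_singleton_iff] at hw
      subst hw
      have : c⁻¹ * g * z * (c⁻¹ * g)⁻¹ = z := by
        have : c⁻¹ * g * z * (c⁻¹ * g)⁻¹ = c⁻¹ * (g * z * g⁻¹) * c := by group
        rw [this, ← hcz]; group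
      calc z * (c⁻¹ * g) = (c⁻¹ * g * z * (c⁻¹ * g)⁻¹) * (c⁻¹ * g) := by rw [this]
        _ = c⁻¹ * g * z := by group
    refine ⟨⟨c⁻¹ * g, hT⟩, ?_⟩
    show (QuotientGroup.mk (c⁻¹ * g) : G ⧸ N) = QuotientGroup.mk g
    rw [QuotientGroup.eq]
    have : (c⁻¹ * g)⁻¹ * g = g⁻¹ * c * g⁻¹⁻¹ := by group
    rw [this]; exact hNn.conj_mem c hc g⁻¹
  let e : T ≃* G ⧸ N := MulEquiv.ofBijective f ⟨hfinj, hfsurj⟩
  -- an element of order four in `T`
  obtain ⟨t0, ht0⟩ := hfsurj (QuotientGroup.mk y)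
  have ht0o : orderOf (t0 : G) = 4 := by
    have h4 := hT4 t0 t0.2
    have h2 : ¬ (t0 : G) ^ 2 ^ 1 = 1 := by
      intro h
      rw [pow_one] at h
      have h1 : f (t0 ^ 2) = 1 := by
        rw [map_pow]
        have : t0 ^ 2 = 1 := Subtype.ext (by rw [Subgroup.coe_pow, Subgroup.coe_one]; exact h)
        rw [← map_pow, this, map_one]
      rw [map_pow, ht0, ← QuotientGroup.mk_pow, QuotientGroup.eq_one_iff] at h1
      have h3 := hN3 _ h1
      exact hz1 (eq_one_of_pow_three_of_pow_two h3 hz2)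
    have := orderOf_eq_prime_pow (p := 2) (n := 1) h2 (by norm_num; exact h4)
    simpa using this
  have hfpf : ∀ h ∈ T, h ≠ 1 → N ⊓ Subgroup.centralizer {h} = ⊥ := by
    intro h hh hh1
    rw [Subgroup.eq_bot_iff_forall]
    intro n hn
    obtain ⟨hn1, hn2⟩ := Subgroup.mem_inf.mp hn
    have hc : Commute n h := (Subgroup.mem_centralizer_iff.mp hn2 h rfl).symm
    rcases no_six' H4 hc (hN3 n hn1) (hT4 h hh) with h' | h'
    · exact h'
    · exact absurd h' hh1
  have hN3g : IsPGroup 3 N := by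
    intro n
    refine ⟨1, ?_⟩
    apply Subtype.ext
    rw [pow_one, Subgroup.coe_pow, Subgroup.coe_one]
    exact hN3 n n.2
  have hT2g : IsPGroup 2 T := by
    intro t
    refine ⟨2, ?_⟩
    apply Subtype.ext
    rw [Subgroup.coe_pow, Subgroup.coe_one]
    exact hT4 t t.2
  have h23 : (3 : ℕ) ≠ 2 := by norm_num
  have : Fact (Nat.Prime 3) := ⟨Nat.prime_three⟩
  have : Fact (Nat.Prime 2) := ⟨Nat.prime_two⟩
  have hcq := Cfsg.Agent.Lib.Helper74.cyclic_or_quaternion_of_fpf N T hNne 3 2 h23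
    hN3g hT2g hfpf
  have hcyc : IsCyclic T → IsCyclic (G ⧸ N) ∧ N.index = 4 := by
    intro hc
    have h4 := card_eq_four_of_cyclic T hT4 hc t0.2 ht0o
    refine ⟨isCyclic_of_surjective e e.surjective, ?_⟩
    rw [Subgroup.index_eq_card, ← Nat.card_congr e.toEquiv, h4]
  refine ⟨N, hNn, ⟨hNcomm, hN3⟩, ?_⟩
  rcases hcq with hc | ⟨n, ⟨e'⟩⟩
  · exact Or.inl (hcyc hc)
  · rcases Nat.lt_or_ge n 2 with hn | hn
    · interval_cases n
      · left
        apply hcyc
        have : IsCyclic (QuaternionGroup (2 ^ 0)) := by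
          rw [pow_zero]; exact QuaternionGroup.quaternionGroup_one_isCyclic
        exact isCyclic_of_surjective e'.symm e'.symm.surjective
      · right
        rw [pow_one] at e'
        exact ⟨e.symm.trans e'⟩
    · exfalso
      have h1 : orderOf (QuaternionGroup.a 1 : QuaternionGroup (2 ^ n)) = 2 * 2 ^ n :=
        QuaternionGroup.orderOf_a_one
      set w := e'.symm (QuaternionGroup.a 1) with hw
      have h2 : orderOf w = 2 * 2 ^ n := by rw [hw, MulEquiv.orderOf_eq, h1]
      have h3 : w ^ 4 = 1 := by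
        apply Subtype.ext
        rw [Subgroup.coe_pow, Subgroup.coe_one]
        exact hT4 w w.2
      have h4 := orderOf_dvd_of_pow_eq_one h3
      rw [h2] at h4
      have h5 : 2 ^ 2 ≤ 2 ^ n := Nat.pow_le_pow_right (by norm_num) hn
      have := Nat.le_of_dvd (by norm_num) h4
      omega

end CaseA

end Cfsg.Agent.Lib.Helper71.OrdFour
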