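import Mathlib
import Cfsg.Agent.Lib.Helper71.OrdFour
import Cfsg.Agent.Lib.Helper71.FpfThree
import Cfsg.Agent.Lib.Helper71.FpfThreeS3

set_option autoImplicit false

/-!
Finite groups all of whose elements have order at most four: the case of a nontrivial normal
2-subgroup.
-/

namespace Cfsg.Agent.Lib.Helper71.OrdFour

open scoped commutatorElement

variable {G : Type*} [Group G]

theorem pow_four_of_two_elt (H4 : ∀ g : G, g ^ 3 = 1 ∨ g ^ 4 = 1) {g : G}
    (hg : ∃ k : ℕ, g ^ 2 ^ k = 1) : g ^ 4 = 1 := by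
  rcases H4 g with h | h
  · obtain ⟨k, hk⟩ := hg
    have h1 := orderOf_dvd_of_pow_eq_one h
    have h2 := orderOf_dvd_of_pow_eq_one hk
    have h3 : Nat.Coprime 3 (2 ^ k) := Nat.Coprime.pow_right k (by norm_num)
    have h4 : orderOf g = 1 := Nat.eq_one_of_dvd_coprimes h3 h1 h2
    rw [orderOf_eq_one_iff] at h4
    rw [h4, one_pow]
  · exact h

theorem pow_three_of_three_elt (H4 : ∀ g : G, g ^ 3 = 1 ∨ g ^ 4 = 1) {g : G}
    (hg : ∃ k : ℕ, g ^ 3 ^ k = 1) : g ^ 3 = 1 := by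
  rcases H4 g with h | h
  · exact h
  · obtain ⟨k, hk⟩ := hg
    have h1 := orderOf_dvd_of_pow_eq_one h
    have h2 := orderOf_dvd_of_pow_eq_one hk
    have h3 : Nat.Coprime 4 (3 ^ k) := Nat.Coprime.pow_right k (by norm_num)
    have h4 : orderOf g = 1 := Nat.eq_one_of_dvd_coprimes h3 h1 h2
    rw [orderOf_eq_one_iff] at h4
    rw [h4, one_pow]

/-- vanishing of double commutators gives class at most two -/
theorem nilpotencyClass_le_two_of_comm {H : Type*} [Group H] (h : ∀ a b c : H, ⁅⁅a, b⁆, c⁆ = 1) :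
    Group.nilpotencyClass H ≤ 2 := by
  have htop : Subgroup.upperCentralSeries H 2 = ⊤ := by
    rw [eq_top_iff]
    intro a _
    rw [Subgroup.mem_upperCentralSeries_succ_iff]
    intro b
    rw [Subgroup.upperCentralSeries_one, Subgroup.mem_center_iff]
    intro c
    have := h a b c
    rw [commutatorElement_eq_one_iff_commute] at this
    exact this.eq.symm
  have : Group.IsNilpotent H := ⟨⟨2, htop⟩⟩
  exact Subgroup.upperCentralSeries_eq_top_iff_nilpotencyClass_le.mp htop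

section NormalTwo

variable (H4 : ∀ g : G, g ^ 3 = 1 ∨ g ^ 4 = 1) (Q : Subgroup G) [hQn : Q.Normal]

include H4 in
/-- elements of order three outside `Q` stay of order three after multiplying by `Q` -/
theorem cube_of_not_mem {y : G} (hy3 : y ^ 3 = 1) (hyQ : y ∉ Q) {q : G} (hq : q ∈ Q) :
    (q * y) ^ 3 = 1 := by
  rcases H4 (q * y) with h | h
  · exact h
  · exfalso
    apply hyQ
    have h1 : (QuotientGroup.mk' Q) ((q * y) ^ 4) = 1 := by rw [h, map_one]
    have hq1 : (QuotientGroup.mk' Q) q = 1 := by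
      rw [QuotientGroup.mk'_apply, QuotientGroup.eq_one_iff]; exact hq
    rw [map_pow, map_mul, hq1, one_mul, ← map_pow] at h1
    have : y ^ 4 = y := by
      have : y ^ 4 = y ^ 3 * y := pow_succ y 3
      rw [this, hy3, one_mul]
    rw [this, QuotientGroup.mk'_apply, QuotientGroup.eq_one_iff] at h1
    exact h1

theorem cube_formula (q y : G) :
    (q * y) ^ 3 = q * (y * q * y⁻¹) * (y * (y * q * y⁻¹) * y⁻¹) * y ^ 3 := by
  rw [pow_succ, pow_two, pow_succ, pow_two]; group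

include H4 in
theorem comm_conj_of_cube {y : G} (hy3 : y ^ 3 = 1) (hyQ : y ∉ Q) {q : G} (hq : q ∈ Q) :
    Commute q (y * q * y⁻¹) := by
  have h1 := cube_of_not_mem H4 Q hy3 hyQ hq
  have h2 := cube_of_not_mem H4 Q hy3 hyQ (Q.inv_mem hq)
  rw [cube_formula, hy3, mul_one] at h1 h2
  set B := y * q * y⁻¹ with hB
  set C := y * B * y⁻¹ with hC
  have hB' : y * q⁻¹ * y⁻¹ = B⁻¹ := by rw [hB]; group
  have hC' : y * B⁻¹ * y⁻¹ = C⁻¹ := by rw [hC]; group
  rw [hB', hC'] at h2
  -- q B C = 1, q⁻¹ B⁻¹ C⁻¹ = 1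
  have e1 : C⁻¹ = q * B := (eq_inv_of_mul_eq_one_left h1).symm
  have e2 : C⁻¹ = B * q := by
    have := eq_inv_of_mul_eq_one_right h2
    rw [this, mul_inv_rev, inv_inv, inv_inv]
  show q * B = B * q
  rw [← e1, e2]

end NormalTwo

section Sigma

variable (Q : Subgroup G) [hQn : Q.Normal]

/-- conjugation by `x` as an endomorphism of the normal subgroup `Q` -/
def sig (x : G) : Q →* Q := (MulAut.conjNormal x : MulAut Q).toMonoidHom

theorem coe_sig (x : G) (q : Q) : ((sig Q x q : Q) : G) = x * q * x⁻¹ :=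
  MulAut.conjNormal_apply x q

variable (H4 : ∀ g : G, g ^ 3 = 1 ∨ g ^ 4 = 1) (hQ4 : ∀ q ∈ Q, q ^ 4 = 1)
  {x : G} (hx3 : x ^ 3 = 1) (hxQ : x ∉ Q)

include H4 hx3 hxQ in
theorem sig_h1 (q : Q) : q * sig Q x q * sig Q x (sig Q x q) = 1 := by
  apply Subtype.ext
  simp only [Subgroup.coe_mul, coe_sig, Subgroup.coe_one]
  have := cube_of_not_mem H4 Q hx3 hxQ q.2
  rw [cube_formula, hx3, mul_one] at this
  exact this

include H4 hx3 hxQ in
theorem sig_h2 (g q : Q) : Commute q (g * sig Q x q * g⁻¹) := by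
  have hy3 : ((g : G) * x) ^ 3 = 1 := cube_of_not_mem H4 Q hx3 hxQ g.2
  have hyQ : (g : G) * x ∉ Q := by
    intro h
    apply hxQ
    have : x = (g : G)⁻¹ * ((g : G) * x) := by group
    rw [this]
    exact Q.mul_mem (Q.inv_mem g.2) h
  have := comm_conj_of_cube H4 Q hy3 hyQ q.2
  apply Subtype.ext
  simp only [Subgroup.coe_mul, coe_sig, Subgroup.coe_inv]
  have e : (g : G) * x * q * ((g : G) * x)⁻¹ = g * (x * q * x⁻¹) * (g : G)⁻¹ := by group
  rw [e] at this
  exact this.eq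

include hx3 in
theorem sig_h3 (q : Q) : sig Q x (sig Q x (sig Q x q)) = q := by
  apply Subtype.ext
  simp only [coe_sig]
  have hx : x ^ 3 = x * x * x := by rw [pow_succ, pow_two]
  have : x * (x * (x * (q : G) * x⁻¹) * x⁻¹) * x⁻¹ = x ^ 3 * q * (x ^ 3)⁻¹ := by
    rw [hx]; group
  rw [this, hx3]; group

include H4 hQ4 hx3 hxQ in
theorem sig_hfix (q : Q) (h : sig Q x q = q) : q = 1 := by
  have h' := congrArg (fun r : Q => (r : G)) h
  simp only [coe_sig] at h'
  have hc : Commute x (q : G) := by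
    show x * (q : G) = q * x
    calc x * (q : G) = (x * q * x⁻¹) * x := by group
      _ = q * x := by rw [h']
  rcases no_six' H4 hc hx3 (hQ4 q q.2) with h1 | h1
  · exfalso; apply hxQ; rw [h1]; exact Q.one_mem
  · exact Subtype.ext h1

include H4 hQ4 hx3 hxQ in
theorem class_two (a b c : Q) : ⁅⁅a, b⁆, c⁆ = 1 :=
  comm_comm_eq_one_of_fpfThree (sig Q x) (sig_h1 Q H4 hx3 hxQ) (sig_h2 Q H4 hx3 hxQ)
    (sig_h3 Q hx3) (sig_hfix Q H4 hQ4 hx3 hxQ) a b c

end Sigma

section CaseB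

variable [Finite G] (H4 : ∀ g : G, g ^ 3 = 1 ∨ g ^ 4 = 1) (Q : Subgroup G) [hQn : Q.Normal]
  (hQ4 : ∀ q ∈ Q, q ^ 4 = 1) {x : G} (hx3 : x ^ 3 = 1) (hxQ : x ∉ Q)

include H4 hQ4 hx3 hxQ in
omit [Finite G] in
theorem caseB1 {y : G} (hy : orderOf y = 4) (hidx : Q.index = 3) :
    IsPGroup 2 Q ∧ Monoid.exponent Q = 4 ∧ Group.nilpotencyClass Q ≤ 2 ∧ Q.index = 3 := by
  have hpow : ∀ q : Q, q ^ 4 = 1 := by
    intro q
    apply Subtype.ext
    rw [Subgroup.coe_pow, Subgroup.coe_one]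
    exact hQ4 q q.2
  refine ⟨?_, ?_, ?_, hidx⟩
  · intro q
    exact ⟨2, hpow q⟩
  · have hy4 : y ^ 4 = 1 := by rw [← hy]; exact pow_orderOf_eq_one y
    have hy3 : y ^ 3 ∈ Q := by
      have h1 : ((QuotientGroup.mk y : G ⧸ Q)) ^ Nat.card (G ⧸ Q) = 1 := pow_card_eq_one'
      rw [← Subgroup.index_eq_card, hidx, ← QuotientGroup.mk_pow, QuotientGroup.eq_one_iff] at h1
      exact h1
    have hyQ : y ∈ Q := by
      have : y = (y ^ 3) ^ 3 := by
        rw [← pow_mul]
        have : y ^ (3 * 3) = (y ^ 4) ^ 2 * y := by rw [← pow_mul, ← pow_succ]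
        rw [this, hy4, one_pow, one_mul]
      rw [this]
      exact Q.pow_mem hy3 3
    apply Nat.dvd_antisymm
    · exact Monoid.exponent_dvd_of_forall_pow_eq_one hpow
    · have : orderOf (⟨y, hyQ⟩ : Q) = 4 := by rw [← hy]; exact Subgroup.orderOf_mk y hyQ
      rw [← this]
      exact Monoid.order_dvd_exponent _
  · exact nilpotencyClass_le_two_of_comm (class_two Q H4 hQ4 hx3 hxQ)

include H4 in
omit [Finite G] in
theorem sq_mul_conj_of_invol {s : G} (hs2 : s ^ 2 = 1) (hsQ : s ∉ Q) {q : G} (hq : q ∈ Q) :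
    (q * (s * q * s⁻¹)) ^ 2 = 1 := by
  have hsinv : s⁻¹ = s := by rw [inv_eq_iff_mul_eq_one, ← pow_two]; exact hs2
  have hg2 : (q * s) ^ 2 = q * (s * q * s⁻¹) := by
    rw [pow_two, hsinv]; group
  have hg2Q : (q * s) ^ 2 ∈ Q := by
    rw [hg2]; exact Q.mul_mem hq (hQn.conj_mem q hq s)
  rcases H4 (q * s) with h | h
  · exfalso
    apply hsQ
    have e : q * s = ((q * s) ^ 2)⁻¹ := by
      have : (q * s) ^ 3 = (q * s) ^ 2 * (q * s) := pow_succ _ 2
      rw [this] at h
      exact eq_inv_of_mul_eq_one_right h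
    have hqs : q * s ∈ Q := by rw [e]; exact Q.inv_mem hg2Q
    have : s = q⁻¹ * (q * s) := by group
    rw [this]; exact Q.mul_mem (Q.inv_mem hq) hqs
  · rw [← hg2, ← pow_mul]; exact h

theorem perm_three_inv : ∀ c s : Equiv.Perm (Fin 3), c ^ 3 = 1 → c ≠ 1 → s ^ 2 = 1 → s ≠ 1 →
    s * c * s⁻¹ = c⁻¹ := by
  decide

include H4 hQ4 hx3 hxQ in
theorem caseB2 (e : G ⧸ Q ≃* Equiv.Perm (Fin 3)) :
    IsMulCommutative Q ∧ ∀ a ∈ Q, a ^ 2 = 1 := by
  classical
  have hxinv : x⁻¹ = x ^ 2 := by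
    have : x ^ 3 = x ^ 2 * x := pow_succ x 2
    rw [this] at hx3
    exact (eq_inv_of_mul_eq_one_left hx3).symm
  -- an element mapping to a transposition
  obtain ⟨t0, ht0⟩ : ∃ t0 : G, e (QuotientGroup.mk t0) = Equiv.swap 0 1 := by
    obtain ⟨q, hq⟩ := e.surjective (Equiv.swap 0 1)
    obtain ⟨t0, rfl⟩ := QuotientGroup.mk_surjective q
    exact ⟨t0, hq⟩
  have hs2 : (Equiv.swap (0 : Fin 3) 1) ^ 2 = 1 := by decide
  have hs1 : (Equiv.swap (0 : Fin 3) 1) ≠ 1 := by decide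
  have hc3 : (e (QuotientGroup.mk x)) ^ 3 = 1 := by
    rw [← map_pow, ← QuotientGroup.mk_pow, hx3, QuotientGroup.mk_one, map_one]
  have hc1 : e (QuotientGroup.mk x) ≠ 1 := by
    intro h
    rw [MulEquiv.map_eq_one_iff, QuotientGroup.eq_one_iff] at h
    exact hxQ h
  have hperm := perm_three_inv _ _ hc3 hc1 hs2 hs1
  have hq0 : t0 * x * t0⁻¹ * x ∈ Q := by
    rw [← QuotientGroup.eq_one_iff, ← MulEquiv.map_eq_one_iff e]
    rw [QuotientGroup.mk_mul, QuotientGroup.mk_mul, QuotientGroup.mk_mul, QuotientGroup.mk_inv,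
      map_mul, map_mul, map_mul, map_inv, ht0, hperm, inv_mul_cancel]
  -- conjugating `x⁻¹` by `Q` reaches every element of order three in the coset
  have hmem : ∀ r : Q, (r : G) * x⁻¹ * (r : G)⁻¹ * x ∈ Q := by
    intro r
    have : (r : G) * x⁻¹ * (r : G)⁻¹ * x = r * (x⁻¹ * (r : G)⁻¹ * x⁻¹⁻¹) := by group
    rw [this]
    exact Q.mul_mem r.2 (hQn.conj_mem _ (Q.inv_mem r.2) x⁻¹)
  let ψ : Q → Q := fun r => ⟨(r : G) * x⁻¹ * (r : G)⁻¹ * x, hmem r⟩
  have hψinj : Function.Injective ψ := by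
    intro r r' h
    have h' : (r : G) * x⁻¹ * (r : G)⁻¹ * x = (r' : G) * x⁻¹ * (r' : G)⁻¹ * x :=
      congrArg (fun u : Q => (u : G)) h
    have h'' : (r : G) * x⁻¹ * (r : G)⁻¹ = (r' : G) * x⁻¹ * (r' : G)⁻¹ := mul_right_cancel h'
    have hc : Commute x ((r' : G)⁻¹ * r) := by
      have : ((r' : G)⁻¹ * r) * x⁻¹ = x⁻¹ * ((r' : G)⁻¹ * r) := by
        calc ((r' : G)⁻¹ * r) * x⁻¹ = (r' : G)⁻¹ * ((r : G) * x⁻¹ * (r : G)⁻¹) * r := by group
          _ = (r' : G)⁻¹ * ((r' : G) * x⁻¹ * (r' : G)⁻¹) * r := by rw [h'']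
          _ = x⁻¹ * ((r' : G)⁻¹ * r) := by group
      have h2 : Commute ((r' : G)⁻¹ * r) x⁻¹ := this
      have h3 := h2.inv_right.symm
      rw [inv_inv] at h3
      exact h3
    have hm : (r' : G)⁻¹ * r ∈ Q := Q.mul_mem (Q.inv_mem r'.2) r.2
    rcases no_six' H4 hc hx3 (hQ4 _ hm) with h1 | h1
    · exfalso; apply hxQ; rw [h1]; exact Q.one_mem
    · apply Subtype.ext
      have : (r : G) = r' * ((r' : G)⁻¹ * r) := by group
      rw [this, h1, mul_one]
  have hψsurj : Function.Surjective ψ := Finite.surjective_of_injective hψinj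
  obtain ⟨r, hr⟩ := hψsurj ⟨_, hq0⟩
  have hr' : (r : G) * x⁻¹ * (r : G)⁻¹ * x = t0 * x * t0⁻¹ * x :=
    congrArg (fun u : Q => (u : G)) hr
  have hr'' : (r : G) * x⁻¹ * (r : G)⁻¹ = t0 * x * t0⁻¹ := mul_right_cancel hr'
  set t := (r : G)⁻¹ * t0 with ht
  have htx : t * x * t⁻¹ = x⁻¹ := by
    have : t * x * t⁻¹ = (r : G)⁻¹ * (t0 * x * t0⁻¹) * r := by rw [ht]; group
    rw [this, ← hr'']; group
  have ht0Q : t0 ∉ Q := by
    intro h
    have : e (QuotientGroup.mk t0) = 1 := by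
      rw [MulEquiv.map_eq_one_iff, QuotientGroup.eq_one_iff]; exact h
    rw [ht0] at this
    exact hs1 this
  have htQ : t ∉ Q := by
    intro h
    apply ht0Q
    have : t0 = r * t := by rw [ht]; group
    rw [this]; exact Q.mul_mem r.2 h
  have ht2Q : t ^ 2 ∈ Q := by
    rw [← QuotientGroup.eq_one_iff, ← MulEquiv.map_eq_one_iff e, QuotientGroup.mk_pow, ht,
      QuotientGroup.mk_mul, QuotientGroup.mk_inv]
    have : (QuotientGroup.mk (r : G) : G ⧸ Q) = 1 := by
      rw [QuotientGroup.eq_one_iff]; exact r.2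
    rw [this, inv_one, one_mul, map_pow, ht0, hs2]
  have ht2 : t ^ 2 = 1 := by
    have hc : Commute x (t ^ 2) := by
      have h1 : t ^ 2 * x * (t ^ 2)⁻¹ = x := by
        have : t ^ 2 * x * (t ^ 2)⁻¹ = t * (t * x * t⁻¹) * t⁻¹ := by rw [pow_two]; group
        rw [this, htx]
        have : t * x⁻¹ * t⁻¹ = (t * x * t⁻¹)⁻¹ := by group
        rw [this, htx, inv_inv]
      show x * t ^ 2 = t ^ 2 * x
      calc x * t ^ 2 = (t ^ 2 * x * (t ^ 2)⁻¹) * t ^ 2 := by rw [h1]
        _ = t ^ 2 * x := by group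
    rcases no_six' H4 hc hx3 (hQ4 _ ht2Q) with h1 | h1
    · exfalso; apply hxQ; rw [h1]; exact Q.one_mem
    · exact h1
  have htinv : t⁻¹ = t := by rw [inv_eq_iff_mul_eq_one, ← pow_two]; exact ht2
  -- the second involution
  set t' := x * t * x⁻¹ with ht'
  have ht'2 : t' ^ 2 = 1 := by rw [ht', conj_pow, ht2]; group
  have ht'Q : t' ∉ Q := by
    intro h
    apply htQ
    have : t = x⁻¹ * t' * x⁻¹⁻¹ := by rw [ht']; group
    rw [this]
    exact hQn.conj_mem _ h _
  -- apply the abstract theorem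
  have hsq : ∀ q : Q, q ^ 2 = 1 := by
    apply sq_eq_one_of_S3 (sig Q x) (sig Q t) (sig_h1 Q H4 hx3 hxQ) (sig_h2 Q H4 hx3 hxQ)
      (sig_h3 Q hx3) (sig_hfix Q H4 hQ4 hx3 hxQ)
    · intro q
      apply Subtype.ext
      simp only [coe_sig]
      rw [htinv]
      have : t * (t * (q : G) * t) * t = t ^ 2 * q * t ^ 2 := by rw [pow_two]; group
      rw [this, ht2, one_mul, mul_one]
    · intro q
      apply Subtype.ext
      simp only [coe_sig]
      have e1 : t * (x * (t * (q : G) * t⁻¹) * x⁻¹) * t⁻¹ =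
          (t * x * t⁻¹) * (t ^ 2 * q * (t ^ 2)⁻¹) * (t * x * t⁻¹)⁻¹ := by
        rw [pow_two]; group
      rw [e1, htx, ht2]
      have e2 : x * (x * (q : G) * x⁻¹) * x⁻¹ = x ^ 2 * q * (x ^ 2)⁻¹ := by rw [pow_two]; group
      rw [e2, ← hxinv]; group
    · intro q
      apply Subtype.ext
      simp only [Subgroup.coe_pow, Subgroup.coe_mul, coe_sig, Subgroup.coe_one]
      exact sq_mul_conj_of_invol H4 Q ht2 htQ q.2
    · intro q
      apply Subtype.ext
      simp only [Subgroup.coe_pow, Subgroup.coe_mul, coe_sig, Subgroup.coe_one]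
      have := sq_mul_conj_of_invol H4 Q ht'2 ht'Q q.2
      have e1 : x * (t * (x * (x * (q : G) * x⁻¹) * x⁻¹) * t⁻¹) * x⁻¹ =
          t' * (x ^ 3 * q * (x ^ 3)⁻¹) * t'⁻¹ := by
        rw [ht']
        have hx : x ^ 3 = x * x * x := by rw [pow_succ, pow_two]
        rw [hx]; group
      rw [e1, hx3]
      simpa using this
  refine ⟨⟨⟨fun a b => ?_⟩⟩, ?_⟩
  · exact commute_of_sq_eq_one (hsq a) (hsq b) (hsq (a * b))
  · intro a ha
    have := hsq ⟨a, ha⟩
    exact congrArg (fun u : Q => (u : G)) this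

include H4 in
theorem prime_dvd_card {p : ℕ} (hp : p.Prime) (hpd : p ∣ Nat.card G) : p = 2 ∨ p = 3 := by
  have : Fact p.Prime := ⟨hp⟩
  obtain ⟨g, hg⟩ := exists_prime_orderOf_dvd_card' p hpd
  rcases H4 g with h | h
  · right
    have := orderOf_dvd_of_pow_eq_one h
    rw [hg] at this
    exact (Nat.prime_dvd_prime_iff_eq hp Nat.prime_three).mp this
  · left
    have := orderOf_dvd_of_pow_eq_one h
    rw [hg] at this
    have h4 : (4 : ℕ) = 2 ^ 2 := by norm_num
    rw [h4] at this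
    exact (Nat.prime_dvd_prime_iff_eq hp Nat.prime_two).mp (hp.dvd_of_dvd_pow this)

include H4 in
theorem caseB (K : Subgroup G) [hKn : K.Normal] (hK2 : IsPGroup 2 K) (hKne : K ≠ ⊥)
    {x y : G} (hx : orderOf x = 3) (hy : orderOf y = 4) :
    ∃ (N : Subgroup G) (_ : N.Normal),
      (IsPGroup 2 N ∧ Monoid.exponent N = 4 ∧ Group.nilpotencyClass N ≤ 2 ∧ N.index = 3) ∨
      ((IsMulCommutative N ∧ ∀ a ∈ N, a ^ 2 = 1) ∧ Nonempty (G ⧸ N ≃* Equiv.Perm (Fin 3))) := by
  classical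
  have f2 : Fact (Nat.Prime 2) := ⟨Nat.prime_two⟩
  have f3 : Fact (Nat.Prime 3) := ⟨Nat.prime_three⟩
  obtain ⟨T, hKT⟩ := hK2.exists_le_sylow
  let Q : Subgroup G := (T : Subgroup G).normalCore
  have hQn : Q.Normal := Subgroup.normalCore_normal _
  have hQT : Q ≤ T := Subgroup.normalCore_le _
  have hKQ : K ≤ Q := Subgroup.normal_le_normalCore.mpr hKT
  have hQ4 : ∀ q ∈ Q, q ^ 4 = 1 := by
    intro q hq
    apply pow_four_of_two_elt H4
    obtain ⟨k, hk⟩ := T.isPGroup' ⟨q, hQT hq⟩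
    exact ⟨k, congrArg (fun u : (T : Subgroup G) => (u : G)) hk⟩
  have hx3 : x ^ 3 = 1 := by rw [← hx]; exact pow_orderOf_eq_one x
  have hx1 : x ≠ 1 := by
    intro h
    rw [h, orderOf_one] at hx
    omega
  have hxQ : x ∉ Q := fun h => hx1 (eq_one_of_pow_three_of_pow_four hx3 (hQ4 x h))
  have hQne : Q ≠ ⊥ := by
    intro h
    apply hKne
    rw [eq_bot_iff, ← h]
    exact hKQ
  -- the Sylow 3-subgroups have order dividing three
  obtain ⟨P⟩ : Nonempty (Sylow 3 G) := inferInstance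
  have hP3 : ∀ h ∈ (P : Subgroup G), h ^ 3 = 1 := by
    intro h hh
    apply pow_three_of_three_elt H4
    obtain ⟨k, hk⟩ := P.isPGroup' ⟨h, hh⟩
    exact ⟨k, congrArg (fun u : (P : Subgroup G) => (u : G)) hk⟩
  have hfpf : ∀ h ∈ (P : Subgroup G), h ≠ 1 → Q ⊓ Subgroup.centralizer {h} = ⊥ := by
    intro h hh hh1
    rw [Subgroup.eq_bot_iff_forall]
    intro n hn
    obtain ⟨hn1, hn2⟩ := Subgroup.mem_inf.mp hn
    have hc : Commute h n := (Subgroup.mem_centralizer_iff.mp hn2 h rfl)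
    rcases no_six' H4 hc (hP3 h hh) (hQ4 n hn1) with h' | h'
    · exact absurd h' hh1
    · exact h'
  have hQ2g : IsPGroup 2 Q := by
    intro q
    refine ⟨2, ?_⟩
    apply Subtype.ext
    rw [Subgroup.coe_pow, Subgroup.coe_one]
    exact hQ4 q q.2
  have h23 : (2 : ℕ) ≠ 3 := by norm_num
  have hcq := Cfsg.Agent.Lib.Helper74.cyclic_or_quaternion_of_fpf Q (P : Subgroup G) hQne 2 3 h23
    hQ2g P.isPGroup' hfpf
  have hPcard : Nat.card (P : Subgroup G) ∣ 3 := by
    rcases hcq with hc | ⟨n, ⟨e'⟩⟩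
    · obtain ⟨g, hg⟩ := hc.exists_generator
      have h1 : orderOf g = Nat.card (P : Subgroup G) := orderOf_eq_card_of_forall_mem_zpowers hg
      rw [← h1]
      apply orderOf_dvd_of_pow_eq_one
      apply Subtype.ext
      rw [Subgroup.coe_pow, Subgroup.coe_one]
      exact hP3 g g.2
    · exfalso
      have h1 : orderOf (QuaternionGroup.a 1 : QuaternionGroup (2 ^ n)) = 2 * 2 ^ n :=
        QuaternionGroup.orderOf_a_one
      set w := e'.symm (QuaternionGroup.a 1) with hw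
      have h2 : orderOf w = 2 * 2 ^ n := by rw [hw, MulEquiv.orderOf_eq, h1]
      have h3 : w ^ 3 = 1 := by
        apply Subtype.ext
        rw [Subgroup.coe_pow, Subgroup.coe_one]
        exact hP3 w w.2
      have h4 := orderOf_dvd_of_pow_eq_one h3
      rw [h2] at h4
      have : 2 ∣ 3 := Dvd.dvd.trans (Dvd.intro _ rfl) h4
      omega
  -- the index of the Sylow 2-subgroup
  have hTidx : (T : Subgroup G).index = 3 := by
    have hn : Nat.card (T : Subgroup G) * (T : Subgroup G).index = Nat.card G :=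
      Subgroup.card_mul_index _
    have hnP : Nat.card (P : Subgroup G) * (P : Subgroup G).index = Nat.card G :=
      Subgroup.card_mul_index _
    have h2T : ¬ 2 ∣ (T : Subgroup G).index := T.not_dvd_index
    have h3P : ¬ 3 ∣ (P : Subgroup G).index := P.not_dvd_index
    have hTne : (T : Subgroup G).index ≠ 0 := Subgroup.index_ne_zero_of_finite
    have hpow : (T : Subgroup G).index = 3 ^ ((T : Subgroup G).index).primeFactorsList.length := by
      apply Nat.eq_prime_pow_of_unique_prime_dvd hTne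
      intro d hd hdT
      have hdG : d ∣ Nat.card G := by rw [← hn]; exact Dvd.dvd.mul_left hdT _
      rcases prime_dvd_card H4 hd hdG with h | h
      · exfalso; rw [h] at hdT; exact h2T hdT
      · exact h
    set k := ((T : Subgroup G).index).primeFactorsList.length with hk
    have hk1 : k ≤ 1 := by
      by_contra hcon
      push Not at hcon
      have h9 : 3 ^ 2 ∣ (T : Subgroup G).index := by
        rw [hpow]; exact pow_dvd_pow 3 hcon
      have h9G : 9 ∣ Nat.card (P : Subgroup G) * (P : Subgroup G).index := by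
        rw [hnP, ← hn]; exact Dvd.dvd.mul_left h9 _
      have hc : Nat.card (P : Subgroup G) = 1 ∨ Nat.card (P : Subgroup G) = 3 :=
        (Nat.dvd_prime Nat.prime_three).mp hPcard
      rcases hc with hc | hc
      · rw [hc, one_mul] at h9G
        exact h3P (Dvd.dvd.trans (by norm_num) h9G)
      · rw [hc] at h9G
        have : (9 : ℕ) = 3 * 3 := by norm_num
        rw [this] at h9G
        exact h3P (Nat.dvd_of_mul_dvd_mul_left (by norm_num) h9G)
    have hk0 : k ≠ 0 := by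
      intro hk0
      rw [hk0, pow_zero] at hpow
      rw [hpow, mul_one] at hn
      have h3G : 3 ∣ Nat.card G := by rw [← hx]; exact orderOf_dvd_natCard x
      rw [← hn] at h3G
      obtain ⟨a, ha⟩ := (IsPGroup.iff_card.mp T.isPGroup')
      rw [ha] at h3G
      have := (Nat.Prime.dvd_of_dvd_pow Nat.prime_three h3G)
      omega
    have : k = 1 := by omega
    rw [hpow, this, pow_one]
  -- the permutation representation
  let φ : G →* Equiv.Perm (G ⧸ (T : Subgroup G)) := MulAction.toPermHom G (G ⧸ (T : Subgroup G))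
  have hker : Q = φ.ker := Subgroup.normalCore_eq_ker _
  have hcard3 : Nat.card (G ⧸ (T : Subgroup G)) = 3 := by
    rw [← Subgroup.index_eq_card]; exact hTidx
  let ε : (G ⧸ (T : Subgroup G)) ≃ Fin 3 := (Finite.equivFin _).trans (finCongr hcard3)
  let φ' : G →* Equiv.Perm (Fin 3) := (ε.permCongrHom.toMonoidHom).comp φ
  have hker' : Q = φ'.ker := by
    rw [hker]
    ext g
    simp only [MonoidHom.mem_ker, φ', MonoidHom.comp_apply, MulEquiv.coe_toMonoidHom,
      MulEquiv.map_eq_one_iff]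
  have hidx : Q.index = Nat.card φ'.range := by
    rw [hker', Subgroup.index_eq_card]
    exact Nat.card_congr (QuotientGroup.quotientKerEquivRange φ').toEquiv
  have h6 : Nat.card (Equiv.Perm (Fin 3)) = 6 := by
    rw [Nat.card_perm, Nat.card_fin]; rfl
  have hd6 : Q.index ∣ 6 := by
    rw [hidx, ← h6]; exact Subgroup.card_subgroup_dvd_card _
  have hd3 : 3 ∣ Q.index := by
    rw [← Subgroup.relIndex_mul_index hQT, hTidx]; exact Dvd.intro_left _ rfl
  have hy4 : y ^ 4 = 1 := by rw [← hy]; exact pow_orderOf_eq_one y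
  have hcases : Q.index = 3 ∨ Q.index = 6 := by
    have hle : Q.index ≤ 6 := Nat.le_of_dvd (by norm_num) hd6
    have hpos : 0 < Q.index := Nat.pos_of_dvd_of_pos hd6 (by norm_num)
    interval_cases h : Q.index <;> omega
  refine ⟨Q, hQn, ?_⟩
  rcases hcases with h3 | h6'
  · left
    exact caseB1 H4 Q hQ4 hx3 hxQ hy h3
  · right
    have htop : φ'.range = ⊤ := by
      apply Subgroup.eq_top_of_card_eq
      rw [← hidx, h6', h6]
    have hsurj : Function.Surjective φ' := MonoidHom.range_eq_top.mp htop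
    let e : G ⧸ Q ≃* Equiv.Perm (Fin 3) :=
      (QuotientGroup.quotientMulEquivOfEq hker').trans
        (QuotientGroup.quotientKerEquivOfSurjective φ' hsurj)
    exact ⟨caseB2 H4 Q hQ4 hx3 hxQ e, ⟨e⟩⟩

end CaseB

end Cfsg.Agent.Lib.Helper71.OrdFour
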