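import Mathlib
import Cfsg.Agent.Lib.Helper71.CyclicCount

set_option autoImplicit false

/-!
Counting elements of order `a * b`, `a` and `b` coprime, through commuting pairs; invariant
subsets of an action of a `p`-group.
-/

namespace Cfsg.Agent.Lib.Helper71

/-- fixed point congruence on an invariant subset -/
theorem card_invariant_modEq_fixed {p : ℕ} [Fact p.Prime] {Q α : Type*} [Group Q] [MulAction Q α]
    [Finite α] (hQ : IsPGroup p Q) (S : Set α) (hS : ∀ (g : Q) (x : α), x ∈ S → g • x ∈ S) :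
    Nat.card S ≡ Nat.card {x : α // x ∈ S ∧ ∀ g : Q, g • x = x} [MOD p] := by
  let S' : SubMulAction Q α := ⟨S, fun g x hx => hS g x hx⟩
  have h := hQ.card_modEq_card_fixedPoints S'
  have e : Nat.card (MulAction.fixedPoints Q S') =
      Nat.card {x : α // x ∈ S ∧ ∀ g : Q, g • x = x} := by
    apply Nat.card_congr
    refine
      { toFun := fun x => ⟨x.1.1, x.1.2, fun g => congrArg Subtype.val (x.2 g)⟩
        invFun := fun x => ⟨⟨x.1, x.2.1⟩, fun g => Subtype.ext (x.2.2 g)⟩
        left_inv := fun x => rfl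
        right_inv := fun x => rfl }
  rw [e] at h
  exact h

/-- elements of order `a * b` with `a`, `b` coprime are the products of commuting pairs of
elements of orders `a` and `b` -/
theorem card_orderOf_mul_coprime {G : Type*} [Group G] (a b : ℕ) (hab : a.Coprime b)
    (ha : 0 < a) (hb : 0 < b) :
    Nat.card {g : G // orderOf g = a * b} =
      Nat.card {q : G × G // orderOf q.1 = a ∧ orderOf q.2 = b ∧ Commute q.1 q.2} := by
  obtain ⟨e1, he1a, he1b⟩ := Nat.chineseRemainder hab 1 0
  obtain ⟨e2, he2a, he2b⟩ := Nat.chineseRemainder hab 0 1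
  have hbe1 : b ∣ e1 := (Nat.modEq_zero_iff_dvd).mp he1b
  have hae2 : a ∣ e2 := (Nat.modEq_zero_iff_dvd).mp he2a
  have hsum : e1 + e2 ≡ 1 [MOD a * b] := by
    rw [← Nat.modEq_and_modEq_iff_modEq_mul hab]
    constructor
    · simpa using he1a.add he2a
    · simpa using he1b.add he2b
  symm
  apply Nat.card_congr
  refine
    { toFun := fun q => ⟨q.1.1 * q.1.2, by
        rw [q.2.2.2.orderOf_mul_eq_mul_orderOf_of_coprime (by rw [q.2.1, q.2.2.1]; exact hab),
          q.2.1, q.2.2.1]⟩
      invFun := fun g => ⟨(g.1 ^ e1, g.1 ^ e2), ?_⟩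
      left_inv := ?_
      right_inv := ?_ }
  · obtain ⟨g, hg⟩ := g
    have hx : orderOf (g ^ e1) ∣ a := by
      apply orderOf_dvd_of_pow_eq_one
      rw [← pow_mul]
      apply orderOf_dvd_iff_pow_eq_one.mp
      rw [hg, mul_comm a b]
      exact Nat.mul_dvd_mul hbe1 dvd_rfl
    have hy : orderOf (g ^ e2) ∣ b := by
      apply orderOf_dvd_of_pow_eq_one
      rw [← pow_mul]
      apply orderOf_dvd_iff_pow_eq_one.mp
      rw [hg]
      exact Nat.mul_dvd_mul hae2 dvd_rfl
    have hcomm : Commute (g ^ e1) (g ^ e2) := (Commute.refl g).pow_pow e1 e2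
    have hprod : g ^ e1 * g ^ e2 = g := by
      rw [← pow_add]
      have := (pow_eq_pow_iff_modEq (x := g) (n := e1 + e2) (m := 1)).mpr (by rw [hg]; exact hsum)
      simpa using this
    have hcop : (orderOf (g ^ e1)).Coprime (orderOf (g ^ e2)) :=
      Nat.Coprime.of_dvd hx hy hab
    have hmul := hcomm.orderOf_mul_eq_mul_orderOf_of_coprime hcop
    rw [hprod, hg] at hmul
    have hxle : orderOf (g ^ e1) ≤ a := Nat.le_of_dvd ha hx
    have hyle : orderOf (g ^ e2) ≤ b := Nat.le_of_dvd hb hy
    have hxa : orderOf (g ^ e1) = a := by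
      by_contra hne
      have hlt : orderOf (g ^ e1) < a := lt_of_le_of_ne hxle hne
      have : orderOf (g ^ e1) * orderOf (g ^ e2) < a * b :=
        Nat.mul_lt_mul_of_lt_of_le hlt hyle hb
      omega
    have hyb : orderOf (g ^ e2) = b := by
      rw [hxa] at hmul
      exact (Nat.eq_of_mul_eq_mul_left ha hmul).symm
    exact ⟨hxa, hyb, hcomm⟩
  · rintro ⟨⟨x, y⟩, hx, hy, hc⟩
    apply Subtype.ext
    simp only
    have hx1 : x ^ e1 = x := by
      have := (pow_eq_pow_iff_modEq (x := x) (n := e1) (m := 1)).mpr (by rw [hx]; exact he1a)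
      simpa using this
    have hy1 : y ^ e1 = 1 := by
      apply orderOf_dvd_iff_pow_eq_one.mp
      rw [hy]; exact hbe1
    have hx2 : x ^ e2 = 1 := by
      apply orderOf_dvd_iff_pow_eq_one.mp
      rw [hx]; exact hae2
    have hy2 : y ^ e2 = y := by
      have := (pow_eq_pow_iff_modEq (x := y) (n := e2) (m := 1)).mpr (by rw [hy]; exact he2b)
      simpa using this
    rw [hc.mul_pow, hc.mul_pow, hx1, hy1, hx2, hy2, mul_one, one_mul]
  · rintro ⟨g, hg⟩
    apply Subtype.ext
    simp only
    rw [← pow_add]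
    have := (pow_eq_pow_iff_modEq (x := g) (n := e1 + e2) (m := 1)).mpr (by rw [hg]; exact hsum)
    simpa using this

end Cfsg.Agent.Lib.Helper71
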