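import Mathlib
import Cfsg.Agent.Lib.Helper71.OrderCount
import Cfsg.Agent.Lib.Helper71.Miller

set_option autoImplicit false

/-!
Counting commuting pairs through the cyclic subgroup generated by the first entry, and the
conjugation action of a Sylow subgroup on such pairs.
-/

namespace Cfsg.Agent.Lib.Helper71

open scoped Pointwise

/-- commuting pairs `(x, y)` of orders `a`, `b` counted through `(y, zpowers x)` -/
theorem card_commuting_pairs {G : Type*} [Group G] [Finite G] (a b : ℕ) :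
    Nat.card {q : G × G // orderOf q.1 = a ∧ orderOf q.2 = b ∧ Commute q.1 q.2} =
      Nat.totient a * Nat.card {t : G × Subgroup G // orderOf t.1 = b ∧ IsCyclic t.2 ∧
        Nat.card t.2 = a ∧ ∀ c ∈ t.2, c * t.1 = t.1 * c} := by
  classical
  let W := {q : G × G // orderOf q.1 = a ∧ orderOf q.2 = b ∧ Commute q.1 q.2}
  let T := {t : G × Subgroup G // orderOf t.1 = b ∧ IsCyclic t.2 ∧
        Nat.card t.2 = a ∧ ∀ c ∈ t.2, c * t.1 = t.1 * c}
  let F : W → T := fun q => ⟨(q.1.2, Subgroup.zpowers q.1.1), q.2.2.1, inferInstance, by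
    rw [Nat.card_zpowers]; exact q.2.1, by
    intro c hc
    obtain ⟨k, rfl⟩ := Subgroup.mem_zpowers_iff.mp hc
    exact (q.2.2.2.zpow_left k).eq⟩
  have : Finite T := Subtype.finite
  have := Fintype.ofFinite T
  change Nat.card W = Nat.totient a * Nat.card T
  rw [Nat.card_congr (Equiv.sigmaFiberEquiv F).symm, Nat.card_sigma]
  have hfib : ∀ t : T, Nat.card {x // F x = t} = Nat.totient a := by
    rintro ⟨⟨y, C⟩, h1, h2, h3, h4⟩
    rw [← natCard_generators a C h2 h3]
    apply Nat.card_congr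
    refine
      { toFun := fun q => ⟨q.1.1.1, q.1.2.1, congrArg (fun t : T => t.1.2) q.2⟩
        invFun := fun x => ⟨⟨(x.1, y), x.2.1, h1, by
          have hx : x.1 ∈ C := by
            obtain ⟨x, hx1, hx2⟩ := x
            subst hx2
            exact Subgroup.mem_zpowers x
          exact (h4 x.1 hx : x.1 * y = y * x.1)⟩, Subtype.ext (Prod.ext rfl x.2.2)⟩
        left_inv := ?_
        right_inv := fun x => rfl }
    rintro ⟨⟨⟨x, y'⟩, hq⟩, hF⟩
    have hy : y' = y := congrArg (fun t : T => t.1.1) hF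
    subst hy
    rfl
  rw [Finset.sum_congr rfl (fun t _ => hfib t), Finset.sum_const, Finset.card_univ,
    smul_eq_mul, mul_comm, Nat.card_eq_fintype_card (α := T)]


section SylowAction

variable {G : Type*} [Group G] [Finite G] {p : ℕ} [Fact p.Prime]

/-- a `p`-subgroup normalized by a Sylow `p`-subgroup lies inside it -/
theorem le_sylow_of_conj_smul_eq (P : Sylow p G) (C : Subgroup G) (hC : IsPGroup p C)
    (hfix : ∀ g ∈ (P : Subgroup G), MulAut.conj g • C = C) : C ≤ (P : Subgroup G) := by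
  have hnorm : (P : Subgroup G) ≤ Subgroup.normalizer (C : Set G) := by
    intro g hg
    rw [Subgroup.mem_normalizer_iff]
    intro h
    have h1 := hfix g hg
    constructor
    · intro hh
      have := Subgroup.smul_mem_pointwise_smul h (MulAut.conj g) C hh
      rw [h1] at this
      simpa [MulAut.smul_def] using this
    · intro hh
      have h2 : MulAut.conj g • h ∈ MulAut.conj g • C := by
        rw [h1]; simpa [MulAut.smul_def] using hh
      exact Subgroup.smul_mem_pointwise_smul_iff.mp h2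
  have hsup : IsPGroup p ((P : Subgroup G) ⊔ C : Subgroup G) :=
    P.isPGroup'.to_sup_of_normal_right' hC hnorm
  have := P.is_maximal' hsup le_sup_left
  rw [← this]
  exact le_sup_right

/-- the cyclic subgroups of order `p ^ s` normalized by a noncyclic Sylow `p`-subgroup, `p` odd,
`s ≥ 2`, come in a multiple of `p` -/
theorem dvd_card_cyclic_normalized (hodd : p ≠ 2) (P : Sylow p G)
    (hP : ¬ IsCyclic (P : Subgroup G)) (s : ℕ) (hs : 2 ≤ s) :
    p ∣ Nat.card {C : Subgroup G // C ≤ (P : Subgroup G) ∧ IsCyclic C ∧ Nat.card C = p ^ s ∧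
      ∀ g ∈ (P : Subgroup G), MulAut.conj g • C = C} := by
  let _ : MulAction (P : Subgroup G) (Subgroup G) :=
    MulAction.compHom _ (MulAut.conj.comp (P : Subgroup G).subtype)
  have hsmul : ∀ (g : (P : Subgroup G)) (C : Subgroup G), g • C = MulAut.conj (g : G) • C :=
    fun _ _ => rfl
  let S : Set (Subgroup G) := {C | C ≤ (P : Subgroup G) ∧ IsCyclic C ∧ Nat.card C = p ^ s}
  have hS : ∀ (g : (P : Subgroup G)) (C : Subgroup G), C ∈ S → g • C ∈ S := by
    rintro g C ⟨h1, h2, h3⟩
    rw [hsmul]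
    refine ⟨Subgroup.conj_smul_le_of_le h1 g, ?_, ?_⟩
    · exact isCyclic_of_surjective _ (Subgroup.equivSMul (MulAut.conj (g : G)) C).surjective
    · rw [← Nat.card_congr (Subgroup.equivSMul (MulAut.conj (g : G)) C).toEquiv]; exact h3
  have hmod := card_invariant_modEq_fixed (p := p) P.isPGroup' S hS
  have hcardS : Nat.card S =
      Nat.card {D : Subgroup (P : Subgroup G) // IsCyclic D ∧ Nat.card D = p ^ s} := by
    rw [card_cyclic_subgroupOf]
    rfl
  have hmiller := miller hodd s hs P.isPGroup' hP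
  rw [← hcardS] at hmiller
  have hfixdvd : p ∣ Nat.card {x : Subgroup G // x ∈ S ∧ ∀ g : (P : Subgroup G), g • x = x} :=
    (Nat.modEq_zero_iff_dvd).mp (hmod.symm.trans ((Nat.modEq_zero_iff_dvd).mpr hmiller))
  have e : Nat.card {x : Subgroup G // x ∈ S ∧ ∀ g : (P : Subgroup G), g • x = x} =
      Nat.card {C : Subgroup G // C ≤ (P : Subgroup G) ∧ IsCyclic C ∧ Nat.card C = p ^ s ∧
        ∀ g ∈ (P : Subgroup G), MulAut.conj g • C = C} := by
    apply Nat.card_congr
    refine
      { toFun := fun x => ⟨x.1, x.2.1.1, x.2.1.2.1, x.2.1.2.2, fun g hg => x.2.2 ⟨g, hg⟩⟩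
        invFun := fun C => ⟨C.1, ⟨C.2.1, C.2.2.1, C.2.2.2.1⟩, fun g => C.2.2.2.2 g.1 g.2⟩
        left_inv := fun x => rfl
        right_inv := fun C => rfl }
  rw [← e]
  exact hfixdvd

/-- the pairs `(y, C)`, `y` of order `b`, `C` cyclic of order `p ^ s` centralizing `y`, come in a
multiple of `p` when the Sylow `p`-subgroups are not cyclic -/
theorem dvd_card_pairs (hodd : p ≠ 2) (P : Sylow p G)
    (hP : ¬ IsCyclic (P : Subgroup G)) (s : ℕ) (hs : 2 ≤ s) (b : ℕ) :
    p ∣ Nat.card {t : G × Subgroup G // orderOf t.1 = b ∧ IsCyclic t.2 ∧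
        Nat.card t.2 = p ^ s ∧ ∀ c ∈ t.2, c * t.1 = t.1 * c} := by
  let _ : MulAction (P : Subgroup G) (G × Subgroup G) :=
    MulAction.compHom _ (MulAut.conj.comp (P : Subgroup G).subtype)
  have hsmul : ∀ (g : (P : Subgroup G)) (t : G × Subgroup G),
      g • t = ((g : G) * t.1 * (g : G)⁻¹, MulAut.conj (g : G) • t.2) :=
    fun _ _ => rfl
  let S : Set (G × Subgroup G) := {t | orderOf t.1 = b ∧ IsCyclic t.2 ∧
        Nat.card t.2 = p ^ s ∧ ∀ c ∈ t.2, c * t.1 = t.1 * c}
  have hS : ∀ (g : (P : Subgroup G)) (t : G × Subgroup G), t ∈ S → g • t ∈ S := by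
    rintro g ⟨y, C⟩ ⟨h1, h2, h3, h4⟩
    rw [hsmul]
    refine ⟨?_, ?_, ?_, ?_⟩
    · have := (MulAut.conj (g : G)).orderOf_eq y
      rw [MulAut.conj_apply] at this
      rw [this]; exact h1
    · exact isCyclic_of_surjective _ (Subgroup.equivSMul (MulAut.conj (g : G)) C).surjective
    · rw [← Nat.card_congr (Subgroup.equivSMul (MulAut.conj (g : G)) C).toEquiv]; exact h3
    · intro c hc
      rw [Subgroup.mem_pointwise_smul_iff_inv_smul_mem] at hc
      have h5 := h4 _ hc
      simp only [MulAut.smul_def, ← map_inv, MulAut.conj_apply, inv_inv] at h5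
      change c * ((g : G) * y * (g : G)⁻¹) = (g : G) * y * (g : G)⁻¹ * c
      have h6 : c * ((g : G) * y * (g : G)⁻¹) =
          (g : G) * (((g : G)⁻¹ * c * (g : G)) * y) * (g : G)⁻¹ := by group
      rw [h6, h5]
      group
  have hmod := card_invariant_modEq_fixed (p := p) P.isPGroup' S hS
  have hB := dvd_card_cyclic_normalized hodd P hP s hs
  have e : Nat.card {x : G × Subgroup G // x ∈ S ∧ ∀ g : (P : Subgroup G), g • x = x} =
      Nat.card ({y : G // orderOf y = b ∧ ∀ g ∈ (P : Subgroup G), g * y * g⁻¹ = y} ×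
        {C : Subgroup G // C ≤ (P : Subgroup G) ∧ IsCyclic C ∧ Nat.card C = p ^ s ∧
          ∀ g ∈ (P : Subgroup G), MulAut.conj g • C = C}) := by
    apply Nat.card_congr
    refine
      { toFun := fun x => (⟨x.1.1, x.2.1.1, fun g hg => congrArg Prod.fst (x.2.2 ⟨g, hg⟩)⟩,
          ⟨x.1.2, ?_, x.2.1.2.1, x.2.1.2.2.1, fun g hg => congrArg Prod.snd (x.2.2 ⟨g, hg⟩)⟩)
        invFun := fun q => ⟨(q.1.1, q.2.1), ⟨q.1.2.1, q.2.2.2.1, q.2.2.2.2.1, ?_⟩, ?_⟩
        left_inv := fun x => rfl
        right_inv := fun q => rfl }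
    · apply le_sylow_of_conj_smul_eq P x.1.2
      · exact IsPGroup.of_card x.2.1.2.2.1
      · exact fun g hg => congrArg Prod.snd (x.2.2 ⟨g, hg⟩)
    · intro c hc
      have hcP : c ∈ (P : Subgroup G) := q.2.2.1 hc
      have := q.1.2.2 c hcP
      change c * q.1.1 = q.1.1 * c
      calc c * q.1.1 = (c * q.1.1 * c⁻¹) * c := by group
        _ = q.1.1 * c := by rw [this]
    · intro g
      rw [hsmul]
      exact Prod.ext (q.1.2.2 g.1 g.2) (q.2.2.2.2.2 g.1 g.2)
  rw [Nat.card_prod] at e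
  have hfixdvd : p ∣ Nat.card {x : G × Subgroup G // x ∈ S ∧ ∀ g : (P : Subgroup G), g • x = x} := by
    rw [e]; exact Dvd.dvd.mul_left hB _
  exact (Nat.modEq_zero_iff_dvd).mp (hmod.trans ((Nat.modEq_zero_iff_dvd).mpr hfixdvd))

end SylowAction

end Cfsg.Agent.Lib.Helper71
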