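import Mathlib
import Cfsg.Agent.Lib.Helper49.RSU3Defs
import Cfsg.Agent.Lib.Helper40.GUConj

set_option autoImplicit false
set_option linter.unusedSectionVars false
set_option linter.unusedVariables false

/-! # K-RSU3 leaf L08 (S2283): the explicit conjugator -/

namespace Cfsg.Agent.Lib.Helper71.RSU3

open Matrix Cfsg.Agent.Lib.Helper49.StSU Cfsg.Agent.Lib.Helper49.RSU3

variable {F : Type*} [Field F]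

/-- the pure matrix identity behind L08 (all `q`-th powers replaced by their closed forms) -/
theorem l08_core (μ : F) (h0 : μ ≠ 0) (h1 : μ - 1 ≠ 0) (h2 : μ + 1 ≠ 0) :
    (!![1, 0, 0; -((μ - 1) * (μ + 1) ^ 2), 1, 0;
        μ⁻¹ ^ 2 * (μ - 1) ^ 2 * (μ + 1) ^ 3, -((μ - 1) * (μ + 1) ^ 2 / μ ^ 3), 1] *
      !![-(1 / (μ + 1)), 0, 0; 0, (-(μ / (μ + 1))) / (-(1 / (μ + 1))), 0; 0, 0, 1 / (-(μ / (μ + 1)))] *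
      !![1, ((2 * μ + 1) / ((μ - 1) * (μ + 1) ^ 3)) ^ 2 * μ * (μ + 2),
          (((2 * μ + 1) / ((μ - 1) * (μ + 1) ^ 3)) ^ 2 * μ * (μ + 2)) *
            ((-(μ ^ 3 * (μ + 2)) / ((μ - 1) * (μ + 1) ^ 3)) ^ 2 * (1 + 2 * μ) / μ ^ 2) *
            ((2 * μ + 1) / ((μ - 1) * (μ + 1) ^ 3));
        0, 1, -((-(μ ^ 3 * (μ + 2)) / ((μ - 1) * (μ + 1) ^ 3)) ^ 2 * (1 + 2 * μ) / μ ^ 2);
        0, 0, 1]) *
      !![1, 1, (2 * μ + 1) / ((μ - 1) * (μ + 1) ^ 3); 0, 1, -1; 0, 0, 1] =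
    (!![1, 1, (2 * μ + 1) / ((μ - 1) * (μ + 1) ^ 3); 0, 1, -1; 0, 0, 1] *
      !![μ, 0, 0; 0, μ⁻¹ / μ, 0; 0, 0, 1 / μ⁻¹] *
      !![1, 0, 0; 0, 1, 0; -((μ - μ⁻¹) ^ 3), -0, 1]) *
    (!![1, 0, 0; -((μ - 1) * (μ + 1) ^ 2), 1, 0;
        μ⁻¹ ^ 2 * (μ - 1) ^ 2 * (μ + 1) ^ 3, -((μ - 1) * (μ + 1) ^ 2 / μ ^ 3), 1] *
      !![-(1 / (μ + 1)), 0, 0; 0, (-(μ / (μ + 1))) / (-(1 / (μ + 1))), 0; 0, 0, 1 / (-(μ / (μ + 1)))] *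
      !![1, ((2 * μ + 1) / ((μ - 1) * (μ + 1) ^ 3)) ^ 2 * μ * (μ + 2),
          (((2 * μ + 1) / ((μ - 1) * (μ + 1) ^ 3)) ^ 2 * μ * (μ + 2)) *
            ((-(μ ^ 3 * (μ + 2)) / ((μ - 1) * (μ + 1) ^ 3)) ^ 2 * (1 + 2 * μ) / μ ^ 2) *
            ((2 * μ + 1) / ((μ - 1) * (μ + 1) ^ 3));
        0, 1, -((-(μ ^ 3 * (μ + 2)) / ((μ - 1) * (μ + 1) ^ 3)) ^ 2 * (1 + 2 * μ) / μ ^ 2);
        0, 0, 1]) := by
  ext i j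
  fin_cases i <;> fin_cases j <;>
    simp [Matrix.mul_apply, Fin.sum_univ_three] <;> field_simp <;> ring

end Cfsg.Agent.Lib.Helper71.RSU3
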