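import Mathlib
import Cfsg.Agent.Lib.Helper49.RSU3Defs
import Cfsg.Agent.Lib.Helper40.GUConj
import Cfsg.Agent.Lib.Helper71.RSU3L08a

set_option autoImplicit false
set_option linter.unusedSectionVars false
set_option linter.unusedVariables false

/-! # K-RSU3 leaf L08 (S2283): the explicit conjugator -/

namespace Cfsg.Agent.Lib.Helper71.RSU3

open Matrix Cfsg.Agent.Lib.Helper49.StSU Cfsg.Agent.Lib.Helper49.RSU3

variable {F : Type*} [Field F] [Fintype F] {q : ℕ}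

theorem l08_hJ3 (u v : Fin 3 → F) :
    hJ 3 F q u v = u 0 * (v 2) ^ q + u 1 * (v 1) ^ q + u 2 * (v 0) ^ q := by
  unfold hJ
  rw [Fin.sum_univ_three]
  rfl

theorem l08_exists_x (φ : F →+* F) (hφ : ∀ x, φ x = x ^ q) (hφφ : ∀ x, φ (φ x) = x)
    (a b : F) (h : Val q a b) : ∃ g : GJ 3 F q, mat g = xM q a b := by
  have hdet : (xM q a b).det = 1 := by
    unfold xM; rw [Matrix.det_fin_three]; simp
  have h' : b + φ b + a * φ a = 0 := by rw [hφ, hφ]; exact h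
  have hM : ∀ u v, hJ 3 F q (xM q a b *ᵥ u) (xM q a b *ᵥ v) = hJ 3 F q u v := by
    intro u v
    rw [l08_hJ3, l08_hJ3]
    simp only [xM, Matrix.mulVec, dotProduct, Fin.sum_univ_three, ← hφ]
    simp [hφφ]
    linear_combination (u 2 * φ (v 2)) * h'
  exact ⟨⟨⟨xM q a b, hdet⟩, hM⟩, rfl⟩

theorem l08_exists_y (φ : F →+* F) (hφ : ∀ x, φ x = x ^ q) (hφφ : ∀ x, φ (φ x) = x)
    (a b : F) (h : Val q a b) : ∃ g : GJ 3 F q, mat g = yM q a b := by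
  have hdet : (yM q a b).det = 1 := by
    unfold yM; rw [Matrix.det_fin_three]; simp
  have h' : b + φ b + a * φ a = 0 := by rw [hφ, hφ]; exact h
  have hM : ∀ u v, hJ 3 F q (yM q a b *ᵥ u) (yM q a b *ᵥ v) = hJ 3 F q u v := by
    intro u v
    rw [l08_hJ3, l08_hJ3]
    simp only [yM, Matrix.mulVec, dotProduct, Fin.sum_univ_three, ← hφ]
    simp [hφφ]
    linear_combination (u 0 * φ (v 0)) * h'
  exact ⟨⟨⟨yM q a b, hdet⟩, hM⟩, rfl⟩

theorem l08_exists_h (φ : F →+* F) (hφ : ∀ x, φ x = x ^ q) (hφφ : ∀ x, φ (φ x) = x)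
    (m : F) (hm : m ≠ 0) : ∃ g : GJ 3 F q, mat g = hM q m := by
  have hm' : φ m ≠ 0 := fun h => hm (by rw [← hφφ m, h, map_zero])
  have hmq : m ^ q ≠ 0 := by rw [← hφ]; exact hm'
  have hdet : (hM q m).det = 1 := by
    unfold hM; rw [Matrix.det_fin_three]; simp; field_simp
  have hM' : ∀ u v, hJ 3 F q (hM q m *ᵥ u) (hM q m *ᵥ v) = hJ 3 F q u v := by
    intro u v
    rw [l08_hJ3, l08_hJ3]
    simp only [hM, Matrix.mulVec, dotProduct, Fin.sum_univ_three, ← hφ]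
    simp [hφφ]
    field_simp
  exact ⟨⟨⟨hM q m, hdet⟩, hM'⟩, rfl⟩

theorem exists_conj (hq : 3 ≤ q) (hF : Fintype.card F = q ^ 2) (μ : F) (hμ : orderOf μ = q + 1) :
    ∃ g : GJ 3 F q, ∀ u hh zz : GJ 3 F q, mat u = xM q 1 (bet μ) → mat hh = hM q μ →
      mat zz = yM q 0 (bz μ) → g * u * g⁻¹ = u * hh * zz := by
  obtain ⟨φ, hφ, hφφ, -⟩ := Cfsg.Agent.Lib.Helper40.GUConj.exists_frob hF
  have hμ1 : μ ^ (q + 1) = 1 := by rw [← hμ]; exact pow_orderOf_eq_one μ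
  have h0 : μ ≠ 0 := by
    intro h; rw [h, zero_pow (by omega)] at hμ1; exact zero_ne_one hμ1
  have hμq : μ ^ q = μ⁻¹ := by
    rw [pow_succ] at hμ1; exact eq_inv_of_mul_eq_one_left hμ1
  have hφμ : φ μ = μ⁻¹ := by rw [hφ, hμq]
  have h1 : μ - 1 ≠ 0 := by
    intro h
    have : μ = 1 := sub_eq_zero.mp h
    rw [this, orderOf_one] at hμ; omega
  have h2 : μ + 1 ≠ 0 := by
    intro h
    have hm : μ = -1 := eq_neg_of_add_eq_zero_left h
    have h3 : μ ^ 2 = 1 := by rw [hm]; ring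
    have h4 := orderOf_dvd_of_pow_eq_one h3
    rw [hμ] at h4
    have := Nat.le_of_dvd (by norm_num) h4
    omega
  have e1 : μ⁻¹ + 1 = (μ + 1) / μ := by field_simp; ring
  have e2 : μ⁻¹ - 1 = -(μ - 1) / μ := by field_simp; ring
  -- the parameters and their `q`-th powers
  obtain ⟨aw, haw⟩ : ∃ aw : F, aw = -((μ - 1) * (μ + 1) ^ 2) := ⟨_, rfl⟩
  obtain ⟨bw, hbw⟩ : ∃ bw : F, bw = μ⁻¹ ^ 2 * (μ - 1) ^ 2 * (μ + 1) ^ 3 := ⟨_, rfl⟩
  obtain ⟨lam, hlam⟩ : ∃ lam : F, lam = -(1 / (μ + 1)) := ⟨_, rfl⟩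
  obtain ⟨β', hβ'⟩ : ∃ β' : F, β' = -(μ ^ 3 * (μ + 2)) / ((μ - 1) * (μ + 1) ^ 3) := ⟨_, rfl⟩
  obtain ⟨c, hc⟩ : ∃ c : F, c = ((2 * μ + 1) / ((μ - 1) * (μ + 1) ^ 3)) ^ 2 * μ * (μ + 2) :=
    ⟨_, rfl⟩
  obtain ⟨c', hc'⟩ : ∃ c' : F, c' = β' ^ 2 * (1 + 2 * μ) / μ ^ 2 := ⟨_, rfl⟩
  obtain ⟨e, he⟩ : ∃ e : F, e = c * c' * ((2 * μ + 1) / ((μ - 1) * (μ + 1) ^ 3)) := ⟨_, rfl⟩
  have hβq : (bet μ) ^ q = β' := by
    rw [← hφ, hβ']; unfold bet
    simp only [map_div₀, map_mul, map_add, map_sub, map_pow, map_one, map_ofNat, hφμ]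
    rw [e1, e2]
    field_simp
    ring
  have hawq : aw ^ q = (μ - 1) * (μ + 1) ^ 2 / μ ^ 3 := by
    rw [← hφ, haw]
    simp only [map_neg, map_mul, map_add, map_sub, map_pow, map_one, hφμ]
    rw [e1, e2]
    field_simp
  have hbwq : bw ^ q = (μ - 1) ^ 2 * (μ + 1) ^ 3 / μ ^ 3 := by
    rw [← hφ, hbw]
    simp only [map_neg, map_mul, map_add, map_sub, map_pow, map_one, map_inv₀, hφμ]
    rw [e1, e2]
    field_simp
  have hlamq : lam ^ q = -(μ / (μ + 1)) := by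
    rw [← hφ, hlam]
    simp only [map_neg, map_div₀, map_mul, map_add, map_sub, map_pow, map_one, hφμ]
    rw [e1]
    field_simp
  have hcq : c ^ q = c' := by
    rw [← hφ, hc, hc']
    simp only [map_mul, map_pow, map_add, map_ofNat, hφμ]
    have : φ ((2 * μ + 1) / ((μ - 1) * (μ + 1) ^ 3)) = β' := by
      have := hβq
      rw [← hφ] at this
      unfold bet at this
      exact this
    rw [this]
    field_simp
  have hβval : (2 * μ + 1) / ((μ - 1) * (μ + 1) ^ 3) + β' + 1 = 0 := by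
    rw [hβ']; field_simp; ring
  have hc'q : c' ^ q = c := by rw [← hcq, ← hφ, ← hφ, hφφ]
  have heq : e ^ q = c' * c * β' := by
    have hb : ((2 * μ + 1) / ((μ - 1) * (μ + 1) ^ 3)) ^ q = β' := hβq
    rw [he, mul_pow, mul_pow, hcq, hc'q, hb]
  have hvw : Val q aw bw := by
    unfold Val
    rw [hawq, hbwq, haw, hbw]
    field_simp
    ring
  have hvc : Val q c e := by
    unfold Val
    rw [heq, hcq, he]
    linear_combination (c * c') * hβval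
  have hlam0 : lam ≠ 0 := by
    rw [hlam]; exact neg_ne_zero.mpr (one_div_ne_zero h2)
  obtain ⟨gy, hgy⟩ := l08_exists_y φ hφ hφφ aw bw hvw
  obtain ⟨gh, hgh⟩ := l08_exists_h φ hφ hφφ lam hlam0
  obtain ⟨gx, hgx⟩ := l08_exists_x φ hφ hφφ c e hvc
  refine ⟨gy * gh * gx, ?_⟩
  intro u hh zz hu hhh hzz
  rw [mul_inv_eq_iff_eq_mul]
  apply mat_injective
  simp only [mat_mul]
  rw [hu, hhh, hzz, hgy, hgh, hgx]
  have hq0 : q ≠ 0 := by omega
  have key := l08_core μ h0 h1 h2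
  unfold xM yM hM bz bet
  rw [hawq, hlamq, hcq, hμq, one_pow, zero_pow hq0]
  rw [he, hc', hβ', hc, haw, hbw, hlam]
  exact key

end Cfsg.Agent.Lib.Helper71.RSU3
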