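import Mathlib
import Cfsg.Agent.Lib.Helper49.RSU3Defs
import Cfsg.Agent.Lib.Helper40.GUConj
import Cfsg.Agent.Lib.Helper71.RSU3L08

set_option autoImplicit false
set_option linter.unusedSectionVars false
set_option linter.unusedVariables false

/-! # K-RSU3 leaf L22 (S2283): the torus lies in `⟨U, U⁻⟩` -/

namespace Cfsg.Agent.Lib.Helper71.RSU3

open Matrix Cfsg.Agent.Lib.Helper49.StSU Cfsg.Agent.Lib.Helper49.RSU3

/-- the pure matrix identity `hM m * n(0,b0) = n(a,b)` -/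
theorem l22_core {F : Type*} [Field F] (a a' b b' b0 b0' m m' z p1 p2 : F)
    (hb : b ≠ 0) (hb' : b' ≠ 0) (hb0 : b0 ≠ 0)
    (hv : b + b' + a * a' = 0) (hm : m = -b0 / b') (hm' : m' = b0 / b)
    (hz : z = 0) (hb0' : b0' = -b0) (hp1 : p1 = a / b) (hp2 : p2 = a / b') :
    !![m, 0, 0; 0, m' / m, 0; 0, 0, 1 / m'] *
      (!![1, 0, 1 / b0'; 0, 1, -z; 0, 0, 1] * !![1, 0, 0; 0, 1, 0; b0, -z, 1] *
        !![1, 0, 1 / b0'; 0, 1, -z; 0, 0, 1]) =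
    !![1, a' / b', 1 / b'; 0, 1, -p1; 0, 0, 1] * !![1, 0, 0; a, 1, 0; b, -a', 1] *
      !![1, a' / b, 1 / b'; 0, 1, -p2; 0, 0, 1] := by
  have hb'e : b' = -(b + a * a') := by linear_combination hv
  subst hz hb0' hp1 hp2 hm hm'
  ext i j
  fin_cases i <;> fin_cases j <;>
    simp [Matrix.mul_apply, Fin.sum_univ_three] <;> (try field_simp) <;> (subst hb'e; ring)

variable {F : Type*} [Field F] [Fintype F] {q : ℕ}

theorem torus_mem (hq : 3 ≤ q) (hF : Fintype.card F = q ^ 2) (H : Subgroup (GJ 3 F q))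
    (hU : ∀ (X : GJ 3 F q) (a b : F), mat X = xM q a b → X ∈ H)
    (hY : ∀ (Y : GJ 3 F q) (a b : F), mat Y = yM q a b → Y ∈ H)
    (t : GJ 3 F q) (m : F) (ht : mat t = hM q m) : t ∈ H := by
  obtain ⟨φ, hφ, hφφ, θ₀, hθ₀⟩ := Cfsg.Agent.Lib.Helper40.GUConj.exists_frob hF
  have hq0 : q ≠ 0 := by omega
  have hφ0 : φ 0 = 0 := map_zero φ
  have hm : m ≠ 0 := by
    intro h
    have hdet := det_mat t
    rw [ht, h] at hdet
    unfold hM at hdet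
    rw [Matrix.det_fin_three] at hdet
    simp [zero_pow hq0] at hdet
  have hm' : φ m ≠ 0 := fun h => hm (by rw [← hφφ m, h, map_zero])
  obtain ⟨b0, hb0def⟩ : ∃ b0 : F, b0 = θ₀ - φ θ₀ := ⟨_, rfl⟩
  have hb0 : b0 ≠ 0 := by rw [hb0def]; exact sub_ne_zero.mpr (Ne.symm hθ₀)
  have hb0q : φ b0 = -b0 := by rw [hb0def, map_sub, hφφ]; ring
  obtain ⟨b, hbdef⟩ : ∃ b : F, b = b0 / φ m := ⟨_, rfl⟩
  have hb : b ≠ 0 := by rw [hbdef]; exact div_ne_zero hb0 hm'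
  have hbq : φ b = -b0 / m := by rw [hbdef, map_div₀, hb0q, hφφ]
  have hbq0 : φ b ≠ 0 := by rw [hbq]; exact div_ne_zero (neg_ne_zero.mpr hb0) hm
  have hfix : φ (-(b + φ b)) = -(b + φ b) := by
    rw [map_neg, map_add, hφφ]; ring
  obtain ⟨a, ha⟩ := Cfsg.Agent.Lib.Helper40.GUNorm.field_norm φ hφφ θ₀ hθ₀ (-(b + φ b)) hfix
  have hv : b + φ b + a * φ a = 0 := by linear_combination ha
  have hval : Val q a b := by unfold Val; rw [← hφ, ← hφ]; exact hv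
  have hval0 : Val q 0 b0 := by
    unfold Val; rw [← hφ, ← hφ, hb0q, hφ0]; ring
  have hval1 : Val q (φ a / φ b) (1 / φ b) := by
    unfold Val
    rw [← hφ, ← hφ, map_div₀, map_div₀, map_one, hφφ, hφφ]
    field_simp
    linear_combination hv
  have hval2 : Val q (φ a / b) (1 / φ b) := by
    unfold Val
    rw [← hφ, ← hφ, map_div₀, map_div₀, map_one, hφφ, hφφ]
    field_simp
    linear_combination hv
  have hval3 : Val q 0 (1 / φ b0) := by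
    unfold Val
    rw [← hφ, ← hφ, map_div₀, map_one, hφφ, hφ0, hb0q]
    field_simp
    ring
  obtain ⟨x1, hx1⟩ := l08_exists_x φ hφ hφφ _ _ hval1
  obtain ⟨y1, hy1⟩ := l08_exists_y φ hφ hφφ _ _ hval
  obtain ⟨x2, hx2⟩ := l08_exists_x φ hφ hφφ _ _ hval2
  obtain ⟨x3, hx3⟩ := l08_exists_x φ hφ hφφ _ _ hval3
  obtain ⟨y3, hy3⟩ := l08_exists_y φ hφ hφφ _ _ hval0
  have key : t = x1 * y1 * x2 * (x3 * y3 * x3)⁻¹ := by
    rw [eq_mul_inv_iff_mul_eq]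
    apply mat_injective
    simp only [mat_mul]
    rw [ht, hx1, hy1, hx2, hx3, hy3]
    unfold xM yM hM
    simp only [← hφ]
    refine l22_core a (φ a) b (φ b) b0 (φ b0) m (φ m) (φ 0) _ _ hb hbq0 hb0 hv ?_ ?_ hφ0 hb0q ?_ ?_
    · rw [hbq]; field_simp
    · rw [hbdef]; field_simp
    · rw [map_div₀, hφφ, hφφ]
    · rw [map_div₀, hφφ]
  rw [key]
  exact H.mul_mem (H.mul_mem (H.mul_mem (hU x1 _ _ hx1) (hY y1 _ _ hy1)) (hU x2 _ _ hx2))
    (H.inv_mem (H.mul_mem (H.mul_mem (hU x3 _ _ hx3) (hY y3 _ _ hy3)) (hU x3 _ _ hx3)))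

end Cfsg.Agent.Lib.Helper71.RSU3
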