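import Mathlib
import Cfsg.Agent.Lib.Helper48.RSpDefs2

set_option autoImplicit false
set_option linter.unusedVariables false
set_option linter.unusedSectionVars false

/-! # K-RSp leaf P1 (S2281): the induction step `Sym{0..k} ⊆ X ⇒ Sym{0..k+1} ⊆ X` -/

namespace Cfsg.Agent.Lib.Helper71.RSp

open Matrix Cfsg.Agent.Lib.Helper48.RSp Cfsg.Agent.Lib.Helper18

variable {m : ℕ} {F : Type*} [Field F]

/-- basis vector -/
def p1e (a : Fin (m + 2)) : Fin (m + 2) → F := Pi.single a 1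

/-- matrix unit as an outer product -/
def p1E (a b : Fin (m + 2)) : SM m F := vecMulVec (p1e a) (p1e b)

theorem p1E_apply (a b i j : Fin (m + 2)) :
    (p1E a b : SM m F) i j = if i = a ∧ j = b then 1 else 0 := by
  unfold p1E p1e
  rw [vecMulVec_apply, Pi.single_apply, Pi.single_apply]
  by_cases h1 : i = a <;> by_cases h2 : j = b <;> simp [h1, h2]

theorem p1E_transpose (a b : Fin (m + 2)) : (p1E a b : SM m F)ᵀ = p1E b a := by
  ext i j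
  rw [transpose_apply, p1E_apply, p1E_apply]
  simp only [and_comm]

theorem p1_conj (M : SM m F) (u v : Fin (m + 2) → F) :
    M * vecMulVec u v * Mᵀ = vecMulVec (M *ᵥ u) (M *ᵥ v) := by
  rw [Matrix.mul_vecMulVec, Matrix.vecMulVec_mul, Matrix.vecMul_transpose]

theorem p1_L_e (δ : Fin (m + 2) → F) (a : Fin (m + 2)) (ha : a.val + 1 < m + 2) :
    Lbi m δ *ᵥ p1e a = p1e a + δ a • p1e ⟨a.val + 1, ha⟩ := by
  unfold p1e
  ext i
  rw [Matrix.mulVec_single_one]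
  simp only [Lbi, Pi.add_apply, Pi.smul_apply, Pi.single_apply, smul_eq_mul, Matrix.col_apply]
  by_cases h1 : i = a
  · subst h1
    have h3 : i ≠ ⟨i.val + 1, ha⟩ := by
      intro h; have := congrArg Fin.val h; simp at this
    simp [h3]
  · by_cases h2 : a.val + 1 = i.val
    · have h3 : i = ⟨a.val + 1, ha⟩ := Fin.ext h2.symm
      rw [if_neg h1, if_pos h2, if_neg h1, if_pos h3]; ring
    · have h3 : i ≠ ⟨a.val + 1, ha⟩ := by
        intro h; exact h2 (by rw [h])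
      rw [if_neg h1, if_neg h2, if_neg h1, if_neg h3]; ring

theorem p1_U_e0 : Uup m F *ᵥ p1e (0 : Fin (m + 2)) = p1e 0 := by
  unfold p1e
  ext i
  rw [Matrix.mulVec_single_one]
  simp only [Uup, Nup, Matrix.col_apply, Matrix.add_apply, Matrix.one_apply, Pi.single_apply]
  simp

theorem p1_U_succ (a : Fin (m + 2)) (ha : a.val + 1 < m + 2) :
    Uup m F *ᵥ p1e (⟨a.val + 1, ha⟩ : Fin (m + 2)) = p1e ⟨a.val + 1, ha⟩ + p1e a := by
  unfold p1e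
  ext i
  rw [Matrix.mulVec_single_one]
  simp only [Uup, Nup, Matrix.col_apply, Matrix.add_apply, Matrix.one_apply, Pi.single_apply, Pi.add_apply]
  have h3 : (i.val + 1 = a.val + 1) ↔ i = a := by
    rw [Fin.ext_iff]; omega
  simp only [h3]


theorem p1_L_e' (δ : Fin (m + 2) → F) (a : ℕ) (ha : a + 1 < m + 2) :
    Lbi m δ *ᵥ p1e (⟨a, by omega⟩ : Fin (m + 2)) =
      p1e ⟨a, by omega⟩ + δ ⟨a, by omega⟩ • p1e ⟨a + 1, ha⟩ :=
  p1_L_e δ ⟨a, by omega⟩ ha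

theorem p1_U_e0' (h0 : 0 < m + 2) : Uup m F *ᵥ p1e (⟨0, h0⟩ : Fin (m + 2)) = p1e ⟨0, h0⟩ :=
  p1_U_e0

theorem p1_U_succ' (a : ℕ) (ha : a + 1 < m + 2) :
    Uup m F *ᵥ p1e (⟨a + 1, ha⟩ : Fin (m + 2)) = p1e ⟨a + 1, ha⟩ + p1e ⟨a, by omega⟩ :=
  p1_U_succ ⟨a, by omega⟩ ha

/-- `L (μ E_ab) Lᵀ` -/
theorem p1_L_E (δ : Fin (m + 2) → F) (a b : ℕ) (ha : a + 1 < m + 2) (hb : b + 1 < m + 2) (μ : F) :
    Lbi m δ * (μ • p1E (⟨a, by omega⟩ : Fin (m + 2)) ⟨b, by omega⟩) * (Lbi m δ)ᵀ =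
      μ • p1E (⟨a, by omega⟩ : Fin (m + 2)) ⟨b, by omega⟩ +
        (μ * δ ⟨b, by omega⟩) • p1E (⟨a, by omega⟩ : Fin (m + 2)) ⟨b + 1, hb⟩ +
        (μ * δ ⟨a, by omega⟩) • p1E (⟨a + 1, ha⟩ : Fin (m + 2)) ⟨b, by omega⟩ +
        (μ * δ ⟨a, by omega⟩ * δ ⟨b, by omega⟩) • p1E (⟨a + 1, ha⟩ : Fin (m + 2)) ⟨b + 1, hb⟩ := by
  rw [Matrix.mul_smul, Matrix.smul_mul]
  unfold p1E
  rw [p1_conj, p1_L_e' δ a ha, p1_L_e' δ b hb]
  simp only [Matrix.add_vecMulVec, Matrix.vecMulVec_add, Matrix.smul_vecMulVec, Matrix.vecMulVec_smul]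
  module

/-- `U E_{0,b+1} Uᵀ` -/
theorem p1_U_E_zs (h0 : 0 < m + 2) (b : ℕ) (hb : b + 1 < m + 2) :
    Uup m F * p1E (⟨0, h0⟩ : Fin (m + 2)) ⟨b + 1, hb⟩ * (Uup m F)ᵀ =
      p1E (⟨0, h0⟩ : Fin (m + 2)) ⟨b + 1, hb⟩ + p1E (⟨0, h0⟩ : Fin (m + 2)) ⟨b, by omega⟩ := by
  unfold p1E
  rw [p1_conj, p1_U_e0' h0, p1_U_succ' b hb]
  simp only [Matrix.add_vecMulVec, Matrix.vecMulVec_add]

theorem p1_U_E_sz (h0 : 0 < m + 2) (b : ℕ) (hb : b + 1 < m + 2) :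
    Uup m F * p1E (⟨b + 1, hb⟩ : Fin (m + 2)) ⟨0, h0⟩ * (Uup m F)ᵀ =
      p1E (⟨b + 1, hb⟩ : Fin (m + 2)) ⟨0, h0⟩ + p1E (⟨b, by omega⟩ : Fin (m + 2)) ⟨0, h0⟩ := by
  unfold p1E
  rw [p1_conj, p1_U_e0' h0, p1_U_succ' b hb]
  simp only [Matrix.add_vecMulVec, Matrix.vecMulVec_add]

theorem p1_U_E_ss (a b : ℕ) (ha : a + 1 < m + 2) (hb : b + 1 < m + 2) :
    Uup m F * p1E (⟨a + 1, ha⟩ : Fin (m + 2)) ⟨b + 1, hb⟩ * (Uup m F)ᵀ =
      p1E (⟨a + 1, ha⟩ : Fin (m + 2)) ⟨b + 1, hb⟩ + p1E (⟨a + 1, ha⟩ : Fin (m + 2)) ⟨b, by omega⟩ +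
        p1E (⟨a, by omega⟩ : Fin (m + 2)) ⟨b + 1, hb⟩ + p1E (⟨a, by omega⟩ : Fin (m + 2)) ⟨b, by omega⟩ := by
  unfold p1E
  rw [p1_conj, p1_U_succ' a ha, p1_U_succ' b hb]
  simp only [Matrix.add_vecMulVec, Matrix.vecMulVec_add]
  abel


theorem sym_step {m : ℕ} {F : Type*} [Field F] (X : AddSubgroup (SM m F)) (δ : Fin (m + 2) → F)
    (hδ : ∀ j, δ j ≠ 0)
    (hU : ∀ S ∈ X, Uup m F * S * (Uup m F)ᵀ ∈ X)
    (hL : ∀ S ∈ X, Sᵀ = S → (∀ j, S (Fin.last (m + 1)) j = 0) → Lbi m δ * S * (Lbi m δ)ᵀ ∈ X)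
    (k : ℕ) (hk1 : 1 ≤ k) (hk : k + 1 < m + 2) (h : SymLE m k ⊆ (X : Set (SM m F))) :
    SymLE m (k + 1) ⊆ (X : Set (SM m F)) := by
  have hk' : k < m + 2 := by omega
  -- pieces of `SymLE k`
  have BS : ∀ (x y : ℕ) (hx : x ≤ k) (hy : y ≤ k) (μ : F),
      μ • (p1E (⟨x, by omega⟩ : Fin (m + 2)) ⟨y, by omega⟩ +
        p1E (⟨y, by omega⟩ : Fin (m + 2)) ⟨x, by omega⟩) ∈ (SymLE m k : Set (SM m F)) := by
    intro x y hx hy μ
    refine ⟨?_, ?_⟩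
    · rw [transpose_smul, transpose_add, p1E_transpose, p1E_transpose]
      exact congrArg _ (add_comm _ _)
    · intro i j hij
      rw [Matrix.smul_apply, Matrix.add_apply, p1E_apply, p1E_apply]
      have h1 : ¬ (i = ⟨x, by omega⟩ ∧ j = ⟨y, by omega⟩) := by
        rintro ⟨rfl, rfl⟩; simp at hij; omega
      have h2 : ¬ (i = ⟨y, by omega⟩ ∧ j = ⟨x, by omega⟩) := by
        rintro ⟨rfl, rfl⟩; simp at hij; omega
      rw [if_neg h1, if_neg h2]; simp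
  have ES : ∀ (x : ℕ) (hx : x ≤ k) (μ : F),
      μ • p1E (⟨x, by omega⟩ : Fin (m + 2)) ⟨x, by omega⟩ ∈ (SymLE m k : Set (SM m F)) := by
    intro x hx μ
    refine ⟨?_, ?_⟩
    · rw [transpose_smul, p1E_transpose]
    · intro i j hij
      rw [Matrix.smul_apply, p1E_apply]
      have h1 : ¬ (i = ⟨x, by omega⟩ ∧ j = ⟨x, by omega⟩) := by
        rintro ⟨rfl, rfl⟩; simp at hij; omega
      rw [if_neg h1]; simp
  have lastrow : ∀ S ∈ (SymLE m k : Set (SM m F)), ∀ j, S (Fin.last (m + 1)) j = 0 := by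
    intro S hS j
    exact hS.2 _ _ (Or.inl (by simp [Fin.last]; omega))
  have hL' : ∀ S ∈ (SymLE m k : Set (SM m F)), Lbi m δ * S * (Lbi m δ)ᵀ ∈ X :=
    fun S hS => hL S (h hS) hS.1 (lastrow S hS)
  -- (a) the elements `μ Z_i`
  have hZ : ∀ (i : ℕ) (hi : i < k) (μ : F),
      μ • (p1E (⟨i, by omega⟩ : Fin (m + 2)) ⟨k + 1, hk⟩ +
          p1E (⟨k + 1, hk⟩ : Fin (m + 2)) ⟨i, by omega⟩) +
        (μ * δ ⟨i, by omega⟩) • (p1E (⟨i + 1, by omega⟩ : Fin (m + 2)) ⟨k + 1, hk⟩ +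
          p1E (⟨k + 1, hk⟩ : Fin (m + 2)) ⟨i + 1, by omega⟩) ∈ X := by
    intro i hi μ
    obtain ⟨μ', rfl⟩ : ∃ μ', μ' * δ ⟨k, hk'⟩ = μ := ⟨μ / δ ⟨k, hk'⟩, div_mul_cancel₀ μ (hδ _)⟩
    have h1 := hL' _ (BS i k (by omega) le_rfl μ')
    have h2 := h (BS i k (by omega) le_rfl μ')
    have h3 := h (BS (i + 1) k (by omega) le_rfl (μ' * δ ⟨i, by omega⟩))
    have h4 := X.sub_mem (X.sub_mem h1 h2) h3
    convert h4 using 1
    simp only [smul_add, Matrix.mul_add, Matrix.add_mul]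
    rw [p1_L_E δ i k (by omega) hk μ', p1_L_E δ k i hk (by omega) μ']
    module
  -- (b), (c) the elements `μ B_{a,k+1}`
  have hB : ∀ (a : ℕ) (ha : a ≤ k) (μ : F),
      μ • (p1E (⟨a, by omega⟩ : Fin (m + 2)) ⟨k + 1, hk⟩ +
          p1E (⟨k + 1, hk⟩ : Fin (m + 2)) ⟨a, by omega⟩) ∈ X := by
    intro a
    induction a with
    | zero =>
      intro _ μ
      obtain ⟨ν, rfl⟩ : ∃ ν, ν * δ ⟨0, by omega⟩ = μ :=
        ⟨μ / δ ⟨0, by omega⟩, div_mul_cancel₀ μ (hδ _)⟩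
      have h1 := hZ 0 (by omega) ν
      have h2 := X.sub_mem (hU _ h1) h1
      have h3 := h (BS 0 k (by omega) le_rfl ν)
      have h4 := h (BS (0 + 1) k (by omega) le_rfl (ν * δ ⟨0, by omega⟩))
      have h5 := h (BS 0 k (by omega) le_rfl (ν * δ ⟨0, by omega⟩))
      have h6 := X.sub_mem (X.sub_mem (X.sub_mem h2 h3) h4) h5
      convert h6 using 1
      simp only [Matrix.mul_add, Matrix.add_mul, Matrix.mul_smul, Matrix.smul_mul, smul_add]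
      rw [p1_U_E_zs _ k hk, p1_U_E_sz _ k hk, p1_U_E_ss 0 k (by omega) hk,
        p1_U_E_ss k 0 hk (by omega)]
      module
    | succ a ih =>
      intro ha μ
      obtain ⟨ν, rfl⟩ : ∃ ν, ν * δ ⟨a, by omega⟩ = μ :=
        ⟨μ / δ ⟨a, by omega⟩, div_mul_cancel₀ μ (hδ _)⟩
      have h1 := hZ a (by omega) ν
      have h2 := ih (by omega) ν
      have h3 := X.sub_mem h1 h2
      convert h3 using 1
      module
  -- (d) the corner
  have hE : ∀ μ : F, μ • p1E (⟨k + 1, hk⟩ : Fin (m + 2)) ⟨k + 1, hk⟩ ∈ X := by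
    intro μ
    obtain ⟨ν, rfl⟩ : ∃ ν, ν * δ ⟨k, hk'⟩ * δ ⟨k, hk'⟩ = μ :=
      ⟨μ / δ ⟨k, hk'⟩ / δ ⟨k, hk'⟩, by
        rw [div_mul_cancel₀ _ (hδ _), div_mul_cancel₀ _ (hδ _)]⟩
    have h1 := hL' _ (ES k le_rfl ν)
    have h2 := h (ES k le_rfl ν)
    have h3 := hB k le_rfl (ν * δ ⟨k, hk'⟩)
    have h4 := X.sub_mem (X.sub_mem h1 h2) h3
    convert h4 using 1
    rw [p1_L_E δ k k hk hk ν]
    module
  -- (e) decomposition
  rintro S ⟨hS1, hS2⟩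
  have hsym : ∀ i j, S j i = S i j := fun i j => congrFun (congrFun hS1 i) j
  have hC : ∀ col : Fin (m + 2) → F, (∀ a, ¬ a.val ≤ k → col a = 0) →
      (∑ a : Fin (m + 2), col a • (p1E a ⟨k + 1, hk⟩ + p1E ⟨k + 1, hk⟩ a)) ∈ X := by
    intro col hcol
    refine X.sum_mem (fun a _ => ?_)
    by_cases ha : a.val ≤ k
    · exact hB a.val ha (col a)
    · rw [hcol a ha, zero_smul]; exact X.zero_mem
  have hS₀ : (Matrix.of fun i j => if i.val ≤ k ∧ j.val ≤ k then S i j else 0 : SM m F) ∈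
      (SymLE m k : Set (SM m F)) := by
    refine ⟨?_, ?_⟩
    · ext i j
      show (if j.val ≤ k ∧ i.val ≤ k then S j i else 0) = if i.val ≤ k ∧ j.val ≤ k then S i j else 0
      rw [hsym i j]; simp only [and_comm]
    · intro i j hij
      show (if i.val ≤ k ∧ j.val ≤ k then S i j else 0) = 0
      rw [if_neg]; omega
  have key : S = (Matrix.of fun i j => if i.val ≤ k ∧ j.val ≤ k then S i j else 0 : SM m F) +
      (∑ a : Fin (m + 2), (if a.val ≤ k then S a ⟨k + 1, hk⟩ else 0) •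
        (p1E a ⟨k + 1, hk⟩ + p1E ⟨k + 1, hk⟩ a)) +
      S ⟨k + 1, hk⟩ ⟨k + 1, hk⟩ • p1E ⟨k + 1, hk⟩ ⟨k + 1, hk⟩ := by
    ext i j
    rw [Matrix.add_apply, Matrix.add_apply, Matrix.sum_apply, Matrix.smul_apply, p1E_apply]
    simp only [Matrix.smul_apply, Matrix.add_apply, p1E_apply, smul_eq_mul, Matrix.of_apply]
    have e1 : ∑ a : Fin (m + 2), (if a.val ≤ k then S a ⟨k + 1, hk⟩ else 0) *
        ((if i = a ∧ j = ⟨k + 1, hk⟩ then (1 : F) else 0) + (if i = ⟨k + 1, hk⟩ ∧ j = a then 1 else 0))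
        = (if j = ⟨k + 1, hk⟩ then (if i.val ≤ k then S i ⟨k + 1, hk⟩ else 0) else 0) +
          (if i = ⟨k + 1, hk⟩ then (if j.val ≤ k then S j ⟨k + 1, hk⟩ else 0) else 0) := by
      simp only [mul_add, Finset.sum_add_distrib]
      congr 1
      · by_cases hj : j = ⟨k + 1, hk⟩
        · simp [hj]
        · simp [hj]
      · by_cases hi : i = ⟨k + 1, hk⟩
        · simp [hi]
        · simp [hi]
    rw [e1]
    rcases lt_trichotomy i.val (k + 1) with hi | hi | hi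
    · have hi1 : i.val ≤ k := by omega
      have hi2 : i ≠ ⟨k + 1, hk⟩ := by
        intro h; rw [h] at hi; simp at hi
      rcases lt_trichotomy j.val (k + 1) with hj | hj | hj
      · have hj1 : j.val ≤ k := by omega
        have hj2 : j ≠ ⟨k + 1, hk⟩ := by
          intro h; rw [h] at hj; simp at hj
        simp [hi1, hi2, hj1, hj2]
      · have hj2 : j = ⟨k + 1, hk⟩ := Fin.ext hj
        subst hj2
        simp [hi1, hi2]
      · have hj1 : ¬ j.val ≤ k := by omega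
        have hj2 : j ≠ ⟨k + 1, hk⟩ := by
          intro h; rw [h] at hj; simp at hj
        have h0 : S i j = 0 := hS2 i j (Or.inr hj)
        simp [hi1, hi2, hj1, hj2, h0]
    · have hi2 : i = ⟨k + 1, hk⟩ := Fin.ext hi
      subst hi2
      rcases lt_trichotomy j.val (k + 1) with hj | hj | hj
      · have hj1 : j.val ≤ k := by omega
        have hj2 : j ≠ ⟨k + 1, hk⟩ := by
          intro h; rw [h] at hj; simp at hj
        simp [hj1, hj2]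
        exact hsym _ _
      · have hj2 : j = ⟨k + 1, hk⟩ := Fin.ext hj
        subst hj2
        simp
      · have hj1 : ¬ j.val ≤ k := by omega
        have hj2 : j ≠ ⟨k + 1, hk⟩ := by
          intro h; rw [h] at hj; simp at hj
        have h0 : S ⟨k + 1, hk⟩ j = 0 := hS2 _ j (Or.inr hj)
        simp [hj1, hj2, h0]
    · have hi1 : ¬ i.val ≤ k := by omega
      have hi2 : i ≠ ⟨k + 1, hk⟩ := by
        intro h; rw [h] at hi; simp at hi
      have h0 : S i j = 0 := hS2 i j (Or.inl hi)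
      simp [hi1, hi2, h0]
  rw [key]
  exact X.add_mem (X.add_mem (h hS₀) (hC _ (fun a ha => if_neg ha))) (hE _)

end Cfsg.Agent.Lib.Helper71.RSp
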