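import Mathlib
import Cfsg.Agent.Lib.Helper48.RSpDefs2

set_option autoImplicit false
set_option linter.unusedVariables false
set_option linter.unusedSectionVars false

/-! # K-RSp leaf P4 (S2281): `n = 2`, characteristic `2`: `X` contains all symmetric `2 × 2` matrices -/

namespace Cfsg.Agent.Lib.Helper71.RSp

open Matrix Cfsg.Agent.Lib.Helper48.RSp Cfsg.Agent.Lib.Helper18

variable {F : Type*} [Field F]

/-- the symmetric `2 × 2` matrix `[[a,b],[b,c]]` -/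
def p4sy (a b c : F) : SM 0 F := !![a, b; b, c]

theorem p4sy_add (a b c a' b' c' : F) : p4sy a b c + p4sy a' b' c' = p4sy (a + a') (b + b') (c + c') := by
  ext i j; fin_cases i <;> fin_cases j <;> simp [p4sy]

theorem p4sy_sub (a b c a' b' c' : F) : p4sy a b c - p4sy a' b' c' = p4sy (a - a') (b - b') (c - c') := by
  ext i j; fin_cases i <;> fin_cases j <;> simp [p4sy]

theorem p4sy_zero : p4sy (0 : F) 0 0 = 0 := by
  ext i j; fin_cases i <;> fin_cases j <;> simp [p4sy]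

theorem p4sy_transpose (a b c : F) : (p4sy a b c)ᵀ = p4sy a b c := by
  ext i j; fin_cases i <;> fin_cases j <;> simp [p4sy]

theorem p4_eq (S : SM 0 F) (hS : Sᵀ = S) : S = p4sy (S 0 0) (S 0 1) (S 1 1) := by
  have h10 : S 1 0 = S 0 1 := congrFun (congrFun hS 0) 1
  ext i j; fin_cases i <;> fin_cases j <;> simp [p4sy, h10]

theorem p4_Uup : Uup 0 F = !![1, 1; 0, 1] := by
  ext i j; fin_cases i <;> fin_cases j <;> simp [Uup, Nup]

theorem p4_Lbi (t : F) : Lbi 0 (fun j => if j = 0 then t else 1) = !![1, 0; t, 1] := by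
  ext i j; fin_cases i <;> fin_cases j <;> simp [Lbi]

theorem p4_E00 (a : F) : a • E00 0 F = p4sy a 0 0 := by
  ext i j; fin_cases i <;> fin_cases j <;> simp [p4sy, E00]

theorem p4_U (h2 : (2 : F) = 0) (a b c : F) :
    Uup 0 F * p4sy a b c * (Uup 0 F)ᵀ = p4sy (a + c) (b + c) c := by
  rw [p4_Uup]
  ext i j; fin_cases i <;> fin_cases j <;> simp [p4sy, Matrix.mul_apply, Fin.sum_univ_two]
  · linear_combination b * h2

theorem p4_L (t a : F) :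
    Lbi 0 (fun j => if j = 0 then t else 1) * p4sy a 0 0 * (Lbi 0 (fun j => if j = 0 then t else 1))ᵀ =
      p4sy a (a * t) (a * t ^ 2) := by
  rw [p4_Lbi]
  ext i j; fin_cases i <;> fin_cases j <;> simp [p4sy, Matrix.mul_apply, Fin.sum_univ_two] <;> ring

theorem p4_tau (h2 : (2 : F) = 0) (t σ β a b' : F) :
    tauMat t σ β * p4sy a b' 0 * (tauMat t σ β)ᵀ =
      p4sy (a + a * (σ * β * t) ^ 2) (b' + a * (1 + σ * β * t) * (σ * β * t) * t)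
        (a * (σ * β * t) ^ 2 * t ^ 2) := by
  ext i j; fin_cases i <;> fin_cases j <;> simp [p4sy, tauMat, Matrix.mul_apply, Fin.sum_univ_two]
  · linear_combination (σ * β * t * a - σ * β * b' - σ ^ 2 * β ^ 2 * t * b') * h2
  · linear_combination (-(σ ^ 2 * β ^ 2 * t ^ 2 * b')) * h2
  · linear_combination (-(σ ^ 2 * β ^ 2 * t ^ 2 * b')) * h2
  · linear_combination (σ * β * t ^ 2 * b' - σ ^ 2 * β ^ 2 * t ^ 3 * b') * h2


theorem sym_all_two {F : Type*} [Field F] (X : AddSubgroup (SM 0 F)) (t σ l : F)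
    (ht : t ≠ 0) (hσ : σ ≠ 0) (hl0 : l ≠ 0)
    (hU : ∀ S ∈ X, Uup 0 F * S * (Uup 0 F)ᵀ ∈ X)
    (hL : ∀ S ∈ X, Sᵀ = S → (∀ j, S (Fin.last 1) j = 0) →
      Lbi 0 (fun j => if j = 0 then t else 1) * S * (Lbi 0 (fun j => if j = 0 then t else 1))ᵀ ∈ X)
    (hτ : ∀ S ∈ X, Sᵀ = S → S 1 1 = 0 → ∀ S₂ ∈ X,
      tauMat t σ (S 0 1) * S₂ * (tauMat t σ (S 0 1))ᵀ ∈ X)
    (h2 : (2 : F) = 0) (hl : l • E00 0 F ∈ X)
    (hgen : ∀ x : F, x ≠ 0 → ∃ k : ℕ, x = (σ * t ^ 4 * l) ^ (2 * k + 1))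
    (h4 : ∃ ρ₁ ρ₂ : F, ρ₁ ≠ 0 ∧ ρ₂ ≠ 0 ∧ ρ₁ ≠ ρ₂) :
    ∀ S : SM 0 F, Sᵀ = S → S ∈ X := by
  -- transport along equalities of coordinates
  have tr : ∀ {a b c a' b' c' : F}, p4sy a b c ∈ X → a = a' → b = b' → c = c' → p4sy a' b' c' ∈ X := by
    intro a b c a' b' c' h e1 e2 e3; subst e1 e2 e3; exact h
  -- `(U - 1)`
  have hC1 : ∀ a b c : F, p4sy a b c ∈ X → p4sy c c 0 ∈ X := by
    intro a b c h
    have h1 := X.sub_mem (hU _ h) h
    rw [p4_U h2, p4sy_sub] at h1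
    exact tr h1 (by ring) (by ring) (by ring)
  have hLa : ∀ a : F, p4sy a 0 0 ∈ X → p4sy a (a * t) (a * t ^ 2) ∈ X := by
    intro a h
    have h1 := hL _ h (p4sy_transpose _ _ _) (by
      intro j; fin_cases j <;> simp [p4sy])
    rwa [p4_L] at h1
  have hτ' : ∀ β a b' : F, p4sy β β 0 ∈ X → p4sy a b' 0 ∈ X →
      p4sy (a + a * (σ * β * t) ^ 2) (b' + a * (1 + σ * β * t) * (σ * β * t) * t)
        (a * (σ * β * t) ^ 2 * t ^ 2) ∈ X := by
    intro β a b' hS hS₂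
    have h1 := hτ _ hS (p4sy_transpose _ _ _) (by simp [p4sy]) _ hS₂
    have e : p4sy β β 0 0 1 = β := by simp [p4sy]
    rw [e, p4_tau h2] at h1
    exact h1
  have hl' : p4sy l 0 0 ∈ X := by rw [← p4_E00]; exact hl
  have hw0 : σ * t ^ 2 ≠ 0 := mul_ne_zero hσ (pow_ne_zero 2 ht)
  -- `α, β ∈ C ⇒ (σ t²)² α β² ∈ C`
  have hstep : ∀ α β : F, p4sy α α 0 ∈ X → p4sy β β 0 ∈ X →
      p4sy ((σ * t ^ 2) ^ 2 * α * β ^ 2) ((σ * t ^ 2) ^ 2 * α * β ^ 2) 0 ∈ X := by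
    intro α β hα hβ
    have h1 := hC1 _ _ _ (hτ' β α α hβ hα)
    exact tr h1 (by ring) (by ring) rfl
  have hbase : p4sy ((σ * t ^ 4 * l) / (σ * t ^ 2)) ((σ * t ^ 4 * l) / (σ * t ^ 2)) 0 ∈ X := by
    have h0 := hC1 _ _ _ (hLa l hl')
    have e : l * t ^ 2 = (σ * t ^ 4 * l) / (σ * t ^ 2) := by
      field_simp
    exact tr h0 e e rfl
  have hodd : ∀ k : ℕ, p4sy ((σ * t ^ 4 * l) ^ (2 * k + 1) / (σ * t ^ 2))
      ((σ * t ^ 4 * l) ^ (2 * k + 1) / (σ * t ^ 2)) 0 ∈ X := by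
    intro k
    induction k with
    | zero => simpa using hbase
    | succ k ih =>
      have h1 := hstep _ _ ih hbase
      have e : (σ * t ^ 2) ^ 2 * ((σ * t ^ 4 * l) ^ (2 * k + 1) / (σ * t ^ 2)) *
          ((σ * t ^ 4 * l) / (σ * t ^ 2)) ^ 2 = (σ * t ^ 4 * l) ^ (2 * (k + 1) + 1) / (σ * t ^ 2) := by
        field_simp
        ring
      exact tr h1 e e rfl
  have hCall : ∀ c : F, p4sy c c 0 ∈ X := by
    intro c
    by_cases hc : c = 0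
    · subst hc; rw [p4sy_zero]; exact X.zero_mem
    · obtain ⟨k, hk⟩ := hgen (c * (σ * t ^ 2)) (mul_ne_zero hc hw0)
      have e : (σ * t ^ 4 * l) ^ (2 * k + 1) / (σ * t ^ 2) = c := by
        rw [← hk]; field_simp
      exact tr (hodd k) e e rfl
  have hh : ∀ α ρ : F, p4sy (α * ρ ^ 2) (α * (1 + ρ) * ρ * t) (α * ρ ^ 2 * t ^ 2) ∈ X := by
    intro α ρ
    have h1 := X.sub_mem (hτ' (ρ / (σ * t)) α α (hCall _) (hCall α)) (hCall α)
    rw [p4sy_sub] at h1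
    have e : σ * (ρ / (σ * t)) * t = ρ := by field_simp
    rw [e] at h1
    exact tr h1 (by ring) (by ring) (by ring)
  obtain ⟨ρ₁, ρ₂, hρ₁, hρ₂, hne⟩ := h4
  have hd : t * (ρ₁⁻¹ - ρ₂⁻¹) ≠ 0 := by
    refine mul_ne_zero ht (sub_ne_zero.mpr ?_)
    intro h; exact hne (inv_injective h)
  have hB : ∀ b : F, p4sy 0 b 0 ∈ X := by
    intro b
    obtain ⟨κ, hκ⟩ : ∃ κ : F, κ * (t * (ρ₁⁻¹ - ρ₂⁻¹)) = b := ⟨b / (t * (ρ₁⁻¹ - ρ₂⁻¹)), div_mul_cancel₀ b hd⟩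
    have h1 := X.sub_mem (hh (κ / ρ₁ ^ 2) ρ₁) (hh (κ / ρ₂ ^ 2) ρ₂)
    rw [p4sy_sub] at h1
    refine tr h1 ?_ ?_ ?_
    · field_simp; ring
    · rw [← hκ]; field_simp; ring
    · field_simp; ring
  have hA : ∀ a : F, p4sy a 0 0 ∈ X := by
    intro a
    have h1 := X.sub_mem (hCall a) (hB a)
    rw [p4sy_sub] at h1
    exact tr h1 (by ring) (by ring) (by ring)
  have hG : ∀ c : F, p4sy 0 0 c ∈ X := by
    intro c
    have h1 := X.sub_mem (X.sub_mem (hLa (c / t ^ 2) (hA _)) (hA (c / t ^ 2))) (hB (c / t ^ 2 * t))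
    rw [p4sy_sub, p4sy_sub] at h1
    refine tr h1 (by ring) (by ring) ?_
    field_simp; ring
  intro S hS
  rw [p4_eq S hS]
  have h1 := X.add_mem (X.add_mem (hA (S 0 0)) (hB (S 0 1))) (hG (S 1 1))
  rw [p4sy_add, p4sy_add] at h1
  exact tr h1 (by ring) (by ring) (by ring)

end Cfsg.Agent.Lib.Helper71.RSp
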