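import Mathlib

set_option autoImplicit false
set_option linter.unusedVariables false
set_option linter.unusedSectionVars false

/-! # K-RU2 leaf F (S2278): the subfield argument (pure finite field theory) -/

namespace Cfsg.Agent.Lib.Helper71.RU2

theorem gen_pow_three_ne_one {F : Type*} [Field F] [Fintype F] (h2 : Fintype.card F ≠ 2)
    (h4 : Fintype.card F ≠ 4) {l : F} (hl0 : l ≠ 0)
    (hl : ∀ x : F, x ≠ 0 → ∃ k : ℕ, x = l ^ (k + 1)) : l ^ 3 ≠ 1 := by
  classical
  intro h3
  -- every element is `0, 1, l, l^2`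
  have hall : ∀ x : F, x ∈ ({0, 1, l, l ^ 2} : Finset F) := by
    intro x
    by_cases hx : x = 0
    · simp [hx]
    · obtain ⟨k, rfl⟩ := hl x hx
      have e : l ^ (k + 1) = l ^ ((k + 1) % 3) := pow_eq_pow_mod (k + 1) h3
      rw [e]
      have hlt : (k + 1) % 3 < 3 := Nat.mod_lt _ (by norm_num)
      interval_cases h : (k + 1) % 3 <;> simp
  have hcard : Fintype.card F ≤ 4 := by
    calc Fintype.card F = (Finset.univ : Finset F).card := rfl
      _ ≤ ({0, 1, l, l ^ 2} : Finset F).card := Finset.card_le_card (fun x _ => hall x)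
      _ ≤ 4 := Finset.card_le_four
  have hcard2 : 2 ≤ Fintype.card F := by
    have := Fintype.one_lt_card (α := F)
    omega
  have hq3 : Fintype.card F = 3 := by omega
  -- `q = 3`: `l^2 = 1`, so `l = 1`
  have hl2 : l ^ 2 = 1 := by
    have := FiniteField.pow_card_sub_one_eq_one l hl0
    rwa [hq3] at this
  have hl1 : l = 1 := by
    have : l ^ 3 = l ^ 2 * l := pow_succ l 2
    rw [h3, hl2, one_mul] at this
    exact this.symm
  have hall' : ∀ x : F, x ∈ ({0, 1} : Finset F) := by
    intro x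
    by_cases hx : x = 0
    · simp [hx]
    · obtain ⟨k, rfl⟩ := hl x hx
      simp [hl1]
  have : Fintype.card F ≤ 2 := by
    calc Fintype.card F = (Finset.univ : Finset F).card := rfl
      _ ≤ ({0, 1} : Finset F).card := Finset.card_le_card (fun x _ => hall' x)
      _ ≤ 2 := Finset.card_le_two
  omega


theorem addSubgroup_eq_top {F : Type*} [Field F] [Fintype F] (h4 : Fintype.card F ≠ 4) {l : F} (hl0 : l ≠ 0)
    (hl : ∀ x : F, x ≠ 0 → ∃ k : ℕ, x = l ^ (k + 1))
    (S : AddSubgroup F) (hS : ∀ s ∈ S, l⁻¹ ^ 3 * s ∈ S) (hne : ∃ s ∈ S, s ≠ 0) : S = ⊤ := by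
  classical
  -- the multiplier ring
  let R : Set F := {x | ∀ s ∈ S, x * s ∈ S}
  have hR0 : (0 : F) ∈ R := fun s _ => by rw [zero_mul]; exact S.zero_mem
  have hR1 : (1 : F) ∈ R := fun s hs => by rw [one_mul]; exact hs
  have hRadd : ∀ x y : F, x ∈ R → y ∈ R → x + y ∈ R := fun x y hx hy s hs => by
    rw [add_mul]; exact S.add_mem (hx s hs) (hy s hs)
  have hRmul : ∀ x y : F, x ∈ R → y ∈ R → x * y ∈ R := fun x y hx hy s hs => by
    rw [mul_assoc]; exact hx _ (hy s hs)
  have hRneg : ∀ x : F, x ∈ R → -x ∈ R := fun x hx s hs => by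
    rw [neg_mul]; exact S.neg_mem (hx s hs)
  have hRpow : ∀ (x : F) (k : ℕ), x ∈ R → x ^ k ∈ R := by
    intro x k hx
    induction k with
    | zero => rw [pow_zero]; exact hR1
    | succ k ih => rw [pow_succ]; exact hRmul _ _ ih hx
  have hq1 : 1 ≤ Fintype.card F - 1 := by
    have := Fintype.one_lt_card (α := F)
    omega
  have hRinv : ∀ x : F, x ∈ R → x⁻¹ ∈ R := by
    intro x hx
    by_cases hx0 : x = 0
    · rw [hx0, inv_zero]; exact hR0
    · have h1 := FiniteField.pow_card_sub_one_eq_one x hx0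
      have h2 : x⁻¹ = x ^ (Fintype.card F - 1 - 1) := by
        have : x * x ^ (Fintype.card F - 1 - 1) = 1 := by
          rw [← pow_succ', Nat.sub_add_cancel hq1]; exact h1
        exact inv_eq_of_mul_eq_one_right this
      rw [h2]; exact hRpow _ _ hx
  have hRc : l⁻¹ ^ 3 ∈ R := hS
  have hRl3 : l ^ 3 ∈ R := by
    have := hRinv _ hRc
    rwa [inv_pow, inv_inv] at this
  have hRcube : ∀ x : F, x ^ 3 ∈ R := by
    intro x
    by_cases hx0 : x = 0
    · rw [hx0]; simpa using hR0
    · obtain ⟨k, rfl⟩ := hl x hx0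
      rw [← pow_mul, mul_comm, pow_mul]
      exact hRpow _ _ hRl3
  -- it suffices that `R` is everything
  suffices hRall : ∀ x : F, x ∈ R by
    obtain ⟨s₀, hs₀, hs₀0⟩ := hne
    rw [eq_top_iff]
    intro y _
    have := hRall (y / s₀) s₀ hs₀
    rwa [div_mul_cancel₀ y hs₀0] at this
  by_contra hcon
  rw [not_forall] at hcon
  obtain ⟨x₀, hx₀⟩ := hcon
  let Rf : Finset F := Finset.univ.filter (fun x => x ∈ R)
  have hRf : ∀ x, x ∈ Rf ↔ x ∈ R := fun x => by simp [Rf]
  -- `r² ≤ q`
  have hsq : Rf.card * Rf.card ≤ Fintype.card F := by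
    rw [← Finset.card_product]
    refine Finset.card_le_card_of_injOn (fun ab => ab.1 + ab.2 * x₀) (fun _ _ => Finset.mem_univ _) ?_
    rintro ⟨a, b⟩ hab ⟨a', b'⟩ hab' heq
    simp only [Finset.coe_product, Set.mem_prod, Finset.mem_coe, hRf] at hab hab'
    simp only at heq
    have hbb : b = b' := by
      by_contra hbb
      have hne' : b - b' ≠ 0 := sub_ne_zero.mpr hbb
      have hx : x₀ = (a' - a) * (b - b')⁻¹ := by
        field_simp
        linear_combination heq
      apply hx₀
      rw [hx]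
      exact hRmul _ _ (hRadd _ _ hab'.1 (hRneg _ hab.1) |> fun h => by simpa [sub_eq_add_neg] using h)
        (hRinv _ (by simpa [sub_eq_add_neg] using hRadd _ _ hab.2 (hRneg _ hab'.2)))
    subst hbb
    have : a = a' := by linear_combination heq
    rw [this]
  -- `q - 1 ≤ 3 (r - 1)`
  have hcube : Fintype.card F - 1 ≤ 3 * (Rf.card - 1) := by
    have h0 : (0 : F) ∈ Rf := (hRf 0).mpr hR0
    have hU : (Finset.univ.erase (0 : F)).card = Fintype.card F - 1 := by
      rw [Finset.card_erase_of_mem (Finset.mem_univ _)]; rfl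
    have hRe : (Rf.erase 0).card = Rf.card - 1 := Finset.card_erase_of_mem h0
    rw [← hU, ← hRe]
    have himg : (Finset.univ.erase (0 : F)).image (fun x => x ^ 3) ⊆ Rf.erase 0 := by
      intro y hy
      obtain ⟨x, hx, rfl⟩ := Finset.mem_image.mp hy
      rw [Finset.mem_erase] at hx ⊢
      exact ⟨pow_ne_zero _ hx.1, (hRf _).mpr (hRcube x)⟩
    refine le_trans (Finset.card_le_mul_card_image _ 3 ?_) (Nat.mul_le_mul_left 3 (Finset.card_le_card himg))
    intro y _
    have hsub : ((Finset.univ.erase (0 : F)).filter fun x => x ^ 3 = y) ⊆ (Polynomial.nthRoots 3 y).toFinset := by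
      intro x hx
      rw [Finset.mem_filter] at hx
      rw [Multiset.mem_toFinset, Polynomial.mem_nthRoots (by norm_num)]
      exact hx.2
    exact le_trans (Finset.card_le_card hsub)
      (le_trans (Multiset.toFinset_card_le _) (Polynomial.card_nthRoots 3 y))
  have hr2 : 2 ≤ Rf.card := by
    have : ({0, 1} : Finset F) ⊆ Rf := by
      intro x hx
      simp only [Finset.mem_insert, Finset.mem_singleton] at hx
      rcases hx with rfl | rfl
      · exact (hRf 0).mpr hR0
      · exact (hRf 1).mpr hR1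
    calc 2 = ({0, 1} : Finset F).card := by
          rw [Finset.card_pair]; exact zero_ne_one
      _ ≤ Rf.card := Finset.card_le_card this
  -- arithmetic
  have hr : Rf.card ≤ 2 := by
    by_contra h
    rw [not_le] at h
    have h3 : 3 * Rf.card ≤ Rf.card * Rf.card := Nat.mul_le_mul_right _ h
    omega
  have hr' : Rf.card = 2 := le_antisymm hr hr2
  rw [hr'] at hsq hcube
  omega

end Cfsg.Agent.Lib.Helper71.RU2
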