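import Mathlib
import Cfsg.Agent.Lib.Helper07.SL2Sylow

set_option autoImplicit false

/-!
# Recognising the natural module of `SL₂(F)` (abstract root-pair part)

A "root pair" in a group `Γ` is a pair of additive one-parameter families `a, b : F → Γ`
satisfying the Weyl-element swap relations of `SL₂(F)`.  For a module `M` which is the
direct sum of the fixed points of `a` and of `b`, we prove the "quadratic action" facts.
-/

namespace Cfsg.Agent.Lib.Helper71.SL2Natural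

universe u v w

/-- a pair of opposite root subgroups, with the swap relations for the Weyl elements. -/
structure RootPair (F : Type u) (Γ : Type v) [Field F] [Group Γ] where
  a : F → Γ
  b : F → Γ
  a_add : ∀ s t, a (s + t) = a s * a t
  b_add : ∀ s t, b (s + t) = b s * b t
  swap_ab : ∀ t, t ≠ 0 → ∀ s, ∃ s', b s * (a t * b (-t⁻¹) * a t) = (a t * b (-t⁻¹) * a t) * a s'
  swap_aa : ∀ t, t ≠ 0 → ∀ s, ∃ s', a s * (a t * b (-t⁻¹) * a t) = (a t * b (-t⁻¹) * a t) * b s'
  swap_ba : ∀ t, t ≠ 0 → ∀ s, ∃ s', a s * (b t * a (-t⁻¹) * b t) = (b t * a (-t⁻¹) * b t) * b s'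
  swap_bb : ∀ t, t ≠ 0 → ∀ s, ∃ s', b s * (b t * a (-t⁻¹) * b t) = (b t * a (-t⁻¹) * b t) * a s'

variable {F : Type u} {Γ : Type v} [Field F] [Group Γ]

namespace RootPair

/-- the opposite root pair. -/
def swap (R : RootPair F Γ) : RootPair F Γ :=
  ⟨R.b, R.a, R.b_add, R.a_add, R.swap_ba, R.swap_bb, R.swap_ab, R.swap_aa⟩

@[simp] lemma swap_a (R : RootPair F Γ) : R.swap.a = R.b := rfl
@[simp] lemma swap_b (R : RootPair F Γ) : R.swap.b = R.a := rfl
@[simp] lemma swap_swap (R : RootPair F Γ) : R.swap.swap = R := rfl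

lemma a_zero (R : RootPair F Γ) : R.a 0 = 1 := by
  have h := R.a_add 0 0
  rw [add_zero] at h
  exact (mul_eq_left.mp h.symm)

lemma a_neg (R : RootPair F Γ) (t : F) : R.a (-t) = (R.a t)⁻¹ := by
  have h := R.a_add (-t) t
  rw [neg_add_cancel, R.a_zero] at h
  exact eq_inv_of_mul_eq_one_left h.symm

lemma a_comm (R : RootPair F Γ) (s t : F) : R.a s * R.a t = R.a t * R.a s := by
  rw [← R.a_add, ← R.a_add, add_comm]

/-- the Weyl element. -/
def W (R : RootPair F Γ) (t : F) : Γ := R.a t * R.b (-t⁻¹) * R.a t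

variable (M : Type w) [AddCommGroup M] [DistribMulAction Γ M]

/-- fixed points of the first root group. -/
def fixA (R : RootPair F Γ) : AddSubgroup M where
  carrier := {m | ∀ t, R.a t • m = m}
  zero_mem' := fun t => smul_zero _
  add_mem' := fun {x y} hx hy t => by rw [smul_add, hx t, hy t]
  neg_mem' := fun {x} hx t => by rw [smul_neg, hx t]

variable {M}

lemma mem_fixA {R : RootPair F Γ} {m : M} : m ∈ R.fixA M ↔ ∀ t, R.a t • m = m := Iff.rfl
lemma mem_fixB {R : RootPair F Γ} {m : M} : m ∈ R.swap.fixA M ↔ ∀ t, R.b t • m = m := Iff.rfl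

lemma W_mapsA (R : RootPair F Γ) {t : F} (ht : t ≠ 0) {x : M} (hx : x ∈ R.fixA M) :
    R.W t • x ∈ R.swap.fixA M := by
  intro s
  obtain ⟨s', hs'⟩ := R.swap_ab t ht s
  change R.b s • R.W t • x = R.W t • x
  rw [← mul_smul]
  unfold W
  rw [hs', mul_smul, hx s']

lemma W_mapsB (R : RootPair F Γ) {t : F} (ht : t ≠ 0) {y : M} (hy : y ∈ R.swap.fixA M) :
    R.W t • y ∈ R.fixA M := by
  intro s
  obtain ⟨s', hs'⟩ := R.swap_aa t ht s
  rw [← mul_smul]
  unfold W
  rw [hs', mul_smul, mem_fixB.mp hy s']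

variable (M) in
/-- the module is the direct sum of the two fixed-point subgroups. -/
structure Decomp (R : RootPair F Γ) : Prop where
  inter : ∀ m : M, m ∈ R.fixA M → m ∈ R.swap.fixA M → m = 0
  sum : ∀ m : M, ∃ x ∈ R.fixA M, ∃ y ∈ R.swap.fixA M, m = x + y

lemma Decomp.swap {R : RootPair F Γ} (h : R.Decomp M) : R.swap.Decomp M :=
  ⟨fun m h1 h2 => h.inter m h2 h1, fun m => by
    obtain ⟨x, hx, y, hy, rfl⟩ := h.sum m
    exact ⟨y, hy, x, hx, add_comm _ _⟩⟩

/-- if `z` and `a t • z` are both fixed by `b` (with `t ≠ 0`), then `z = 0`. -/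
lemma L3e {R : RootPair F Γ} (h : R.Decomp M) {z : M} (hz : z ∈ R.swap.fixA M) {t : F}
    (ht : t ≠ 0) (h2 : R.a t • z ∈ R.swap.fixA M) : z = 0 := by
  have hW : R.W t • z = R.a t • R.a t • z := by
    unfold W
    rw [mul_smul, mul_smul, mem_fixB.mp h2 (-t⁻¹)]
  have hA : R.a t • R.a t • z ∈ R.fixA M := hW ▸ R.W_mapsB ht hz
  have h1 : R.a (-t) • R.a (-t) • (R.a t • R.a t • z) = z := by
    rw [R.a_neg, inv_smul_smul, inv_smul_smul]
  have h3 : z = R.a t • R.a t • z := by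
    rw [hA (-t), hA (-t)] at h1
    exact h1.symm
  exact h.inter z (h3 ▸ hA) hz

/-- if `a t₀ • y - y` is fixed by `a` for one nonzero `t₀`, then for all `t`. -/
lemma L4e {R : RootPair F Γ} (h : R.Decomp M) {y : M} (hy : y ∈ R.swap.fixA M) {t₀ : F}
    (ht₀ : t₀ ≠ 0) (hx₀ : R.a t₀ • y - y ∈ R.fixA M) (t : F) : R.a t • y - y ∈ R.fixA M := by
  obtain ⟨x', hx', y', hy', e⟩ := h.sum (R.a t • y)
  have hz : y' - y ∈ R.swap.fixA M := sub_mem hy' hy
  have e1 : R.a t • y - y = x' + (y' - y) := by rw [e]; abel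
  have e2 : R.a t₀ • (R.a t • y - y) = R.a t • y - y := by
    have e3 : R.a t₀ • y = y + (R.a t₀ • y - y) := by abel
    rw [smul_sub, ← mul_smul, R.a_comm, mul_smul]
    rw [e3, smul_add, hx₀ t]
    abel
  have e4 : R.a t₀ • (y' - y) = y' - y := by
    rw [e1, smul_add, hx' t₀] at e2
    exact add_left_cancel e2
  have hz0 : y' - y = 0 := L3e h hz ht₀ (e4.symm ▸ hz)
  rw [e1, hz0, add_zero]
  exact hx'

/-- the key relation between the two commutator maps. -/
lemma L5e {R : RootPair F Γ} (h : R.Decomp M) {y : M} (hy : y ∈ R.swap.fixA M) {t : F}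
    (ht : t ≠ 0) (hx : R.a t • y - y ∈ R.fixA M) :
    R.b (-t⁻¹) • (R.a t • y - y) = (R.a t • y - y) - y ∧ R.W t • y = R.a t • y - y := by
  set x := R.a t • y - y with hxdef
  set c := R.b (-t⁻¹) with hc
  have hay : R.a t • y = y + x := by rw [hxdef]; abel
  have hWy : R.W t • y ∈ R.fixA M := R.W_mapsB ht hy
  have e1 : R.W t • y = R.a t • (y + c • x) := by
    unfold W
    rw [mul_smul, mul_smul, hay, smul_add c, mem_fixB.mp hy]
  have e2 : R.W t • y = y + c • x := by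
    have := hWy (-t)
    rw [e1, R.a_neg, inv_smul_smul] at this
    rw [e1]; exact this.symm
  have hδA : y + c • x - x ∈ R.fixA M := sub_mem (e2 ▸ hWy) hx
  have hWx : R.W t • x ∈ R.swap.fixA M := R.W_mapsA ht hx
  have hcx : c • x = x + (y + c • x - x) - y := by abel
  have e3 : R.W t • x = (y + c • x - x) - y := by
    unfold W
    rw [mul_smul, mul_smul, hx t, ← hc, hcx, smul_sub, smul_add, hx t, hδA t, hay]
    abel
  have hδB : y + c • x - x ∈ R.swap.fixA M := by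
    have := add_mem (e3 ▸ hWx) hy
    rwa [sub_add_cancel] at this
  have hδ : y + c • x - x = 0 := h.inter _ hδA hδB
  have hcx' : c • x = x - y := by
    have : c • x = (y + c • x - x) + x - y := by abel
    rw [this, hδ, zero_add]
  refine ⟨hcx', ?_⟩
  rw [e2, hcx']; abel

variable (M) in
/-- elements of `fixB` on which `a` acts quadratically. -/
def YB (R : RootPair F Γ) : AddSubgroup M where
  carrier := {y | y ∈ R.swap.fixA M ∧ ∀ t, R.a t • y - y ∈ R.fixA M}
  zero_mem' := ⟨zero_mem _, fun t => by rw [smul_zero, sub_zero]; exact zero_mem _⟩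
  add_mem' := fun {x y} hx hy => ⟨add_mem hx.1 hy.1, fun t => by
    have : R.a t • (x + y) - (x + y) = (R.a t • x - x) + (R.a t • y - y) := by
      rw [smul_add]; abel
    rw [this]; exact add_mem (hx.2 t) (hy.2 t)⟩
  neg_mem' := fun {x} hx => ⟨neg_mem hx.1, fun t => by
    have : R.a t • (-x) - (-x) = -(R.a t • x - x) := by
      rw [smul_neg]; abel
    rw [this]; exact neg_mem (hx.2 t)⟩

lemma mem_YB {R : RootPair F Γ} {y : M} :
    y ∈ R.YB M ↔ y ∈ R.swap.fixA M ∧ ∀ t, R.a t • y - y ∈ R.fixA M := Iff.rfl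

lemma L6 {R : RootPair F Γ} (h : R.Decomp M) {y : M} (hy : y ∈ R.YB M) (t : F) :
    R.a t • y - y ∈ R.swap.YB M := by
  by_cases ht : t = 0
  · rw [ht, R.a_zero, one_smul, sub_self]; exact zero_mem _
  refine ⟨hy.2 t, ?_⟩
  have h5 := (L5e h hy.1 ht (hy.2 t)).1
  have hne : -t⁻¹ ≠ 0 := neg_ne_zero.mpr (inv_ne_zero ht)
  refine L4e h.swap (R := R.swap) (y := R.a t • y - y) (hy.2 t) hne ?_
  change R.b (-t⁻¹) • (R.a t • y - y) - (R.a t • y - y) ∈ R.swap.fixA M
  rw [h5]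
  have : R.a t • y - y - y - (R.a t • y - y) = -y := by abel
  rw [this]; exact neg_mem hy.1

variable (M) in
/-- the action is quadratic on both fixed-point subgroups. -/
structure Quad (R : RootPair F Γ) : Prop where
  qa : ∀ y ∈ R.swap.fixA M, ∀ t, R.a t • y - y ∈ R.fixA M
  qb : ∀ x ∈ R.fixA M, ∀ s, R.b s • x - x ∈ R.swap.fixA M

lemma Quad.swap {R : RootPair F Γ} (h : R.Quad M) : R.swap.Quad M := ⟨h.qb, h.qa⟩

/-- the main "quadratic" theorem. -/
theorem quad_of_exists {R : RootPair F Γ} (h : R.Decomp M)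
    (hirr : ∀ N : AddSubgroup M, (∀ t, ∀ m ∈ N, R.a t • m ∈ N) → (∀ s, ∀ m ∈ N, R.b s • m ∈ N) →
      N = ⊥ ∨ N = ⊤)
    (hex : ∃ y ∈ R.YB M, y ≠ 0) : R.Quad M := by
  obtain ⟨y₀, hy₀, hy₀ne⟩ := hex
  set N : AddSubgroup M := R.swap.YB M ⊔ R.YB M with hN
  have hNa : ∀ t, ∀ m ∈ N, R.a t • m ∈ N := by
    intro t m hm
    obtain ⟨x, hx, y, hy, rfl⟩ := AddSubgroup.mem_sup.mp hm
    have : R.a t • (x + y) = (x + (R.a t • y - y)) + y := by
      have hx1 : x ∈ R.fixA M := hx.1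
      rw [smul_add, hx1 t]; abel
    rw [this]
    exact AddSubgroup.mem_sup.mpr ⟨_, add_mem hx (L6 h hy t), y, hy, rfl⟩
  have hNb : ∀ s, ∀ m ∈ N, R.b s • m ∈ N := by
    intro s m hm
    obtain ⟨x, hx, y, hy, rfl⟩ := AddSubgroup.mem_sup.mp hm
    have : R.b s • (x + y) = x + ((R.b s • x - x) + y) := by
      rw [smul_add, mem_fixB.mp hy.1 s]; abel
    rw [this]
    exact AddSubgroup.mem_sup.mpr ⟨x, hx, _, add_mem (L6 h.swap (R := R.swap) hx s) hy, rfl⟩
  have hNtop : N = ⊤ := by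
    rcases hirr N hNa hNb with h0 | h1
    · exfalso
      apply hy₀ne
      have : y₀ ∈ N := AddSubgroup.mem_sup_right hy₀
      rw [h0] at this
      exact (AddSubgroup.mem_bot).mp this
    · exact h1
  constructor
  · intro y hy t
    have hyN : y ∈ N := hNtop ▸ AddSubgroup.mem_top y
    obtain ⟨x₁, hx₁, y₁, hy₁, e⟩ := AddSubgroup.mem_sup.mp hyN
    have hx0 : x₁ = 0 := by
      apply h.inter x₁ hx₁.1
      have : x₁ = y - y₁ := by rw [← e]; abel
      rw [this]; exact sub_mem hy hy₁.1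
    rw [hx0, zero_add] at e
    exact (e ▸ hy₁).2 t
  · intro x hx s
    have hxN : x ∈ N := hNtop ▸ AddSubgroup.mem_top x
    obtain ⟨x₁, hx₁, y₁, hy₁, e⟩ := AddSubgroup.mem_sup.mp hxN
    have hy0 : y₁ = 0 := by
      apply h.inter y₁ _ hy₁.1
      have : y₁ = x - x₁ := by rw [← e]; abel
      rw [this]; exact sub_mem hx hx₁.1
    rw [hy0, add_zero] at e
    exact (e ▸ hx₁).2 s

/-- additivity of the commutator map in the parameter. -/
lemma phi_add {R : RootPair F Γ} (h : R.Quad M) {y : M} (hy : y ∈ R.swap.fixA M) (s t : F) :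
    R.a (s + t) • y - y = (R.a s • y - y) + (R.a t • y - y) := by
  have e3 : R.a t • y = y + (R.a t • y - y) := by abel
  rw [R.a_add, mul_smul]
  nth_rewrite 1 [e3]
  rw [smul_add, h.qa y hy t s]
  abel

/-- the Weyl element on `fixB`. -/
lemma W_smul_B {R : RootPair F Γ} (hd : R.Decomp M) (h : R.Quad M) {y : M}
    (hy : y ∈ R.swap.fixA M) {t : F} (ht : t ≠ 0) : R.W t • y = R.a t • y - y :=
  (L5e hd hy ht (h.qa y hy t)).2

/-- the Weyl element on `fixA`. -/
lemma W_smul_A {R : RootPair F Γ} (hd : R.Decomp M) (h : R.Quad M) {x : M}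
    (hx : x ∈ R.fixA M) {t : F} (ht : t ≠ 0) : R.W t • x = R.b (-t⁻¹) • x - x := by
  have hne : -t⁻¹ ≠ 0 := neg_ne_zero.mpr (inv_ne_zero ht)
  have h5 := (L5e hd.swap (R := R.swap) (y := x) hx hne (h.qb x hx _)).1
  have ht' : -(-t⁻¹)⁻¹ = t := by rw [inv_neg, inv_inv, neg_neg]
  change R.a (-(-t⁻¹)⁻¹) • (R.b (-t⁻¹) • x - x) = (R.b (-t⁻¹) • x - x) - x at h5
  rw [ht'] at h5
  have hcx : R.b (-t⁻¹) • x = x + (R.b (-t⁻¹) • x - x) := by abel
  unfold W
  rw [mul_smul, mul_smul, hx t]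
  nth_rewrite 1 [hcx]
  rw [smul_add, hx t, h5]
  abel

end RootPair

end Cfsg.Agent.Lib.Helper71.SL2Natural
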