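import Mathlib
import Cfsg.Agent.Lib.Helper07.SL2Sylow
import Cfsg.Agent.Lib.Helper71.SL2Natural

set_option autoImplicit false

/-!
# Recognising the natural module of `SL₂(F)` (concrete part)

From a quadratic decomposition `M = C_M(U) ⊕ C_M(U⁻)` of an irreducible module we construct an
equivariant additive isomorphism `F² ≃+ M`.
-/

namespace Cfsg.Agent.Lib.Helper71.SL2Natural

open Matrix Cfsg.Agent.Lib.Helper07

universe u w

variable {F : Type u} [Field F]

lemma upSL_add (s t : F) : upSL (s + t) = upSL s * upSL t :=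
  Subtype.ext (by simp [upT_add])

lemma loT_add (s t : F) : loT (s + t) = loT s * loT t := by
  ext i j; fin_cases i <;> fin_cases j <;> simp [loT, Matrix.mul_apply, Fin.sum_univ_two, add_comm]

lemma loSL_add (s t : F) : loSL (s + t) = loSL s * loSL t :=
  Subtype.ext (by simp [loT_add])

/-- the matrix of the Weyl element `u(t) l(-1/t) u(t)`. -/
lemma wmat_up {t : F} (ht : t ≠ 0) : upT t * loT (-t⁻¹) * upT t = !![0, t; -t⁻¹, 0] := by
  ext i j; fin_cases i <;> fin_cases j <;>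
    simp [upT, loT, Matrix.mul_apply, Fin.sum_univ_two, ht]

/-- the matrix of the Weyl element `l(t) u(-1/t) l(t)`. -/
lemma wmat_lo {t : F} (ht : t ≠ 0) : loT t * upT (-t⁻¹) * loT t = !![0, -t⁻¹; t, 0] := by
  ext i j; fin_cases i <;> fin_cases j <;>
    simp [upT, loT, Matrix.mul_apply, Fin.sum_univ_two, ht]

/-- the standard root pair of `SL₂(F)`. -/
def stdPair : RootPair F (SpecialLinearGroup (Fin 2) F) where
  a := upSL
  b := loSL
  a_add := upSL_add
  b_add := loSL_add
  swap_ab := fun t ht s => ⟨-(t ^ 2 * s), by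
    apply Subtype.ext
    simp only [Matrix.SpecialLinearGroup.coe_mul, upSL_val, loSL_val]
    rw [wmat_up ht]
    ext i j; fin_cases i <;> fin_cases j <;>
      simp [upT, loT, Matrix.mul_apply, Fin.sum_univ_two]
    field_simp⟩
  swap_aa := fun t ht s => ⟨-(s / t ^ 2), by
    apply Subtype.ext
    simp only [Matrix.SpecialLinearGroup.coe_mul, upSL_val, loSL_val]
    rw [wmat_up ht]
    ext i j; fin_cases i <;> fin_cases j <;>
      simp [upT, loT, Matrix.mul_apply, Fin.sum_univ_two]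
    field_simp⟩
  swap_ba := fun t ht s => ⟨-(t ^ 2 * s), by
    apply Subtype.ext
    simp only [Matrix.SpecialLinearGroup.coe_mul, upSL_val, loSL_val]
    rw [wmat_lo ht]
    ext i j; fin_cases i <;> fin_cases j <;>
      simp [upT, loT, Matrix.mul_apply, Fin.sum_univ_two]
    field_simp⟩
  swap_bb := fun t ht s => ⟨-(s / t ^ 2), by
    apply Subtype.ext
    simp only [Matrix.SpecialLinearGroup.coe_mul, upSL_val, loSL_val]
    rw [wmat_lo ht]
    ext i j; fin_cases i <;> fin_cases j <;>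
      simp [upT, loT, Matrix.mul_apply, Fin.sum_univ_two]
    field_simp⟩

@[simp] lemma stdPair_a (t : F) : (stdPair (F := F)).a t = upSL t := rfl
@[simp] lemma stdPair_b (t : F) : (stdPair (F := F)).b t = loSL t := rfl

lemma stdW_val {t : F} (ht : t ≠ 0) :
    ((stdPair (F := F)).W t).val = !![0, t; -t⁻¹, 0] := by
  unfold RootPair.W
  simp only [stdPair_a, stdPair_b, Matrix.SpecialLinearGroup.coe_mul, upSL_val, loSL_val]
  exact wmat_up ht

lemma stdW_I1 {t d : F} (ht : t ≠ 0) (hd : d ≠ 0) :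
    (stdPair (F := F)).W t * (stdPair (F := F)).W (-d⁻¹) =
      (stdPair (F := F)).W (t * d) * (stdPair (F := F)).W (-1) := by
  apply Subtype.ext
  simp only [Matrix.SpecialLinearGroup.coe_mul]
  rw [stdW_val ht, stdW_val (neg_ne_zero.mpr (inv_ne_zero hd)), stdW_val (mul_ne_zero ht hd),
    stdW_val (neg_ne_zero.mpr one_ne_zero)]
  ext i j; fin_cases i <;> fin_cases j <;>
    simp [Matrix.mul_apply, Fin.sum_univ_two]
  field_simp

lemma stdW_I2 {s c : F} (hs : s ≠ 0) (hc : c ≠ 0) :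
    (stdPair (F := F)).W (-s⁻¹) * (stdPair (F := F)).W c * (stdPair (F := F)).W (-1) =
      (stdPair (F := F)).W (-(s * c)⁻¹) := by
  apply Subtype.ext
  simp only [Matrix.SpecialLinearGroup.coe_mul]
  rw [stdW_val hc, stdW_val (neg_ne_zero.mpr (inv_ne_zero hs)),
    stdW_val (neg_ne_zero.mpr (inv_ne_zero (mul_ne_zero hs hc))),
    stdW_val (neg_ne_zero.mpr one_ne_zero)]
  ext i j; fin_cases i <;> fin_cases j <;>
    simp [Matrix.mul_apply, Fin.sum_univ_two]
  all_goals field_simp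

section concrete

variable {M : Type w} [AddCommGroup M] [DistribMulAction (SpecialLinearGroup (Fin 2) F) M]

/-- `c ↦ u(c) • y - y`. -/
def Pm (y : M) (c : F) : M := upSL c • y - y

/-- `d ↦ l(d) • x - x`. -/
def Qm (x : M) (d : F) : M := loSL d • x - x

lemma upSL_zero : upSL (0 : F) = 1 := (stdPair (F := F)).a_zero
lemma loSL_zero : loSL (0 : F) = 1 := (stdPair (F := F)).swap.a_zero

lemma Pm_zero (y : M) : Pm y (0 : F) = 0 := by
  unfold Pm; rw [upSL_zero, one_smul, sub_self]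

lemma Qm_zero (x : M) : Qm x (0 : F) = 0 := by
  unfold Qm; rw [loSL_zero, one_smul, sub_self]

lemma Qm_mem (hq : (stdPair (F := F)).Quad M) {x : M} (hx : x ∈ (stdPair (F := F)).fixA M)
    (d : F) : Qm x d ∈ (stdPair (F := F)).swap.fixA M := hq.qb x hx d

lemma Pm_mem (hq : (stdPair (F := F)).Quad M) {y : M} (hy : y ∈ (stdPair (F := F)).swap.fixA M)
    (c : F) : Pm y c ∈ (stdPair (F := F)).fixA M := hq.qa y hy c

lemma Pm_add (hq : (stdPair (F := F)).Quad M) {y : M} (hy : y ∈ (stdPair (F := F)).swap.fixA M)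
    (c c' : F) : Pm y (c + c') = Pm y c + Pm y c' := RootPair.phi_add hq hy c c'

lemma Qm_add (hq : (stdPair (F := F)).Quad M) {x : M} (hx : x ∈ (stdPair (F := F)).fixA M)
    (d d' : F) : Qm x (d + d') = Qm x d + Qm x d' :=
  RootPair.phi_add (R := (stdPair (F := F)).swap) hq.swap hx d d'

lemma Pm_eq_W (hd : (stdPair (F := F)).Decomp M) (hq : (stdPair (F := F)).Quad M) {y : M}
    (hy : y ∈ (stdPair (F := F)).swap.fixA M) {c : F} (hc : c ≠ 0) :
    Pm y c = (stdPair (F := F)).W c • y := (RootPair.W_smul_B hd hq hy hc).symm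

lemma Qm_eq_W (hd : (stdPair (F := F)).Decomp M) (hq : (stdPair (F := F)).Quad M) {x : M}
    (hx : x ∈ (stdPair (F := F)).fixA M) {d : F} (hd0 : d ≠ 0) :
    Qm x d = (stdPair (F := F)).W (-d⁻¹) • x := by
  have h := RootPair.W_smul_A hd hq hx (t := -d⁻¹) (neg_ne_zero.mpr (inv_ne_zero hd0))
  rw [h]
  have : -(-d⁻¹)⁻¹ = d := by rw [inv_neg, inv_inv, neg_neg]
  rw [this]
  rfl

lemma up_Qm (hd : (stdPair (F := F)).Decomp M) (hq : (stdPair (F := F)).Quad M) {x : M}
    (hx : x ∈ (stdPair (F := F)).fixA M) (t d : F) :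
    upSL t • Qm x d - Qm x d = Pm (Qm x (1 : F)) (t * d) := by
  by_cases ht : t = 0
  · subst ht; rw [zero_mul, Pm_zero, upSL_zero, one_smul, sub_self]
  by_cases hd0 : d = 0
  · subst hd0; rw [mul_zero, Pm_zero, Qm_zero, smul_zero, sub_zero]
  have h1 : upSL t • Qm x d - Qm x d = Pm (Qm x d) t := rfl
  rw [h1, Pm_eq_W hd hq (Qm_mem hq hx d) ht, Qm_eq_W hd hq hx hd0,
    Pm_eq_W hd hq (Qm_mem hq hx (1 : F)) (mul_ne_zero ht hd0), Qm_eq_W hd hq hx one_ne_zero,
    ← mul_smul, ← mul_smul, inv_one, stdW_I1 ht hd0]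

lemma lo_Pm (hd : (stdPair (F := F)).Decomp M) (hq : (stdPair (F := F)).Quad M) {x : M}
    (hx : x ∈ (stdPair (F := F)).fixA M) (s c : F) :
    loSL s • Pm (Qm x (1 : F)) c - Pm (Qm x (1 : F)) c = Qm x (s * c) := by
  by_cases hs : s = 0
  · subst hs; rw [zero_mul, Qm_zero, loSL_zero, one_smul, sub_self]
  by_cases hc : c = 0
  · subst hc; rw [mul_zero, Qm_zero, Pm_zero, smul_zero, sub_zero]
  have h1 : loSL s • Pm (Qm x (1 : F)) c - Pm (Qm x (1 : F)) c = Qm (Pm (Qm x (1 : F)) c) s := rfl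
  rw [h1, Qm_eq_W hd hq (Pm_mem hq (Qm_mem hq hx (1 : F)) c) hs, Pm_eq_W hd hq (Qm_mem hq hx (1 : F)) hc,
    Qm_eq_W hd hq hx one_ne_zero, Qm_eq_W hd hq hx (mul_ne_zero hs hc),
    ← mul_smul, ← mul_smul, inv_one, stdW_I2 hs hc]

/-- the candidate isomorphism `F² → M`. -/
def Theta (x : M) (v : Fin 2 → F) : M := Pm (Qm x (1 : F)) (v 0) + Qm x (v 1)

lemma Theta_add (hq : (stdPair (F := F)).Quad M) {x : M} (hx : x ∈ (stdPair (F := F)).fixA M)
    (v w : Fin 2 → F) : Theta x (v + w) = Theta x v + Theta x w := by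
  unfold Theta
  rw [Pi.add_apply, Pi.add_apply, Pm_add hq (Qm_mem hq hx (1 : F)), Qm_add hq hx]
  abel

lemma Theta_up (hd : (stdPair (F := F)).Decomp M) (hq : (stdPair (F := F)).Quad M) {x : M}
    (hx : x ∈ (stdPair (F := F)).fixA M) (t : F) (v : Fin 2 → F) :
    Theta x ((upT t).mulVec v) = upSL t • Theta x v := by
  have h0 : (upT t).mulVec v 0 = v 0 + t * v 1 := by
    simp [upT, Matrix.mulVec, dotProduct, Fin.sum_univ_two]
  have h1 : (upT t).mulVec v 1 = v 1 := by
    simp [upT, Matrix.mulVec, dotProduct, Fin.sum_univ_two]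
  unfold Theta
  have e1 : upSL t • Pm (Qm x (1 : F)) (v 0) = Pm (Qm x (1 : F)) (v 0) :=
    Pm_mem hq (Qm_mem hq hx (1 : F)) (v 0) t
  rw [h0, h1, Pm_add hq (Qm_mem hq hx (1 : F)), smul_add, e1,
    ← up_Qm hd hq hx t (v 1)]
  abel

lemma Theta_lo (hd : (stdPair (F := F)).Decomp M) (hq : (stdPair (F := F)).Quad M) {x : M}
    (hx : x ∈ (stdPair (F := F)).fixA M) (s : F) (v : Fin 2 → F) :
    Theta x ((loT s).mulVec v) = loSL s • Theta x v := by
  have h0 : (loT s).mulVec v 0 = v 0 := by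
    simp [loT, Matrix.mulVec, dotProduct, Fin.sum_univ_two]
  have h1 : (loT s).mulVec v 1 = s * v 0 + v 1 := by
    simp [loT, Matrix.mulVec, dotProduct, Fin.sum_univ_two]
  unfold Theta
  have e1 : loSL s • Qm x (v 1) = Qm x (v 1) :=
    RootPair.mem_fixB.mp (Qm_mem hq hx (v 1)) s
  rw [h0, h1, Qm_add hq hx, smul_add, e1,
    ← lo_Pm hd hq hx s (v 0)]
  abel

lemma Theta_eq_zero (hd : (stdPair (F := F)).Decomp M) (hq : (stdPair (F := F)).Quad M) {x : M}
    (hx : x ∈ (stdPair (F := F)).fixA M) (hne : x ≠ 0) {v : Fin 2 → F} (hv : Theta x v = 0) :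
    v = 0 := by
  unfold Theta at hv
  have hP : Pm (Qm x (1 : F)) (v 0) ∈ (stdPair (F := F)).fixA M :=
    Pm_mem hq (Qm_mem hq hx (1 : F)) (v 0)
  have hQ : Qm x (v 1) ∈ (stdPair (F := F)).swap.fixA M := Qm_mem hq hx (v 1)
  have hPQ : Pm (Qm x (1 : F)) (v 0) = -Qm x (v 1) := eq_neg_of_add_eq_zero_left hv
  have hP0 : Pm (Qm x (1 : F)) (v 0) = 0 := hd.inter _ hP (hPQ ▸ neg_mem hQ)
  have hQ0 : Qm x (v 1) = 0 := by rw [hP0, zero_add] at hv; exact hv
  have hy1 : Qm x (1 : F) ≠ 0 := by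
    rw [Qm_eq_W hd hq hx one_ne_zero]
    intro h
    exact hne ((smul_eq_zero_iff_eq _).mp h)
  have h0 : v 0 = 0 := by
    by_contra h
    rw [Pm_eq_W hd hq (Qm_mem hq hx (1 : F)) h] at hP0
    exact hy1 ((smul_eq_zero_iff_eq _).mp hP0)
  have h1 : v 1 = 0 := by
    by_contra h
    rw [Qm_eq_W hd hq hx h] at hQ0
    exact hne ((smul_eq_zero_iff_eq _).mp hQ0)
  funext i
  fin_cases i
  · exact h0
  · exact h1

/-- equivariance of `Theta` under all of `SL₂(F)`. -/
lemma Theta_equivariant (hd : (stdPair (F := F)).Decomp M) (hq : (stdPair (F := F)).Quad M)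
    {x : M} (hx : x ∈ (stdPair (F := F)).fixA M) (g : SpecialLinearGroup (Fin 2) F)
    (v : Fin 2 → F) : Theta x (g.val.mulVec v) = g • Theta x v := by
  let H : Subgroup (SpecialLinearGroup (Fin 2) F) :=
    { carrier := {g | ∀ v : Fin 2 → F, Theta x (g.val.mulVec v) = g • Theta x v}
      one_mem' := fun v => by
        rw [Matrix.SpecialLinearGroup.coe_one, Matrix.one_mulVec, one_smul]
      mul_mem' := fun {g h} hg hh v => by
        rw [Matrix.SpecialLinearGroup.coe_mul, ← Matrix.mulVec_mulVec, hg, hh, mul_smul]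
      inv_mem' := fun {g} hg v => by
        rw [eq_inv_smul_iff, ← hg, Matrix.mulVec_mulVec, ← Matrix.SpecialLinearGroup.coe_mul,
          mul_inv_cancel, Matrix.SpecialLinearGroup.coe_one, Matrix.one_mulVec] }
  have hH : H = ⊤ := by
    apply eq_top_of_transvection_mem
    intro i j hij c
    fin_cases i <;> fin_cases j
    · exact absurd rfl hij
    · rw [show SpecialLinearGroup.transvection hij c = upSL c from transvection_zero_one c]
      exact fun v => Theta_up hd hq hx c v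
    · rw [show SpecialLinearGroup.transvection hij c = loSL c from transvection_one_zero c]
      exact fun v => Theta_lo hd hq hx c v
    · exact absurd rfl hij
  have : g ∈ H := hH ▸ Subgroup.mem_top g
  exact this v

/-- **Recognition of the natural module** from a quadratic decomposition. -/
theorem natural_of_quad (hd : (stdPair (F := F)).Decomp M) (hq : (stdPair (F := F)).Quad M)
    (hirr : ∀ N : AddSubgroup M, (∀ g : SpecialLinearGroup (Fin 2) F, ∀ m ∈ N, g • m ∈ N) →
      N = ⊥ ∨ N = ⊤)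
    {x : M} (hx : x ∈ (stdPair (F := F)).fixA M) (hne : x ≠ 0) :
    ∃ Θ : (Fin 2 → F) ≃+ M, ∀ (g : SpecialLinearGroup (Fin 2) F) (v : Fin 2 → F),
      Θ (g.val.mulVec v) = g • Θ v := by
  let Θh : (Fin 2 → F) →+ M := AddMonoidHom.mk' (Theta x) (Theta_add hq hx)
  have hΘh : ∀ v, Θh v = Theta x v := fun _ => rfl
  have hinj : Function.Injective Θh := by
    rw [injective_iff_map_eq_zero]
    intro v hv
    exact Theta_eq_zero hd hq hx hne hv
  have hsurj : Function.Surjective Θh := by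
    rw [← AddMonoidHom.range_eq_top]
    rcases hirr Θh.range (by
      rintro g m ⟨v, rfl⟩
      exact ⟨g.val.mulVec v, by rw [hΘh, hΘh, Theta_equivariant hd hq hx]⟩) with h0 | h1
    · exfalso
      have h1 : Θh ![1, 0] ∈ Θh.range := ⟨_, rfl⟩
      rw [h0, AddSubgroup.mem_bot] at h1
      have := Theta_eq_zero hd hq hx hne h1
      have h2 := congrFun this 0
      simp at h2
    · exact h1
  refine ⟨AddEquiv.ofBijective Θh ⟨hinj, hsurj⟩, fun g v => ?_⟩
  exact Theta_equivariant hd hq hx g v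

end concrete

end Cfsg.Agent.Lib.Helper71.SL2Natural
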