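import Mathlib
import Cfsg.Agent.Lib.Helper07.SL2Sylow
import Cfsg.Agent.Lib.Helper71.SL2Natural
import Cfsg.Agent.Lib.Helper71.SL2NaturalB

set_option autoImplicit false

/-!
# Recognising the natural module of `SL₂(F)` (module-theoretic criterion)

An irreducible nontrivial `SL₂(F)`-module `M` (an elementary abelian `p`-group, `p = char F`) on
which the upper unitriangular group `U` acts quadratically, or which satisfies `|M| ≤ |C_M(U)|²`,
is the natural module.
-/

namespace Cfsg.Agent.Lib.Helper71.SL2Natural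

open Matrix Cfsg.Agent.Lib.Helper07

universe u w

/-- a `p`-group acting on a finite abelian `p`-group and stabilising a proper subgroup `N` has a
fixed point in `M/N` outside `N`. -/
theorem exists_not_mem_smul_sub_mem {P : Type*} [Group P] {p : ℕ} [Fact p.Prime]
    (hP : IsPGroup p P) {M : Type*} [AddCommGroup M] [Finite M] [DistribMulAction P M]
    (hp : ∀ m : M, p • m = 0) (N : AddSubgroup M) (hN : ∀ (g : P), ∀ m ∈ N, g • m ∈ N)
    (hNtop : N ≠ ⊤) : ∃ m, m ∉ N ∧ ∀ g : P, g • m - m ∈ N := by
  have hcomap : ∀ g : P, N ≤ AddSubgroup.comap (DistribSMul.toAddMonoidHom M g) N :=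
    fun g m hm => hN g m hm
  let act : MulAction P (M ⧸ N) :=
    { smul := fun g => QuotientAddGroup.map N N (DistribSMul.toAddMonoidHom M g) (hcomap g)
      one_smul := by
        intro q
        induction q using QuotientAddGroup.induction_on with
        | H m => exact congrArg (QuotientAddGroup.mk : M → M ⧸ N) (one_smul P m)
      mul_smul := by
        intro g h q
        induction q using QuotientAddGroup.induction_on with
        | H m => exact congrArg (QuotientAddGroup.mk : M → M ⧸ N) (mul_smul g h m) }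
  have hsm : ∀ (g : P) (m : M), g • (QuotientAddGroup.mk m : M ⧸ N) =
      QuotientAddGroup.mk (g • m) := fun g m => rfl
  have hMp : IsPGroup p (Multiplicative M) := by
    intro g
    refine ⟨1, ?_⟩
    rw [pow_one]
    exact congrArg Multiplicative.ofAdd (hp (Multiplicative.toAdd g))
  obtain ⟨n, hn⟩ := IsPGroup.iff_card.mp hMp
  have hn' : Nat.card M = p ^ n := by
    rw [← hn]; exact Nat.card_congr Multiplicative.ofAdd
  have hdvd0 : Nat.card (M ⧸ N) ∣ p ^ n := hn' ▸ AddSubgroup.card_quotient_dvd_card N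
  have hne1 : Nat.card (M ⧸ N) ≠ 1 := by
    rw [← AddSubgroup.index_eq_card]
    intro h
    exact hNtop (AddSubgroup.index_eq_one.mp h)
  have hdvd : p ∣ Nat.card (M ⧸ N) := by
    obtain ⟨j, -, hj⟩ := (Nat.dvd_prime_pow Fact.out).mp hdvd0
    rw [hj] at hne1 ⊢
    rcases Nat.eq_zero_or_pos j with h0 | hpos
    · rw [h0, pow_zero] at hne1; exact absurd rfl hne1
    · exact dvd_pow_self p hpos.ne'
  have h0 : (0 : M ⧸ N) ∈ MulAction.fixedPoints P (M ⧸ N) := by
    intro g
    have : (0 : M ⧸ N) = QuotientAddGroup.mk (0 : M) := rfl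
    rw [this, hsm, smul_zero]
  obtain ⟨b, hb, hb0⟩ := hP.exists_fixed_point_of_prime_dvd_card_of_fixed_point (M ⧸ N) hdvd h0
  induction b using QuotientAddGroup.induction_on with
  | H m =>
    refine ⟨m, ?_, fun g => ?_⟩
    · intro hm
      apply hb0
      exact ((QuotientAddGroup.eq_zero_iff m).mpr hm).symm
    · have := hb g
      rw [hsm, QuotientAddGroup.eq] at this
      have e : g • m - m = -(-(g • m) + m) := by abel
      rw [e]
      exact neg_mem this

section mid

variable {F : Type u} [Field F] {M : Type w} [AddCommGroup M]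
  [DistribMulAction (SpecialLinearGroup (Fin 2) F) M]

lemma mem_fixA_std {m : M} :
    m ∈ (stdPair (F := F)).fixA M ↔ ∀ t : F, upSL t • m = m := Iff.rfl

lemma mem_fixB_std {m : M} :
    m ∈ (stdPair (F := F)).swap.fixA M ↔ ∀ t : F, loSL t • m = m := Iff.rfl

lemma upSL_inv (c : F) : (upSL c)⁻¹ = upSL (-c) := ((stdPair (F := F)).a_neg c).symm

lemma loSL_inv (c : F) : (loSL c)⁻¹ = loSL (-c) := ((stdPair (F := F)).swap.a_neg c).symm

/-- invariance under the two root groups gives invariance under the whole group. -/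
lemma invariant_of_root_invariant (N : AddSubgroup M)
    (ha : ∀ t : F, ∀ m ∈ N, upSL t • m ∈ N) (hb : ∀ s : F, ∀ m ∈ N, loSL s • m ∈ N)
    (g : SpecialLinearGroup (Fin 2) F) : ∀ m ∈ N, g • m ∈ N := by
  let H : Subgroup (SpecialLinearGroup (Fin 2) F) :=
    { carrier := {g | (∀ m ∈ N, g • m ∈ N) ∧ (∀ m ∈ N, g⁻¹ • m ∈ N)}
      one_mem' := ⟨fun m hm => by rwa [one_smul], fun m hm => by rwa [inv_one, one_smul]⟩
      mul_mem' := fun {g h} hg hh => ⟨fun m hm => by rw [mul_smul]; exact hg.1 _ (hh.1 m hm),
        fun m hm => by rw [_root_.mul_inv_rev, mul_smul]; exact hh.2 _ (hg.2 m hm)⟩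
      inv_mem' := fun {g} hg => ⟨hg.2, by rw [inv_inv]; exact hg.1⟩ }
  have hH : H = ⊤ := by
    apply eq_top_of_transvection_mem
    intro i j hij c
    fin_cases i <;> fin_cases j
    · exact absurd rfl hij
    · rw [show SpecialLinearGroup.transvection hij c = upSL c from transvection_zero_one c]
      refine ⟨ha c, ?_⟩
      rw [upSL_inv]
      exact ha (-c)
    · rw [show SpecialLinearGroup.transvection hij c = loSL c from transvection_one_zero c]
      refine ⟨hb c, ?_⟩
      rw [loSL_inv]
      exact hb (-c)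
    · exact absurd rfl hij
  exact ((hH ▸ Subgroup.mem_top g : g ∈ H)).1

/-- **Recognition theorem**: an irreducible nontrivial `SL₂(F)`-module in characteristic `p` on
which `U` acts quadratically, or with `|M| ≤ |C_M(U)|²`, is the natural module. -/
theorem natural_of_irreducible {p : ℕ} [Fact p.Prime] [Fintype F] [CharP F p] [Finite M]
    (hirr : ∀ N : AddSubgroup M, (∀ g : SpecialLinearGroup (Fin 2) F, ∀ m ∈ N, g • m ∈ N) →
      N = ⊥ ∨ N = ⊤)
    (hnt : ∃ (g : SpecialLinearGroup (Fin 2) F) (m : M), g • m ≠ m)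
    (hp : ∀ m : M, p • m = 0)
    (hyp : (∀ (m : M) (t : F), upSL t • m - m ∈ (stdPair (F := F)).fixA M) ∨
      Nat.card M ≤ Nat.card ((stdPair (F := F)).fixA M) ^ 2) :
    ∃ Θ : (Fin 2 → F) ≃+ M, ∀ (g : SpecialLinearGroup (Fin 2) F) (v : Fin 2 → F),
      Θ (g.val.mulVec v) = g • Θ v := by
  classical
  have hirr' : ∀ N : AddSubgroup M, (∀ t, ∀ m ∈ N, (stdPair (F := F)).a t • m ∈ N) →
      (∀ s, ∀ m ∈ N, (stdPair (F := F)).b s • m ∈ N) → N = ⊥ ∨ N = ⊤ :=
    fun N ha hb => hirr N (invariant_of_root_invariant N ha hb)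
  obtain ⟨g₀, m₀, hgm⟩ := hnt
  have h1 : (1 : F) ≠ 0 := one_ne_zero
  -- the two fixed point subgroups meet trivially
  have hinter : ∀ m : M, m ∈ (stdPair (F := F)).fixA M → m ∈ (stdPair (F := F)).swap.fixA M →
      m = 0 := by
    intro m hA hB
    let C : AddSubgroup M :=
      { carrier := {m | ∀ g : SpecialLinearGroup (Fin 2) F, g • m = m}
        zero_mem' := fun g => smul_zero g
        add_mem' := fun {x y} hx hy g => by rw [smul_add, hx g, hy g]
        neg_mem' := fun {x} hx g => by rw [smul_neg, hx g] }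
    have hC : C = ⊥ := by
      rcases hirr C (fun g m hm h => by rw [hm g]; exact hm h) with h0 | h1
      · exact h0
      · exfalso
        apply hgm
        have : m₀ ∈ C := h1 ▸ AddSubgroup.mem_top m₀
        exact this g₀
    have hm : m ∈ C := by
      intro g
      have hst : MulAction.stabilizer (SpecialLinearGroup (Fin 2) F) m = ⊤ := by
        apply eq_top_of_transvection_mem
        intro i j hij c
        fin_cases i <;> fin_cases j
        · exact absurd rfl hij
        · rw [show SpecialLinearGroup.transvection hij c = upSL c from transvection_zero_one c]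
          exact hA c
        · rw [show SpecialLinearGroup.transvection hij c = loSL c from transvection_one_zero c]
          exact hB c
        · exact absurd rfl hij
      exact MulAction.mem_stabilizer_iff.mp (hst ▸ Subgroup.mem_top g)
    rw [hC] at hm
    exact AddSubgroup.mem_bot.mp hm
  rcases hyp with hQ | hcard
  · -- quadratic case
    have hQ' : ∀ (m : M) (s : F), loSL s • m - m ∈ (stdPair (F := F)).swap.fixA M := by
      intro m s
      obtain ⟨s', hs'⟩ := (stdPair (F := F)).swap_ab 1 h1 s
      have hW : loSL s * (stdPair (F := F)).W 1 = (stdPair (F := F)).W 1 * upSL s' := hs'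
      have e : loSL s • m - m = (stdPair (F := F)).W 1 •
          (upSL s' • (((stdPair (F := F)).W 1)⁻¹ • m) - ((stdPair (F := F)).W 1)⁻¹ • m) := by
        rw [smul_sub, smul_inv_smul, ← mul_smul, ← hW, mul_smul, smul_inv_smul]
      rw [e]
      exact (stdPair (F := F)).W_mapsA h1 (hQ _ _)
    have hAne : (stdPair (F := F)).fixA M ≠ ⊥ := by
      intro h0
      apply hgm
      have hall : ∀ m : M, m = 0 := by
        intro m
        have hm : m ∈ (stdPair (F := F)).fixA M := by
          intro t
          have := hQ m t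
          rw [h0, AddSubgroup.mem_bot, sub_eq_zero] at this
          exact this
        rw [h0] at hm
        exact AddSubgroup.mem_bot.mp hm
      rw [hall m₀, smul_zero]
    have hNa : ∀ t, ∀ m ∈ (stdPair (F := F)).fixA M ⊔ (stdPair (F := F)).swap.fixA M,
        (stdPair (F := F)).a t • m ∈ (stdPair (F := F)).fixA M ⊔ (stdPair (F := F)).swap.fixA M := by
      intro t m hm
      obtain ⟨x, hx, y, hy, rfl⟩ := AddSubgroup.mem_sup.mp hm
      have : (stdPair (F := F)).a t • (x + y) = (x + (upSL t • y - y)) + y := by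
        change upSL t • (x + y) = _
        rw [smul_add, mem_fixA_std.mp hx t]; abel
      rw [this]
      exact AddSubgroup.mem_sup.mpr ⟨_, add_mem hx (hQ y t), y, hy, rfl⟩
    have hNb : ∀ s, ∀ m ∈ (stdPair (F := F)).fixA M ⊔ (stdPair (F := F)).swap.fixA M,
        (stdPair (F := F)).b s • m ∈ (stdPair (F := F)).fixA M ⊔ (stdPair (F := F)).swap.fixA M := by
      intro s m hm
      obtain ⟨x, hx, y, hy, rfl⟩ := AddSubgroup.mem_sup.mp hm
      have : (stdPair (F := F)).b s • (x + y) = x + ((loSL s • x - x) + y) := by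
        change loSL s • (x + y) = _
        rw [smul_add, mem_fixB_std.mp hy s]; abel
      rw [this]
      exact AddSubgroup.mem_sup.mpr ⟨x, hx, _, add_mem (hQ' x s) hy, rfl⟩
    have hNtop : (stdPair (F := F)).fixA M ⊔ (stdPair (F := F)).swap.fixA M = ⊤ := by
      rcases hirr' _ hNa hNb with h0 | h1
      · exfalso
        apply hAne
        rw [eq_bot_iff, ← h0]
        exact le_sup_left
      · exact h1
    have hd : (stdPair (F := F)).Decomp M := ⟨hinter, fun m => by
      have : m ∈ (stdPair (F := F)).fixA M ⊔ (stdPair (F := F)).swap.fixA M :=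
        hNtop ▸ AddSubgroup.mem_top m
      obtain ⟨x, hx, y, hy, e⟩ := AddSubgroup.mem_sup.mp this
      exact ⟨x, hx, y, hy, e.symm⟩⟩
    have hq : (stdPair (F := F)).Quad M := ⟨fun y _ t => hQ y t, fun x _ s => hQ' x s⟩
    obtain ⟨x, hx, hxne⟩ : ∃ x ∈ (stdPair (F := F)).fixA M, x ≠ 0 := by
      by_contra hcon
      push Not at hcon
      exact hAne ((AddSubgroup.eq_bot_iff_forall _).mpr hcon)
    exact natural_of_quad hd hq hirr hx hxne
  · -- small case
    have hcardAB : Nat.card ((stdPair (F := F)).fixA M) ≤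
        Nat.card ((stdPair (F := F)).swap.fixA M) := by
      apply Nat.card_le_card_of_injective (fun x : (stdPair (F := F)).fixA M =>
        (⟨(stdPair (F := F)).W 1 • x.1, (stdPair (F := F)).W_mapsA h1 x.2⟩ :
          (stdPair (F := F)).swap.fixA M))
      intro x y hxy
      have := congrArg Subtype.val hxy
      exact Subtype.ext (MulAction.injective _ this)
    have hsum : ∀ m : M, ∃ x ∈ (stdPair (F := F)).fixA M,
        ∃ y ∈ (stdPair (F := F)).swap.fixA M, m = x + y := by
      let f : (stdPair (F := F)).fixA M × (stdPair (F := F)).swap.fixA M → M :=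
        fun q => q.1.1 + q.2.1
      have hf : Function.Injective f := by
        rintro ⟨x, y⟩ ⟨x', y'⟩ h
        have h' : x.1 + y.1 = x'.1 + y'.1 := h
        have e : x.1 - x'.1 = y'.1 - y.1 := by
          rw [sub_eq_sub_iff_add_eq_add, h', add_comm]
        have h0 : x.1 - x'.1 = 0 := hinter _ (sub_mem x.2 x'.2) (e ▸ sub_mem y'.2 y.2)
        have h0' : y'.1 - y.1 = 0 := e ▸ h0
        exact Prod.ext (Subtype.ext (sub_eq_zero.mp h0)) (Subtype.ext (sub_eq_zero.mp h0').symm)
      have hc : Nat.card M ≤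
          Nat.card ((stdPair (F := F)).fixA M × (stdPair (F := F)).swap.fixA M) := by
        rw [Nat.card_prod]
        calc Nat.card M ≤ Nat.card ((stdPair (F := F)).fixA M) ^ 2 := hcard
          _ = Nat.card ((stdPair (F := F)).fixA M) * Nat.card ((stdPair (F := F)).fixA M) := sq _
          _ ≤ _ := Nat.mul_le_mul_left _ hcardAB
      have hbij := hf.bijective_of_nat_card_le hc
      intro m
      obtain ⟨⟨x, y⟩, rfl⟩ := hbij.2 m
      exact ⟨x.1, x.2, y.1, y.2, rfl⟩
    have hd : (stdPair (F := F)).Decomp M := ⟨hinter, hsum⟩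
    have hMnt : Nontrivial M := ⟨⟨g₀ • m₀, m₀, hgm⟩⟩
    obtain ⟨x, hx, hxne⟩ : ∃ x ∈ (stdPair (F := F)).fixA M, x ≠ 0 := by
      by_contra hcon
      push Not at hcon
      have : Nat.card ((stdPair (F := F)).fixA M) = 1 := by
        rw [Nat.card_eq_one_iff_unique]
        exact ⟨⟨fun a b => Subtype.ext ((hcon a.1 a.2).trans (hcon b.1 b.2).symm)⟩, ⟨0⟩⟩
      rw [this, one_pow] at hcard
      have h2 : 1 < Nat.card M := Finite.one_lt_card
      omega
    have hAtop : (stdPair (F := F)).fixA M ≠ ⊤ := by
      intro htop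
      have hWx : (stdPair (F := F)).W 1 • x ∈ (stdPair (F := F)).swap.fixA M :=
        (stdPair (F := F)).W_mapsA h1 hx
      have : (stdPair (F := F)).W 1 • x = 0 := hinter _ (htop ▸ AddSubgroup.mem_top _) hWx
      exact hxne ((smul_eq_zero_iff_eq _).mp this)
    obtain ⟨m, hmA, hm⟩ := exists_not_mem_smul_sub_mem (isPGroup_USL (F := F) p) hp
      ((stdPair (F := F)).fixA M) (by
        rintro ⟨g, hg⟩ m hm
        obtain ⟨t, rfl⟩ := mem_USL.mp hg
        rw [Subgroup.smul_def]
        change upSL t • m ∈ _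
        rw [mem_fixA_std.mp hm t]; exact hm) hAtop
    obtain ⟨x', hx', y', hy', e⟩ := hsum m
    have hy'ne : y' ≠ 0 := by
      rintro rfl
      rw [add_zero] at e
      exact hmA (e ▸ hx')
    have hYB : y' ∈ (stdPair (F := F)).YB M := by
      refine ⟨hy', fun t => ?_⟩
      have h3 := hm ⟨upSL t, upSL_mem t⟩
      rw [Subgroup.smul_def] at h3
      have e2 : upSL t • y' - y' = upSL t • m - m := by
        rw [e, smul_add, mem_fixA_std.mp hx' t]; abel
      change upSL t • y' - y' ∈ _
      rw [e2]; exact h3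
    have hq := RootPair.quad_of_exists hd hirr' ⟨y', hYB, hy'ne⟩
    exact natural_of_quad hd hq hirr hx hxne

end mid

end Cfsg.Agent.Lib.Helper71.SL2Natural
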