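import Mathlib
import Cfsg.Agent.Lib.Helper72.SNCDefs

set_option autoImplicit false

/-! # K-SNC leaf 8 (S4073 converse): CA-group with an abelian normal subgroup of prime index is NNT -/

namespace Cfsg.Agent.Lib.Helper71.SNC

open Cfsg.Agent.Lib.Helper72.SNC

universe u v

/-- a subgroup above `V` (index dividing a prime) containing an element outside `V` is everything -/
theorem snc8_top {K : Type u} [Group K] [Finite K] (V H : Subgroup K) (r : ℕ) (hr : r.Prime)
    (hidx : V.index ∣ r) (hVH : V ≤ H) (t : K) (htH : t ∈ H) (htV : t ∉ V) : H = ⊤ := by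
  have h1 : V.relIndex H * H.index = V.index := Subgroup.relIndex_mul_index hVH
  have h2 : V.relIndex H ≠ 1 := by
    intro h
    exact htV (Subgroup.relIndex_eq_one.mp h htH)
  have h3 : V.relIndex H * H.index ∣ r := h1 ▸ hidx
  have h4 : V.relIndex H ∣ r := dvd_trans (Dvd.intro _ rfl) h3
  have h5 : V.relIndex H = r := by
    rcases (Nat.dvd_prime hr).mp h4 with h | h
    · exact absurd h h2
    · exact h
  rw [h5] at h3
  have h6 : H.index = 1 := by
    have hpos : 0 < r := hr.pos
    have : r * H.index ∣ r * 1 := by rwa [mul_one]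
    exact Nat.dvd_one.mp (Nat.dvd_of_mul_dvd_mul_left hpos this)
  exact Subgroup.index_eq_one.mp h6

theorem nnt_of_abelian_normal_prime_index {K : Type u} [Group K] [Finite K]
    (hCT : ∀ a b c : K, a ≠ 1 → a * b = b * a → a * c = c * a → b * c = c * b)
    (V : Subgroup K) [V.Normal] (hV : IsMulCommutative ↥V) (r : ℕ) (hr : r.Prime) (hidx : V.index ∣ r) :
    NNT K := by
  classical
  intro N hNn hNc
  have hVc : ∀ a ∈ V, ∀ b ∈ V, a * b = b * a := by
    intro a ha b hb
    have := hV.is_comm.comm (⟨a, ha⟩ : V) ⟨b, hb⟩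
    exact congrArg Subtype.val this
  -- N is not inside V
  have hNV : ¬ N ≤ V := by
    intro h
    apply hNc
    exact ⟨⟨fun a b => Subtype.ext (hVc a (h a.2) b (h b.2))⟩⟩
  obtain ⟨t, htN, htV⟩ := SetLike.not_le_iff_exists.mp hNV
  -- no nonidentity element of V commutes with t
  have hfree : ∀ v ∈ V, v * t = t * v → v = 1 := by
    intro v hv hvt
    by_contra hv1
    -- C(v) = ⊤
    have hC : Subgroup.centralizer ({v} : Set K) = ⊤ := by
      apply snc8_top V _ r hr hidx ?_ t ?_ htV
      · intro w hw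
        rw [Subgroup.mem_centralizer_iff]
        intro x hx
        rw [Set.mem_singleton_iff] at hx
        subst hx
        exact hVc x hv w hw
      · rw [Subgroup.mem_centralizer_iff]
        intro x hx
        rw [Set.mem_singleton_iff] at hx
        subst hx
        exact hvt
    have hall : ∀ g : K, v * g = g * v := by
      intro g
      have : g ∈ Subgroup.centralizer ({v} : Set K) := by rw [hC]; exact Subgroup.mem_top g
      exact Subgroup.mem_centralizer_iff.mp this v (Set.mem_singleton v)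
    apply hNc
    exact ⟨⟨fun a b => Subtype.ext (hCT v a b hv1 (hall a) (hall b))⟩⟩
  -- the injective map V → N ⊓ V
  have hmap : ∀ v ∈ V, v * t * v⁻¹ * t⁻¹ ∈ N ⊓ V := by
    intro v hv
    refine Subgroup.mem_inf.mpr ⟨?_, ?_⟩
    · exact mul_mem (hNn.conj_mem t htN v) (inv_mem htN)
    · have h1 : t * v⁻¹ * t⁻¹ ∈ V := Subgroup.Normal.conj_mem inferInstance v⁻¹ (inv_mem hv) t
      have h2 : v * t * v⁻¹ * t⁻¹ = v * (t * v⁻¹ * t⁻¹) := by group
      rw [h2]
      exact mul_mem hv h1
  have hinj : Function.Injective (fun v : V => (⟨v * t * (v : K)⁻¹ * t⁻¹, hmap v v.2⟩ : (N ⊓ V : Subgroup K))) := by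
    intro v w hvw
    have h1 : (v : K) * t * (v : K)⁻¹ * t⁻¹ = (w : K) * t * (w : K)⁻¹ * t⁻¹ := congrArg Subtype.val hvw
    have h2 : ((w : K)⁻¹ * v) * t = t * ((w : K)⁻¹ * v) := by
      have h3 : (v : K) * t * (v : K)⁻¹ = (w : K) * t * (w : K)⁻¹ := mul_right_cancel h1
      calc ((w : K)⁻¹ * v) * t = (w : K)⁻¹ * ((v : K) * t * (v : K)⁻¹) * v := by group
        _ = (w : K)⁻¹ * ((w : K) * t * (w : K)⁻¹) * v := by rw [h3]
        _ = t * ((w : K)⁻¹ * v) := by group
    have h4 := hfree _ (mul_mem (inv_mem w.2) v.2) h2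
    apply Subtype.ext
    have : (v : K) = (w : K) * ((w : K)⁻¹ * v) := by group
    rw [this, h4, mul_one]
  have hcard : Nat.card V ≤ Nat.card (N ⊓ V : Subgroup K) := Nat.card_le_card_of_injective _ hinj
  have hVN : V ≤ N := by
    have : (N ⊓ V : Subgroup K) = V := Subgroup.eq_of_le_of_card_ge inf_le_right hcard
    rw [← this]
    exact inf_le_left
  exact snc8_top V N r hr hidx hVN t htN htV

end Cfsg.Agent.Lib.Helper71.SNC
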