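import Mathlib
import Cfsg.Prelude.Def_KGroupFacts
import Cfsg.Agent.Lib.Helper70.SchurPres

set_option autoImplicit false
set_option linter.style.haveILetI false

namespace Cfsg.Agent.Lib.Helper71

open Subgroup Cfsg.Agent.Lib.Helper70
open scoped commutatorElement

universe u v w

section Central

variable {Q : Type u} [Group Q] {X : Type w} {p : X → Q}

/-- for a central extension `τ` of `Q` and a lift `φ` of the presentation group, the commutator
subgroup of the extension is the image of the commutator subgroup of `PresH p` -/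
theorem commutator_le_map_of_central (hp : Function.Surjective p) {Δ : Type v} [Group Δ]
    (τ : Δ →* Q) (hτc : τ.ker ≤ center Δ) (φ : PresH p →* Δ) (hφ : τ.comp φ = presπ p) :
    commutator Δ ≤ (commutator (PresH p)).map φ := by
  have hφ' : ∀ h, τ (φ h) = presπ p h := fun h => DFunLike.congr_fun hφ h
  have hdecomp : ∀ δ : Δ, ∃ h : PresH p, δ * (φ h)⁻¹ ∈ τ.ker := by
    intro δ
    obtain ⟨h, hh⟩ := presπ_surjective p hp (τ δ)
    refine ⟨h, ?_⟩
    rw [MonoidHom.mem_ker, map_mul, map_inv, hφ', hh, mul_inv_cancel]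
  rw [commutator_eq_closure, Subgroup.closure_le]
  rintro c ⟨a, b, rfl⟩
  obtain ⟨ha, hza⟩ := hdecomp a
  obtain ⟨hb, hzb⟩ := hdecomp b
  have := commutatorElement_central_mul (hτc hza) (hτc hzb) (φ ha) (φ hb)
  rw [inv_mul_cancel_right, inv_mul_cancel_right] at this
  rw [SetLike.mem_coe, this, ← map_commutatorElement]
  refine ⟨⁅ha, hb⁆, ?_, rfl⟩
  rw [SetLike.mem_coe, commutator_eq_closure]
  exact Subgroup.subset_closure ⟨ha, hb, rfl⟩

/-- central-extension version of `map_presM_of_stem` -/
theorem map_presM_of_central (hp : Function.Surjective p) {Δ : Type v} [Group Δ]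
    (τ : Δ →* Q) (hτc : τ.ker ≤ center Δ) (φ : PresH p →* Δ) (hφ : τ.comp φ = presπ p) :
    (presM p).map φ = τ.ker ⊓ commutator Δ := by
  have hφ' : ∀ h, τ (φ h) = presπ p h := fun h => DFunLike.congr_fun hφ h
  apply le_antisymm
  · rintro _ ⟨m, hm, rfl⟩
    refine ⟨?_, ?_⟩
    · show τ (φ m) = 1
      rw [hφ']
      exact presM_le_ker p hm
    · have h1 : (commutator (PresH p)).map φ ≤ commutator Δ := by
        rw [_root_.commutator_def, _root_.commutator_def, Subgroup.map_commutator]
        exact Subgroup.commutator_mono le_top le_top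
      exact h1 ⟨m, presM_le_commutator p hm, rfl⟩
  · rintro z ⟨hz, hzc⟩
    obtain ⟨c, hc, rfl⟩ := commutator_le_map_of_central hp τ hτc φ hφ hzc
    refine ⟨c, ⟨?_, hc⟩, rfl⟩
    show presπ p c = 1
    rw [← hφ']
    exact hz

end Central

/-- the part of the kernel of a central extension of `Q` lying in the commutator subgroup is a
homomorphic image of the Schur multiplier of `Q` -/
theorem exists_surj_to_ker_inf_commutator {Q : Type u} [Group Q] [Finite Q] {B : Type v}
    [CommGroup B] (hB : Cfsg.HasSchurMultiplier Q B) {Δ : Type w} [Group Δ] (τ : Δ →* Q)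
    (hτs : Function.Surjective τ) (hτc : τ.ker ≤ center Δ) :
    ∃ π : B →* ↥(τ.ker ⊓ commutator Δ), Function.Surjective π := by
  have hp : Function.Surjective (id : Q → Q) := Function.surjective_id
  obtain ⟨e⟩ := schurMultiplier_unique hB
  obtain ⟨φ, hφ⟩ := exists_lift_presH (id : Q → Q) τ hτs hτc
  have hM := map_presM_of_central hp τ hτc φ hφ
  let f : presM (id : Q → Q) →* ↥(τ.ker ⊓ commutator Δ) :=
    (φ.comp (presM (id : Q → Q)).subtype).codRestrict _ (fun m => by
      rw [← hM]; exact ⟨m, m.2, rfl⟩)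
  have hf : Function.Surjective f := by
    rintro ⟨z, hz⟩
    rw [← hM] at hz
    obtain ⟨m, hm, rfl⟩ := hz
    exact ⟨⟨m, hm⟩, rfl⟩
  exact ⟨f.comp e.toMonoidHom, hf.comp e.surjective⟩

/-- a quotient of a finite abelian group embeds in the group (duality) -/
theorem exists_injective_quotient_to {B : Type*} [CommGroup B] [Finite B] (N : Subgroup B) :
    ∃ ι : B ⧸ N →* B, Function.Injective ι := by
  have hne : NeZero (Monoid.exponent B) := ⟨Monoid.exponent_ne_zero_of_finite⟩
  have hne' : NeZero ((Monoid.exponent B : ℕ) : ℂ) := NeZero.charZero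
  have hneq : NeZero (Monoid.exponent (B ⧸ N)) := ⟨Monoid.exponent_ne_zero_of_finite⟩
  have hneq' : NeZero ((Monoid.exponent (B ⧸ N) : ℕ) : ℂ) := NeZero.charZero
  obtain ⟨eB⟩ := CommGroup.monoidHom_mulEquiv_of_hasEnoughRootsOfUnity B ℂ
  obtain ⟨eW⟩ := CommGroup.monoidHom_mulEquiv_of_hasEnoughRootsOfUnity (B ⧸ N) ℂ
  let pre : ((B ⧸ N) →* ℂˣ) →* (B →* ℂˣ) := MonoidHom.compHom' (QuotientGroup.mk' N)
  have hpre : Function.Injective pre := by
    intro χ χ' h
    apply MonoidHom.ext
    intro y
    obtain ⟨b, rfl⟩ := QuotientGroup.mk'_surjective N y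
    exact DFunLike.congr_fun h b
  refine ⟨eB.toMonoidHom.comp (pre.comp eW.symm.toMonoidHom), ?_⟩
  exact eB.injective.comp (hpre.comp eW.symm.injective)

/-- a homomorphic image of a finite abelian group embeds in the group -/
theorem exists_injective_of_surjective {B W : Type*} [CommGroup B] [Finite B] [Group W]
    (π : B →* W) (hπ : Function.Surjective π) : ∃ ι : W →* B, Function.Injective ι := by
  obtain ⟨ι, hι⟩ := exists_injective_quotient_to π.ker
  let e : B ⧸ π.ker ≃* W := QuotientGroup.quotientKerEquivOfSurjective π hπ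
  exact ⟨ι.comp e.symm.toMonoidHom, hι.comp e.symm.injective⟩

end Cfsg.Agent.Lib.Helper71
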