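import Mathlib

set_option autoImplicit false
set_option linter.style.haveILetI false

namespace Cfsg.Agent.Lib.Helper71

open TensorProduct Subgroup
open scoped commutatorElement IsMulCommutative

section Pairing

variable {Γ Q₁ Q₂ : Type*} [Group Γ] [Group Q₁] [Group Q₂]

theorem commutatorElement_mul_left_of_central (x y z : Γ) (h : ⁅y, z⁆ ∈ center Γ) :
    ⁅x * y, z⁆ = ⁅x, z⁆ * ⁅y, z⁆ := by
  have hc := Subgroup.mem_center_iff.mp h
  have h1 : ⁅x * y, z⁆ = x * ⁅y, z⁆ * x⁻¹ * ⁅x, z⁆ := by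
    simp only [commutatorElement_def]; group
  rw [h1, hc x, mul_inv_cancel_right]
  exact (hc _).symm

theorem commutatorElement_mul_right_of_central (x y z : Γ) (h : ⁅x, z⁆ ∈ center Γ) :
    ⁅x, y * z⁆ = ⁅x, y⁆ * ⁅x, z⁆ := by
  have hc := Subgroup.mem_center_iff.mp h
  have h1 : ⁅x, y * z⁆ = ⁅x, y⁆ * (y * ⁅x, z⁆ * y⁻¹) := by
    simp only [commutatorElement_def]; group
  rw [h1, hc y, mul_inv_cancel_right]

/-- the commutator pairing between two subgroups whose mixed commutators are central, descended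
to the tensor product of the commutator quotients of `Q₁` and `Q₂` -/
theorem exists_commutator_pairing (Γ₁ Γ₂ : Subgroup Γ) (τ₁ : Γ₁ →* Q₁) (τ₂ : Γ₂ →* Q₂)
    (hτ₁ : Function.Surjective τ₁) (hτ₂ : Function.Surjective τ₂)
    (hk₁ : ∀ k : Γ₁, τ₁ k = 1 → (k : Γ) ∈ center Γ)
    (hk₂ : ∀ k : Γ₂, τ₂ k = 1 → (k : Γ) ∈ center Γ)
    (hmix : ∀ g₁ ∈ Γ₁, ∀ g₂ ∈ Γ₂, ⁅g₁, g₂⁆ ∈ center Γ) :
    ∃ β : Multiplicative (TensorProduct ℤ (Additive (Abelianization Q₁))
        (Additive (Abelianization Q₂))) →* Γ,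
      (∀ t, β t ∈ center Γ) ∧
      ∀ (g₁ : Γ₁) (g₂ : Γ₂),
        β (Multiplicative.ofAdd ((Additive.ofMul (Abelianization.of (τ₁ g₁))) ⊗ₜ[ℤ]
          (Additive.ofMul (Abelianization.of (τ₂ g₂))))) = ⁅(g₁ : Γ), (g₂ : Γ)⁆ := by
  classical
  -- step 1/2 : for fixed g₁, the hom Γ₂ → center Γ
  let P₁ : Γ₁ → (Γ₂ →* center Γ) := fun g₁ =>
    { toFun := fun g₂ => ⟨⁅(g₁ : Γ), (g₂ : Γ)⁆, hmix g₁ g₁.2 g₂ g₂.2⟩
      map_one' := by
        apply Subtype.ext
        show ⁅(g₁ : Γ), ((1 : Γ₂) : Γ)⁆ = 1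
        simp [commutatorElement_def]
      map_mul' := by
        intro x y
        apply Subtype.ext
        show ⁅(g₁ : Γ), ((x * y : Γ₂) : Γ)⁆ = ⁅(g₁ : Γ), (x : Γ)⁆ * ⁅(g₁ : Γ), (y : Γ)⁆
        rw [Subgroup.coe_mul]
        exact commutatorElement_mul_right_of_central _ _ _ (hmix g₁ g₁.2 y y.2) }
  have hP₁ : ∀ g₁ g₂, ((P₁ g₁ g₂ : center Γ) : Γ) = ⁅(g₁ : Γ), (g₂ : Γ)⁆ := fun _ _ => rfl
  have hP₁k : ∀ g₁, τ₂.ker ≤ (P₁ g₁).ker := by
    intro g₁ k hk
    rw [MonoidHom.mem_ker]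
    apply Subtype.ext
    rw [hP₁]
    show ⁅(g₁ : Γ), (k : Γ)⁆ = 1
    rw [commutatorElement_eq_one_iff_commute]
    exact Subgroup.mem_center_iff.mp (hk₂ k (MonoidHom.mem_ker.mp hk)) _
  let P₂ : Γ₁ → (Abelianization Q₂ →* center Γ) := fun g₁ =>
    Abelianization.lift (τ₂.liftOfSurjective hτ₂ ⟨P₁ g₁, hP₁k g₁⟩)
  have hP₂ : ∀ g₁ g₂, P₂ g₁ (Abelianization.of (τ₂ g₂)) = P₁ g₁ g₂ := by
    intro g₁ g₂
    show Abelianization.lift _ (Abelianization.of (τ₂ g₂)) = _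
    rw [Abelianization.lift_apply_of]
    exact τ₂.liftOfRightInverse_comp_apply _ _ ⟨P₁ g₁, hP₁k g₁⟩ g₂
  have hext : ∀ f g : Abelianization Q₂ →* center Γ,
      (∀ g₂ : Γ₂, f (Abelianization.of (τ₂ g₂)) = g (Abelianization.of (τ₂ g₂))) → f = g := by
    intro f g h
    apply Abelianization.hom_ext
    apply MonoidHom.ext
    intro q
    obtain ⟨g₂, rfl⟩ := hτ₂ q
    exact h g₂
  -- step 3 : hom in the first variable
  let P₃ : Γ₁ →* (Abelianization Q₂ →* center Γ) :=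
    { toFun := P₂
      map_one' := by
        apply hext
        intro g₂
        rw [hP₂]
        apply Subtype.ext
        rw [hP₁]
        show ⁅((1 : Γ₁) : Γ), (g₂ : Γ)⁆ = _
        simp [commutatorElement_def]
      map_mul' := by
        intro x y
        apply hext
        intro g₂
        rw [MonoidHom.mul_apply, hP₂, hP₂, hP₂]
        apply Subtype.ext
        rw [Subgroup.coe_mul, hP₁, hP₁, hP₁, Subgroup.coe_mul]
        exact commutatorElement_mul_left_of_central _ _ _ (hmix y y.2 g₂ g₂.2) }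
  have hP₃ : ∀ g₁ g₂, ((P₃ g₁ (Abelianization.of (τ₂ g₂)) : center Γ) : Γ) =
      ⁅(g₁ : Γ), (g₂ : Γ)⁆ := by
    intro g₁ g₂
    show ((P₂ g₁ (Abelianization.of (τ₂ g₂)) : center Γ) : Γ) = _
    rw [hP₂, hP₁]
  have hP₃k : τ₁.ker ≤ P₃.ker := by
    intro k hk
    rw [MonoidHom.mem_ker]
    apply hext
    intro g₂
    apply Subtype.ext
    rw [hP₃]
    show ⁅(k : Γ), (g₂ : Γ)⁆ = 1
    rw [commutatorElement_eq_one_iff_commute]
    exact (Subgroup.mem_center_iff.mp (hk₁ k (MonoidHom.mem_ker.mp hk)) _).symm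
  let P₄ : Abelianization Q₁ →* (Abelianization Q₂ →* center Γ) :=
    Abelianization.lift (τ₁.liftOfSurjective hτ₁ ⟨P₃, hP₃k⟩)
  have hP₄ : ∀ g₁, P₄ (Abelianization.of (τ₁ g₁)) = P₃ g₁ := by
    intro g₁
    show Abelianization.lift _ (Abelianization.of (τ₁ g₁)) = _
    rw [Abelianization.lift_apply_of]
    exact τ₁.liftOfRightInverse_comp_apply _ _ ⟨P₃, hP₃k⟩ g₁
  -- step 5 : additive version and the tensor product
  let F : Additive (Abelianization Q₁) →+ Additive (Abelianization Q₂) →+ Additive (center Γ) :=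
    AddMonoidHom.mk' (fun x => MonoidHom.toAdditive (P₄ (Additive.toMul x))) (by
      intro x y
      apply AddMonoidHom.ext
      intro z
      show Additive.ofMul (P₄ (Additive.toMul (x + y)) (Additive.toMul z)) =
        Additive.ofMul (P₄ (Additive.toMul x) (Additive.toMul z)) +
          Additive.ofMul (P₄ (Additive.toMul y) (Additive.toMul z))
      rw [toMul_add, map_mul, MonoidHom.mul_apply, ofMul_mul])
  have hF : ∀ x y, F x y = Additive.ofMul (P₄ (Additive.toMul x) (Additive.toMul y)) :=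
    fun _ _ => rfl
  have hFr : ∀ (r : ℤ) (m : Additive (Abelianization Q₁)) (n : Additive (Abelianization Q₂)),
      F (r • m) n = F m (r • n) := by
    intro r m n
    rw [map_zsmul, AddMonoidHom.smul_apply, map_zsmul]
  let L := TensorProduct.liftAddHom F hFr
  let β₀ : Multiplicative (TensorProduct ℤ (Additive (Abelianization Q₁))
      (Additive (Abelianization Q₂))) →* center Γ := AddMonoidHom.toMultiplicativeLeft L
  refine ⟨(center Γ).subtype.comp β₀, fun t => (β₀ t).2, ?_⟩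
  intro g₁ g₂
  show ((β₀ _ : center Γ) : Γ) = _
  have h1 : β₀ (Multiplicative.ofAdd ((Additive.ofMul (Abelianization.of (τ₁ g₁))) ⊗ₜ[ℤ]
      (Additive.ofMul (Abelianization.of (τ₂ g₂))))) =
      P₄ (Abelianization.of (τ₁ g₁)) (Abelianization.of (τ₂ g₂)) := rfl
  rw [h1, hP₄, hP₃]

end Pairing

end Cfsg.Agent.Lib.Helper71
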