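import Mathlib

set_option autoImplicit false
set_option linter.style.haveILetI false

namespace Cfsg.Agent.Lib.Helper71

open TensorProduct
open scoped commutatorElement

/-- the twisted product `G₁ × G₂ × (X ⊗ Y)` attached to homomorphisms `a : G₁ →* X`, `b : G₂ →* Y`
into commutative groups -/
@[ext]
structure TwProd {G₁ G₂ X Y : Type*} [Group G₁] [Group G₂] [CommGroup X] [CommGroup Y]
    (a : G₁ →* X) (b : G₂ →* Y) where
  /-- first component -/
  fst : G₁
  /-- second component -/
  snd : G₂
  /-- tensor component -/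
  thd : TensorProduct ℤ (Additive X) (Additive Y)

namespace TwProd

variable {G₁ G₂ X Y : Type*} [Group G₁] [Group G₂] [CommGroup X] [CommGroup Y]
  {a : G₁ →* X} {b : G₂ →* Y}

/-- the twisting tensor -/
def tw (a : G₁ →* X) (b : G₂ →* Y) (g₁ : G₁) (g₂ : G₂) : TensorProduct ℤ (Additive X) (Additive Y) :=
  (Additive.ofMul (a g₁)) ⊗ₜ[ℤ] (Additive.ofMul (b g₂))

theorem tw_mul_left (g h : G₁) (k : G₂) : tw a b (g * h) k = tw a b g k + tw a b h k := by
  unfold tw
  rw [map_mul, ofMul_mul, add_tmul]

theorem tw_mul_right (g : G₁) (h k : G₂) : tw a b g (h * k) = tw a b g h + tw a b g k := by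
  unfold tw
  rw [map_mul, ofMul_mul, tmul_add]

@[simp] theorem tw_one_left (k : G₂) : tw a b 1 k = 0 := by
  unfold tw
  rw [map_one, ofMul_one, zero_tmul]

@[simp] theorem tw_one_right (g : G₁) : tw a b g 1 = 0 := by
  unfold tw
  rw [map_one, ofMul_one, tmul_zero]

theorem tw_inv_left (g : G₁) (k : G₂) : tw a b g⁻¹ k = -tw a b g k := by
  have h := tw_mul_left (a := a) (b := b) g g⁻¹ k
  rw [mul_inv_cancel, tw_one_left] at h
  exact eq_neg_of_add_eq_zero_right h.symm

theorem tw_inv_right (g : G₁) (k : G₂) : tw a b g k⁻¹ = -tw a b g k := by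
  have h := tw_mul_right (a := a) (b := b) g k k⁻¹
  rw [mul_inv_cancel, tw_one_right] at h
  exact eq_neg_of_add_eq_zero_right h.symm

instance : Mul (TwProd a b) :=
  ⟨fun p q => ⟨p.fst * q.fst, p.snd * q.snd, p.thd + q.thd + tw a b q.fst p.snd⟩⟩

instance : One (TwProd a b) := ⟨⟨1, 1, 0⟩⟩

instance : Inv (TwProd a b) :=
  ⟨fun p => ⟨p.fst⁻¹, p.snd⁻¹, -p.thd + tw a b p.fst p.snd⟩⟩

@[simp] theorem mul_fst (p q : TwProd a b) : (p * q).fst = p.fst * q.fst := rfl
@[simp] theorem mul_snd (p q : TwProd a b) : (p * q).snd = p.snd * q.snd := rfl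
@[simp] theorem mul_thd (p q : TwProd a b) :
    (p * q).thd = p.thd + q.thd + tw a b q.fst p.snd := rfl
@[simp] theorem one_fst : (1 : TwProd a b).fst = 1 := rfl
@[simp] theorem one_snd : (1 : TwProd a b).snd = 1 := rfl
@[simp] theorem one_thd : (1 : TwProd a b).thd = 0 := rfl
@[simp] theorem inv_fst (p : TwProd a b) : (p⁻¹).fst = p.fst⁻¹ := rfl
@[simp] theorem inv_snd (p : TwProd a b) : (p⁻¹).snd = p.snd⁻¹ := rfl
@[simp] theorem inv_thd (p : TwProd a b) : (p⁻¹).thd = -p.thd + tw a b p.fst p.snd := rfl

instance : Group (TwProd a b) :=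
  Group.ofLeftAxioms
    (by
      intro p q r
      apply TwProd.ext
      · simp [mul_assoc]
      · simp [mul_assoc]
      · simp only [mul_thd, mul_fst, mul_snd, tw_mul_left, tw_mul_right]
        abel)
    (by
      intro p
      apply TwProd.ext <;> simp)
    (by
      intro p
      apply TwProd.ext
      · simp
      · simp
      · simp only [mul_thd, inv_thd, inv_fst, inv_snd, one_thd, tw_inv_right]
        abel)

/-- the first inclusion -/
def inl (a : G₁ →* X) (b : G₂ →* Y) : G₁ →* TwProd a b where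
  toFun g := ⟨g, 1, 0⟩
  map_one' := rfl
  map_mul' g h := by
    apply TwProd.ext <;> simp

/-- the second inclusion -/
def inr (a : G₁ →* X) (b : G₂ →* Y) : G₂ →* TwProd a b where
  toFun g := ⟨1, g, 0⟩
  map_one' := rfl
  map_mul' g h := by
    apply TwProd.ext <;> simp

/-- the inclusion of the tensor part -/
def inT (a : G₁ →* X) (b : G₂ →* Y) :
    Multiplicative (TensorProduct ℤ (Additive X) (Additive Y)) →* TwProd a b where
  toFun t := ⟨1, 1, Multiplicative.toAdd t⟩
  map_one' := rfl
  map_mul' s t := by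
    apply TwProd.ext <;> simp

@[simp] theorem inl_fst (g : G₁) : (inl a b g).fst = g := rfl
@[simp] theorem inl_snd (g : G₁) : (inl a b g).snd = 1 := rfl
@[simp] theorem inl_thd (g : G₁) : (inl a b g).thd = 0 := rfl
@[simp] theorem inr_fst (g : G₂) : (inr a b g).fst = 1 := rfl
@[simp] theorem inr_snd (g : G₂) : (inr a b g).snd = g := rfl
@[simp] theorem inr_thd (g : G₂) : (inr a b g).thd = 0 := rfl
@[simp] theorem inT_fst (t : Multiplicative (TensorProduct ℤ (Additive X) (Additive Y))) :
    (inT a b t).fst = 1 := rfl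
@[simp] theorem inT_snd (t : Multiplicative (TensorProduct ℤ (Additive X) (Additive Y))) :
    (inT a b t).snd = 1 := rfl
@[simp] theorem inT_thd (t : Multiplicative (TensorProduct ℤ (Additive X) (Additive Y))) :
    (inT a b t).thd = Multiplicative.toAdd t := rfl

/-- the projection to `G₁ × G₂` -/
def proj (a : G₁ →* X) (b : G₂ →* Y) : TwProd a b →* G₁ × G₂ where
  toFun p := (p.fst, p.snd)
  map_one' := rfl
  map_mul' _ _ := rfl

@[simp] theorem proj_apply (p : TwProd a b) : proj a b p = (p.fst, p.snd) := rfl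

/-- the commutator of the two inclusions is a pure tensor -/
theorem commutator_inr_inl (g₁ : G₁) (g₂ : G₂) :
    ⁅inr a b g₂, inl a b g₁⁆ = inT a b (Multiplicative.ofAdd (tw a b g₁ g₂)) := by
  rw [commutatorElement_def]
  apply TwProd.ext
  · simp
  · simp
  · simp only [mul_thd, mul_fst, mul_snd, inv_thd, inv_fst, inv_snd, inr_fst, inr_snd, inr_thd,
      inl_fst, inl_snd, inl_thd, inT_thd, toAdd_ofAdd, tw_one_left, tw_one_right, tw_inv_left,
      tw_inv_right, mul_one, one_mul, inv_one, mul_inv_cancel]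
    abel

/-- decomposition of an element -/
theorem eq_inl_mul_inr_mul_inT (p : TwProd a b) :
    p = inl a b p.fst * inr a b p.snd * inT a b (Multiplicative.ofAdd p.thd) := by
  apply TwProd.ext <;> simp

/-- the tensor part lies in the commutator subgroup when `a` and `b` are surjective -/
theorem inT_mem_commutator (ha : Function.Surjective a) (hb : Function.Surjective b)
    (t : Multiplicative (TensorProduct ℤ (Additive X) (Additive Y))) :
    inT a b t ∈ commutator (TwProd a b) := by
  have hpure : ∀ (x : Additive X) (y : Additive Y),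
      inT a b (Multiplicative.ofAdd (x ⊗ₜ[ℤ] y)) ∈ commutator (TwProd a b) := by
    intro x y
    obtain ⟨g₁, hg₁⟩ := ha (Additive.toMul x)
    obtain ⟨g₂, hg₂⟩ := hb (Additive.toMul y)
    have h1 : x ⊗ₜ[ℤ] y = tw a b g₁ g₂ := by
      unfold tw
      rw [hg₁, hg₂]
      rfl
    rw [h1, ← commutator_inr_inl]
    rw [commutator_eq_closure]
    exact Subgroup.subset_closure ⟨_, _, rfl⟩
  have key : ∀ s : TensorProduct ℤ (Additive X) (Additive Y),
      inT a b (Multiplicative.ofAdd s) ∈ commutator (TwProd a b) := by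
    intro s
    induction s using TensorProduct.induction_on with
    | zero =>
      have : inT a b (Multiplicative.ofAdd (0 : TensorProduct ℤ (Additive X) (Additive Y))) = 1 :=
        map_one _
      rw [this]
      exact Subgroup.one_mem _
    | tmul x y => exact hpure x y
    | add s t hs ht =>
      rw [ofAdd_add, map_mul]
      exact Subgroup.mul_mem _ hs ht
  exact key (Multiplicative.toAdd t)

instance [Finite G₁] [Finite G₂] [Finite (TensorProduct ℤ (Additive X) (Additive Y))] :
    Finite (TwProd a b) :=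
  Finite.of_injective (fun p : TwProd a b => (p.fst, p.snd, p.thd)) (by
    intro p q h
    simp only [Prod.mk.injEq] at h
    exact TwProd.ext h.1 h.2.1 h.2.2)

end TwProd

/-- the tensor product of two finite abelian groups is finite -/
theorem finite_tensorProduct_of_finite (X Y : Type*) [AddCommGroup X] [AddCommGroup Y] [Finite X]
    [Finite Y] : Finite (TensorProduct ℤ X Y) := by
  haveI : Module.Finite ℤ (TensorProduct ℤ X Y) := Module.Finite.tensorProduct ℤ X Y
  apply Module.finite_of_fg_torsion
  intro t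
  have hn : (Nat.card X : ℤ) ≠ 0 := by
    exact_mod_cast (Nat.card_pos (α := X)).ne'
  refine ⟨⟨(Nat.card X : ℤ), mem_nonZeroDivisors_of_ne_zero hn⟩, ?_⟩
  show (Nat.card X : ℤ) • t = 0
  induction t using TensorProduct.induction_on with
  | zero => simp
  | tmul x y =>
    rw [TensorProduct.smul_tmul', natCast_zsmul, card_nsmul_eq_zero', zero_tmul]
  | add s t hs ht => rw [smul_add, hs, ht, add_zero]

end Cfsg.Agent.Lib.Helper71
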