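import Mathlib
import Cfsg.Prelude.Def_KGroupFacts
import Cfsg.Agent.Lib.Helper71.SchurCentral
import Cfsg.Agent.Lib.Helper71.TwProd
import Cfsg.Agent.Lib.Helper71.SchurPairing

set_option autoImplicit false
set_option linter.style.haveILetI false
set_option linter.unusedSimpArgs false

namespace Cfsg.Agent.Lib.Helper71

open TensorProduct Subgroup
open scoped commutatorElement

universe u v w

theorem map_mem_commutator {G G' : Type*} [Group G] [Group G'] (f : G →* G') {x : G}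
    (hx : x ∈ commutator G) : f x ∈ commutator G' := by
  have h1 : (commutator G).map f ≤ commutator G' := by
    rw [_root_.commutator_def, _root_.commutator_def, Subgroup.map_commutator]
    exact Subgroup.commutator_mono le_top le_top
  exact h1 ⟨x, hx, rfl⟩

section Part1

variable {Q₁ : Type u} {Q₂ : Type v} [Group Q₁] [Group Q₂] [Finite Q₁] [Finite Q₂]

/-- the twisted product of two stem extensions is a stem extension of the product, with kernel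
the product of the kernels and the tensor product of the commutator quotients -/
theorem exists_stem_twisted {Γ₁ : Type u} {Γ₂ : Type v} [Group Γ₁] [Group Γ₂] [Finite Γ₁]
    [Finite Γ₂] (σ₁ : Γ₁ →* Q₁) (σ₂ : Γ₂ →* Q₂) (h₁ : Cfsg.IsStemExtension σ₁)
    (h₂ : Cfsg.IsStemExtension σ₂) :
    ∃ (Γ : Type (max u v)) (_ : Group Γ) (_ : Finite Γ) (σ : Γ →* Q₁ × Q₂),
      Cfsg.IsStemExtension σ ∧
      Nonempty (σ.ker ≃* σ₁.ker × σ₂.ker × Multiplicative (TensorProduct ℤ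
        (Additive (Abelianization Q₁)) (Additive (Abelianization Q₂)))) := by
  classical
  obtain ⟨h₁s, h₁c, h₁k⟩ := h₁
  obtain ⟨h₂s, h₂c, h₂k⟩ := h₂
  let a : Γ₁ →* Abelianization Q₁ := Abelianization.of.comp σ₁
  let b : Γ₂ →* Abelianization Q₂ := Abelianization.of.comp σ₂
  have ha : Function.Surjective a := (QuotientGroup.mk'_surjective _).comp h₁s
  have hb : Function.Surjective b := (QuotientGroup.mk'_surjective _).comp h₂s
  have ha1 : ∀ g, σ₁ g = 1 → a g = 1 := by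
    intro g hg
    show Abelianization.of (σ₁ g) = 1
    rw [hg, map_one]
  have hb1 : ∀ g, σ₂ g = 1 → b g = 1 := by
    intro g hg
    show Abelianization.of (σ₂ g) = 1
    rw [hg, map_one]
  have htw1 : ∀ g₁ g₂, σ₁ g₁ = 1 → TwProd.tw a b g₁ g₂ = 0 := by
    intro g₁ g₂ h
    unfold TwProd.tw
    rw [ha1 g₁ h, ofMul_one, zero_tmul]
  have htw2 : ∀ g₁ g₂, σ₂ g₂ = 1 → TwProd.tw a b g₁ g₂ = 0 := by
    intro g₁ g₂ h
    unfold TwProd.tw
    rw [hb1 g₂ h, ofMul_one, tmul_zero]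
  haveI : Finite (TensorProduct ℤ (Additive (Abelianization Q₁)) (Additive (Abelianization Q₂))) :=
    finite_tensorProduct_of_finite _ _
  let σ : TwProd a b →* Q₁ × Q₂ := (σ₁.prodMap σ₂).comp (TwProd.proj a b)
  have hσ : ∀ p : TwProd a b, σ p = (σ₁ p.fst, σ₂ p.snd) := fun p => rfl
  have hker : ∀ p : TwProd a b, p ∈ σ.ker ↔ σ₁ p.fst = 1 ∧ σ₂ p.snd = 1 := by
    intro p
    rw [MonoidHom.mem_ker, hσ, Prod.mk_eq_one]
  refine ⟨TwProd a b, inferInstance, inferInstance, σ, ⟨?_, ?_, ?_⟩, ⟨?_⟩⟩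
  · rintro ⟨q₁, q₂⟩
    obtain ⟨g₁, rfl⟩ := h₁s q₁
    obtain ⟨g₂, rfl⟩ := h₂s q₂
    exact ⟨⟨g₁, g₂, 0⟩, rfl⟩
  · intro p hp
    obtain ⟨hp1, hp2⟩ := (hker p).mp hp
    rw [Subgroup.mem_center_iff]
    intro q
    apply TwProd.ext
    · exact Subgroup.mem_center_iff.mp (h₁c (MonoidHom.mem_ker.mpr hp1)) q.fst
    · exact Subgroup.mem_center_iff.mp (h₂c (MonoidHom.mem_ker.mpr hp2)) q.snd
    · simp only [TwProd.mul_thd]
      rw [htw1 p.fst q.snd hp1, htw2 q.fst p.snd hp2]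
      abel
  · intro p hp
    obtain ⟨hp1, hp2⟩ := (hker p).mp hp
    rw [TwProd.eq_inl_mul_inr_mul_inT p]
    refine Subgroup.mul_mem _ (Subgroup.mul_mem _ ?_ ?_) (TwProd.inT_mem_commutator ha hb _)
    · exact map_mem_commutator (TwProd.inl a b) (h₁k (MonoidHom.mem_ker.mpr hp1))
    · exact map_mem_commutator (TwProd.inr a b) (h₂k (MonoidHom.mem_ker.mpr hp2))
  · exact
      { toFun := fun x => (⟨x.1.fst, MonoidHom.mem_ker.mpr ((hker x.1).mp x.2).1⟩,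
          ⟨x.1.snd, MonoidHom.mem_ker.mpr ((hker x.1).mp x.2).2⟩, Multiplicative.ofAdd x.1.thd)
        invFun := fun y => ⟨⟨(y.1 : Γ₁), (y.2.1 : Γ₂), Multiplicative.toAdd y.2.2⟩,
          (hker _).mpr ⟨MonoidHom.mem_ker.mp y.1.2, MonoidHom.mem_ker.mp y.2.1.2⟩⟩
        left_inv := fun x => rfl
        right_inv := fun y => rfl
        map_mul' := by
          intro x y
          have h0 : TwProd.tw a b y.1.fst x.1.snd = 0 := htw1 _ _ ((hker y.1).mp y.2).1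
          apply Prod.ext
          · rfl
          · apply Prod.ext
            · rfl
            · show Multiplicative.ofAdd ((x.1 * y.1).thd) =
                Multiplicative.ofAdd x.1.thd * Multiplicative.ofAdd y.1.thd
              rw [TwProd.mul_thd, h0, add_zero, ofAdd_add] }

end Part1

section Part2

variable {Q₁ : Type u} {Q₂ : Type v} [Group Q₁] [Group Q₂] [Finite Q₁] [Finite Q₂]

/-- the kernel of a stem extension of `Q₁ × Q₂` is an image of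
`M(Q₁) × M(Q₂) × (Q₁ᵃᵇ ⊗ Q₂ᵃᵇ)` -/
theorem exists_surj_of_stem_prod {A : Type*} {B : Type*} [CommGroup A] [CommGroup B]
    (hA : Cfsg.HasSchurMultiplier Q₁ A) (hB : Cfsg.HasSchurMultiplier Q₂ B)
    {Γ : Type*} [Group Γ] (σ : Γ →* Q₁ × Q₂) (hσ : Cfsg.IsStemExtension σ) :
    ∃ π : A × B × Multiplicative (TensorProduct ℤ (Additive (Abelianization Q₁))
        (Additive (Abelianization Q₂))) →* σ.ker, Function.Surjective π := by
  classical
  obtain ⟨hσs, hσc, hσk⟩ := hσ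
  let Γ₁ : Subgroup Γ := ((MonoidHom.snd Q₁ Q₂).comp σ).ker
  let Γ₂ : Subgroup Γ := ((MonoidHom.fst Q₁ Q₂).comp σ).ker
  have hΓ₁ : ∀ g : Γ, g ∈ Γ₁ ↔ (σ g).2 = 1 := fun g => Iff.rfl
  have hΓ₂ : ∀ g : Γ, g ∈ Γ₂ ↔ (σ g).1 = 1 := fun g => Iff.rfl
  let τ₁ : Γ₁ →* Q₁ := ((MonoidHom.fst Q₁ Q₂).comp σ).comp Γ₁.subtype
  let τ₂ : Γ₂ →* Q₂ := ((MonoidHom.snd Q₁ Q₂).comp σ).comp Γ₂.subtype
  have hτ₁ : ∀ g : Γ₁, τ₁ g = (σ (g : Γ)).1 := fun g => rfl
  have hτ₂ : ∀ g : Γ₂, τ₂ g = (σ (g : Γ)).2 := fun g => rfl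
  have hτ₁s : Function.Surjective τ₁ := by
    intro q
    obtain ⟨g, hg⟩ := hσs (q, 1)
    exact ⟨⟨g, by rw [hΓ₁, hg]⟩, by rw [hτ₁]; simp [hg]⟩
  have hτ₂s : Function.Surjective τ₂ := by
    intro q
    obtain ⟨g, hg⟩ := hσs (1, q)
    exact ⟨⟨g, by rw [hΓ₂, hg]⟩, by rw [hτ₂]; simp [hg]⟩
  have hker₁ : ∀ k : Γ₁, τ₁ k = 1 → (k : Γ) ∈ σ.ker := by
    intro k hk
    rw [MonoidHom.mem_ker]
    exact Prod.ext hk ((hΓ₁ _).mp k.2)
  have hker₂ : ∀ k : Γ₂, τ₂ k = 1 → (k : Γ) ∈ σ.ker := by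
    intro k hk
    rw [MonoidHom.mem_ker]
    exact Prod.ext ((hΓ₂ _).mp k.2) hk
  have hτ₁c : τ₁.ker ≤ center Γ₁ := by
    intro k hk
    have := hσc (hker₁ k (MonoidHom.mem_ker.mp hk))
    rw [Subgroup.mem_center_iff] at this ⊢
    intro g
    exact Subtype.ext (this g)
  have hτ₂c : τ₂.ker ≤ center Γ₂ := by
    intro k hk
    have := hσc (hker₂ k (MonoidHom.mem_ker.mp hk))
    rw [Subgroup.mem_center_iff] at this ⊢
    intro g
    exact Subtype.ext (this g)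
  -- mixed commutators lie in the kernel
  have hmix : ∀ g₁ ∈ Γ₁, ∀ g₂ ∈ Γ₂, ⁅g₁, g₂⁆ ∈ σ.ker := by
    intro g₁ h1 g₂ h2
    rw [MonoidHom.mem_ker, map_commutatorElement, commutatorElement_eq_one_iff_commute]
    show σ g₁ * σ g₂ = σ g₂ * σ g₁
    apply Prod.ext
    · show (σ g₁).1 * (σ g₂).1 = (σ g₂).1 * (σ g₁).1
      rw [(hΓ₂ _).mp h2, mul_one, one_mul]
    · show (σ g₁).2 * (σ g₂).2 = (σ g₂).2 * (σ g₁).2
      rw [(hΓ₁ _).mp h1, mul_one, one_mul]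
  -- the pairing
  obtain ⟨β, hβc, hβ⟩ := exists_commutator_pairing Γ₁ Γ₂ τ₁ τ₂ hτ₁s hτ₂s
    (fun k hk => hσc (hker₁ k hk)) (fun k hk => hσc (hker₂ k hk))
    (fun g₁ h1 g₂ h2 => hσc (hmix g₁ h1 g₂ h2))
  have hβker : ∀ t, β t ∈ σ.ker := by
    have key : ∀ s : TensorProduct ℤ (Additive (Abelianization Q₁)) (Additive (Abelianization Q₂)),
        β (Multiplicative.ofAdd s) ∈ σ.ker := by
      intro s
      induction s using TensorProduct.induction_on with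
      | zero =>
        have : β (Multiplicative.ofAdd (0 : TensorProduct ℤ (Additive (Abelianization Q₁))
            (Additive (Abelianization Q₂)))) = 1 := map_one β
        rw [this]
        exact Subgroup.one_mem _
      | tmul x y =>
        obtain ⟨q₁, hq₁⟩ := QuotientGroup.mk'_surjective _ (Additive.toMul x)
        obtain ⟨g₁, rfl⟩ := hτ₁s q₁
        obtain ⟨q₂, hq₂⟩ := QuotientGroup.mk'_surjective _ (Additive.toMul y)
        obtain ⟨g₂, rfl⟩ := hτ₂s q₂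
        have hx : x = Additive.ofMul (Abelianization.of (τ₁ g₁)) := by
          rw [show Abelianization.of (τ₁ g₁) = Additive.toMul x from hq₁]; rfl
        have hy : y = Additive.ofMul (Abelianization.of (τ₂ g₂)) := by
          rw [show Abelianization.of (τ₂ g₂) = Additive.toMul y from hq₂]; rfl
        rw [hx, hy, hβ]
        exact hmix _ g₁.2 _ g₂.2
      | add s t hs ht =>
        rw [ofAdd_add, map_mul]
        exact Subgroup.mul_mem _ hs ht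
    intro t
    exact key (Multiplicative.toAdd t)
  -- the quotient by the range of the pairing
  let Tim : Subgroup Γ := β.range
  have hTimc : Tim ≤ center Γ := by
    rintro _ ⟨t, rfl⟩
    exact hβc t
  haveI : Tim.Normal := by
    refine ⟨fun s hs g => ?_⟩
    have : g * s * g⁻¹ = s := by
      rw [(Subgroup.mem_center_iff.mp (hTimc hs) g), mul_inv_cancel_right]
    rw [this]; exact hs
  have hmixT : ∀ (g₁ : Γ₁) (g₂ : Γ₂), ⁅(g₁ : Γ), (g₂ : Γ)⁆ ∈ Tim := by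
    intro g₁ g₂
    exact ⟨_, hβ g₁ g₂⟩
  let mk : Γ →* Γ ⧸ Tim := QuotientGroup.mk' Tim
  have hcomm : ∀ (g₁ : Γ₁) (g₂ : Γ₂), Commute (mk (g₁ : Γ)) (mk (g₂ : Γ)) := by
    intro g₁ g₂
    have h1 : ⁅mk (g₁ : Γ), mk (g₂ : Γ)⁆ = 1 := by
      rw [← map_commutatorElement]
      exact (QuotientGroup.eq_one_iff _).mpr (hmixT g₁ g₂)
    exact commutatorElement_eq_one_iff_commute.mp h1
  let μ : Γ₁ × Γ₂ →* Γ ⧸ Tim :=
    MonoidHom.noncommCoprod (mk.comp Γ₁.subtype) (mk.comp Γ₂.subtype) (fun x y => hcomm x y)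
  have hμ : ∀ x : Γ₁ × Γ₂, μ x = mk (x.1 : Γ) * mk (x.2 : Γ) := fun x => rfl
  have hμs : Function.Surjective μ := by
    intro y
    obtain ⟨g, rfl⟩ := QuotientGroup.mk'_surjective Tim y
    obtain ⟨g₁, hg₁⟩ := hσs ((σ g).1, 1)
    have h1 : g₁ ∈ Γ₁ := by rw [hΓ₁, hg₁]
    have h2 : g₁⁻¹ * g ∈ Γ₂ := by rw [hΓ₂, map_mul, map_inv, hg₁]; simp
    refine ⟨(⟨g₁, h1⟩, ⟨g₁⁻¹ * g, h2⟩), ?_⟩
    rw [hμ, ← map_mul]
    show mk (g₁ * (g₁⁻¹ * g)) = mk g
    rw [mul_inv_cancel_left]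
  -- the two surjections from the multipliers
  obtain ⟨f₁, hf₁⟩ := exists_surj_to_ker_inf_commutator hA τ₁ hτ₁s hτ₁c
  obtain ⟨f₂, hf₂⟩ := exists_surj_to_ker_inf_commutator hB τ₂ hτ₂s hτ₂c
  -- commutativity of the kernel
  letI : CommGroup σ.ker :=
    { (inferInstance : Group σ.ker) with
      mul_comm := fun x y => Subtype.ext (Subgroup.mem_center_iff.mp (hσc y.2) (x : Γ)) }
  let F₁ : A →* σ.ker :=
    ((Γ₁.subtype.comp (τ₁.ker ⊓ commutator Γ₁).subtype).comp f₁).codRestrict σ.ker (fun x =>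
      hker₁ _ (MonoidHom.mem_ker.mp (f₁ x).2.1))
  let F₂ : B →* σ.ker :=
    ((Γ₂.subtype.comp (τ₂.ker ⊓ commutator Γ₂).subtype).comp f₂).codRestrict σ.ker (fun x =>
      hker₂ _ (MonoidHom.mem_ker.mp (f₂ x).2.1))
  let F₃ : Multiplicative (TensorProduct ℤ (Additive (Abelianization Q₁))
      (Additive (Abelianization Q₂))) →* σ.ker := β.codRestrict σ.ker hβker
  have hF₁ : ∀ x, ((F₁ x : σ.ker) : Γ) = (((f₁ x : ↥(τ₁.ker ⊓ commutator Γ₁)) : Γ₁) : Γ) :=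
    fun x => rfl
  have hF₂ : ∀ x, ((F₂ x : σ.ker) : Γ) = (((f₂ x : ↥(τ₂.ker ⊓ commutator Γ₂)) : Γ₂) : Γ) :=
    fun x => rfl
  have hF₃ : ∀ t, ((F₃ t : σ.ker) : Γ) = β t := fun t => rfl
  refine ⟨F₁.coprod (F₂.coprod F₃), ?_⟩
  rintro ⟨z, hz⟩
  -- decompose `z`
  have hzc : mk z ∈ (commutator (Γ₁ × Γ₂)).map μ := by
    have : (commutator (Γ₁ × Γ₂)).map μ = commutator (Γ ⧸ Tim) := by
      rw [_root_.commutator_def, _root_.commutator_def, Subgroup.map_commutator,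
        ← MonoidHom.range_eq_map, MonoidHom.range_eq_top.mpr hμs]
    rw [this]
    exact map_mem_commutator mk (hσk hz)
  obtain ⟨⟨c₁, c₂⟩, hc, hcz⟩ := hzc
  have hc₁ : c₁ ∈ commutator Γ₁ := map_mem_commutator (MonoidHom.fst Γ₁ Γ₂) hc
  have hc₂ : c₂ ∈ commutator Γ₂ := map_mem_commutator (MonoidHom.snd Γ₁ Γ₂) hc
  have hcz' : mk ((c₁ : Γ) * (c₂ : Γ)) = mk z := by
    rw [map_mul]; exact hcz
  have hT : ((c₁ : Γ) * (c₂ : Γ))⁻¹ * z ∈ Tim := QuotientGroup.eq.mp hcz'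
  obtain ⟨t, ht⟩ := hT
  have hzdec : z = (c₁ : Γ) * (c₂ : Γ) * β t := by
    rw [ht]; group
  have hσz : σ (c₁ : Γ) * σ (c₂ : Γ) = 1 := by
    have h1 : σ z = 1 := hz
    rw [hzdec, map_mul, map_mul, MonoidHom.mem_ker.mp (hβker t), mul_one] at h1
    exact h1
  have h1 : τ₁ c₁ = 1 := by
    have := congrArg Prod.fst hσz
    rw [hτ₁]
    have h2 : (σ (c₂ : Γ)).1 = 1 := (hΓ₂ _).mp c₂.2
    simpa [h2] using this
  have h2 : τ₂ c₂ = 1 := by
    have := congrArg Prod.snd hσz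
    rw [hτ₂]
    have h3 : (σ (c₁ : Γ)).2 = 1 := (hΓ₁ _).mp c₁.2
    simpa [h3] using this
  obtain ⟨x₁, hx₁⟩ := hf₁ ⟨c₁, MonoidHom.mem_ker.mpr h1, hc₁⟩
  obtain ⟨x₂, hx₂⟩ := hf₂ ⟨c₂, MonoidHom.mem_ker.mpr h2, hc₂⟩
  refine ⟨(x₁, x₂, t), Subtype.ext ?_⟩
  rw [MonoidHom.coprod_apply, MonoidHom.coprod_apply]
  show ((F₁ x₁ : σ.ker) : Γ) * (((F₂ x₂ : σ.ker) : Γ) * ((F₃ t : σ.ker) : Γ)) = z
  rw [hF₁, hF₂, hF₃, hx₁, hx₂, hzdec, mul_assoc]

end Part2

end Cfsg.Agent.Lib.Helper71
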