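import Mathlib

set_option autoImplicit false
open scoped Pointwise

namespace Cfsg.Agent.Lib.Helper71

theorem mem_conj_smul_iff {G : Type*} [Group G] (H : Subgroup G) (g x : G) :
    x ∈ MulAut.conj g • H ↔ g⁻¹ * x * g ∈ H := by
  rw [Subgroup.mem_pointwise_smul_iff_inv_smul_mem, MulAut.smul_def, ← map_inv, MulAut.conj_apply,
    inv_inv]

/-- Elementwise form of the trivial-intersection condition for one conjugate. -/
theorem inf_conj_eq_bot_iff {G : Type*} [Group G] (H : Subgroup G) (g : G) :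
    H ⊓ MulAut.conj g • H = ⊥ ↔ ∀ x ∈ H, g⁻¹ * x * g ∈ H → x = 1 := by
  rw [Subgroup.eq_bot_iff_forall]
  constructor
  · intro h x hx hgx
    exact h x (Subgroup.mem_inf.mpr ⟨hx, (mem_conj_smul_iff H g x).mpr hgx⟩)
  · intro h x hx
    obtain ⟨h1, h2⟩ := Subgroup.mem_inf.mp hx
    exact h x h1 ((mem_conj_smul_iff H g x).mp h2)

/-- The TI condition on a subgroup, elementwise. -/
def IsTI {G : Type*} [Group G] (H : Subgroup G) : Prop :=
  ∀ g : G, ∀ x ∈ H, x ≠ 1 → g⁻¹ * x * g ∈ H → g ∈ Subgroup.normalizer (H : Set G)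

theorem isTI_iff {G : Type*} [Group G] (H : Subgroup G) :
    IsTI H ↔ ∀ g : G, g ∉ Subgroup.normalizer (H : Set G) → H ⊓ MulAut.conj g • H = ⊥ := by
  constructor
  · intro h g hg
    rw [inf_conj_eq_bot_iff]
    intro x hx hgx
    by_contra hne
    exact hg (h g x hx hne hgx)
  · intro h g x hx hne hgx
    by_contra hg
    have := (inf_conj_eq_bot_iff H g).mp (h g hg) x hx hgx
    exact hne this

/-- The TI condition passes to conjugates. -/
theorem IsTI.conj {G : Type*} [Group G] {H : Subgroup G} (hH : IsTI H) (a : G) :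
    IsTI (MulAut.conj a • H) := by
  intro g x hx hne hgx
  rw [mem_conj_smul_iff] at hx hgx
  have h1 : a⁻¹ * g * a ∈ Subgroup.normalizer (H : Set G) := by
    apply hH (a⁻¹ * g * a) (a⁻¹ * x * a) hx
    · intro h
      apply hne
      have : x = a * (a⁻¹ * x * a) * a⁻¹ := by group
      rw [this, h]; group
    · have : (a⁻¹ * g * a)⁻¹ * (a⁻¹ * x * a) * (a⁻¹ * g * a) = a⁻¹ * (g⁻¹ * x * g) * a := by group
      rw [this]; exact hgx
  rw [Subgroup.mem_normalizer_iff] at h1 ⊢
  intro y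
  rw [mem_conj_smul_iff, mem_conj_smul_iff, h1 (a⁻¹ * y * a)]
  have : a⁻¹ * g * a * (a⁻¹ * y * a) * (a⁻¹ * g * a)⁻¹ = a⁻¹ * (g * y * g⁻¹) * a := by group
  rw [this]

/-- If one Sylow `p`-subgroup is TI then all are. -/
theorem IsTI.sylow {G : Type*} [Group G] [Finite G] {p : ℕ} [Fact p.Prime] {P : Sylow p G}
    (hP : IsTI (P : Subgroup G)) (R : Sylow p G) : IsTI (R : Subgroup G) := by
  obtain ⟨a, ha⟩ := MulAction.exists_smul_eq G P R
  rw [← ha, Sylow.coe_subgroup_smul]
  exact hP.conj a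

end Cfsg.Agent.Lib.Helper71
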