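import Mathlib

set_option autoImplicit false

namespace Cfsg.Agent.Lib.Helper71

/-- a central element of the commutator subgroup, raised to the index of a subgroup `U` of finite
index, lies in the commutator subgroup of `U` (transfer into `U / U'`) -/
theorem central_pow_index_mem_commutator {Γ : Type*} [Group Γ] (U : Subgroup Γ) [U.FiniteIndex]
    (z : Γ) (hzc : z ∈ Subgroup.center Γ) (hzk : z ∈ commutator Γ) (h : z ^ U.index ∈ U) :
    (⟨z ^ U.index, h⟩ : U) ∈ commutator U := by
  have key : ∀ (k : ℕ) (g₀ : Γ), g₀⁻¹ * z ^ k * g₀ ∈ U → g₀⁻¹ * z ^ k * g₀ = z ^ k := by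
    intro k g₀ _
    have := Subgroup.mem_center_iff.mp ((Subgroup.center Γ).pow_mem hzc k) g₀
    rw [mul_assoc, ← this, inv_mul_cancel_left]
  have h1 := MonoidHom.transfer_eq_pow (Abelianization.of : U →* Abelianization U) z key
  have h2 : MonoidHom.transfer (Abelianization.of : U →* Abelianization U) z = 1 :=
    Abelianization.commutator_subset_ker _ hzk
  rw [h2] at h1
  rw [← Abelianization.ker_of]
  exact h1.symm

end Cfsg.Agent.Lib.Helper71
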